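/-
Chevalley tables packed into natural numbers, so that the kernel can evaluate lookups quickly.
-/
import Mathlib.Data.Int.Basic
import Mathlib.Data.List.Range

set_option autoImplicit false

namespace Cfsg.Agent.Chev

/-- Packed tables. -/
structure Pk where
  rank : ℕ
  nroots : ℕ
  rows : ℕ → ℕ
  cart : ℕ → ℕ
  coroots : ℕ
  rootVecs : ℕ
  simples : ℕ
  /-- keys of the chain rows -/
  keys : ℕ → List ℕ
  /-- reflections in the fundamental roots, 8 bits per root -/
  refl : ℕ → ℕ
  /-- signs of the action of n_p, one bit per root -/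
  signs : ℕ → ℕ

namespace Pk

variable (P : Pk)

/-- The raw cell for the pair `(r, s)`. -/
def cell (r s : ℕ) : ℕ := (P.rows r >>> (36 * s)) &&& 0xFFFFFFFFF

/-- The length of the chain for `(r, s)`. -/
def len (r s : ℕ) : ℕ := P.cell r s >>> 33

/-- Target of the `k`-th (from 0) chain term. -/
def tgt (r s k : ℕ) : ℕ := (P.cell r s >>> (11 * k)) &&& 255

/-- Coefficient of the `k`-th (from 0) chain term. -/
def coef (r s k : ℕ) : ℤ := Int.ofNat ((P.cell r s >>> (11 * k + 8)) &&& 7) - 4

/-- The chain list. -/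
def entry (r s : ℕ) : List (ℕ × ℤ) := (List.range (P.len r s)).map fun k => (P.tgt r s k, P.coef r s k)

/-- Cartan integer. -/
def A (i r : ℕ) : ℤ := Int.ofNat ((P.cart i >>> (4 * r)) &&& 15) - 4

/-- Coroot coefficient. -/
def co (r i : ℕ) : ℤ := Int.ofNat ((P.coroots >>> (4 * (P.rank * r + i))) &&& 15) - 8

/-- Root coefficient. -/
def rv (r i : ℕ) : ℤ := Int.ofNat ((P.rootVecs >>> (4 * (P.rank * r + i))) &&& 15) - 8

/-- Fundamental root index. -/
def sim (i : ℕ) : ℕ := (P.simples >>> (8 * i)) &&& 255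

/-- Reflected root. -/
def w (i r : ℕ) : ℕ := (P.refl i >>> (8 * r)) &&& 255

/-- The sign of `n_p` on `e_r`. -/
def eta (i r : ℕ) : ℤ := bif Nat.beq ((P.signs i >>> r) &&& 1) 1 then -1 else 1

/-- Negative of a root. -/
def ng (r : ℕ) : ℕ := P.nroots - 1 - r

end Pk

end Cfsg.Agent.Chev
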