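/-
Sparse-vector engine for kernel evaluation of the Chevalley tables, and the finite checks.
-/
import Cfsg.Agent.Lib.Chev.Packed
import Mathlib.Algebra.BigOperators.Group.List.Defs

set_option autoImplicit false

namespace Cfsg.Agent.Chev

/-- Sparse integer vectors: (coordinate code, coefficient). Root `s` has code `s`, the `i`-th fundamental
coroot has code `nroots + i`. -/
abbrev V := List (ℕ × ℤ)

/-- Coefficient of a code. -/
def cf : V → ℕ → ℤ
  | [], _ => 0
  | p :: v, k => bif Nat.beq p.1 k then p.2 + cf v k else cf v k

/-- Equality of sparse vectors. -/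
def veq (v w : V) : Bool := (v ++ w).all fun p => decide (cf v p.1 = cf w p.1)

/-- Apply an operator given by its columns. -/
def app (f : ℕ → V) (v : V) : V := v.flatMap fun p => (f p.1).map fun q => (q.1, p.2 * q.2)

/-- Scale a vector. -/
def scl (c : ℤ) (v : V) : V := v.map fun q => (q.1, c * q.2)

namespace Pk

variable (P : Pk)

/-- Column `c` of the `k`-th divided power of `ad e_r`. -/
def colL (k r c : ℕ) : V :=
  bif Nat.beq k 0 then [(c, 1)] else
  bif Nat.ble P.nroots c then
    (bif Nat.beq k 1 then [(r, -P.A (c - P.nroots) r)] else [])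
  else bif Nat.beq c r then []
  else bif Nat.beq c (P.ng r) then
    (bif Nat.beq k 1 then (List.range P.rank).map (fun i => (P.nroots + i, P.co r i))
     else bif Nat.beq k 2 then [(r, -1)] else [])
  else bif Nat.ble k (P.len r c) then [(P.tgt r c (k - 1), P.coef r c (k - 1))] else []

/-- The bracket of two basis vectors. -/
def brk (a b : ℕ) : V :=
  bif Nat.blt a P.nroots then P.colL 1 a b
  else bif Nat.blt b P.nroots then [(b, P.A (a - P.nroots) b)] else []

/-- The bracket of two vectors. -/
def brkV (v w : V) : V := v.flatMap fun p => scl p.2 (app (P.brk p.1) w)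

/-- Column `c` of `x_r(t)` for an integer `t`. -/
def xcol (r : ℕ) (t : ℤ) (c : ℕ) : V := (List.range 5).flatMap fun k => scl (t ^ k) (P.colL k r c)

/-- Column `c` of the signed permutation expected for `n_p`. -/
def sigCol (i c : ℕ) : V :=
  bif Nat.blt c P.nroots then [(P.w i c, P.eta i c)]
  else [(c, 1), (P.nroots + i, -P.A (c - P.nroots) (P.sim i))]

/-- Number of basis vectors. -/
def dim : ℕ := P.nroots + P.rank

/-- Codes of the fundamental coroots. -/
def hcodes : List ℕ := (List.range P.rank).map fun i => P.nroots + i

/-- All roots. -/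
def allRoots : List ℕ := List.range P.nroots

/-- All coordinates. -/
def allCodes : List ℕ := List.range P.dim

/-- Is a root positive. -/
def isPos (r : ℕ) : Bool := Nat.ble P.nroots (2 * r) && Nat.blt r P.nroots

/-- Root height. -/
def ht (r : ℕ) : ℤ := ((List.range P.rank).map fun i => P.rv r i).sum

/-- Pairing `2(r,s)/(r,r)`. -/
def pair (r s : ℕ) : ℤ := ((List.range P.rank).map fun i => P.co r i * P.A i s).sum

/-! ### Checks -/

/-- keys are exactly the nonzero cells. -/
def ckKeys : Bool := P.allRoots.all fun r =>
  decide (P.allRoots.filter (fun s => Nat.blt 0 (P.len r s)) = P.keys r)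

/-- Ranges and signs of chain data. -/
def ckRange : Bool := P.allRoots.all fun r => (P.keys r).all fun s =>
  (!Nat.beq s r) && (!Nat.beq s (P.ng r)) && Nat.blt (P.len r s) 4 &&
  (List.range (P.len r s)).all fun k => Nat.blt (P.tgt r s k) P.nroots && !(P.coef r s k == 0)

/-- Basic facts: even number of roots, simple roots positive, coefficients of simple roots and coroots. -/
def ckBasic : Bool :=
  Nat.blt P.nroots 256 && Nat.beq (P.nroots % 2) 0 && Nat.ble 2 P.rank &&
  ((List.range P.rank).all fun i => P.isPos (P.sim i) &&
    (List.range P.rank).all fun j =>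
      (P.co (P.sim i) j == bif Nat.beq i j then 1 else 0) && (P.rv (P.sim i) j == bif Nat.beq i j then 1 else 0))

/-- Signs, negatives and linearity of the Cartan integers. -/
def ckRoots : Bool := P.allRoots.all fun r =>
  ((List.range P.rank).all fun i =>
    decide (P.rv (P.ng r) i = -P.rv r i) && decide (P.co (P.ng r) i = -P.co r i) &&
    (bif P.isPos r then decide (0 ≤ P.rv r i) && decide (0 ≤ P.co r i)
     else decide (P.rv r i ≤ 0) && decide (P.co r i ≤ 0)) &&
    decide (((List.range P.rank).map fun j => P.rv r j * P.A i (P.sim j)).sum = P.A i r)) &&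
  decide (P.pair r r = 2) &&
  decide ((((List.range P.rank).map fun i => P.co r i).foldr (fun c g => Int.gcd c (g : ℤ)) 0) = 1)

/-- The packed root vector. -/
def rvc (r : ℕ) : List ℤ := (List.range P.rank).map fun i => P.rv r i

/-- An integral inverse of the Cartan matrix up to a nonzero factor, and root vectors distinguish roots. -/
def ckCartan (d : ℤ) (inv : List (List ℤ)) : Bool :=
  (!(d == 0)) &&
  ((List.range P.rank).all fun i => (List.range P.rank).all fun k =>
    decide (((List.range P.rank).map fun j => (inv.getD i []).getD j 0 * P.A j (P.sim k)).sum =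
      bif Nat.beq i k then d else 0)) &&
  (List.range (P.nroots - 1)).all fun r => List.lex (P.rvc r) (P.rvc (r + 1)) (fun x y => decide (x < y))

/-- Order compatibility. -/
def ckOrder : Bool := P.allRoots.all fun r => (P.keys r).all fun s => (List.range (P.len r s)).all fun k =>
  bif P.isPos r then Nat.blt s (P.tgt r s k) &&
    ((!(Nat.blt (P.ng r) s)) || P.isPos (P.tgt r s k)) &&
    ((!(P.isPos s)) || Nat.blt r (P.tgt r s k))
  else Nat.blt (P.tgt r s k) s

/-- Divided powers. -/
def ckPow : Bool := P.allRoots.all fun r =>
  ((P.keys r).all fun c => (List.range (P.len r c)).all fun k =>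
    veq (app (P.colL 1 r) (P.colL (k + 1) r c)) (scl (Int.ofNat (k + 2)) (P.colL (k + 2) r c))) &&
  ((P.ng r :: P.hcodes).all fun c => [1, 2].all fun k =>
    veq (app (P.colL 1 r) (P.colL k r c)) (scl (Int.ofNat (k + 1)) (P.colL (k + 1) r c)))

/-- A reflection fixing `g` lowers the index of `a`. -/
def skip (g a : ℕ) : Bool := Nat.blt a P.nroots &&
  (List.range P.rank).any fun i => Nat.beq (P.w i g) g && Nat.blt (P.w i a) a

/-- The derivation identity at `(g, a, b)`. -/
def derAt (g a b : ℕ) : Bool :=
  veq (app (P.brk g) (P.brk a b)) (P.brkV (P.brk g a) [(b, 1)] ++ P.brkV [(a, 1)] (P.brk g b))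

/-- The operator `ad e_g` is a derivation (up to the reflections fixing `g`). -/
def ckDer (g : ℕ) : Bool := P.allCodes.all fun a => P.skip g a || P.allCodes.all fun b => P.derAt g a b

/-- Every root can be raised to one of the listed roots. -/
def ckUp (gs : List ℕ) : Bool :=
  (gs.all fun g => Nat.blt g P.nroots) &&
  P.allRoots.all fun r => (gs.any fun g => Nat.beq g r) ||
    (List.range P.rank).any fun i => Nat.blt r (P.w i r)

/-- The `n_p` act as signed permutations. -/
def ckN (i : ℕ) : Bool := P.allCodes.all fun c =>
  veq (app (P.xcol (P.sim i) 1) (app (P.xcol (P.ng (P.sim i)) (-1)) (P.xcol (P.sim i) 1 c))) (P.sigCol i c)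

/-- Basic properties of the reflections. -/
def ckW (i : ℕ) : Bool := P.allRoots.all fun r =>
  Nat.blt (P.w i r) P.nroots && Nat.beq (P.w i (P.w i r)) r && Nat.beq (P.w i (P.ng r)) (P.ng (P.w i r)) &&
  decide (P.eta i r * P.eta i (P.ng r) = 1) &&
  decide (P.eta i r * P.eta i (P.w i r) = bif Nat.beq ((P.A i r).natAbs % 2) 1 then -1 else 1) &&
  ((List.range P.rank).all fun j =>
    decide (P.rv (P.w i r) j = P.rv r j - bif Nat.beq j i then P.A i r else 0) &&
    decide (P.co (P.w i r) j = P.co r j -
      bif Nat.beq j i then ((List.range P.rank).map fun k => P.co r k * P.A k (P.sim i)).sum else 0)) &&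
  (Nat.beq r (P.sim i) || Nat.beq r (P.ng (P.sim i)) || (P.isPos r == P.isPos (P.w i r))) &&
  (!(Nat.beq r (P.sim i)) || Nat.beq (P.w i r) (P.ng r))

/-- The signed permutation preserves the brackets of root vectors. -/
def ckSig (i : ℕ) : Bool := P.allRoots.all fun r =>
  let wr := P.w i r
  let er := P.eta i r
  (P.keys r).all fun s =>
    let ws := P.w i s
    let u := P.tgt r s 0
    Nat.blt 0 (P.len wr ws) && Nat.beq (P.tgt wr ws 0) (P.w i u) &&
      decide (er * P.eta i s * P.coef wr ws 0 = P.coef r s 0 * P.eta i u)

/-- Every root is conjugate to a fundamental root and generated by fundamental root vectors. -/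
def ckDown : Bool := P.allRoots.all fun r =>
  ((List.range P.rank).any fun i => Nat.beq r (P.sim i) || Nat.beq r (P.ng (P.sim i))) ||
  (((List.range P.rank).any fun i =>
      bif P.isPos r then Nat.blt (P.w i r) r && P.isPos (P.w i r)
      else Nat.blt r (P.w i r) && !(P.isPos (P.w i r))) &&
    ((List.range P.rank).any fun i =>
      let g := bif P.isPos r then P.sim i else P.ng (P.sim i)
      (P.keys g).any fun s => Nat.beq (P.tgt g s 0) r &&
        bif P.isPos r then (Nat.blt s r && P.isPos s) else (Nat.blt r s && !(P.isPos s))))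

end Pk

end Cfsg.Agent.Chev
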