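/-
The finite facts about a Chevalley datum that the structure theory uses.
-/
import Cfsg.Prelude.Def_ChevStructure
import Cfsg.Agent.Lib.Chev.Engine

set_option autoImplicit false

namespace Cfsg.Agent.Chev

/-- `P` is a packed copy of `D` passing all the finite checks. -/
structure Ok (D : Cfsg.Lie.ChevalleyDatum) (P : Pk) : Prop where
  rank : D.rank = P.rank
  nroots : D.nroots = P.nroots
  negIdx : D.negIdx.toList = P.allRoots.map P.ng
  simpleIdx : D.simpleIdx.toList = (List.range P.rank).map P.sim
  coroot : D.coroot.toList.map Array.toList =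
    P.allRoots.map fun r => (List.range P.rank).map fun i => P.co r i
  cartan : D.cartanSR.toList.map Array.toList =
    (List.range P.rank).map fun i => P.allRoots.map fun r => P.A i r
  chain : (D.chain.toList.map fun a => a.toList.map fun e => (e.1, e.2.toList)) =
    P.allRoots.map fun r => (P.keys r).map fun s => (s, P.entry r s)
  keys : P.ckKeys = true
  range : P.ckRange = true
  basic : P.ckBasic = true
  roots : P.ckRoots = true
  cartanM : ∃ d inv, P.ckCartan d inv = true
  order : P.ckOrder = true
  pow : P.ckPow = true
  nmat : ∀ i < P.rank, P.ckN i = true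
  wrefl : ∀ i < P.rank, P.ckW i = true
  sig : ∀ i < P.rank, P.ckSig i = true
  down : P.ckDown = true
  tops : ∃ gs, P.ckUp gs = true ∧ ∀ g ∈ gs, P.ckDer g = true

end Cfsg.Agent.Chev
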