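/-
The seven tabulated data pass the checks.
-/
import Cfsg.Agent.Lib.Chev.Check.B2
import Cfsg.Agent.Lib.Chev.Check.G2
import Cfsg.Agent.Lib.Chev.Check.D4
import Cfsg.Agent.Lib.Chev.Check.F4
import Cfsg.Agent.Lib.Chev.Check.E6
import Cfsg.Agent.Lib.Chev.Check.E7
import Cfsg.Agent.Lib.Chev.Check.E8

set_option autoImplicit false

namespace Cfsg.Agent.Chev

open Cfsg.Lie

theorem exists_ok {D : ChevalleyDatum}
    (hD : D ∈ [chevG2, chevB2, chevD4, chevF4, chevE6, chevE7, chevE8]) : ∃ P, Ok D P := by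
  simp only [List.mem_cons, List.not_mem_nil, or_false] at hD
  rcases hD with rfl | rfl | rfl | rfl | rfl | rfl | rfl
  · exact ⟨_, G2.ok⟩
  · exact ⟨_, B2.ok⟩
  · exact ⟨_, D4.ok⟩
  · exact ⟨_, F4.ok⟩
  · exact ⟨_, E6.ok⟩
  · exact ⟨_, E7.ok⟩
  · exact ⟨_, E8.ok⟩

end Cfsg.Agent.Chev
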