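/-
Consequences of the finite checks: the tables of the datum in terms of the packed copy.
-/
import Cfsg.Agent.Lib.Chev.Ok

set_option autoImplicit false

namespace Cfsg.Agent.Chev

open Cfsg.Lie

theorem getD_toList {α : Type*} (a : Array α) (i : ℕ) (d : α) : a.getD i d = a.toList.getD i d := by
  simp [Array.getD_eq_getD_getElem?, List.getD_eq_getElem?_getD, Array.getElem?_toList]

theorem getD_map_range {α : Type*} (f : ℕ → α) {n i : ℕ} (h : i < n) (d : α) :
    ((List.range n).map f).getD i d = f i := by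
  simp [List.getD_eq_getElem?_getD, h]

theorem getD_getD {α : Type*} (a : Array (Array α)) (f : ℕ → ℕ → α) {m n i j : ℕ}
    (h : a.toList.map Array.toList = (List.range m).map fun i => (List.range n).map (f i))
    (hi : i < m) (hj : j < n) (d : α) : (a.getD i #[]).getD j d = f i j := by
  rw [getD_toList, getD_toList]
  have h1 := congrArg (fun L : List (List α) => (L.getD i []).getD j d) h
  simp only [getD_map_range _ hi, getD_map_range _ hj] at h1
  rw [← h1]
  congr 1
  simp [List.getD_eq_getElem?_getD, List.getElem?_map]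

theorem nbeq (i j : ℕ) : Nat.beq i j = decide (i = j) := by
  by_cases h : i = j
  · subst h; simp
  · simp [h, show Nat.beq i j = false by
      rw [Bool.eq_false_iff]; intro e; exact h (Nat.eq_of_beq_eq_true e)]

namespace Pk

variable (P : Pk)

theorem mem_allRoots {r : ℕ} : r ∈ P.allRoots ↔ r < P.nroots := List.mem_range

theorem mem_allCodes {r : ℕ} : r ∈ P.allCodes ↔ r < P.dim := List.mem_range

theorem isPos_iff {r : ℕ} : P.isPos r = true ↔ P.nroots ≤ 2 * r ∧ r < P.nroots := by
  simp [isPos]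

theorem entry_length (r s : ℕ) : (P.entry r s).length = P.len r s := by simp [entry]

theorem entry_getElem? {r s k : ℕ} (hk : k < P.len r s) :
    (P.entry r s)[k]? = some (P.tgt r s k, P.coef r s k) := by simp [entry, hk]

end Pk

variable {D : ChevalleyDatum} {P : Pk}

namespace Ok

variable (h : Ok D P)
include h

theorem n_lt : P.nroots < 256 := by
  have := h.basic
  simp [Pk.ckBasic] at this
  exact this.1.1.1

theorem n_even : P.nroots % 2 = 0 := by
  have := h.basic
  simp [Pk.ckBasic] at this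
  exact this.1.1.2

theorem two_le_rank : 2 ≤ P.rank := by
  have := h.basic
  simp [Pk.ckBasic] at this
  exact this.1.2

theorem sim_pos {i : ℕ} (hi : i < P.rank) : P.isPos (P.sim i) = true := by
  have := h.basic
  simp [Pk.ckBasic] at this
  exact (this.2 i hi).1

theorem sim_lt {i : ℕ} (hi : i < P.rank) : P.sim i < P.nroots := (P.isPos_iff.1 (h.sim_pos hi)).2

theorem co_sim {i j : ℕ} (hi : i < P.rank) (hj : j < P.rank) :
    P.co (P.sim i) j = if i = j then 1 else 0 := by
  have := h.basic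
  simp [Pk.ckBasic] at this
  rw [((this.2 i hi).2 j hj).1]
  by_cases e : i = j <;> simp [e, nbeq]

theorem rv_sim {i j : ℕ} (hi : i < P.rank) (hj : j < P.rank) :
    P.rv (P.sim i) j = if i = j then 1 else 0 := by
  have := h.basic
  simp [Pk.ckBasic] at this
  rw [((this.2 i hi).2 j hj).2]
  by_cases e : i = j <;> simp [e, nbeq]

omit h in
theorem ng_lt {r : ℕ} (hr : r < P.nroots) : P.ng r < P.nroots := by simp [Pk.ng]; omega

omit h in
theorem ng_ng {r : ℕ} (hr : r < P.nroots) : P.ng (P.ng r) = r := by simp [Pk.ng]; omega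

theorem ng_ne {r : ℕ} (hr : r < P.nroots) : P.ng r ≠ r := by
  have := h.n_even
  simp [Pk.ng]; omega

theorem ng_pos_iff {r : ℕ} (hr : r < P.nroots) : P.isPos (P.ng r) = true ↔ P.isPos r = false := by
  have := h.n_even
  rw [← Bool.not_eq_true, P.isPos_iff, P.isPos_iff]
  simp [Pk.ng]; omega

theorem neg_eq {r : ℕ} (hr : r < P.nroots) : D.neg r = P.ng r := by
  rw [ChevalleyDatum.neg, getD_toList, h.negIdx, Pk.allRoots, getD_map_range _ hr]

theorem simple_eq {i : ℕ} (hi : i < P.rank) : D.simple i = P.sim i := by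
  rw [ChevalleyDatum.simple, getD_toList, h.simpleIdx, getD_map_range _ hi]

theorem coroot_eq {r i : ℕ} (hr : r < P.nroots) (hi : i < P.rank) :
    (D.coroot.getD r #[]).getD i 0 = P.co r i :=
  getD_getD D.coroot P.co h.coroot hr hi 0

theorem cartan_eq {i r : ℕ} (hi : i < P.rank) (hr : r < P.nroots) : D.cartan i r = P.A i r :=
  getD_getD D.cartanSR P.A h.cartan hi hr 0

theorem coroot_list {r : ℕ} (hr : r < P.nroots) :
    (D.coroot.getD r #[]).toList = (List.range P.rank).map (P.co r) := by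
  have h1 := congrArg (fun L : List (List ℤ) => L.getD r []) h.coroot
  simp only [Pk.allRoots, getD_map_range _ hr] at h1
  rw [← h1, getD_toList]
  simp [List.getD_eq_getElem?_getD, List.getElem?_map]

theorem roots_spec {r : ℕ} (hr : r < P.nroots) :
    (∀ i < P.rank, P.rv (P.ng r) i = -P.rv r i ∧ P.co (P.ng r) i = -P.co r i ∧
      (if P.isPos r then 0 ≤ P.rv r i ∧ 0 ≤ P.co r i else P.rv r i ≤ 0 ∧ P.co r i ≤ 0) ∧
      ((List.range P.rank).map fun j => P.rv r j * P.A i (P.sim j)).sum = P.A i r) ∧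
    P.pair r r = 2 ∧
    (((List.range P.rank).map fun i => P.co r i).foldr (fun c g => Int.gcd c (g : ℤ)) 0) = 1 := by
  have := h.roots
  simp only [Pk.ckRoots, List.all_eq_true, Pk.mem_allRoots, Bool.and_eq_true, decide_eq_true_eq,
    List.mem_range] at this
  obtain ⟨⟨h1, h2⟩, h3⟩ := this r hr
  refine ⟨fun i hi => ?_, h2, h3⟩
  obtain ⟨⟨⟨a, b⟩, c⟩, d⟩ := h1 i hi
  refine ⟨a, b, ?_, d⟩
  by_cases hp : P.isPos r = true <;> simpa [hp] using c

theorem rv_ng {r i : ℕ} (hr : r < P.nroots) (hi : i < P.rank) : P.rv (P.ng r) i = -P.rv r i :=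
  ((h.roots_spec hr).1 i hi).1

theorem co_ng {r i : ℕ} (hr : r < P.nroots) (hi : i < P.rank) : P.co (P.ng r) i = -P.co r i :=
  ((h.roots_spec hr).1 i hi).2.1

theorem A_eq_sum {r i : ℕ} (hr : r < P.nroots) (hi : i < P.rank) :
    P.A i r = ∑ j ∈ Finset.range P.rank, P.rv r j * P.A i (P.sim j) := by
  rw [← ((h.roots_spec hr).1 i hi).2.2.2, ← List.sum_toFinset _ List.nodup_range]
  congr 1
  ext; simp

theorem A_self {i : ℕ} (hi : i < P.rank) : P.A i (P.sim i) = 2 := by
  have h1 := (h.roots_spec (h.sim_lt hi)).2.1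
  rw [Pk.pair, ← List.sum_toFinset _ List.nodup_range] at h1
  rw [Finset.sum_eq_single i] at h1
  · rw [h.co_sim hi hi] at h1; simpa using h1
  · intro j hj hne
    rw [h.co_sim hi (by simpa using hj), if_neg (Ne.symm hne), zero_mul]
  · intro hn; exact absurd (by simpa using hi) hn

theorem A_ng {r i : ℕ} (hr : r < P.nroots) (hi : i < P.rank) : P.A i (P.ng r) = -P.A i r := by
  rw [h.A_eq_sum (ng_lt hr) hi, h.A_eq_sum hr hi, ← Finset.sum_neg_distrib]
  refine Finset.sum_congr rfl fun j hj => ?_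
  rw [h.rv_ng hr (by simpa using hj), neg_mul]

theorem isPosRoot_iff (r : ℕ) : D.IsPosRoot r ↔ P.isPos r = true := by
  constructor
  · rintro ⟨hr, hc⟩
    rw [h.nroots] at hr
    rw [h.coroot_list hr] at hc
    by_contra hp
    have hs := h.roots_spec hr
    have hz : ∀ i < P.rank, P.co r i = 0 := by
      intro i hi
      have h1 := (hs.1 i hi).2.2.1
      rw [if_neg hp] at h1
      have := hc _ (List.mem_map.2 ⟨i, List.mem_range.2 hi, rfl⟩)
      omega
    have h2 := hs.2.1
    rw [Pk.pair, List.sum_eq_zero] at h2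
    · exact absurd h2 (by norm_num)
    · intro x hx
      obtain ⟨i, hi, rfl⟩ := List.mem_map.1 hx
      rw [hz i (List.mem_range.1 hi), zero_mul]
  · intro hp
    have hr := (P.isPos_iff.1 hp).2
    refine ⟨by rw [h.nroots]; exact hr, ?_⟩
    rw [h.coroot_list hr]
    intro c hc
    obtain ⟨i, hi, rfl⟩ := List.mem_map.1 hc
    have h1 := ((h.roots_spec hr).1 i (List.mem_range.1 hi)).2.2.1
    rw [if_pos hp] at h1
    exact h1.2

theorem isNegRoot_iff (r : ℕ) : D.IsNegRoot r ↔ r < P.nroots ∧ P.isPos r = false := by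
  constructor
  · rintro ⟨hr, hc⟩
    rw [h.nroots] at hr
    refine ⟨hr, ?_⟩
    rw [h.coroot_list hr] at hc
    rw [← h.ng_pos_iff hr, ← h.isPosRoot_iff]
    refine ⟨by rw [h.nroots]; exact ng_lt hr, ?_⟩
    rw [h.coroot_list (ng_lt hr)]
    intro c hc'
    obtain ⟨i, hi, rfl⟩ := List.mem_map.1 hc'
    have := hc _ (List.mem_map.2 ⟨i, hi, rfl⟩)
    rw [h.co_ng hr (List.mem_range.1 hi)]
    omega
  · rintro ⟨hr, hp⟩
    refine ⟨by rw [h.nroots]; exact hr, ?_⟩
    rw [h.coroot_list hr]
    intro c hc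
    obtain ⟨i, hi, rfl⟩ := List.mem_map.1 hc
    have h1 := ((h.roots_spec hr).1 i (List.mem_range.1 hi)).2.2.1
    rw [if_neg (by simp [hp])] at h1
    exact h1.2

/-! ### Chains -/

theorem mem_keys {r s : ℕ} (hr : r < P.nroots) : s ∈ P.keys r ↔ s < P.nroots ∧ 0 < P.len r s := by
  have := h.keys
  simp only [Pk.ckKeys, List.all_eq_true, Pk.mem_allRoots, decide_eq_true_eq] at this
  rw [← this r hr, List.mem_filter, Pk.mem_allRoots]
  simp

theorem nodup_keys {r : ℕ} (hr : r < P.nroots) : (P.keys r).Nodup := by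
  have := h.keys
  simp only [Pk.ckKeys, List.all_eq_true, Pk.mem_allRoots, decide_eq_true_eq] at this
  rw [← this r hr]
  exact List.nodup_range.filter _

theorem range_spec {r s : ℕ} (hr : r < P.nroots) (hs : s ∈ P.keys r) :
    s ≠ r ∧ s ≠ P.ng r ∧ P.len r s < 4 ∧
      ∀ k < P.len r s, P.tgt r s k < P.nroots ∧ P.coef r s k ≠ 0 := by
  have := h.range
  simp only [Pk.ckRange, List.all_eq_true, Pk.mem_allRoots, Bool.and_eq_true, List.mem_range] at this
  obtain ⟨⟨⟨a, b⟩, c⟩, d⟩ := this r hr s hs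
  simp only [Bool.not_eq_true', Nat.blt_eq] at a b c d
  refine ⟨?_, ?_, c, fun k hk => ⟨(d k hk).1, by simpa using (d k hk).2⟩⟩
  · intro e; simp [e] at a
  · intro e; simp [e] at b

theorem len_lt {r s : ℕ} (hr : r < P.nroots) (hs : s < P.nroots) : P.len r s < 4 := by
  rcases Nat.eq_zero_or_pos (P.len r s) with e | e
  · omega
  · exact (h.range_spec hr ((h.mem_keys hr).2 ⟨hs, e⟩)).2.2.1

theorem len_eq_zero {r s : ℕ} (hr : r < P.nroots) (hs : s < P.nroots)
    (he : s = r ∨ s = P.ng r) : P.len r s = 0 := by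
  by_contra hne
  have := h.range_spec hr ((h.mem_keys hr).2 ⟨hs, Nat.pos_of_ne_zero hne⟩)
  tauto

theorem tgt_lt {r s k : ℕ} (hr : r < P.nroots) (hs : s < P.nroots) (hk : k < P.len r s) :
    P.tgt r s k < P.nroots :=
  ((h.range_spec hr ((h.mem_keys hr).2 ⟨hs, by omega⟩)).2.2.2 k hk).1

theorem coef_ne {r s k : ℕ} (hr : r < P.nroots) (hs : s < P.nroots) (hk : k < P.len r s) :
    P.coef r s k ≠ 0 :=
  ((h.range_spec hr ((h.mem_keys hr).2 ⟨hs, by omega⟩)).2.2.2 k hk).2

theorem chain_row {r : ℕ} (hr : r < P.nroots) :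
    (D.chain.getD r #[]).toList.map (fun e => (e.1, e.2.toList)) =
      (P.keys r).map fun s => (s, P.entry r s) := by
  have h1 := congrArg (fun L : List (List (ℕ × List (ℕ × ℤ))) => L.getD r []) h.chain
  simp only [Pk.allRoots, getD_map_range _ hr] at h1
  rw [← h1, getD_toList]
  simp [List.getD_eq_getElem?_getD, List.getElem?_map]
  cases D.chain[r]? <;> simp

theorem chain_filter {r : ℕ} (hr : r < P.nroots) (s : ℕ) :
    ((D.chain.getD r #[]).toList.filter (fun e => e.1 = s)).map (fun e => e.2.toList) =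
      if s ∈ P.keys r then [P.entry r s] else [] := by
  have e : ((D.chain.getD r #[]).toList.filter (fun e => e.1 = s)).map (fun e => e.2.toList) =
      (((D.chain.getD r #[]).toList.map (fun e => (e.1, e.2.toList))).filter (fun e => e.1 = s)).map
        Prod.snd := by
    rw [List.filter_map, List.map_map]; rfl
  rw [e, h.chain_row hr, List.filter_map, List.map_map]
  simp only [Function.comp_def]
  have hnd := h.nodup_keys hr
  by_cases hs : s ∈ P.keys r
  · rw [if_pos hs]
    have : (P.keys r).filter (fun x => decide (x = s)) = [s] := by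
      rw [List.filter_eq]
      simp [List.count_eq_one_of_mem hnd hs]
    rw [this]; rfl
  · rw [if_neg hs]
    have : (P.keys r).filter (fun x => decide (x = s)) = [] := by
      rw [List.filter_eq_nil_iff]
      intro x hx; simp; rintro rfl; exact hs hx
    rw [this]; rfl

theorem chainEntry_eq {r s : ℕ} (hr : r < P.nroots) (hs : s < P.nroots) :
    D.chainEntry r s = P.entry r s := by
  have hcf := h.chain_filter hr s
  rw [ChevalleyDatum.chainEntry]
  rw [← List.head?_filter]
  cases hfl : (D.chain.getD r #[]).toList.filter (fun e => e.1 = s) with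
  | nil =>
    rw [hfl] at hcf
    split_ifs at hcf with hk
    · simp at hcf
    · have : P.len r s = 0 := by
        by_contra hne
        exact hk ((h.mem_keys hr).2 ⟨hs, Nat.pos_of_ne_zero hne⟩)
      simp [Pk.entry, this]
  | cons e l =>
    rw [hfl] at hcf
    split_ifs at hcf with hk
    · simp at hcf
      simp [hcf.1]
    · simp at hcf

theorem chainCoeff_eq {r s : ℕ} (hr : r < P.nroots) (hs : s < P.nroots) (u : ℕ) :
    D.chainCoeff r s u =
      ((P.entry r s).zipIdx.filter (fun q => q.1.1 = u)).map fun q => (q.2 + 1, q.1.2) := by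
  have hcf := h.chain_filter hr s
  rw [ChevalleyDatum.chainCoeff]
  have e : ∀ l : List (ℕ × Array (ℕ × ℤ)),
      (l.flatMap fun e => ((e.2.toList.zipIdx).filter (fun q => q.1.1 = u)).map fun q => (q.2 + 1, q.1.2)) =
      ((l.map fun e => e.2.toList).flatMap fun w =>
        ((w.zipIdx).filter (fun q => q.1.1 = u)).map fun q => (q.2 + 1, q.1.2)) := by
    intro l; rw [List.flatMap_map]
  rw [e, hcf]
  by_cases hk : s ∈ P.keys r
  · simp [hk]
  · have : P.len r s = 0 := by
      by_contra hne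
      exact hk ((h.mem_keys hr).2 ⟨hs, Nat.pos_of_ne_zero hne⟩)
    simp [hk, Pk.entry, this]

/-! ### Reflections -/

theorem w_spec {i r : ℕ} (hi : i < P.rank) (hr : r < P.nroots) :
    P.w i r < P.nroots ∧ P.w i (P.w i r) = r ∧ P.w i (P.ng r) = P.ng (P.w i r) ∧
    P.eta i r * P.eta i (P.ng r) = 1 ∧
    P.eta i r * P.eta i (P.w i r) = (-1) ^ (P.A i r).natAbs ∧
    (∀ j < P.rank, P.rv (P.w i r) j = P.rv r j - (if j = i then P.A i r else 0) ∧
      P.co (P.w i r) j = P.co r j - (if j = i then P.pair r (P.sim i) else 0)) ∧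
    (r = P.sim i ∨ r = P.ng (P.sim i) ∨ P.isPos r = P.isPos (P.w i r)) ∧
    (r = P.sim i → P.w i r = P.ng r) := by
  have := h.wrefl i hi
  simp only [Pk.ckW, nbeq, List.all_eq_true, Pk.mem_allRoots, Bool.and_eq_true, decide_eq_true_eq,
    List.mem_range, Nat.blt_eq, Bool.or_eq_true, beq_iff_eq, Bool.not_eq_true'] at this
  obtain ⟨⟨⟨⟨⟨⟨⟨a, b⟩, c⟩, d⟩, e⟩, f⟩, g⟩, k⟩ := this r hr
  refine ⟨a, by simpa using b, by simpa using c, d, ?_, fun j hj => ?_, ?_, ?_⟩
  · rw [e]
    rcases Nat.mod_two_eq_zero_or_one (P.A i r).natAbs with p | p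
    · rw [neg_one_pow_eq_pow_mod_two, p]; simp
    · rw [neg_one_pow_eq_pow_mod_two, p]; simp
  · obtain ⟨f1, f2⟩ := f j hj
    rw [f1, f2]
    by_cases hji : j = i <;> simp [hji, Pk.pair]
  · rcases g with (g | g) | g
    · exact Or.inl (by simpa using g)
    · exact Or.inr (Or.inl (by simpa using g))
    · exact Or.inr (Or.inr g)
  · intro hrs
    rcases k with k | k
    · simp [hrs] at k
    · simpa using k

theorem w_lt {i r : ℕ} (hi : i < P.rank) (hr : r < P.nroots) : P.w i r < P.nroots := (h.w_spec hi hr).1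

theorem w_w {i r : ℕ} (hi : i < P.rank) (hr : r < P.nroots) : P.w i (P.w i r) = r := (h.w_spec hi hr).2.1

theorem w_ng {i r : ℕ} (hi : i < P.rank) (hr : r < P.nroots) : P.w i (P.ng r) = P.ng (P.w i r) :=
  (h.w_spec hi hr).2.2.1

theorem w_sim {i : ℕ} (hi : i < P.rank) : P.w i (P.sim i) = P.ng (P.sim i) :=
  (h.w_spec hi (h.sim_lt hi)).2.2.2.2.2.2.2 rfl

theorem w_inj {i r s : ℕ} (hi : i < P.rank) (hr : r < P.nroots) (hs : s < P.nroots)
    (e : P.w i r = P.w i s) : r = s := by rw [← h.w_w hi hr, e, h.w_w hi hs]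

omit h in
theorem eta_sq (i r : ℕ) : P.eta i r * P.eta i r = 1 := by
  unfold Pk.eta
  cases Nat.beq (P.signs i >>> r &&& 1) 1 <;> rfl

theorem eta_ng {i r : ℕ} (hi : i < P.rank) (hr : r < P.nroots) : P.eta i (P.ng r) = P.eta i r := by
  have h1 := (h.w_spec hi hr).2.2.2.1
  calc P.eta i (P.ng r) = (P.eta i r * P.eta i r) * P.eta i (P.ng r) := by rw [eta_sq, one_mul]
    _ = P.eta i r * (P.eta i r * P.eta i (P.ng r)) := by ring
    _ = P.eta i r := by rw [h1, mul_one]

theorem A_w {i j r : ℕ} (hi : i < P.rank) (hj : j < P.rank) (hr : r < P.nroots) :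
    P.A j (P.w i r) = P.A j r - P.A i r * P.A j (P.sim i) := by
  rw [h.A_eq_sum (h.w_lt hi hr) hj, h.A_eq_sum hr hj]
  have : ∀ k ∈ Finset.range P.rank, P.rv (P.w i r) k * P.A j (P.sim k) =
      P.rv r k * P.A j (P.sim k) - if k = i then P.A i r * P.A j (P.sim k) else 0 := by
    intro k hk
    rw [((h.w_spec hi hr).2.2.2.2.2.1 k (by simpa using hk)).1]
    by_cases hki : k = i <;> simp [hki, sub_mul]
  rw [Finset.sum_congr rfl this, Finset.sum_sub_distrib, Finset.sum_ite_eq' (Finset.range P.rank) i]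
  simp [hi]

end Ok

end Cfsg.Agent.Chev
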