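/-
The integral operators: divided powers of `ad e_r`, the bracket matrices and the signed permutations.
-/
import Cfsg.Agent.Lib.Chev.Table

set_option autoImplicit false

namespace Cfsg.Agent.Chev

open Cfsg.Lie

theorem ble_f {a b : ℕ} (h : ¬ a ≤ b) : Nat.ble a b = false := by
  rw [Bool.eq_false_iff]; intro e; exact h (Nat.le_of_ble_eq_true e)

theorem ble_t {a b : ℕ} (h : a ≤ b) : Nat.ble a b = true := Nat.ble_eq_true_of_le h

theorem blt_f {a b : ℕ} (h : ¬ a < b) : Nat.blt a b = false := ble_f h

theorem blt_t {a b : ℕ} (h : a < b) : Nat.blt a b = true := ble_t h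

theorem cf_nil (k : ℕ) : cf [] k = 0 := rfl

theorem cf_cons (p : ℕ × ℤ) (v : V) (k : ℕ) :
    cf (p :: v) k = (if p.1 = k then p.2 else 0) + cf v k := by
  rw [cf, nbeq]
  by_cases h : p.1 = k <;> simp [h]

theorem cf_append (v w : V) (k : ℕ) : cf (v ++ w) k = cf v k + cf w k := by
  induction v with
  | nil => simp [cf_nil]
  | cons p v ih => rw [List.cons_append, cf_cons, cf_cons, ih]; ring

theorem cf_scl (c : ℤ) (v : V) (k : ℕ) : cf (scl c v) k = c * cf v k := by
  induction v with
  | nil => simp [scl, cf_nil]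
  | cons p v ih =>
    rw [scl, List.map_cons, ← scl, cf_cons, cf_cons, ih]
    by_cases h : p.1 = k <;> simp [h, mul_add]

theorem app_nil (f : ℕ → V) : app f [] = [] := rfl

theorem app_cons (f : ℕ → V) (p : ℕ × ℤ) (v : V) : app f (p :: v) = scl p.2 (f p.1) ++ app f v := by
  simp [app, scl]

theorem app_append (f : ℕ → V) (v w : V) : app f (v ++ w) = app f v ++ app f w := by simp [app]

theorem cf_eq_zero {v : V} {k : ℕ} (h : ∀ p ∈ v, p.1 ≠ k) : cf v k = 0 := by
  induction v with
  | nil => rfl
  | cons p v ih =>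
    rw [cf_cons, if_neg (h p (by simp)), ih (fun q hq => h q (by simp [hq])), add_zero]

theorem veq_cf {v w : V} (h : veq v w = true) (k : ℕ) : cf v k = cf w k := by
  simp only [veq, List.all_eq_true, decide_eq_true_eq] at h
  by_cases hk : ∃ p ∈ v ++ w, p.1 = k
  · obtain ⟨p, hp, rfl⟩ := hk
    exact h p hp
  · simp only [not_exists, not_and] at hk
    rw [cf_eq_zero fun p hp => hk p (List.mem_append_left _ hp),
      cf_eq_zero fun p hp => hk p (List.mem_append_right _ hp)]

/-- All codes are coordinates of the datum. -/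
def Valid (P : Pk) (v : V) : Prop := ∀ p ∈ v, p.1 < P.dim

/-- The code of a coordinate. -/
def code {D : ChevalleyDatum} (P : Pk) : D.Idx → ℕ
  | Sum.inl i => P.nroots + i.val
  | Sum.inr s => s.val

/-- The matrix of an operator given by sparse columns. -/
def opM (D : ChevalleyDatum) (P : Pk) (f : ℕ → V) : Matrix D.Idx D.Idx ℤ :=
  Matrix.of fun row col => cf (f (code P col)) (code P row)

/-- The divided power `(ad e_r)^(k)`. -/
def Ek (D : ChevalleyDatum) (P : Pk) (k r : ℕ) : Matrix D.Idx D.Idx ℤ := opM D P (P.colL k r)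

/-- The bracket with a basis vector. -/
def AD (D : ChevalleyDatum) (P : Pk) (a : D.Idx) : Matrix D.Idx D.Idx ℤ := opM D P (P.brk (code P a))

/-- The signed permutation of `n_p`. -/
def Sg (D : ChevalleyDatum) (P : Pk) (i : ℕ) : Matrix D.Idx D.Idx ℤ := opM D P (P.sigCol i)

variable {D : ChevalleyDatum} {P : Pk}

theorem opM_apply (f : ℕ → V) (row col : D.Idx) :
    opM D P f row col = cf (f (code P col)) (code P row) := rfl

namespace Ok

variable (h : Ok D P)
include h

theorem code_lt (x : D.Idx) : code P x < P.dim := by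
  rcases x with i | s
  · have := i.isLt; simp [code, Pk.dim, h.rank] at *; omega
  · have := s.isLt; simp [code, Pk.dim, h.nroots] at *; omega

theorem code_inj : Function.Injective (code (D := D) P) := by
  rintro (i | s) (j | t) e <;> simp [code] at e
  · rw [Fin.val_inj] at e; rw [e]
  · have := t.isLt; simp [h.nroots] at this; omega
  · have := s.isLt; simp [h.nroots] at this; omega
  · rw [Fin.val_inj] at e; rw [e]

/-- The coordinate of a root. -/
def rootIdx (r : ℕ) (hr : r < P.nroots) : D.Idx := Sum.inr ⟨r, h.nroots ▸ hr⟩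

/-- The coordinate of a fundamental coroot. -/
def hIdx (i : ℕ) (hi : i < P.rank) : D.Idx := Sum.inl ⟨i, h.rank ▸ hi⟩

theorem exists_code {c : ℕ} (hc : c < P.dim) : ∃ x : D.Idx, code P x = c := by
  by_cases hn : c < P.nroots
  · exact ⟨h.rootIdx c hn, rfl⟩
  · exact ⟨h.hIdx (c - P.nroots) (by simp [Pk.dim] at hc; omega), by simp [code, hIdx]; omega⟩

theorem sum_code (F : D.Idx → ℤ) (G : ℕ → ℤ) {c : ℕ} (hc : c < P.dim)
    (hF : ∀ x : D.Idx, code P x = c → F x = G c) :
    ∑ x : D.Idx, (if c = code P x then F x else 0) = G c := by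
  obtain ⟨x, rfl⟩ := h.exists_code hc
  rw [Finset.sum_eq_single x]
  · rw [if_pos rfl, hF x rfl]
  · intro y _ hy
    rw [if_neg fun e => hy (h.code_inj e).symm]
  · simp

theorem cf_app (f : ℕ → V) {v : V} (hv : Valid P v) (k : ℕ) :
    cf (app f v) k = ∑ x : D.Idx, cf v (code P x) * cf (f (code P x)) k := by
  induction v with
  | nil => simp [app_nil, cf_nil]
  | cons p v ih =>
    rw [app_cons, cf_append, cf_scl, ih (fun q hq => hv q (by simp [hq]))]
    simp only [cf_cons, add_mul, Finset.sum_add_distrib, ite_mul, zero_mul]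
    congr 1
    exact (h.sum_code (fun x => p.2 * cf (f (code P x)) k) (fun c => p.2 * cf (f c) k)
      (hv p (by simp)) fun x e => by rw [e]).symm

theorem opM_mul (f g : ℕ → V) (hg : ∀ c < P.dim, Valid P (g c)) :
    opM D P f * opM D P g = opM D P fun c => app f (g c) := by
  ext row col
  rw [Matrix.mul_apply, opM_apply, h.cf_app f (hg _ (h.code_lt col))]
  exact Finset.sum_congr rfl fun x _ => mul_comm _ _

theorem opM_ext {f g : ℕ → V} (e : ∀ c < P.dim, ∀ k < P.dim, cf (f c) k = cf (g c) k) :
    opM D P f = opM D P g := by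
  ext row col
  exact e _ (h.code_lt col) _ (h.code_lt row)

theorem valid_colL {k r c : ℕ} (hr : r < P.nroots) (hc : c < P.dim) : Valid P (P.colL k r c) := by
  have hd : P.nroots ≤ P.dim := Nat.le_add_right _ _
  unfold Pk.colL
  simp only [nbeq]
  by_cases hk : k = 0
  · simpa [hk, Valid] using hc
  simp only [hk, decide_false, cond_false]
  by_cases hn : P.nroots ≤ c
  · simp only [ble_t hn, cond_true]
    by_cases hk1 : k = 1 <;> simp [hk1, Valid]
    omega
  simp only [ble_f hn, cond_false]
  by_cases hcr : c = r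
  · simp [hcr, Valid]
  simp only [hcr, decide_false, cond_false]
  by_cases hcn : c = P.ng r
  · simp only [hcn, decide_true, cond_true]
    by_cases hk1 : k = 1
    · simp [hk1, Valid, Pk.dim]
    · by_cases hk2 : k = 2 <;> simp [hk1, hk2, Valid]
      omega
  simp only [hcn, decide_false, cond_false]
  by_cases hl : k ≤ P.len r c
  · simp only [ble_t hl, cond_true]
    have := h.tgt_lt (s := c) (k := k - 1) hr (by omega) (by omega)
    simp [Valid]; omega
  · simp [ble_f hl, Valid]

theorem valid_brk {a c : ℕ} (ha : a < P.dim) (hc : c < P.dim) : Valid P (P.brk a c) := by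
  unfold Pk.brk
  by_cases hn : a < P.nroots
  · simp only [blt_t hn, cond_true]
    exact h.valid_colL hn hc
  · simp only [blt_f hn, cond_false]
    by_cases hcn : c < P.nroots
    · simp [blt_t hcn, Valid, hc]
    · simp [blt_f hcn, Valid]

theorem valid_sig {i c : ℕ} (hi : i < P.rank) (hc : c < P.dim) : Valid P (P.sigCol i c) := by
  unfold Pk.sigCol
  by_cases hn : c < P.nroots
  · have := h.w_lt hi hn
    simp [blt_t hn, Valid, Pk.dim]; omega
  · simp [blt_f hn, Valid, Pk.dim] at hc ⊢; omega

theorem AD_root {r : ℕ} (hr : r < P.nroots) : AD D P (h.rootIdx r hr) = Ek D P 1 r := by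
  refine h.opM_ext fun c _ k _ => ?_
  show cf (P.brk r c) k = _
  simp [Pk.brk, blt_t hr, Ek, opM_apply]

theorem Ek_zero (r : ℕ) : Ek D P 0 r = 1 := by
  ext row col
  rw [Ek, opM_apply]
  simp [Pk.colL, cf_cons, cf_nil, Matrix.one_apply, h.code_inj.eq_iff, eq_comm]

end Ok

end Cfsg.Agent.Chev
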