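/-
`ChevalleyDatum.reflectRoot` agrees with the packed reflections.
-/
import Cfsg.Agent.Lib.Chev.Op

set_option autoImplicit false

namespace Cfsg.Agent.Chev

open Cfsg.Lie

namespace Pk

variable (P : Pk)

/-- The `k`-th (from 1) term of a chain, with default `s`. -/
def chainD (r s k : ℕ) : ℕ :=
  bif Nat.blt (k - 1) (P.len r s) then P.tgt r s (k - 1) else s

/-- The chain description of a reflection. -/
def reflChain (i s : ℕ) : ℕ :=
  bif Nat.beq s (P.sim i) then P.ng (P.sim i)
  else bif Nat.beq s (P.ng (P.sim i)) then P.sim i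
  else bif decide (0 < P.A i s) then P.chainD (P.ng (P.sim i)) s (P.A i s).toNat
  else bif decide (P.A i s < 0) then P.chainD (P.sim i) s (-P.A i s).toNat
  else s

/-- The reflections are the ones read off the chains, and `n_p` negates `e_p`. -/
def ckRefl : Bool := (List.range P.rank).all fun i =>
  decide (P.eta i (P.sim i) = -1) && P.allRoots.all fun s => Nat.beq (P.reflChain i s) (P.w i s)

end Pk

variable {D : ChevalleyDatum} {P : Pk}

theorem Ok.reflectRoot_eq (h : Ok D P) (hc : P.ckRefl = true) {i s : ℕ} (hi : i < P.rank)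
    (hs : s < P.nroots) : D.reflectRoot i s = P.w i s := by
  simp only [Pk.ckRefl, nbeq, List.all_eq_true, List.mem_range, Bool.and_eq_true, decide_eq_true_eq,
    Pk.mem_allRoots] at hc
  have hsim := h.sim_lt hi
  have hch : ∀ r < P.nroots, ∀ k, (D.chainRoot r s k).getD s = P.chainD r s k := by
    intro r hr k
    rw [ChevalleyDatum.chainRoot, h.chainEntry_eq hr hs, Pk.chainD]
    by_cases hk : k - 1 < P.len r s
    · rw [P.entry_getElem? hk, blt_t hk]
      rfl
    · have : (P.entry r s)[k - 1]? = none := by
        rw [List.getElem?_eq_none_iff, P.entry_length]; omega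
      rw [this, blt_f hk]
      rfl
  rw [← (hc i hi).2 s hs, ChevalleyDatum.reflectRoot, h.simple_eq hi, h.cartan_eq hi hs,
    h.neg_eq hsim, hch _ (Ok.ng_lt hsim), hch _ hsim]
  simp only [Pk.reflChain, nbeq, Bool.cond_decide]

theorem Ok.eta_sim (_h : Ok D P) (hc : P.ckRefl = true) {i : ℕ} (hi : i < P.rank) :
    P.eta i (P.sim i) = -1 := by
  simp only [Pk.ckRefl, List.all_eq_true, List.mem_range, Bool.and_eq_true, decide_eq_true_eq] at hc
  exact (hc i hi).1

end Cfsg.Agent.Chev
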