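/-
The seven data also pass the reflection check.
-/
import Cfsg.Agent.Lib.Chev.All
import Cfsg.Agent.Lib.Chev.Refl

set_option autoImplicit false

namespace Cfsg.Agent.Chev

open Cfsg.Lie

theorem ckRefl_B2 : B2.pk.ckRefl = true := by decide +kernel
theorem ckRefl_G2 : G2.pk.ckRefl = true := by decide +kernel
theorem ckRefl_D4 : D4.pk.ckRefl = true := by decide +kernel
theorem ckRefl_F4 : F4.pk.ckRefl = true := by decide +kernel
theorem ckRefl_E6 : E6.pk.ckRefl = true := by decide +kernel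
theorem ckRefl_E7 : E7.pk.ckRefl = true := by decide +kernel
theorem ckRefl_E8 : E8.pk.ckRefl = true := by decide +kernel

theorem exists_okR {D : ChevalleyDatum}
    (hD : D ∈ [chevG2, chevB2, chevD4, chevF4, chevE6, chevE7, chevE8]) :
    ∃ P, Ok D P ∧ P.ckRefl = true := by
  simp only [List.mem_cons, List.not_mem_nil, or_false] at hD
  rcases hD with rfl | rfl | rfl | rfl | rfl | rfl | rfl
  · exact ⟨_, G2.ok, ckRefl_G2⟩
  · exact ⟨_, B2.ok, ckRefl_B2⟩
  · exact ⟨_, D4.ok, ckRefl_D4⟩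
  · exact ⟨_, F4.ok, ckRefl_F4⟩
  · exact ⟨_, E6.ok, ckRefl_E6⟩
  · exact ⟨_, E7.ok, ckRefl_E7⟩
  · exact ⟨_, E8.ok, ckRefl_E8⟩

end Cfsg.Agent.Chev
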