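/-
Engine for the commutator formula: symbolic columns with coefficients in `ℤ[t,u]`.
-/
import Cfsg.Agent.Lib.Chev.Engine

set_option autoImplicit false

namespace Cfsg.Agent.Chev

/-- Sparse vectors of monomials: (coordinate code, exponent of t, exponent of u, coefficient). -/
abbrev PV := List (ℕ × ℕ × ℕ × ℤ)

/-- Negate a symbolic vector. -/
def pneg (v : PV) : PV := v.map fun p => (p.1, p.2.1, p.2.2.1, -p.2.2.2)

/-- Same monomial. -/
def pkey (p q : ℕ × ℕ × ℕ × ℤ) : Bool := Nat.beq p.1 q.1 && Nat.beq p.2.1 q.2.1 && Nat.beq p.2.2.1 q.2.2.1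

/-- All coefficients cancel. -/
def pzero : ℕ → PV → Bool
  | 0, v => v.isEmpty
  | _ + 1, [] => true
  | n + 1, p :: v => decide (p.2.2.2 + ((v.filter (pkey p)).map fun q => q.2.2.2).sum = 0) &&
      pzero n (v.filter fun q => !(pkey p q))

namespace Pk

variable (P : Pk)

/-- Apply `x_r(c t^a u^b)`. -/
def xapp (g : ℕ × ℤ × ℕ × ℕ) (v : PV) : PV :=
  v.flatMap fun p => (List.range 4).flatMap fun k => (P.colL k g.1 p.1).map fun q =>
    (q.1, p.2.1 + k * g.2.2.1, p.2.2.1 + k * g.2.2.2, p.2.2.2 * g.2.1 ^ k * q.2)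

/-- Apply a word. -/
def wapp (w : List (ℕ × ℤ × ℕ × ℕ)) (v : PV) : PV := w.foldr P.xapp v

/-- `chainRoot` on the packed table. -/
def cRoot (r s i : ℕ) : Option ℕ := ((P.entry r s)[i - 1]?).map Prod.fst

/-- `chainM` on the packed table. -/
def cM' (r s i : ℕ) : ℤ := (((P.entry r s)[i - 1]?).map Prod.snd).getD 0

/-- The terms of the commutator formula on the packed table. -/
def cterms (r s : ℕ) : List (ℕ × ℤ × ℕ × ℕ) :=
  let rs := P.cRoot r s 1
  let cands : List (Option ℕ × ℤ × ℕ × ℕ) :=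
    [ (P.cRoot r s 1, P.cM' r s 1, 1, 1),
      (P.cRoot r s 2, P.cM' r s 2, 2, 1),
      (P.cRoot s r 2, P.cM' s r 2, 1, 2),
      (P.cRoot r s 3, P.cM' r s 3, 3, 1),
      (P.cRoot s r 3, - P.cM' s r 3, 1, 3),
      ((P.cRoot r s 3).bind fun k => P.cRoot k s 1, (rs.map fun k => P.cM' k r 2 / 3).getD 0, 3, 2),
      ((P.cRoot s r 3).bind fun k => P.cRoot k r 1, (rs.map fun k => -2 * P.cM' k s 2 / 3).getD 0, 2, 3) ]
  cands.filterMap fun c => c.1.map fun k => (k, c.2)

/-- The right factor of the formula, as generators with monomial parameters. -/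
def cword (r s : ℕ) : List (ℕ × ℤ × ℕ × ℕ) :=
  (P.cterms r s).map fun c => (c.1, c.2.1 * (-1) ^ c.2.2.1, c.2.2.1, c.2.2.2)

/-- The terms of the `r`-chain through `s`. -/
def straight (r s : ℕ) : List (ℕ × ℤ × ℕ × ℕ) :=
  (List.range (P.len r s)).map fun k => (P.tgt r s k, P.coef r s k, k + 1, 1)

/-- The root vectors commute. -/
def commute2 (a b : ℕ) : Bool := Nat.beq (P.len a b) 0 && !(Nat.beq b (P.ng a))

/-- All pairs in a list commute. -/
def commuteAll : List ℕ → Bool
  | [] => true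
  | a :: l => l.all (P.commute2 a) && commuteAll l

/-- The straightforward case of the formula. -/
def ckA (r s : ℕ) : Bool :=
  decide (P.cterms r s = P.straight r s) &&
    P.commuteAll (s :: (P.straight r s).map Prod.fst)

/-- The formula on the generators of the Lie algebra. -/
def ckB (r s : ℕ) : Bool :=
  (List.range P.rank).all fun i => [P.sim i, P.ng (P.sim i)].all fun e =>
    let lhs := P.wapp [(s, 1, 0, 1), (r, 1, 1, 0)] [(e, 0, 0, 1)]
    let rhs := P.wapp ([(r, 1, 1, 0), (s, 1, 0, 1)] ++ P.cword r s) [(e, 0, 0, 1)]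
    let w := lhs ++ pneg rhs
    pzero w.length w

/-- The commutator formula holds for all pairs with `r + s` a root. -/
def ckComm : Bool := P.allRoots.all fun r => (P.keys r).all fun s =>
  Nat.blt 0 (P.len s r) && (P.ckA r s || P.ckB r s)

end Pk

end Cfsg.Agent.Chev
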