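/-
The seven data pass the commutator check.
-/
import Cfsg.Agent.Lib.Chev.AllR
import Cfsg.Agent.Lib.Chev.CommEngine

set_option autoImplicit false
set_option Elab.async false

namespace Cfsg.Agent.Chev

open Cfsg.Lie

/-- The check at one root. -/
def ckRoot (P : Pk) (r : ℕ) : Bool :=
  (P.keys r).all fun s => Nat.blt 0 (P.len s r) && (P.ckA r s || P.ckB r s)

theorem ckRoot_step {P : Pk} {a k : ℕ} (h1 : ((P.allRoots.drop a).take k).all (ckRoot P) = true)
    (h2 : (P.allRoots.drop (a + k)).all (ckRoot P) = true) : (P.allRoots.drop a).all (ckRoot P) = true := by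
  rw [← List.take_append_drop k (P.allRoots.drop a), List.all_append, h1, List.drop_drop, h2]
  rfl

theorem ckComm_B2 : B2.pk.ckComm = true := by decide +kernel
theorem ckComm_G2 : G2.pk.ckComm = true := by decide +kernel
theorem ckComm_D4 : D4.pk.ckComm = true := by decide +kernel
theorem ckComm_F4_0 : ((F4.pk.allRoots.drop 0).take 6).all (ckRoot F4.pk) = true := by
  decide +kernel
theorem ckComm_F4_6 : ((F4.pk.allRoots.drop 6).take 6).all (ckRoot F4.pk) = true := by
  decide +kernel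
theorem ckComm_F4_12 : ((F4.pk.allRoots.drop 12).take 6).all (ckRoot F4.pk) = true := by
  decide +kernel
theorem ckComm_F4_18 : ((F4.pk.allRoots.drop 18).take 6).all (ckRoot F4.pk) = true := by
  decide +kernel
theorem ckComm_F4_24 : ((F4.pk.allRoots.drop 24).take 6).all (ckRoot F4.pk) = true := by
  decide +kernel
theorem ckComm_F4_30 : ((F4.pk.allRoots.drop 30).take 6).all (ckRoot F4.pk) = true := by
  decide +kernel
theorem ckComm_F4_36 : ((F4.pk.allRoots.drop 36).take 6).all (ckRoot F4.pk) = true := by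
  decide +kernel
theorem ckComm_F4_42 : (F4.pk.allRoots.drop 42).all (ckRoot F4.pk) = true := by
  decide +kernel
theorem ckComm_F4 : F4.pk.ckComm = true :=
  (ckRoot_step (a := 0) (k := 6) ckComm_F4_0 (ckRoot_step (a := 6) (k := 6) ckComm_F4_6 (ckRoot_step (a := 12) (k := 6) ckComm_F4_12 (ckRoot_step (a := 18) (k := 6) ckComm_F4_18 (ckRoot_step (a := 24) (k := 6) ckComm_F4_24 (ckRoot_step (a := 30) (k := 6) ckComm_F4_30 (ckRoot_step (a := 36) (k := 6) ckComm_F4_36 ckComm_F4_42)))))))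
theorem ckComm_E6_0 : ((E6.pk.allRoots.drop 0).take 40).all (ckRoot E6.pk) = true := by
  decide +kernel
theorem ckComm_E6_40 : (E6.pk.allRoots.drop 40).all (ckRoot E6.pk) = true := by
  decide +kernel
theorem ckComm_E6 : E6.pk.ckComm = true :=
  (ckRoot_step (a := 0) (k := 40) ckComm_E6_0 ckComm_E6_40)
theorem ckComm_E7_0 : ((E7.pk.allRoots.drop 0).take 40).all (ckRoot E7.pk) = true := by
  decide +kernel
theorem ckComm_E7_40 : ((E7.pk.allRoots.drop 40).take 40).all (ckRoot E7.pk) = true := by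
  decide +kernel
theorem ckComm_E7_80 : ((E7.pk.allRoots.drop 80).take 40).all (ckRoot E7.pk) = true := by
  decide +kernel
theorem ckComm_E7_120 : (E7.pk.allRoots.drop 120).all (ckRoot E7.pk) = true := by
  decide +kernel
theorem ckComm_E7 : E7.pk.ckComm = true :=
  (ckRoot_step (a := 0) (k := 40) ckComm_E7_0 (ckRoot_step (a := 40) (k := 40) ckComm_E7_40 (ckRoot_step (a := 80) (k := 40) ckComm_E7_80 ckComm_E7_120)))
theorem ckComm_E8_0 : ((E8.pk.allRoots.drop 0).take 30).all (ckRoot E8.pk) = true := by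
  decide +kernel
theorem ckComm_E8_30 : ((E8.pk.allRoots.drop 30).take 30).all (ckRoot E8.pk) = true := by
  decide +kernel
theorem ckComm_E8_60 : ((E8.pk.allRoots.drop 60).take 30).all (ckRoot E8.pk) = true := by
  decide +kernel
theorem ckComm_E8_90 : ((E8.pk.allRoots.drop 90).take 30).all (ckRoot E8.pk) = true := by
  decide +kernel
theorem ckComm_E8_120 : ((E8.pk.allRoots.drop 120).take 30).all (ckRoot E8.pk) = true := by
  decide +kernel
theorem ckComm_E8_150 : ((E8.pk.allRoots.drop 150).take 30).all (ckRoot E8.pk) = true := by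
  decide +kernel
theorem ckComm_E8_180 : ((E8.pk.allRoots.drop 180).take 30).all (ckRoot E8.pk) = true := by
  decide +kernel
theorem ckComm_E8_210 : (E8.pk.allRoots.drop 210).all (ckRoot E8.pk) = true := by
  decide +kernel
theorem ckComm_E8 : E8.pk.ckComm = true :=
  (ckRoot_step (a := 0) (k := 30) ckComm_E8_0 (ckRoot_step (a := 30) (k := 30) ckComm_E8_30 (ckRoot_step (a := 60) (k := 30) ckComm_E8_60 (ckRoot_step (a := 90) (k := 30) ckComm_E8_90 (ckRoot_step (a := 120) (k := 30) ckComm_E8_120 (ckRoot_step (a := 150) (k := 30) ckComm_E8_150 (ckRoot_step (a := 180) (k := 30) ckComm_E8_180 ckComm_E8_210)))))))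

theorem exists_okC {D : ChevalleyDatum}
    (hD : D ∈ [chevG2, chevB2, chevD4, chevF4, chevE6, chevE7, chevE8]) :
    ∃ P, Ok D P ∧ P.ckRefl = true ∧ P.ckComm = true := by
  simp only [List.mem_cons, List.not_mem_nil, or_false] at hD
  rcases hD with rfl | rfl | rfl | rfl | rfl | rfl | rfl
  · exact ⟨_, G2.ok, ckRefl_G2, ckComm_G2⟩
  · exact ⟨_, B2.ok, ckRefl_B2, ckComm_B2⟩
  · exact ⟨_, D4.ok, ckRefl_D4, ckComm_D4⟩
  · exact ⟨_, F4.ok, ckRefl_F4, ckComm_F4⟩
  · exact ⟨_, E6.ok, ckRefl_E6, ckComm_E6⟩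
  · exact ⟨_, E7.ok, ckRefl_E7, ckComm_E7⟩
  · exact ⟨_, E8.ok, ckRefl_E8, ckComm_E8⟩

end Cfsg.Agent.Chev
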