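/-
The bracket is preserved by the signed permutations, every `ad e_r` is a derivation, and the divided
powers satisfy the Leibniz rule.
-/
import Cfsg.Agent.Lib.Chev.Op

set_option autoImplicit false

namespace Cfsg.Agent.Chev

open Cfsg.Lie
open scoped Matrix

theorem cf_app_map (f : ℕ → V) (l : List ℕ) (g : ℕ → ℕ) (c : ℕ → ℤ) (k : ℕ) :
    cf (app f (l.map fun j => (g j, c j))) k = (l.map fun j => c j * cf (f (g j)) k).sum := by
  induction l with
  | nil => simp [app_nil, cf_nil]
  | cons a l ih => simp [app_cons, cf_append, cf_scl, ih]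

theorem cf_map_range (l : List ℕ) (g : ℕ → ℕ) (c : ℕ → ℤ) (k : ℕ) :
    cf (l.map fun j => (g j, c j)) k = (l.map fun j => if g j = k then c j else 0).sum := by
  induction l with
  | nil => simp [cf_nil]
  | cons a l ih => simp [cf_cons, ih]

theorem app_single (f : ℕ → V) (a : ℕ) (q : ℤ) : app f [(a, q)] = scl q (f a) := by
  simp [app_cons, app_nil]

theorem app_pair (f : ℕ → V) (a b : ℕ) (q r : ℤ) :
    app f [(a, q), (b, r)] = scl q (f a) ++ scl r (f b) := by simp [app_cons, app_nil]

/-- The bracket with a vector. -/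
def adZ (D : ChevalleyDatum) (P : Pk) (v : D.Idx → ℤ) : Matrix D.Idx D.Idx ℤ := ∑ x, v x • AD D P x

variable {D : ChevalleyDatum} {P : Pk}

theorem adZ_add (v w : D.Idx → ℤ) : adZ D P (v + w) = adZ D P v + adZ D P w := by
  simp [adZ, add_smul, Finset.sum_add_distrib]

theorem adZ_smul (c : ℤ) (v : D.Idx → ℤ) : adZ D P (c • v) = c • adZ D P v := by
  simp [adZ, Finset.smul_sum, mul_assoc]

theorem adZ_zero : adZ D P (0 : D.Idx → ℤ) = 0 := by simp [adZ]

theorem adZ_single (x : D.Idx) : adZ D P (Pi.single x 1) = AD D P x := by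
  rw [adZ, Finset.sum_eq_single x]
  · simp
  · intro y _ hy; simp [hy]
  · simp

/-- `ad e_g` acts as a derivation at `v`. -/
def DerV (D : ChevalleyDatum) (P : Pk) (g : ℕ) (v : D.Idx → ℤ) : Prop :=
  Ek D P 1 g * adZ D P v - adZ D P v * Ek D P 1 g = adZ D P (Ek D P 1 g *ᵥ v)

theorem derV_add {g : ℕ} {v w : D.Idx → ℤ} (hv : DerV D P g v) (hw : DerV D P g w) :
    DerV D P g (v + w) := by
  unfold DerV at *
  rw [adZ_add, Matrix.mulVec_add, adZ_add, ← hv, ← hw, mul_add, add_mul]
  abel

theorem derV_smul {g : ℕ} (c : ℤ) {v : D.Idx → ℤ} (hv : DerV D P g v) : DerV D P g (c • v) := by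
  unfold DerV at *
  rw [adZ_smul, Matrix.mulVec_smul, adZ_smul, ← hv, mul_smul_comm, smul_mul_assoc, smul_sub]

theorem derV_zero (g : ℕ) : DerV D P g 0 := by
  unfold DerV
  simp [adZ_zero]

theorem derV_of_single {g : ℕ} (hd : ∀ x : D.Idx, DerV D P g (Pi.single x 1)) (v : D.Idx → ℤ) :
    DerV D P g v := by
  have e : v = ∑ x, v x • (Pi.single x (1 : ℤ) : D.Idx → ℤ) := by
    ext y
    simp [Finset.sum_apply, Pi.single_apply]
  rw [e]
  refine Finset.sum_induction _ _ (fun a b ha hb => derV_add ha hb) (derV_zero g) fun x _ => ?_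
  exact derV_smul _ (hd x)

namespace Ok

variable (h : Ok D P)
include h

omit h in
theorem brk_root {a : ℕ} (ha : a < P.nroots) (c : ℕ) : P.brk a c = P.colL 1 a c := by
  simp [Pk.brk, blt_t ha]

omit h in
theorem brk_h {a c : ℕ} (ha : P.nroots ≤ a) :
    P.brk a c = if c < P.nroots then [(c, P.A (a - P.nroots) c)] else [] := by
  by_cases hc : c < P.nroots
  · simp [Pk.brk, blt_f (not_lt.2 ha), blt_t hc, hc]
  · simp [Pk.brk, blt_f (not_lt.2 ha), blt_f hc, hc]

omit h in
theorem colL_h {k r c : ℕ} (hk : k ≠ 0) (hc : P.nroots ≤ c) :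
    P.colL k r c = if k = 1 then [(r, -P.A (c - P.nroots) r)] else [] := by
  by_cases h1 : k = 1 <;> simp [Pk.colL, nbeq, hk, ble_t hc, h1]

omit h in
theorem colL_self {k r : ℕ} (hk : k ≠ 0) (hr : r < P.nroots) : P.colL k r r = [] := by
  simp [Pk.colL, nbeq, hk, ble_f (not_le.2 hr)]

theorem colL_ng {k r : ℕ} (hk : k ≠ 0) (hr : r < P.nroots) : P.colL k r (P.ng r) =
    if k = 1 then (List.range P.rank).map (fun i => (P.nroots + i, P.co r i))
    else if k = 2 then [(r, -1)] else [] := by
  have h1 := h.ng_ne hr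
  by_cases k1 : k = 1 <;> by_cases k2 : k = 2 <;>
    simp [Pk.colL, nbeq, hk, ble_f (not_le.2 (ng_lt hr)), h1, k1, k2] <;> omega

omit h in
theorem colL_gen {k r c : ℕ} (hk : k ≠ 0) (hc : c < P.nroots) (h1 : c ≠ r) (h2 : c ≠ P.ng r) :
    P.colL k r c = if k ≤ P.len r c then [(P.tgt r c (k - 1), P.coef r c (k - 1))] else [] := by
  by_cases hl : k ≤ P.len r c
  · simp [Pk.colL, nbeq, hk, ble_f (not_le.2 hc), h1, h2, ble_t hl, hl]
  · simp [Pk.colL, nbeq, hk, ble_f (not_le.2 hc), h1, h2, ble_f hl, hl]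

omit h in
theorem sig_root {i c : ℕ} (hc : c < P.nroots) : P.sigCol i c = [(P.w i c, P.eta i c)] := by
  simp [Pk.sigCol, blt_t hc]

omit h in
theorem sig_h {i c : ℕ} (hc : P.nroots ≤ c) :
    P.sigCol i c = [(c, 1), (P.nroots + i, -P.A (c - P.nroots) (P.sim i))] := by
  simp [Pk.sigCol, blt_f (not_lt.2 hc)]

theorem A_i_w {i r : ℕ} (hi : i < P.rank) (hr : r < P.nroots) : P.A i (P.w i r) = -P.A i r := by
  rw [h.A_w hi hi hr, h.A_self hi]; ring

theorem sig_spec {i r s : ℕ} (hi : i < P.rank) (hr : r < P.nroots) (hs : s ∈ P.keys r) :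
    0 < P.len (P.w i r) (P.w i s) ∧ P.tgt (P.w i r) (P.w i s) 0 = P.w i (P.tgt r s 0) ∧
      P.eta i r * P.eta i s * P.coef (P.w i r) (P.w i s) 0 =
        P.coef r s 0 * P.eta i (P.tgt r s 0) := by
  have := h.sig i hi
  simp only [Pk.ckSig, nbeq, List.all_eq_true, Pk.mem_allRoots, Bool.and_eq_true, decide_eq_true_eq,
    Nat.blt_eq] at this
  obtain ⟨⟨a, b⟩, c⟩ := this r hr s hs
  exact ⟨a, b, c⟩

theorem sig_bracket {i a c : ℕ} (hi : i < P.rank) (ha : a < P.dim) (hc : c < P.dim) (k : ℕ) :
    cf (app (P.sigCol i) (P.brk a c)) k =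
      cf (app (fun x => app (P.brk x) (P.sigCol i c)) (P.sigCol i a)) k := by
  rcases Nat.lt_or_ge a P.nroots with han | han
  · have hwa := h.w_lt hi han
    rcases Nat.lt_or_ge c P.nroots with hcn | hcn
    · have hwc := h.w_lt hi hcn
      rw [sig_root han, sig_root hcn, app_single, app_single, brk_root han, brk_root hwa,
        cf_scl, cf_scl]
      by_cases hca : c = a
      · subst hca
        rw [colL_self one_ne_zero hcn, colL_self one_ne_zero hwc]
        simp [app_nil, cf_nil]
      by_cases hcg : c = P.ng a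
      · subst hcg
        rw [h.colL_ng one_ne_zero han, h.w_ng hi han, h.colL_ng one_ne_zero hwa]
        simp only [if_true]
        rw [cf_app_map, cf_map_range, ← mul_assoc, (h.w_spec hi han).2.2.2.1, one_mul,
          ← List.sum_toFinset _ List.nodup_range, ← List.sum_toFinset _ List.nodup_range]
        have hset : (List.range P.rank).toFinset = Finset.range P.rank := by ext; simp
        rw [hset]
        have e1 : ∀ j ∈ Finset.range P.rank, P.co a j * cf (P.sigCol i (P.nroots + j)) k =
            (if P.nroots + j = k then P.co a j else 0) +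
            (if P.nroots + i = k then -(P.co a j * P.A j (P.sim i)) else 0) := by
          intro j _
          rw [sig_h (Nat.le_add_right _ _), cf_cons, cf_cons, cf_nil, Nat.add_sub_cancel_left]
          split_ifs <;> ring
        have e2 : ∀ j ∈ Finset.range P.rank,
            (if P.nroots + j = k then P.co (P.w i a) j else 0) =
            (if P.nroots + j = k then P.co a j else 0) +
            (if j = i then (if P.nroots + i = k then -P.pair a (P.sim i) else 0) else 0) := by
          intro j hj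
          rw [((h.w_spec hi han).2.2.2.2.2.1 j (by simpa using hj)).2]
          by_cases hji : j = i
          · subst hji; split_ifs <;> ring
          · simp [hji]
        rw [Finset.sum_congr rfl e1, Finset.sum_congr rfl e2, Finset.sum_add_distrib,
          Finset.sum_add_distrib, Finset.sum_ite_eq' (Finset.range P.rank) i]
        congr 1
        rw [if_pos (Finset.mem_range.2 hi), Pk.pair, ← List.sum_toFinset _ List.nodup_range, hset]
        by_cases hk : P.nroots + i = k <;> simp [hk]
      have hwca : P.w i c ≠ P.w i a := fun e => hca (h.w_inj hi hcn han e)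
      have hwcg : P.w i c ≠ P.ng (P.w i a) := fun e => hcg (h.w_inj hi hcn (ng_lt han)
        (e.trans (h.w_ng hi han).symm))
      rw [colL_gen one_ne_zero hcn hca hcg, colL_gen one_ne_zero hwc hwca hwcg]
      by_cases hl : 1 ≤ P.len a c
      · obtain ⟨h1, h2, h3⟩ := h.sig_spec hi han ((h.mem_keys han).2 ⟨hcn, hl⟩)
        have hu := h.tgt_lt han hcn hl
        rw [if_pos hl, if_pos (show 1 ≤ _ from h1), app_single, cf_scl, Nat.sub_self, sig_root hu, cf_cons, cf_nil, cf_cons, cf_nil,
          h2]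
        split_ifs with hk
        · linear_combination -h3
        · ring
      · have hz : ¬ 1 ≤ P.len (P.w i a) (P.w i c) := by
          intro h1
          obtain ⟨h2, -, -⟩ := h.sig_spec hi hwa ((h.mem_keys hwa).2 ⟨hwc, h1⟩)
          rw [h.w_w hi han, h.w_w hi hcn] at h2
          exact hl h2
        rw [if_neg hl, if_neg hz]
        simp [app_nil, cf_nil]
    · have hj : c - P.nroots < P.rank := by simp [Pk.dim] at hc; omega
      rw [sig_root han, sig_h hcn, app_single, brk_root han, colL_h one_ne_zero hcn, if_pos rfl,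
        app_single, app_pair, brk_root hwa, brk_root hwa, colL_h one_ne_zero hcn, if_pos rfl,
        colL_h one_ne_zero (Nat.le_add_right _ _), if_pos rfl, sig_root han, Nat.add_sub_cancel_left]
      simp only [cf_scl, cf_append, cf_cons, cf_nil, h.A_i_w hi han, h.A_w hi hj han]
      split_ifs <;> ring
  · have hj : a - P.nroots < P.rank := by simp [Pk.dim] at ha; omega
    rw [sig_h han, app_pair, brk_h han]
    rcases Nat.lt_or_ge c P.nroots with hcn | hcn
    · have hwc := h.w_lt hi hcn
      rw [if_pos hcn, app_single, sig_root hcn, app_single, app_single, brk_h han, if_pos hwc,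
        brk_h (Nat.le_add_right _ _), if_pos hwc, Nat.add_sub_cancel_left]
      simp only [cf_scl, cf_append, cf_cons, cf_nil, h.A_i_w hi hcn, h.A_w hi hj hcn]
      split_ifs <;> ring
    · rw [if_neg (by omega), sig_h hcn, app_pair, app_pair, brk_h han, brk_h han,
        brk_h (Nat.le_add_right _ _), brk_h (Nat.le_add_right _ _)]
      simp [app_nil, cf_nil, not_lt.2 hcn, scl]

theorem Sg_AD {i : ℕ} (hi : i < P.rank) (x : D.Idx) :
    Sg D P i * AD D P x = adZ D P (Sg D P i *ᵥ Pi.single x 1) * Sg D P i := by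
  ext row col
  rw [Sg, AD, h.opM_mul _ _ fun c hc => h.valid_brk (h.code_lt x) hc, opM_apply,
    h.sig_bracket hi (h.code_lt x) (h.code_lt col),
    h.cf_app _ (h.valid_sig hi (h.code_lt x))]
  simp only [adZ, Finset.sum_mul, Matrix.sum_apply, smul_mul_assoc, Matrix.smul_apply, smul_eq_mul,
    Matrix.mulVec_single_one, Matrix.col_apply, opM_apply]
  refine Finset.sum_congr rfl fun y _ => ?_
  congr 1
  rw [AD, h.opM_mul _ _ fun c hc => h.valid_sig hi hc, opM_apply]

theorem Sg_ad {i : ℕ} (hi : i < P.rank) (v : D.Idx → ℤ) :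
    Sg D P i * adZ D P v = adZ D P (Sg D P i *ᵥ v) * Sg D P i := by
  conv_lhs => rw [adZ, Finset.mul_sum]
  have e : v = ∑ x, v x • (Pi.single x (1 : ℤ) : D.Idx → ℤ) := by
    ext y
    simp [Finset.sum_apply, Pi.single_apply]
  conv_rhs => rw [e, Matrix.mulVec_sum]
  have : ∀ s : Finset D.Idx, adZ D P (∑ x ∈ s, Sg D P i *ᵥ v x • Pi.single x 1) * Sg D P i =
      ∑ x ∈ s, Sg D P i * (v x • AD D P x) := by
    intro s
    induction s using Finset.induction_on with
    | empty => simp [adZ_zero]
    | insert a s ha ih =>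
      rw [Finset.sum_insert ha, Finset.sum_insert ha, adZ_add, add_mul, ih, Matrix.mulVec_smul,
        adZ_smul, smul_mul_assoc, ← h.Sg_AD hi a, mul_smul_comm]
  rw [this]

theorem Sg_col_root {i r : ℕ} (hi : i < P.rank) (hr : r < P.nroots) :
    Sg D P i *ᵥ Pi.single (h.rootIdx r hr) 1 =
      P.eta i r • Pi.single (h.rootIdx (P.w i r) (h.w_lt hi hr)) 1 := by
  ext y
  rw [Matrix.mulVec_single_one, Matrix.col_apply, Sg, opM_apply, sig_root (show code P (h.rootIdx r hr) < P.nroots from hr),
    cf_cons, cf_nil, Pi.smul_apply, Pi.single_apply]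
  have : code P (h.rootIdx (P.w i r) (h.w_lt hi hr)) = P.w i r := rfl
  by_cases hy : y = h.rootIdx (P.w i r) (h.w_lt hi hr)
  · subst hy; simp [rootIdx, code]
  · have : P.w i r ≠ code P y := fun e => hy (h.code_inj (this.trans e).symm)
    have hr' : code P (h.rootIdx r hr) = r := rfl
    simp [hy, hr', this]

theorem Sg_pow_four {i : ℕ} (hi : i < P.rank) :
    Sg D P i * (Sg D P i * (Sg D P i * Sg D P i)) = 1 := by
  have hv : ∀ c < P.dim, Valid P (P.sigCol i c) := fun c hc => h.valid_sig hi hc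
  have hv2 : ∀ c < P.dim, Valid P (app (P.sigCol i) (P.sigCol i c)) := by
    intro c hc p hp
    simp only [app, List.mem_flatMap, List.mem_map] at hp
    obtain ⟨q, hq, z, hz, rfl⟩ := hp
    exact hv _ (hv c hc q hq) z hz
  have hv3 : ∀ c < P.dim, Valid P (app (P.sigCol i) (app (P.sigCol i) (P.sigCol i c))) := by
    intro c hc p hp
    simp only [app, List.mem_flatMap, List.mem_map] at hp
    obtain ⟨q, hq, z, hz, rfl⟩ := hp
    refine hv _ (hv2 c hc q ?_) z hz
    simpa [app] using hq
  rw [Sg, h.opM_mul _ _ hv, h.opM_mul _ _ hv2, h.opM_mul _ _ hv3, ← h.Ek_zero 0]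
  refine h.opM_ext fun c hc k _ => ?_
  rcases Nat.lt_or_ge c P.nroots with hcn | hcn
  · have hw := h.w_lt hi hcn
    rw [sig_root hcn, app_single, sig_root hw, h.w_w hi hcn]
    simp only [scl, List.map_cons, List.map_nil, app_single, sig_root hcn, sig_root hw, h.w_w hi hcn]
    simp [Pk.colL, cf_cons, cf_nil]
    have := eta_sq (P := P) i c
    have := eta_sq (P := P) i (P.w i c)
    split_ifs
    · calc _ = (P.eta i c * P.eta i c) * (P.eta i (P.w i c) * P.eta i (P.w i c)) := by ring
        _ = 1 := by rw [eta_sq, eta_sq, one_mul]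
    · rfl
  · have e : ∀ q q' : ℤ, app (P.sigCol i) [(c, q), (P.nroots + i, q')] =
        [(c, q), (P.nroots + i, -(P.A (c - P.nroots) (P.sim i)) * q), (P.nroots + i, q'), (P.nroots + i, -2 * q')] := by
      intro q q'
      rw [app_pair, sig_h hcn, sig_h (Nat.le_add_right _ _), Nat.add_sub_cancel_left, h.A_self hi]
      simp [scl, mul_comm]
    rw [sig_h hcn, e]
    simp only [app_cons, app_nil, sig_h hcn, sig_h (Nat.le_add_right P.nroots i), Nat.add_sub_cancel_left,
      h.A_self hi]
    simp [Pk.colL, cf_cons, cf_nil, scl, app_cons, app_nil, sig_h hcn,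
      sig_h (Nat.le_add_right P.nroots i), h.A_self hi]
    split_ifs <;> ring

theorem Sg_cancel {i : ℕ} (hi : i < P.rank) {A B : Matrix D.Idx D.Idx ℤ}
    (e : A * Sg D P i = B * Sg D P i) : A = B := by
  have := congrArg (· * (Sg D P i * (Sg D P i * Sg D P i))) e
  simpa [mul_assoc, h.Sg_pow_four hi] using this

theorem Sg_Ek_one {i r : ℕ} (hi : i < P.rank) (hr : r < P.nroots) :
    Sg D P i * Ek D P 1 r = P.eta i r • (Ek D P 1 (P.w i r) * Sg D P i) := by
  rw [← h.AD_root hr, h.Sg_AD hi, h.Sg_col_root hi hr, adZ_smul, adZ_single,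
    h.AD_root (h.w_lt hi hr), smul_mul_assoc]

theorem derV_transfer {i g : ℕ} (hi : i < P.rank) (hg : g < P.nroots) {v : D.Idx → ℤ}
    (hv : DerV D P g v) : DerV D P (P.w i g) (Sg D P i *ᵥ v) := by
  unfold DerV at *
  have e1 := h.Sg_Ek_one hi hg
  have e2 := h.Sg_ad hi v
  have e3 := h.Sg_ad hi (Ek D P 1 g *ᵥ v)
  have lhs : Sg D P i * (Ek D P 1 g * adZ D P v - adZ D P v * Ek D P 1 g) =
      P.eta i g • ((Ek D P 1 (P.w i g) * adZ D P (Sg D P i *ᵥ v) -
        adZ D P (Sg D P i *ᵥ v) * Ek D P 1 (P.w i g)) * Sg D P i) := by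
    rw [mul_sub, ← mul_assoc, ← mul_assoc, e1, e2, smul_mul_assoc, mul_assoc, e2,
      mul_assoc (adZ D P (Sg D P i *ᵥ v)) (Sg D P i), e1, mul_smul_comm, sub_mul, smul_sub]
    simp only [mul_assoc]
  rw [hv, e3, Matrix.mulVec_mulVec, e1, Matrix.smul_mulVec, ← Matrix.mulVec_mulVec, adZ_smul,
    smul_mul_assoc] at lhs
  have := congrArg (fun M => P.eta i g • M) lhs
  simp only [smul_smul, eta_sq, one_smul] at this
  exact (h.Sg_cancel hi this).symm

theorem derV_check {g : ℕ} {x : D.Idx} (hg : g < P.nroots)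
    (hb : ∀ c < P.dim, P.derAt g (code P x) c = true) : DerV D P g (Pi.single x 1) := by
  unfold DerV
  rw [adZ_single]
  ext row col
  have hc := h.code_lt col
  have hx := h.code_lt x
  have key := veq_cf (hb _ hc) (code P row)
  have e1 : (Ek D P 1 g * AD D P x) row col =
      cf (app (P.brk g) (P.brk (code P x) (code P col))) (code P row) := by
    rw [← h.AD_root hg, AD, AD, h.opM_mul _ _ fun c hc => h.valid_brk hx hc]; rfl
  have e2 : (AD D P x * Ek D P 1 g) row col =
      cf (P.brkV [(code P x, 1)] (P.brk g (code P col))) (code P row) := by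
    rw [← h.AD_root hg, AD, AD,
      h.opM_mul _ _ fun c hc => h.valid_brk (h.code_lt _) hc, opM_apply]
    simp [Pk.brkV, cf_scl, rootIdx, code]
  have e3 : adZ D P (Ek D P 1 g *ᵥ Pi.single x 1) row col =
      cf (P.brkV (P.brk g (code P x)) [(code P col, 1)]) (code P row) := by
    have e4 : ∀ v : V, P.brkV v [(code P col, 1)] = app (fun a => P.brk a (code P col)) v := by
      intro v
      simp [Pk.brkV, app, scl, Function.comp_def]
    rw [e4, h.cf_app _ (h.valid_brk (hg.trans_le (Nat.le_add_right _ _)) hx)]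
    simp only [adZ, Matrix.sum_apply, Matrix.smul_apply, smul_eq_mul, Matrix.mulVec_single_one,
      Matrix.col_apply]
    refine Finset.sum_congr rfl fun y _ => ?_
    rw [← h.AD_root hg]
    rfl
  rw [cf_append] at key
  rw [Matrix.sub_apply, e1, e2, e3, key, add_sub_cancel_right]

theorem der_of_check {g : ℕ} (hg : g < P.nroots) (hd : P.ckDer g = true) (v : D.Idx → ℤ) :
    DerV D P g v := by
  simp only [Pk.ckDer, List.all_eq_true, Pk.mem_allCodes, Bool.or_eq_true] at hd
  refine derV_of_single (fun x => ?_) v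
  induction hc : code P x using Nat.strong_induction_on generalizing x with
  | _ c ih =>
    subst hc
    rcases hd _ (h.code_lt x) with hs | hs
    · simp only [Pk.skip, nbeq, Bool.and_eq_true, List.any_eq_true, List.mem_range,
        decide_eq_true_eq, Nat.blt_eq] at hs
      obtain ⟨hxn, i, hi, hig, hlt⟩ := hs
      rcases x with j | r
      · simp [code] at hxn
      · have hr : r.val < P.nroots := hxn
        have hlt' : P.w i r.val < r.val := hlt
        have hx' := ih (P.w i r.val) hlt' (h.rootIdx _ (h.w_lt hi hr)) rfl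
        have := h.derV_transfer hi hg hx'
        rw [hig, h.Sg_col_root hi (h.w_lt hi hr)] at this
        have h2 := derV_smul (P.eta i (P.w i r.val)) this
        rw [smul_smul, eta_sq, one_smul] at h2
        convert h2 using 2
        simp only [rootIdx, h.w_w hi hr]
    · exact h.derV_check hg hs

/-- Every `ad e_r` is a derivation. -/
theorem der {r : ℕ} (hr : r < P.nroots) (v : D.Idx → ℤ) : DerV D P r v := by
  obtain ⟨gs, hup, hder⟩ := h.tops
  simp only [Pk.ckUp, nbeq, Bool.and_eq_true, List.all_eq_true, Pk.mem_allRoots, Bool.or_eq_true,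
    List.any_eq_true, decide_eq_true_eq, List.mem_range, Nat.blt_eq] at hup
  obtain ⟨hgs, hup⟩ := hup
  induction hd : P.nroots - r using Nat.strong_induction_on generalizing r v with
  | _ d ih =>
    rcases hup r hr with ⟨g, hg, rfl⟩ | ⟨i, hi, hlt⟩
    · exact h.der_of_check hr (hder g hg) v
    · have hw := h.w_lt hi hr
      have := ih (P.nroots - P.w i r) (by omega) hw
        (Sg D P i *ᵥ (Sg D P i *ᵥ (Sg D P i *ᵥ v))) rfl
      have h2 := h.derV_transfer hi hw this
      rw [h.w_w hi hr, Matrix.mulVec_mulVec, Matrix.mulVec_mulVec, Matrix.mulVec_mulVec] at h2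
      rwa [mul_assoc, mul_assoc, h.Sg_pow_four hi, Matrix.one_mulVec] at h2

/-! ### Divided powers -/

theorem pow_spec {r : ℕ} (hr : r < P.nroots) :
    (∀ c ∈ P.keys r, ∀ k < P.len r c, ∀ j,
      cf (app (P.colL 1 r) (P.colL (k + 1) r c)) j = cf (scl (Int.ofNat (k + 2)) (P.colL (k + 2) r c)) j) ∧
    (∀ c ∈ P.ng r :: P.hcodes, ∀ k ∈ [1, 2], ∀ j,
      cf (app (P.colL 1 r) (P.colL k r c)) j = cf (scl (Int.ofNat (k + 1)) (P.colL (k + 1) r c)) j) := by
  have := h.pow
  simp only [Pk.ckPow, List.all_eq_true, Pk.mem_allRoots, Bool.and_eq_true, List.mem_range] at this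
  exact ⟨fun c hc k hk => veq_cf ((this r hr).1 c hc k hk),
    fun c hc k hk => veq_cf ((this r hr).2 c hc k hk)⟩

theorem Ek_succ {r : ℕ} (hr : r < P.nroots) (k : ℕ) :
    Ek D P 1 r * Ek D P k r = ((k : ℤ) + 1) • Ek D P (k + 1) r := by
  rcases Nat.eq_zero_or_pos k with rfl | hk
  · simp [h.Ek_zero]
  have hk0 : k ≠ 0 := by omega
  have hk1 : k + 1 ≠ 0 := by omega
  rw [Ek, Ek, Ek, h.opM_mul _ _ fun c hc => h.valid_colL hr hc]
  ext row col
  rw [Matrix.smul_apply, opM_apply, opM_apply, smul_eq_mul, ← cf_scl]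
  have hc := h.code_lt col
  rcases Nat.lt_or_ge (code P col) P.nroots with hcn | hcn
  · by_cases hcr : code P col = r
    · rw [hcr, colL_self hk0 hr, colL_self hk1 hr]; rfl
    by_cases hcg : code P col = P.ng r
    · rcases Nat.lt_or_ge k 3 with h3 | h3
      · have := (h.pow_spec hr).2 (code P col) (by simp [hcg]) k (by simp; omega) (code P row)
        simpa using this
      · rw [hcg, h.colL_ng hk0 hr, h.colL_ng hk1 hr, if_neg (by omega), if_neg (by omega),
          if_neg (by omega), if_neg (by omega)]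
        rfl
    by_cases hl : k ≤ P.len r (code P col)
    · have := (h.pow_spec hr).1 (code P col) ((h.mem_keys hr).2 ⟨hcn, by omega⟩) (k - 1) (by omega)
        (code P row)
      rw [show k - 1 + 1 = k by omega, show k - 1 + 2 = k + 1 by omega] at this
      simpa using this
    · rw [colL_gen hk0 hcn hcr hcg, colL_gen hk1 hcn hcr hcg, if_neg hl, if_neg (by omega)]
      rfl
  · rcases Nat.lt_or_ge k 3 with h3 | h3
    · have := (h.pow_spec hr).2 (code P col)
        (List.mem_cons_of_mem _ (List.mem_map.2 ⟨code P col - P.nroots,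
          List.mem_range.2 (by simp [Pk.dim] at hc; omega), by omega⟩)) k (by simp; omega) (code P row)
      simpa using this
    · rw [colL_h hk0 hcn, colL_h hk1 hcn, if_neg (by omega), if_neg (by omega)]
      rfl

theorem Ek_ge_four {r k : ℕ} (hr : r < P.nroots) (hk : 4 ≤ k) : Ek D P k r = 0 := by
  ext row col
  rw [Ek, opM_apply, Matrix.zero_apply]
  have hk0 : k ≠ 0 := by omega
  rcases Nat.lt_or_ge (code P col) P.nroots with hcn | hcn
  · by_cases hcr : code P col = r
    · rw [hcr, colL_self hk0 hr]; rfl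
    by_cases hcg : code P col = P.ng r
    · rw [hcg, h.colL_ng hk0 hr, if_neg (by omega), if_neg (by omega)]; rfl
    have := h.len_lt hr hcn
    rw [colL_gen hk0 hcn hcr hcg, if_neg (by omega)]; rfl
  · rw [colL_h hk0 hcn, if_neg (by omega)]; rfl

theorem Ek_mul {r : ℕ} (hr : r < P.nroots) (i j : ℕ) :
    Ek D P i r * Ek D P j r = ((i + j).choose i : ℤ) • Ek D P (i + j) r := by
  induction i with
  | zero => simp [h.Ek_zero]
  | succ i ih =>
    have e : ((i : ℤ) + 1) • (Ek D P (i + 1) r * Ek D P j r) =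
        ((i : ℤ) + 1) • (((i + 1 + j).choose (i + 1) : ℤ) • Ek D P (i + 1 + j) r) := by
      rw [← smul_mul_assoc, ← h.Ek_succ hr, mul_assoc, ih, mul_smul_comm, h.Ek_succ hr, smul_smul,
        smul_smul, show i + 1 + j = i + j + 1 by omega]
      congr 1
      have hc := Nat.add_one_mul_choose_eq (i + j) i
      have hc' : ((i + j + 1 : ℕ) : ℤ) * ((i + j).choose i : ℤ) =
          ((i + j + 1).choose (i + 1) : ℤ) * ((i : ℤ) + 1) := by exact_mod_cast hc
      push_cast at hc' ⊢
      linear_combination hc'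
    exact smul_right_injective _ (by omega) e

/-- The Leibniz rule for divided powers. -/
theorem leibniz {r : ℕ} (hr : r < P.nroots) (n : ℕ) : ∀ v : D.Idx → ℤ,
    Ek D P n r * adZ D P v = ∑ p ∈ Finset.HasAntidiagonal.antidiagonal n,
      adZ D P (Ek D P p.1 r *ᵥ v) * Ek D P p.2 r := by
  induction n with
  | zero => intro v; simp [h.Ek_zero]
  | succ n ih =>
    intro v
    set F : ℕ × ℕ → Matrix D.Idx D.Idx ℤ := fun p => adZ D P (Ek D P p.1 r *ᵥ v) * Ek D P p.2 r
      with hF
    apply smul_right_injective (Matrix D.Idx D.Idx ℤ) (show ((n : ℤ) + 1) ≠ 0 by omega)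
    show ((n : ℤ) + 1) • (Ek D P (n + 1) r * adZ D P v) =
      ((n : ℤ) + 1) • ∑ p ∈ Finset.HasAntidiagonal.antidiagonal (n + 1), F p
    rw [← smul_mul_assoc, ← h.Ek_succ hr, mul_assoc, ih, Finset.mul_sum]
    have step : ∀ p ∈ Finset.HasAntidiagonal.antidiagonal n,
        Ek D P 1 r * (adZ D P (Ek D P p.1 r *ᵥ v) * Ek D P p.2 r) =
          ((p.1 : ℤ) + 1) • F (p.1 + 1, p.2) + ((p.2 : ℤ) + 1) • F (p.1, p.2 + 1) := by
      intro p _
      have hd := h.der hr (Ek D P p.1 r *ᵥ v)
      unfold DerV at hd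
      rw [Matrix.mulVec_mulVec, h.Ek_succ hr, Matrix.smul_mulVec, adZ_smul, sub_eq_iff_eq_add] at hd
      rw [← mul_assoc, hd, add_mul, smul_mul_assoc, mul_assoc, h.Ek_succ hr, mul_smul_comm]
    rw [Finset.sum_congr rfl step, Finset.sum_add_distrib, Finset.smul_sum]
    have hA : ∑ p ∈ Finset.HasAntidiagonal.antidiagonal (n + 1), (p.1 : ℤ) • F p =
        ∑ p ∈ Finset.HasAntidiagonal.antidiagonal n, ((p.1 : ℤ) + 1) • F (p.1 + 1, p.2) := by
      rw [Finset.Nat.sum_antidiagonal_succ]; simp
    have hB : ∑ p ∈ Finset.HasAntidiagonal.antidiagonal (n + 1), (p.2 : ℤ) • F p =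
        ∑ p ∈ Finset.HasAntidiagonal.antidiagonal n, ((p.2 : ℤ) + 1) • F (p.1, p.2 + 1) := by
      rw [Finset.Nat.sum_antidiagonal_succ']; simp
    rw [← hA, ← hB, ← Finset.sum_add_distrib]
    refine Finset.sum_congr rfl fun p hp => ?_
    rw [← add_smul]
    congr 1
    have := Finset.HasAntidiagonal.mem_antidiagonal.1 hp
    exact_mod_cast this

end Ok

end Cfsg.Agent.Chev
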