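/-
The root elements over a commutative ring: additivity, automorphism property, agreement with
`ChevalleyDatum.x`, and the action of `n_p`.
-/
import Cfsg.Agent.Lib.Chev.Der

set_option autoImplicit false

namespace Cfsg.Agent.Chev

open Cfsg.Lie
open scoped Matrix

/-- Base change of integral matrices. -/
def cM (D : ChevalleyDatum) (R : Type*) [CommRing R] : Matrix D.Idx D.Idx ℤ →+* Matrix D.Idx D.Idx R :=
  (Int.castRingHom R).mapMatrix

/-- The bracket with a vector over `R`. -/
def adR (D : ChevalleyDatum) (P : Pk) {R : Type*} [CommRing R] (v : D.Idx → R) :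
    Matrix D.Idx D.Idx R := ∑ x, v x • cM D R (AD D P x)

/-- The root element over `R`. -/
def X (D : ChevalleyDatum) (P : Pk) {R : Type*} [CommRing R] (r : ℕ) (t : R) :
    Matrix D.Idx D.Idx R := ∑ k ∈ Finset.range 4, t ^ k • cM D R (Ek D P k r)

/-- `M` respects the bracket. -/
def AutP (D : ChevalleyDatum) (P : Pk) {R : Type*} [CommRing R] (M : Matrix D.Idx D.Idx R) : Prop :=
  ∀ v, M * adR D P v = adR D P (M *ᵥ v) * M

variable {D : ChevalleyDatum} {P : Pk} {R : Type*} [CommRing R]

theorem cM_apply (A : Matrix D.Idx D.Idx ℤ) (i j : D.Idx) : cM D R A i j = (A i j : R) := rfl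

theorem cM_smul (c : ℤ) (A : Matrix D.Idx D.Idx ℤ) : cM D R (c • A) = (c : R) • cM D R A := by
  ext i j; simp only [cM_apply, Matrix.smul_apply, smul_eq_mul, Int.cast_mul]

theorem adR_add (v w : D.Idx → R) : adR D P (v + w) = adR D P v + adR D P w := by
  simp [adR, add_smul, Finset.sum_add_distrib]

theorem adR_smul (c : R) (v : D.Idx → R) : adR D P (c • v) = c • adR D P v := by
  simp [adR, Finset.smul_sum, smul_smul]

theorem adR_zero : adR D P (0 : D.Idx → R) = 0 := by simp [adR]

theorem adR_single (x : D.Idx) : adR D P (Pi.single x (1 : R)) = cM D R (AD D P x) := by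
  rw [adR, Finset.sum_eq_single x]
  · simp
  · intro y _ hy; simp [hy]
  · simp

theorem cM_adZ (v : D.Idx → ℤ) : cM D R (adZ D P v) = adR D P fun x => (v x : R) := by
  simp only [adZ, adR, map_sum, cM_smul]

theorem adR_mulVec (A : Matrix D.Idx D.Idx ℤ) (v : D.Idx → R) :
    adR D P (cM D R A *ᵥ v) = ∑ x, v x • cM D R (adZ D P (A *ᵥ Pi.single x 1)) := by
  simp only [cM_adZ, adR, Matrix.mulVec, dotProduct, Finset.sum_smul, Finset.smul_sum, smul_smul,
    cM_apply]
  rw [Finset.sum_comm]
  refine Finset.sum_congr rfl fun x _ => Finset.sum_congr rfl fun y _ => ?_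
  simp [Pi.single_apply, mul_comm]

theorem autP_mul {M N : Matrix D.Idx D.Idx R} (hM : AutP D P M) (hN : AutP D P N) :
    AutP D P (M * N) := by
  intro v
  rw [mul_assoc, hN v, ← mul_assoc, hM, Matrix.mulVec_mulVec, mul_assoc]

theorem autP_one : AutP D P (1 : Matrix D.Idx D.Idx R) := by intro v; simp

theorem cM_map {S : Type*} [CommRing S] (f : R →+* S) (A : Matrix D.Idx D.Idx ℤ) :
    (cM D R A).map f = cM D S A := by
  ext i j; simp [cM_apply]

theorem X_map {S : Type*} [CommRing S] (f : R →+* S) (r : ℕ) (t : R) :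
    (X D P r t).map f = X D P r (f t) := by
  ext i j
  simp [X, Matrix.sum_apply, Matrix.smul_apply, cM_apply]

theorem cf_range_five (f : ℕ → V) (k : ℕ) :
    cf ((List.range 5).flatMap f) k =
      cf (f 0) k + cf (f 1) k + cf (f 2) k + cf (f 3) k + cf (f 4) k := by
  simp [List.range_succ, cf_append, add_assoc]

namespace Ok

variable (h : Ok D P)
include h

theorem leibnizR {r : ℕ} (hr : r < P.nroots) (n : ℕ) (v : D.Idx → R) :
    cM D R (Ek D P n r) * adR D P v = ∑ p ∈ Finset.HasAntidiagonal.antidiagonal n,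
      adR D P (cM D R (Ek D P p.1 r) *ᵥ v) * cM D R (Ek D P p.2 r) := by
  simp only [adR_mulVec, Finset.sum_mul, smul_mul_assoc]
  rw [Finset.sum_comm, adR, Finset.mul_sum]
  refine Finset.sum_congr rfl fun x _ => ?_
  rw [mul_smul_comm, ← Finset.smul_sum, ← map_mul]
  congr 1
  simp only [← map_mul, ← map_sum]
  congr 1
  have := h.leibniz hr n (Pi.single x 1)
  rwa [adZ_single] at this

theorem cM_Ek_ge {r k : ℕ} (hr : r < P.nroots) (hk : 4 ≤ k) : cM D R (Ek D P k r) = 0 := by
  rw [h.Ek_ge_four hr hk, map_zero]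

theorem X_zero {r : ℕ} : X D P r (0 : R) = 1 := by
  simp [X, Finset.sum_range_succ, h.Ek_zero]

theorem X_add {r : ℕ} (hr : r < P.nroots) (t u : R) : X D P r t * X D P r u = X D P r (t + u) := by
  have hm : ∀ i j, cM D R (Ek D P i r) * cM D R (Ek D P j r) =
      ((i + j).choose i : R) • cM D R (Ek D P (i + j) r) := by
    intro i j
    rw [← map_mul, h.Ek_mul hr, cM_smul]; norm_cast
  simp only [X, Finset.sum_range_succ, Finset.range_zero, Finset.sum_empty, zero_add, add_mul,
    mul_add, smul_mul_assoc, mul_smul_comm, hm, smul_smul]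
  norm_num [h.cM_Ek_ge hr, Nat.choose]
  module

theorem X_aut {r : ℕ} (hr : r < P.nroots) (t : R) : AutP D P (X D P r t) := by
  intro v
  have e : X D P r t * adR D P v = ∑ n ∈ Finset.range 7,
      t ^ n • ∑ p ∈ Finset.HasAntidiagonal.antidiagonal n,
        adR D P (cM D R (Ek D P p.1 r) *ᵥ v) * cM D R (Ek D P p.2 r) := by
    simp only [← h.leibnizR hr, X, Finset.sum_range_succ, Finset.range_zero, Finset.sum_empty,
      zero_add, add_mul, smul_mul_assoc]
    simp [h.cM_Ek_ge hr]
  rw [e]
  simp only [X, Finset.sum_range_succ, Finset.range_zero, Finset.sum_empty, zero_add,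
    Finset.Nat.sum_antidiagonal_succ, Finset.Nat.antidiagonal_zero, Finset.sum_singleton,
    Matrix.add_mulVec, Matrix.smul_mulVec, adR_add, adR_smul]
  simp only [h.cM_Ek_ge hr, Nat.reduceAdd, le_refl, Nat.reduceLeDiff, Matrix.zero_mulVec, adR_zero,
    mul_zero, zero_mul, add_zero, zero_add, add_mul, mul_add, smul_mul_assoc, mul_smul_comm]
  module

theorem X_int {r : ℕ} (hr : r < P.nroots) (t : ℤ) : X D P r t = opM D P (P.xcol r t) := by
  ext row col
  rw [opM_apply, Pk.xcol, cf_range_five]
  simp only [cf_scl]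
  have h4 : cf (P.colL 4 r (code P col)) (code P row) = 0 :=
    congrFun (congrFun (h.Ek_ge_four (D := D) hr le_rfl) row) col
  rw [h4, mul_zero, add_zero]
  simp only [X, Matrix.sum_apply, Finset.sum_range_succ, Finset.range_zero, Finset.sum_empty,
    zero_add, Matrix.smul_apply, cM_apply, smul_eq_mul, Ek, opM_apply, Int.cast_id]

theorem valid_xcol {r c : ℕ} (hr : r < P.nroots) (hc : c < P.dim) (t : ℤ) : Valid P (P.xcol r t c) := by
  intro p hp
  simp only [Pk.xcol, List.mem_flatMap, scl, List.mem_map] at hp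
  obtain ⟨k, -, q, hq, rfl⟩ := hp
  exact h.valid_colL hr hc q hq

theorem X_n {i : ℕ} (hi : i < P.rank) :
    X D P (P.sim i) (1 : R) * X D P (P.ng (P.sim i)) (-1 : R) * X D P (P.sim i) (1 : R) =
      cM D R (Sg D P i) := by
  have hs := h.sim_lt hi
  have hn := ng_lt (P := P) hs
  have e : X D P (P.sim i) (1 : ℤ) * X D P (P.ng (P.sim i)) (-1 : ℤ) * X D P (P.sim i) (1 : ℤ) =
      Sg D P i := by
    rw [mul_assoc, h.X_int hs, h.X_int hn, Sg, h.opM_mul _ _ fun c hc => h.valid_xcol hs hc 1,
      h.opM_mul]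
    · refine h.opM_ext fun c hc k _ => ?_
      have := h.nmat i hi
      simp only [Pk.ckN, List.all_eq_true, Pk.mem_allCodes] at this
      exact veq_cf (this c hc) k
    · intro c hc p hp
      simp only [app, List.mem_flatMap, List.mem_map] at hp
      obtain ⟨q, hq, z, hz, rfl⟩ := hp
      exact h.valid_xcol hn (h.valid_xcol hs hc 1 q hq) (-1) z hz
  rw [← e, map_mul, map_mul]
  simp only [cM, RingHom.mapMatrix_apply, X_map]
  simp

theorem colL_small {k r c : ℕ} (hk : k ≠ 0) (hr : r < P.nroots) (hc : c < P.dim) :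
    ∀ p ∈ P.colL k r c, p.1 < P.dim := h.valid_colL hr hc

theorem x_eq {F : Type*} [Field F] {r : ℕ} (hr : r < P.nroots) (t : F) :
    D.x F r t = X D P r t := by
  have hrD : r < D.nroots := h.nroots ▸ hr
  rw [ChevalleyDatum.x, dif_pos hrD]
  ext row col
  simp only [X, Finset.sum_range_succ, Finset.range_zero, Finset.sum_empty, zero_add,
    Matrix.add_apply, Matrix.smul_apply, cM_apply, Ek, opM_apply, smul_eq_mul, pow_zero, one_mul]
  rcases col with i | s
  · have hi : i.val < P.rank := h.rank ▸ i.isLt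
    simp only [code, colL_h one_ne_zero (Nat.le_add_right _ _),
      colL_h (by norm_num : (2 : ℕ) ≠ 0) (Nat.le_add_right _ _),
      colL_h (by norm_num : (3 : ℕ) ≠ 0) (Nat.le_add_right _ _), Nat.add_sub_cancel_left]
    rcases row with i' | u
    · have : r ≠ P.nroots + i'.val := by omega
      simp [-Array.getD_eq_getD_getElem?, ChevalleyDatum.xMat, Pk.colL, cf_cons, cf_nil, this, eq_comm, Fin.val_inj]
    · have hc := h.cartan_eq hi hr
      rw [ChevalleyDatum.cartan] at hc
      have hu : P.nroots + i.val ≠ u.val := by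
        have : u.val < P.nroots := h.nroots ▸ u.isLt
        omega
      by_cases e : u.val = r
      · subst e
        simp [-Array.getD_eq_getD_getElem?, ChevalleyDatum.xMat, Pk.colL, cf_cons, cf_nil, hu, hc]
        ring
      · have e' : r ≠ u.val := Ne.symm e
        have e2 : u ≠ (⟨r, hrD⟩ : Fin D.nroots) := fun hh => e (congrArg Fin.val hh)
        simp [-Array.getD_eq_getD_getElem?, ChevalleyDatum.xMat, Pk.colL, cf_cons, cf_nil, hu, e', e2]
  · have hs : s.val < P.nroots := h.nroots ▸ s.isLt
    have hneg := h.neg_eq hr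
    rw [ChevalleyDatum.neg] at hneg
    have hrn := h.ng_ne hr
    simp only [code]
    by_cases hsr : s.val = r
    · have e2 : s = (⟨r, hrD⟩ : Fin D.nroots) := Fin.ext hsr
      rw [hsr, colL_self one_ne_zero hr, colL_self (by norm_num : (2 : ℕ) ≠ 0) hr,
        colL_self (by norm_num : (3 : ℕ) ≠ 0) hr]
      rcases row with i' | u
      · have : r ≠ P.nroots + i'.val := by omega
        simp [-Array.getD_eq_getD_getElem?, ChevalleyDatum.xMat, Pk.colL, cf_cons, cf_nil, e2, this]
      · simp [-Array.getD_eq_getD_getElem?, ChevalleyDatum.xMat, Pk.colL, cf_cons, cf_nil, e2, Fin.ext_iff, eq_comm]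
    have e2 : s ≠ (⟨r, hrD⟩ : Fin D.nroots) := fun hh => hsr (congrArg Fin.val hh)
    by_cases hsn : s.val = P.ng r
    · rw [hsn, h.colL_ng one_ne_zero hr, h.colL_ng (by norm_num : (2 : ℕ) ≠ 0) hr,
        h.colL_ng (by norm_num : (3 : ℕ) ≠ 0) hr]
      simp only [if_true, if_false, show (2 : ℕ) ≠ 1 by omega, show (3 : ℕ) ≠ 1 by omega,
        show (3 : ℕ) ≠ 2 by omega]
      rw [cf_map_range, ← List.sum_toFinset _ List.nodup_range]
      rcases row with i' | u
      · have hi' : i'.val < P.rank := h.rank ▸ i'.isLt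
        have hco := h.coroot_eq hr hi'
        have h1 : P.ng r ≠ P.nroots + i'.val := by
          have := ng_lt (P := P) hr
          omega
        have h2 : r ≠ P.nroots + i'.val := by omega
        simp [-Array.getD_eq_getD_getElem?, ChevalleyDatum.xMat, Pk.colL, cf_cons, cf_nil, e2, hsn, hneg, h1, h2, hco, hi']
        ring
      · have hu : u.val < P.nroots := h.nroots ▸ u.isLt
        have h1 : ∀ j, P.nroots + j ≠ u.val := by omega
        have hus : u = s ↔ P.ng r = u.val := by rw [Fin.ext_iff, hsn]; exact eq_comm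
        have hur : u = (⟨r, hrD⟩ : Fin D.nroots) ↔ r = u.val := by rw [Fin.ext_iff]; exact eq_comm
        simp [-Array.getD_eq_getD_getElem?, ChevalleyDatum.xMat, Pk.colL, cf_cons, cf_nil, e2, hsn, hneg, h1, hus, hur]
        split_ifs with a b <;> first | ring1 | exact absurd (a.trans b.symm) hrn
    rw [colL_gen one_ne_zero hs hsr hsn, colL_gen (by norm_num : (2 : ℕ) ≠ 0) hs hsr hsn,
      colL_gen (by norm_num : (3 : ℕ) ≠ 0) hs hsr hsn]
    rcases row with i' | u
    · have h1 : s.val ≠ P.nroots + i'.val := by omega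
      have h2 : ∀ k < P.len r s.val, P.tgt r s.val k ≠ P.nroots + i'.val := by
        intro k hk
        have := h.tgt_lt hr hs hk
        omega
      simp [-Array.getD_eq_getD_getElem?, ChevalleyDatum.xMat, Pk.colL, e2, hsn, hneg, apply_ite (fun v : V => cf v (P.nroots + i'.val)),
        cf_cons, cf_nil, h1]
      have : P.len r s.val < 4 := h.len_lt hr hs
      obtain hl | hl | hl | hl : P.len r s.val = 0 ∨ P.len r s.val = 1 ∨ P.len r s.val = 2 ∨
          P.len r s.val = 3 := by omega
      all_goals simp [hl] at h2 ⊢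
      all_goals simp [h2]
    · have hch := h.chainCoeff_eq hr hs u.val
      have hus : u = s ↔ s.val = u.val := by rw [Fin.ext_iff]; exact eq_comm
      simp [-Array.getD_eq_getD_getElem?, ChevalleyDatum.xMat, Pk.colL, e2, hsn, hneg, hch, hus,
        apply_ite (fun v : V => cf v u.val), cf_cons, cf_nil]
      have : P.len r s.val < 4 := h.len_lt hr hs
      obtain hl | hl | hl | hl : P.len r s.val = 0 ∨ P.len r s.val = 1 ∨ P.len r s.val = 2 ∨
          P.len r s.val = 3 := by omega
      all_goals simp [Pk.entry, hl, List.range_succ, List.filter_cons]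
      all_goals split_ifs <;> simp <;> ring

end Ok

end Cfsg.Agent.Chev
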