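/-
Group-level relations in a Chevalley group: root elements as units, conjugation by the `n_p`,
diagonal elements, the subgroup `H`.
-/
import Cfsg.Agent.Lib.Chev.RootElem

set_option autoImplicit false

namespace Cfsg.Agent.Chev

open Cfsg.Lie
open scoped Matrix

variable {D : ChevalleyDatum} {P : Pk} {F : Type*} [Field F]

theorem neg_one_zpow_natAbs (n : ℤ) : (-1 : F) ^ n = (-1 : F) ^ n.natAbs := by
  rcases Int.natAbs_eq n with e | e <;> conv_lhs => rw [e]
  · rw [zpow_natCast]
  · rw [zpow_neg, zpow_natCast, ← inv_pow, inv_neg, inv_one]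

/-- A function on root indices that is multiplicative along the chains. -/
structure IsChar (P : Pk) (χ : ℕ → F) : Prop where
  ne : ∀ r < P.nroots, χ r ≠ 0
  neg : ∀ r < P.nroots, χ (P.ng r) = (χ r)⁻¹
  chain : ∀ r < P.nroots, ∀ s ∈ P.keys r, ∀ k < P.len r s, χ (P.tgt r s k) = χ r ^ (k + 1) * χ s

/-- A diagonal matrix: the identity on the coroot part and `χ` on the root part. -/
def dM (D : ChevalleyDatum) (χ : ℕ → F) : Matrix D.Idx D.Idx F :=
  Matrix.diagonal (Sum.elim (fun _ => (1 : F)) fun s : Fin D.nroots => χ s.val)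

theorem dM_mul (χ ψ : ℕ → F) : dM D χ * dM D ψ = dM D (fun s => χ s * ψ s) := by
  rw [dM, dM, dM, Matrix.diagonal_mul_diagonal]
  congr 1
  ext x; rcases x with i | s <;> simp

theorem dM_one : dM D (fun _ => (1 : F)) = 1 := by
  rw [dM, ← Matrix.diagonal_one]
  congr 1
  ext x; rcases x with i | s <;> simp

namespace Ok

variable (h : Ok D P)
include h

theorem A_additive {r s : ℕ} (hr : r < P.nroots) (hs : s < P.nroots) :
    ∀ k, k < P.len r s → ∀ i < P.rank, P.A i (P.tgt r s k) = (k + 1) * P.A i r + P.A i s := by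
  have base : ∀ s < P.nroots, 0 < P.len r s → ∀ i < P.rank,
      P.A i (P.tgt r s 0) = P.A i r + P.A i s := by
    intro s hs hl i hi
    have hsr : s ≠ r := fun e => by have := h.len_eq_zero hr hs (Or.inl e); omega
    have hsn : s ≠ P.ng r := fun e => by have := h.len_eq_zero hr hs (Or.inr e); omega
    have hu := h.tgt_lt hr hs hl
    set x := h.hIdx i hi with hx
    set row := h.rootIdx (P.tgt r s 0) hu with hrow
    set col := h.rootIdx s hs with hcol
    have hd := congrFun (congrFun (h.der hr (Pi.single x 1)) row) col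
    have hcx : code P x = P.nroots + i := rfl
    have hAD : ∀ a b : D.Idx, AD D P x a b =
        if code P b < P.nroots then (if code P b = code P a then P.A i (code P b) else 0) else 0 := by
      intro a b
      rw [AD, opM_apply, hcx, brk_h (Nat.le_add_right _ _), Nat.add_sub_cancel_left]
      split_ifs with h1 h2 <;> simp [cf_cons, cf_nil, *]
    have hcol0 : code P col = s := rfl
    have hrow0 : code P row = P.tgt r s 0 := rfl
    have hE : Ek D P 1 r row col = P.coef r s 0 := by
      rw [Ek, opM_apply, hcol0, hrow0, colL_gen one_ne_zero hs hsr hsn, if_pos (show 1 ≤ _ from hl),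
        Nat.sub_self]
      simp [cf_cons, cf_nil]
    have hrhs : adZ D P (Ek D P 1 r *ᵥ Pi.single x 1) row col = -P.A i r * P.coef r s 0 := by
      have e1 : Ek D P 1 r *ᵥ Pi.single x 1 = -P.A i r • Pi.single (h.rootIdx r hr) 1 := by
        ext y
        rw [Matrix.mulVec_single_one, Matrix.col_apply, Ek, opM_apply, hcx,
          colL_h one_ne_zero (Nat.le_add_right _ _), if_pos rfl, Nat.add_sub_cancel_left, cf_cons,
          cf_nil, Pi.smul_apply, Pi.single_apply]
        by_cases e : y = h.rootIdx r hr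
        · subst e; simp [rootIdx, code]
        · have : r ≠ code P y := fun e2 => e (h.code_inj (e2.symm.trans rfl))
          simp [e, this]
      rw [e1, adZ_smul, adZ_single, h.AD_root hr, Matrix.smul_apply, smul_eq_mul, hE]
    rw [adZ_single, hrhs, Matrix.sub_apply, Matrix.mul_apply, Matrix.mul_apply] at hd
    rw [Finset.sum_eq_single col, Finset.sum_eq_single row] at hd
    · rw [hAD, hAD, hE, hcol0, hrow0, if_pos hs, if_pos rfl, if_pos hu, if_pos rfl] at hd
      have hc := h.coef_ne hr hs hl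
      have : P.coef r s 0 * (P.A i r + P.A i s - P.A i (P.tgt r s 0)) = 0 := by linear_combination hd
      rcases mul_eq_zero.1 this with e | e
      · exact absurd e hc
      · linarith
    · intro y _ hy
      rw [hAD]
      split_ifs with h1 h2
      · exact absurd (h.code_inj h2) hy
      all_goals simp
    · simp
    · intro y _ hy
      rw [hAD]
      split_ifs with h1 h2
      · exact absurd (h.code_inj h2.symm) hy
      all_goals simp
    · simp
  intro k
  induction k with
  | zero => intro hl i hi; rw [base s hs hl i hi]; simp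
  | succ k ih =>
    intro hl i hi
    have hu := h.tgt_lt hr hs (show k < P.len r s by omega)
    have hv := h.tgt_lt hr hs hl
    have hk1 : k + 1 ≠ 0 := by omega
    have hsr : s ≠ r := fun e => by have := h.len_eq_zero hr hs (Or.inl e); omega
    have hsn : s ≠ P.ng r := fun e => by have := h.len_eq_zero hr hs (Or.inr e); omega
    have key := (h.pow_spec hr).1 s ((h.mem_keys hr).2 ⟨hs, by omega⟩) k (by omega) (P.tgt r s (k + 1))
    rw [colL_gen hk1 hs hsr hsn, if_pos (by omega), colL_gen (by omega) hs hsr hsn, if_pos (by omega),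
      app_single, cf_scl, cf_scl, Nat.add_sub_cancel, show k + 2 - 1 = k + 1 by omega, cf_cons, cf_nil,
      if_pos rfl, add_zero] at key
    have hne : cf (P.colL 1 r (P.tgt r s k)) (P.tgt r s (k + 1)) ≠ 0 := by
      intro e
      rw [e, mul_zero] at key
      rcases mul_eq_zero.1 key.symm with e | e
      · simp at e; omega
      · exact h.coef_ne hr hs hl e
    by_cases e1 : P.tgt r s k = r
    · rw [e1, colL_self one_ne_zero hr] at hne; exact absurd rfl hne
    by_cases e2 : P.tgt r s k = P.ng r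
    · rw [e2, h.colL_ng one_ne_zero hr, if_pos rfl, cf_eq_zero] at hne
      · exact absurd rfl hne
      · intro p hp
        obtain ⟨j, -, rfl⟩ := List.mem_map.1 hp
        show P.nroots + j ≠ _
        omega
    rw [colL_gen one_ne_zero hu e1 e2] at hne
    split_ifs at hne with h1
    · rw [cf_cons, cf_nil, add_zero, Nat.sub_self] at hne
      have : P.tgt r (P.tgt r s k) 0 = P.tgt r s (k + 1) := by by_contra e; rw [if_neg e] at hne; exact hne rfl
      rw [← this, base _ hu h1 i hi, ih (by omega) i hi]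
      push_cast; ring
    · exact absurd rfl hne

theorem rv_additive {r s k : ℕ} (hr : r < P.nroots) (hs : s < P.nroots) (hk : k < P.len r s)
    {i : ℕ} (hi : i < P.rank) : P.rv (P.tgt r s k) i = (k + 1) * P.rv r i + P.rv s i := by
  obtain ⟨d, inv, hc⟩ := h.cartanM
  simp only [Pk.ckCartan, Bool.and_eq_true, List.all_eq_true, List.mem_range, decide_eq_true_eq,
    Bool.not_eq_true', beq_eq_false_iff_ne] at hc
  obtain ⟨⟨hd, hinv⟩, -⟩ := hc
  have hset : (List.range P.rank).toFinset = Finset.range P.rank := by ext; simp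
  have key : ∀ u < P.nroots, d * P.rv u i =
      ∑ j ∈ Finset.range P.rank, (inv.getD i []).getD j 0 * P.A j u := by
    intro u hu
    have e : ∀ j ∈ Finset.range P.rank, (inv.getD i []).getD j 0 * P.A j u =
        ∑ m ∈ Finset.range P.rank, P.rv u m * ((inv.getD i []).getD j 0 * P.A j (P.sim m)) := by
      intro j hj
      rw [h.A_eq_sum hu (Finset.mem_range.1 hj), Finset.mul_sum]
      exact Finset.sum_congr rfl fun m _ => by ring
    rw [Finset.sum_congr rfl e, Finset.sum_comm, Finset.sum_eq_single i]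
    · rw [← Finset.mul_sum, ← hset, List.sum_toFinset _ List.nodup_range, hinv i hi i hi, nbeq]
      simp [mul_comm]
    · intro m hm hne
      rw [← Finset.mul_sum, ← hset, List.sum_toFinset _ List.nodup_range,
        hinv i hi m (Finset.mem_range.1 hm), nbeq]
      simp [Ne.symm hne]
    · intro hn; exact absurd (Finset.mem_range.2 hi) hn
  apply mul_left_cancel₀ hd
  rw [key _ (h.tgt_lt hr hs hk), mul_add, mul_left_comm, key r hr, key s hs, Finset.mul_sum,
    ← Finset.sum_add_distrib]
  refine Finset.sum_congr rfl fun j hj => ?_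
  rw [h.A_additive hr hs k hk j (Finset.mem_range.1 hj)]
  ring

theorem pair_sim {i : ℕ} (hi : i < P.rank) (s : ℕ) : P.pair (P.sim i) s = P.A i s := by
  rw [Pk.pair, ← List.sum_toFinset _ List.nodup_range, Finset.sum_eq_single i]
  · rw [h.co_sim hi hi, if_pos rfl, one_mul]
  · intro j hj hne
    rw [h.co_sim hi (by simpa using hj), if_neg (Ne.symm hne), zero_mul]
  · intro hn; exact absurd (by simpa using hi) hn

theorem pair_w {i r s : ℕ} (hi : i < P.rank) (hr : r < P.nroots) (hs : s < P.nroots) :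
    P.pair (P.w i r) s = P.pair r (P.w i s) := by
  have hset : (List.range P.rank).toFinset = Finset.range P.rank := by ext; simp
  have e1 : ∀ j ∈ Finset.range P.rank, P.co (P.w i r) j * P.A j s =
      P.co r j * P.A j s - (if j = i then P.pair r (P.sim i) * P.A j s else 0) := by
    intro j hj
    rw [((h.w_spec hi hr).2.2.2.2.2.1 j (Finset.mem_range.1 hj)).2]
    split_ifs <;> ring
  have e2 : ∀ j ∈ Finset.range P.rank, P.co r j * P.A j (P.w i s) =
      P.co r j * P.A j s - P.co r j * P.A j (P.sim i) * P.A i s := by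
    intro j hj
    rw [h.A_w hi (Finset.mem_range.1 hj) hs]; ring
  simp only [Pk.pair, ← List.sum_toFinset _ List.nodup_range, hset]
  rw [Finset.sum_congr rfl e1, Finset.sum_congr rfl e2, Finset.sum_sub_distrib, Finset.sum_sub_distrib,
    Finset.sum_ite_eq' (Finset.range P.rank) i, if_pos (Finset.mem_range.2 hi), ← Finset.sum_mul]
  congr 1

/-- An exponent function giving characters. -/
theorem isChar_zpow {t : F} (ht : t ≠ 0) (L : ℕ → ℤ) (hneg : ∀ r < P.nroots, L (P.ng r) = -L r)
    (hadd : ∀ r < P.nroots, ∀ s < P.nroots, ∀ k < P.len r s, L (P.tgt r s k) = (k + 1) * L r + L s) :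
    IsChar P (fun s => t ^ L s) where
  ne r _ := zpow_ne_zero _ ht
  neg r hr := by simp only [hneg r hr, zpow_neg]
  chain r hr s hs k hk := by
    simp only [hadd r hr s ((h.mem_keys hr).1 hs).1 k hk]
    rw [zpow_add₀ ht, mul_comm ((k : ℤ) + 1), zpow_mul]
    norm_cast

theorem isChar_pair {t : F} (ht : t ≠ 0) {r : ℕ} : IsChar P (fun s => t ^ P.pair r s) := by
  have hset : (List.range P.rank).toFinset = Finset.range P.rank := by ext; simp
  refine h.isChar_zpow ht _ (fun s hs => ?_) fun a ha b hb k hk => ?_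
  all_goals simp only [Pk.pair, ← List.sum_toFinset _ List.nodup_range, hset]
  · rw [← Finset.sum_neg_distrib]
    refine Finset.sum_congr rfl fun j hj => ?_
    rw [h.A_ng hs (Finset.mem_range.1 hj)]; ring
  · rw [Finset.mul_sum, ← Finset.sum_add_distrib]
    refine Finset.sum_congr rfl fun j hj => ?_
    rw [h.A_additive ha hb k hk j (Finset.mem_range.1 hj)]; ring

theorem isChar_rv {t : F} (ht : t ≠ 0) {i : ℕ} (hi : i < P.rank) : IsChar P (fun s => t ^ P.rv s i) :=
  h.isChar_zpow ht _ (fun _ hs => h.rv_ng hs hi) fun _ ha _ hb _ hk => h.rv_additive ha hb hk hi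

theorem isChar_mul {χ ψ : ℕ → F} (hχ : IsChar P χ) (hψ : IsChar P ψ) :
    IsChar P (fun s => χ s * ψ s) where
  ne r hr := mul_ne_zero (hχ.ne r hr) (hψ.ne r hr)
  neg r hr := by simp only [hχ.neg r hr, hψ.neg r hr, mul_inv]
  chain r hr s hs k hk := by simp only [hχ.chain r hr s hs k hk, hψ.chain r hr s hs k hk, mul_pow]; ring

/-- The weight of a coordinate under a character. -/
theorem dM_Ek {χ : ℕ → F} (hχ : IsChar P χ) {r : ℕ} (hr : r < P.nroots) (k : ℕ) :
    dM D χ * cM D F (Ek D P k r) = χ r ^ k • (cM D F (Ek D P k r) * dM D χ) := by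
  rcases Nat.eq_zero_or_pos k with rfl | hk
  · simp [h.Ek_zero]
  have hk0 : k ≠ 0 := by omega
  ext row col
  rw [dM, Matrix.diagonal_mul, Matrix.smul_apply, Matrix.mul_diagonal, smul_eq_mul, cM_apply, Ek,
    opM_apply]
  have hχr := hχ.ne r hr
  by_cases hz : cf (P.colL k r (code P col)) (code P row) = 0
  · simp [hz]
  rcases col with i | s
  · simp only [code, colL_h hk0 (Nat.le_add_right _ _)] at hz ⊢
    split_ifs at hz ⊢ with h1
    · rcases row with i' | u
      · simp [cf_cons, cf_nil, show r ≠ P.nroots + i'.val by omega] at hz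
      · have : u.val = r := by
          by_contra e
          simp [cf_cons, cf_nil, Ne.symm e] at hz
        simp [this, h1]
    · exact absurd rfl hz
  · have hs : s.val < P.nroots := h.nroots ▸ s.isLt
    simp only [code] at hz ⊢
    by_cases e1 : s.val = r
    · rw [e1, colL_self hk0 hr] at hz; exact absurd rfl hz
    by_cases e2 : s.val = P.ng r
    · rw [e2, h.colL_ng hk0 hr] at hz ⊢
      split_ifs at hz ⊢ with h1 h2
      · rcases row with i' | u
        · simp [hχ.neg r hr, h1, e2]
          field_simp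
        · rw [cf_eq_zero] at hz
          · exact absurd rfl hz
          · intro p hp
            obtain ⟨j, -, rfl⟩ := List.mem_map.1 hp
            have : u.val < P.nroots := h.nroots ▸ u.isLt
            show P.nroots + j ≠ u.val
            omega
      · rcases row with i' | u
        · simp [cf_cons, cf_nil, show r ≠ P.nroots + i'.val by omega] at hz
        · have : u.val = r := by
            by_contra e
            simp [cf_cons, cf_nil, Ne.symm e] at hz
          simp [this, h2, e2, hχ.neg r hr]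
          field_simp
      · exact absurd rfl hz
    rw [colL_gen hk0 hs e1 e2] at hz ⊢
    split_ifs at hz ⊢ with h1
    · have hu := h.tgt_lt hr hs (show k - 1 < P.len r s.val by omega)
      rcases row with i' | u
      · simp [cf_cons, cf_nil, show P.tgt r s.val (k - 1) ≠ P.nroots + i'.val by omega] at hz
      · have : u.val = P.tgt r s.val (k - 1) := by
          by_contra e
          simp [cf_cons, cf_nil, Ne.symm e] at hz
        have hc := hχ.chain r hr s.val ((h.mem_keys hr).2 ⟨hs, by omega⟩) (k - 1) (by omega)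
        rw [show k - 1 + 1 = k by omega] at hc
        simp [this, hc]; ring
    · exact absurd rfl hz

theorem dM_X {χ : ℕ → F} (hχ : IsChar P χ) {r : ℕ} (hr : r < P.nroots) (t : F) :
    dM D χ * X D P r t = X D P r (χ r * t) * dM D χ := by
  simp only [X, Finset.mul_sum, Finset.sum_mul, mul_smul_comm, smul_mul_assoc, h.dM_Ek hχ hr,
    smul_smul, mul_pow]
  exact Finset.sum_congr rfl fun k _ => by rw [mul_comm]

theorem Sg_Ek {i r : ℕ} (hi : i < P.rank) (hr : r < P.nroots) (k : ℕ) :
    Sg D P i * Ek D P k r = (P.eta i r ^ k) • (Ek D P k (P.w i r) * Sg D P i) := by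
  induction k with
  | zero => simp [h.Ek_zero]
  | succ k ih =>
    apply smul_right_injective (Matrix D.Idx D.Idx ℤ) (show ((k : ℤ) + 1) ≠ 0 by omega)
    show ((k : ℤ) + 1) • _ = ((k : ℤ) + 1) • _
    rw [← mul_smul_comm, ← h.Ek_succ hr, ← mul_assoc, h.Sg_Ek_one hi hr, smul_mul_assoc, mul_assoc,
      ih, mul_smul_comm, smul_smul, ← mul_assoc, h.Ek_succ (h.w_lt hi hr), smul_mul_assoc, smul_smul,
      smul_smul, pow_succ]
    congr 1; ring

theorem Sg_X {i r : ℕ} (hi : i < P.rank) (hr : r < P.nroots) (t : F) :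
    cM D F (Sg D P i) * X D P r t = X D P (P.w i r) ((P.eta i r : F) * t) * cM D F (Sg D P i) := by
  simp only [X, Finset.mul_sum, Finset.sum_mul, mul_smul_comm, smul_mul_assoc, ← map_mul,
    h.Sg_Ek hi hr, cM_smul, smul_smul, Int.cast_pow]
  exact Finset.sum_congr rfl fun k _ => by rw [mul_pow, mul_comm]

theorem Sg_dM {i : ℕ} (hi : i < P.rank) (χ : ℕ → F) :
    cM D F (Sg D P i) * dM D χ = dM D (fun s => χ (P.w i s)) * cM D F (Sg D P i) := by
  ext row col
  rw [dM, dM, Matrix.mul_diagonal, Matrix.diagonal_mul, cM_apply, Sg, opM_apply]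
  rcases col with j | s
  · rcases row with j' | u
    · simp
    · have : u.val < P.nroots := h.nroots ▸ u.isLt
      simp [code, sig_h (Nat.le_add_right _ _), cf_cons, cf_nil,
        show P.nroots + j.val ≠ u.val by omega, show P.nroots + i ≠ u.val by omega]
  · have hs : s.val < P.nroots := h.nroots ▸ s.isLt
    have := h.w_lt hi hs
    rcases row with j' | u
    · simp [code, sig_root hs, cf_cons, cf_nil, show P.w i s.val ≠ P.nroots + j'.val by omega]
    · by_cases e : P.w i s.val = u.val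
      · simp [code, sig_root hs, cf_cons, cf_nil, e]
        rw [← e, h.w_w hi hs]; ring
      · simp [code, sig_root hs, cf_cons, cf_nil, e]

theorem Sg_sq {i : ℕ} (hi : i < P.rank) :
    cM D F (Sg D P i) * cM D F (Sg D P i) = dM D (fun s => (-1 : F) ^ P.A i s) := by
  rw [← map_mul]
  ext row col
  rw [cM_apply, Sg, h.opM_mul _ _ fun c hc => h.valid_sig hi hc, opM_apply, dM, Matrix.diagonal_apply]
  rcases col with j | s
  · have hc : P.nroots ≤ P.nroots + j.val := Nat.le_add_right _ _
    simp only [code, sig_h hc, app_pair, sig_h (Nat.le_add_right P.nroots i), Nat.add_sub_cancel_left,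
      h.A_self hi, cf_append, cf_scl, cf_cons, cf_nil]
    rcases row with j' | u
    · simp only [Sum.elim_inl, Sum.inl.injEq, add_right_inj, Fin.val_inj]
      by_cases e : j = j' <;> by_cases e2 : i = j'.val <;> simp [e, e2, eq_comm] <;> (try ring)
    · have : u.val < P.nroots := h.nroots ▸ u.isLt
      simp [show P.nroots + j.val ≠ u.val by omega, show P.nroots + i ≠ u.val by omega]
  · have hs : s.val < P.nroots := h.nroots ▸ s.isLt
    have hw := h.w_lt hi hs
    simp only [code, sig_root hs, app_single, sig_root hw, h.w_w hi hs, cf_scl, cf_cons, cf_nil]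
    have he : ((-1 : F)) ^ P.A i s.val = ((P.eta i s.val * P.eta i (P.w i s.val) : ℤ) : F) := by
      rw [(h.w_spec hi hs).2.2.2.2.1]
      push_cast
      exact neg_one_zpow_natAbs _
    rcases row with j' | u
    · simp [show s.val ≠ P.nroots + j'.val by omega]
    · by_cases e : u = s
      · subst e; simp [he]
      · have : s.val ≠ u.val := fun e2 => e (Fin.ext e2.symm)
        simp [e, this]

/-! ### Units -/

/-- The root element as a unit. -/
def xG (r : ℕ) (t : F) : GL D.Idx F :=
  if hr : r < P.nroots then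
    ⟨X D P r t, X D P r (-t), by rw [h.X_add hr, add_neg_cancel, h.X_zero],
      by rw [h.X_add hr, neg_add_cancel, h.X_zero]⟩
  else 1

theorem coe_xG' {r : ℕ} (hr : r < P.nroots) (t : F) :
    (h.xG r t : Matrix D.Idx D.Idx F) = X D P r t := by
  rw [xG, dif_pos hr]

theorem coe_xG (r : ℕ) (t : F) : (h.xG r t : Matrix D.Idx D.Idx F) = D.x F r t := by
  by_cases hr : r < P.nroots
  · rw [h.coe_xG' hr, h.x_eq hr]
  · rw [xG, dif_neg hr, ChevalleyDatum.x, dif_neg (h.nroots ▸ hr)]; rfl

theorem eq_xG_iff {g : GL D.Idx F} {r : ℕ} {t : F} :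
    (g : Matrix D.Idx D.Idx F) = D.x F r t ↔ g = h.xG r t := by
  rw [← h.coe_xG]; exact Units.ext_iff.symm

theorem xG_add (r : ℕ) (t u : F) : h.xG r t * h.xG r u = h.xG r (t + u) := by
  by_cases hr : r < P.nroots
  · apply Units.ext
    rw [Units.val_mul, h.coe_xG' hr, h.coe_xG' hr, h.coe_xG' hr, h.X_add hr]
  · simp [xG, hr]

theorem xG_zero (r : ℕ) : h.xG r (0 : F) = 1 := by
  by_cases hr : r < P.nroots
  · apply Units.ext; rw [h.coe_xG' hr, h.X_zero]; rfl
  · simp [xG, hr]

theorem xG_inv (r : ℕ) (t : F) : (h.xG r t)⁻¹ = h.xG r (-t) := by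
  rw [inv_eq_iff_mul_eq_one, h.xG_add, add_neg_cancel, h.xG_zero]

theorem slt (s : Fin D.nroots) : s.val < P.nroots := h.nroots ▸ s.isLt

/-- A character's diagonal matrix as a unit. -/
def dG {χ : ℕ → F} (hχ : IsChar P χ) : GL D.Idx F :=
  ⟨dM D χ, dM D (fun s => (χ s)⁻¹),
    by
      rw [dM_mul, ← dM_one (D := D) (F := F), dM, dM]
      congr 1; ext x; rcases x with i | s
      · rfl
      · simp [mul_inv_cancel₀ (hχ.ne _ (h.slt s))],
    by
      rw [dM_mul, ← dM_one (D := D) (F := F), dM, dM]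
      congr 1; ext x; rcases x with i | s
      · rfl
      · simp [inv_mul_cancel₀ (hχ.ne _ (h.slt s))]⟩

theorem coe_dG {χ : ℕ → F} (hχ : IsChar P χ) :
    (h.dG hχ : Matrix D.Idx D.Idx F) = dM D χ := rfl

theorem coe_dG_inv {χ : ℕ → F} (hχ : IsChar P χ) :
    (((h.dG hχ)⁻¹ : GL D.Idx F) : Matrix D.Idx D.Idx F) = dM D (fun s => (χ s)⁻¹) := rfl

theorem dG_xG {χ : ℕ → F} (hχ : IsChar P χ) {r : ℕ} (hr : r < P.nroots) (t : F) :
    h.dG hχ * h.xG r t * (h.dG hχ)⁻¹ = h.xG r (χ r * t) := by
  rw [mul_inv_eq_iff_eq_mul]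
  apply Units.ext
  rw [Units.val_mul, Units.val_mul, h.coe_xG' hr, h.coe_xG' hr]
  exact h.dM_X hχ hr t

theorem dG_mul {χ ψ φ : ℕ → F} (hχ : IsChar P χ) (hψ : IsChar P ψ) (hφ : IsChar P φ)
    (e : ∀ s < P.nroots, φ s = χ s * ψ s) : h.dG hχ * h.dG hψ = h.dG hφ := by
  apply Units.ext
  show dM D χ * dM D ψ = dM D φ
  rw [dM_mul, dM, dM]
  congr 1; ext x; rcases x with i | s
  · rfl
  · exact (e _ (h.slt s)).symm

/-- `n_r(t)` as a unit. -/
def nt (r : ℕ) (t : F) : GL D.Idx F := h.xG r t * h.xG (P.ng r) (-t⁻¹) * h.xG r t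

/-- `h_r(t)` as a unit. -/
def ht (r : ℕ) (t : F) : GL D.Idx F := h.nt r t * h.nt r (-1)

/-- `n_p`. -/
def nG (i : ℕ) : GL D.Idx F := h.nt (P.sim i) 1

theorem coe_nt {r : ℕ} (hr : r < P.nroots) (t : F) :
    (h.nt r t : Matrix D.Idx D.Idx F) = D.nMat F r t := by
  rw [nt, ChevalleyDatum.nMat, ChevalleyDatum.wordMat, ChevalleyDatum.nWord, h.neg_eq hr]
  simp [h.coe_xG, mul_assoc]

theorem coe_ht {r : ℕ} (hr : r < P.nroots) (t : F) :
    (h.ht r t : Matrix D.Idx D.Idx F) = D.hMat F r t := by
  rw [ht, ChevalleyDatum.hMat, ChevalleyDatum.wordMat, ChevalleyDatum.hWord, List.map_append,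
    List.prod_append, Units.val_mul, h.coe_nt hr, h.coe_nt hr]
  rfl

theorem eq_nt_iff {g : GL D.Idx F} {r : ℕ} (hr : r < P.nroots) {t : F} :
    (g : Matrix D.Idx D.Idx F) = D.nMat F r t ↔ g = h.nt r t := by
  rw [← h.coe_nt hr]; exact Units.ext_iff.symm

theorem nt_neg (r : ℕ) (t : F) : h.nt r (-t) = (h.nt r t)⁻¹ := by
  simp [nt, h.xG_inv, inv_neg, mul_assoc]

theorem coe_nG {i : ℕ} (hi : i < P.rank) :
    ((h.nG i : GL D.Idx F) : Matrix D.Idx D.Idx F) = cM D F (Sg D P i) := by
  rw [nG, nt, inv_one, Units.val_mul, Units.val_mul, h.coe_xG' (h.sim_lt hi),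
    h.coe_xG' (ng_lt (h.sim_lt hi)), h.X_n hi]

theorem nG_xG {i r : ℕ} (hi : i < P.rank) (hr : r < P.nroots) (t : F) :
    h.nG i * h.xG r t * (h.nG i)⁻¹ = h.xG (P.w i r) ((P.eta i r : F) * t) := by
  rw [mul_inv_eq_iff_eq_mul]
  apply Units.ext
  rw [Units.val_mul, Units.val_mul, h.coe_nG hi, h.coe_xG' hr, h.coe_xG' (h.w_lt hi hr)]
  exact h.Sg_X hi hr t

theorem eta_cases (i r : ℕ) : P.eta i r = 1 ∨ P.eta i r = -1 := by
  unfold Pk.eta; cases Nat.beq (P.signs i >>> r &&& 1) 1 <;> simp

theorem nG_nt {i r : ℕ} (hi : i < P.rank) (hr : r < P.nroots) (t : F) :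
    h.nG i * h.nt r t * (h.nG i)⁻¹ = h.nt (P.w i r) ((P.eta i r : F) * t) := by
  have e : -((P.eta i r : F) * t)⁻¹ = (P.eta i (P.ng r) : F) * -t⁻¹ := by
    rw [h.eta_ng hi hr]
    rcases h.eta_cases i r with e | e <;> simp [e]
  rw [nt, nt, e, ← h.w_ng hi hr, ← h.nG_xG hi hr, ← h.nG_xG hi (ng_lt hr)]
  group

theorem nG_dG {i : ℕ} (hi : i < P.rank) {χ ψ : ℕ → F} (hχ : IsChar P χ) (hψ : IsChar P ψ)
    (e : ∀ s < P.nroots, ψ s = χ (P.w i s)) : h.nG i * h.dG hχ * (h.nG i)⁻¹ = h.dG hψ := by
  rw [mul_inv_eq_iff_eq_mul]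
  apply Units.ext
  rw [Units.val_mul, Units.val_mul, h.coe_nG hi]
  show cM D F (Sg D P i) * dM D χ = dM D ψ * cM D F (Sg D P i)
  rw [h.Sg_dM hi]
  congr 1
  rw [dM, dM]
  congr 1; ext x; rcases x with j | s
  · rfl
  · exact (e _ (h.slt s)).symm

/-- `n_r(a) n_r(b)` is diagonal. -/
theorem nt_mul_nt {r : ℕ} (hr : r < P.nroots) {a b : F} (ha : a ≠ 0) (hb : b ≠ 0) :
    h.nt r a * h.nt r b = h.dG (h.isChar_pair (t := -(a / b)) (neg_ne_zero.2 (div_ne_zero ha hb)) (r := r)) := by
  have hd := h.down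
  simp only [Pk.ckDown, nbeq, List.all_eq_true, Pk.mem_allRoots, Bool.or_eq_true, Bool.and_eq_true,
    List.any_eq_true, List.mem_range, decide_eq_true_eq] at hd
  have simple : ∀ i < P.rank, ∀ a b : F, (ha : a ≠ 0) → (hb : b ≠ 0) →
      h.nt (P.sim i) a * h.nt (P.sim i) b =
        h.dG (h.isChar_pair (t := -(a / b)) (neg_ne_zero.2 (div_ne_zero ha hb)) (r := P.sim i)) := by
    intro i hi a b ha hb
    have conj : ∀ c : F, (hc : c ≠ 0) →
        h.nt (P.sim i) c = h.dG (h.isChar_rv hc hi) * h.nG i * (h.dG (h.isChar_rv hc hi))⁻¹ := by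
      intro c hc
      have hs := h.sim_lt hi
      have e1 : c = c ^ P.rv (P.sim i) i * 1 := by rw [h.rv_sim hi hi, if_pos rfl, zpow_one, mul_one]
      have e2 : -c⁻¹ = c ^ P.rv (P.ng (P.sim i)) i * -(1 : F)⁻¹ := by
        rw [h.rv_ng hs hi, h.rv_sim hi hi, if_pos rfl]; simp
      rw [nG, nt, nt]
      nth_rewrite 1 [e1]
      nth_rewrite 3 [e1]
      rw [e2, ← h.dG_xG (h.isChar_rv hc hi) hs, ← h.dG_xG (h.isChar_rv hc hi) (ng_lt hs)]
      group
    rw [conj a ha, conj b hb]
    apply Units.ext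
    simp only [Units.val_mul, h.coe_nG hi, h.coe_dG, h.coe_dG_inv]
    rw [show ∀ A S B C E : Matrix D.Idx D.Idx F, A * S * B * (C * S * E) = A * (S * (B * C)) * S * E
      by intros; simp only [mul_assoc], dM_mul, h.Sg_dM hi, ← mul_assoc, dM_mul, mul_assoc _ _ (cM D F (Sg D P i)),
      h.Sg_sq hi, dM_mul, dM_mul, dM, dM]
    congr 1; ext x; rcases x with j | s
    · rfl
    · have hs : s.val < P.nroots := h.nroots ▸ s.isLt
      have hrvw : P.rv (P.w i s.val) i = P.rv s.val i - P.A i s.val := by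
        rw [((h.w_spec hi hs).2.2.2.2.2.1 i hi).1, if_pos rfl]
      simp only [Sum.elim_inr, hrvw, h.pair_sim hi]
      rw [← neg_one_mul (a / b), mul_zpow, div_zpow, zpow_sub₀ ha, zpow_sub₀ hb]
      field_simp
  let m : ℕ → ℕ := fun r => if P.isPos r then r else P.nroots + (P.nroots - r)
  suffices ∀ n, ∀ r < P.nroots, m r = n → ∀ a b : F, (ha : a ≠ 0) → (hb : b ≠ 0) →
      h.nt r a * h.nt r b =
        h.dG (h.isChar_pair (t := -(a / b)) (neg_ne_zero.2 (div_ne_zero ha hb)) (r := r)) from
    this _ r hr rfl a b ha hb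
  intro n
  induction n using Nat.strong_induction_on with
  | _ n ih =>
    intro r hr hm a b ha hb
    have transfer : ∀ i < P.rank, ∀ r' < P.nroots, P.w i r' = r →
        (∀ a b : F, (ha : a ≠ 0) → (hb : b ≠ 0) → h.nt r' a * h.nt r' b =
          h.dG (h.isChar_pair (t := -(a / b)) (neg_ne_zero.2 (div_ne_zero ha hb)) (r := r'))) →
        h.nt r a * h.nt r b =
          h.dG (h.isChar_pair (t := -(a / b)) (neg_ne_zero.2 (div_ne_zero ha hb)) (r := r)) := by
      intro i hi r' hr' he hyp
      have hη : (P.eta i r' : F) ≠ 0 := by rcases h.eta_cases i r' with e | e <;> simp [e]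
      have hsq : (P.eta i r' : F) * P.eta i r' = 1 := by rw [← Int.cast_mul, eta_sq, Int.cast_one]
      have e3 : ∀ c : F, h.nt r c = h.nG i * h.nt r' ((P.eta i r' : F) * c) * (h.nG i)⁻¹ := by
        intro c; rw [h.nG_nt hi hr', ← mul_assoc, hsq, one_mul, he]
      rw [e3 a, e3 b, show ∀ g x y : GL D.Idx F, g * x * g⁻¹ * (g * y * g⁻¹) = g * (x * y) * g⁻¹ by
        intros; group, hyp _ _ (mul_ne_zero hη ha) (mul_ne_zero hη hb)]
      refine h.nG_dG hi _ _ fun s hs => ?_
      simp only [← he, h.pair_w hi hr' hs, mul_div_mul_left _ _ hη]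
    rcases (hd r hr) with ⟨i, hi, hs | hs⟩ | ⟨⟨i, hi, hw⟩, -⟩
    · subst hs; exact simple i hi a b ha hb
    · exact transfer i hi (P.sim i) (h.sim_lt hi) (by rw [h.w_sim hi, hs]) (simple i hi)
    · have hwr := h.w_lt hi hr
      refine transfer i hi (P.w i r) hwr (h.w_w hi hr) fun a b ha hb => ih (m (P.w i r)) ?_ _ hwr rfl a b ha hb
      cases hp : P.isPos r
      · simp [hp] at hw
        simp [m, hp, hw.2] at hm ⊢
        omega
      · simp [hp] at hw
        simp [m, hp, hw.2] at hm ⊢
        omega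

theorem ht_eq {r : ℕ} (hr : r < P.nroots) {t : F} (ht' : t ≠ 0) :
    h.ht r t = h.dG (h.isChar_pair ht' (r := r)) := by
  rw [ht, h.nt_mul_nt hr ht' (neg_ne_zero.2 one_ne_zero)]
  apply Units.ext
  simp only [h.coe_dG, div_neg, div_one, neg_neg]

theorem nt_eq_ht_mul (r : ℕ) (t : F) : h.nt r t = h.ht r t * h.nt r 1 := by
  unfold ht
  rw [h.nt_neg r (1 : F), inv_mul_cancel_right]

end Ok

end Cfsg.Agent.Chev
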