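/-
Chevalley's commutator formula.
-/
import Cfsg.Agent.Lib.Chev.Group
import Cfsg.Agent.Lib.Chev.CommEngine

set_option autoImplicit false

namespace Cfsg.Agent.Chev

open Cfsg.Lie
open scoped Matrix

variable {D : ChevalleyDatum} {P : Pk}

/-- Evaluation of a symbolic vector. -/
def evalPV (D : ChevalleyDatum) (P : Pk) {R : Type*} [CommRing R] (t u : R) (v : PV) : D.Idx → R :=
  fun x => (v.map fun p => if p.1 = code P x then (p.2.2.2 : R) * t ^ p.2.1 * u ^ p.2.2.1 else 0).sum

/-- The product of root elements with monomial parameters. -/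
def monWord (D : ChevalleyDatum) (P : Pk) {R : Type*} [CommRing R] (t u : R)
    (w : List (ℕ × ℤ × ℕ × ℕ)) : Matrix D.Idx D.Idx R :=
  (w.map fun g => X D P g.1 ((g.2.1 : R) * t ^ g.2.2.1 * u ^ g.2.2.2)).prod

theorem monWord_map {R S : Type*} [CommRing R] [CommRing S] (f : R →+* S) (t u : R)
    (w : List (ℕ × ℤ × ℕ × ℕ)) :
    (monWord D P t u w).map f = monWord D P (f t) (f u) w := by
  induction w with
  | nil => simp [monWord]
  | cons g w ih =>
    simp only [monWord, List.map_cons, List.prod_cons, Matrix.map_mul] at ih ⊢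
    rw [ih, X_map]
    simp

theorem pzero_sum {R : Type*} [CommRing R] (t u : R) (c : ℕ) : ∀ n (v : PV), pzero n v = true →
    (v.map fun p => if p.1 = c then (p.2.2.2 : R) * t ^ p.2.1 * u ^ p.2.2.1 else 0).sum = 0
  | 0, v, h => by simp [pzero] at h; simp [h]
  | _ + 1, [], _ => rfl
  | n + 1, p :: v, h => by
    simp only [pzero, Bool.and_eq_true, decide_eq_true_eq] at h
    have ih := pzero_sum t u c n _ h.2
    have split : ∀ l : PV, (l.map fun q => if q.1 = c then (q.2.2.2 : R) * t ^ q.2.1 * u ^ q.2.2.1 else 0).sum =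
        (((l.filter (pkey p)).map fun q => q.2.2.2).sum : ℤ) * (if p.1 = c then t ^ p.2.1 * u ^ p.2.2.1 else 0) +
        ((l.filter fun q => !(pkey p q)).map fun q => if q.1 = c then (q.2.2.2 : R) * t ^ q.2.1 * u ^ q.2.2.1 else 0).sum := by
      intro l
      induction l with
      | nil => simp
      | cons q l ihl =>
        rw [List.map_cons, List.sum_cons, ihl]
        cases hk : pkey p q
        · simp [hk]; ring
        · simp only [pkey, nbeq, Bool.and_eq_true, decide_eq_true_eq] at hk
          obtain ⟨⟨e1, e2⟩, e3⟩ := hk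
          simp [pkey, nbeq, ← e1, ← e2, ← e3]
          split_ifs <;> ring
    rw [List.map_cons, List.sum_cons, split, ih, add_zero]
    have := h.1
    have e : ((((v.filter (pkey p)).map fun q => q.2.2.2).sum : ℤ) : R) = -(p.2.2.2 : R) := by
      rw [← Int.cast_neg]; congr 1; linarith
    rw [e]
    split_ifs <;> ring

theorem evalPV_append {R : Type*} [CommRing R] (t u : R) (v w : PV) :
    evalPV D P t u (v ++ w) = evalPV D P t u v + evalPV D P t u w := by
  funext x; simp [evalPV]

theorem evalPV_pneg {R : Type*} [CommRing R] (t u : R) (v : PV) :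
    evalPV D P t u (pneg v) = -evalPV D P t u v := by
  funext x
  induction v with
  | nil => simp [evalPV, pneg]
  | cons p v ih =>
    simp only [evalPV, pneg, List.map_cons, List.sum_cons, Pi.neg_apply] at ih ⊢
    rw [ih]
    split_ifs <;> simp
    ring

namespace Ok

variable (h : Ok D P)
include h

theorem cRoot_eq {r s : ℕ} (hr : r < P.nroots) (hs : s < P.nroots) (i : ℕ) :
    D.chainRoot r s i = P.cRoot r s i := by
  rw [ChevalleyDatum.chainRoot, h.chainEntry_eq hr hs, Pk.cRoot]

theorem cM'_eq {r s : ℕ} (hr : r < P.nroots) (hs : s < P.nroots) (i : ℕ) :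
    D.chainM r s i = P.cM' r s i := by
  rw [ChevalleyDatum.chainM, h.chainEntry_eq hr hs, Pk.cM']

theorem cRoot_lt {r s : ℕ} (hr : r < P.nroots) (hs : s < P.nroots) {i k : ℕ}
    (e : P.cRoot r s i = some k) : k < P.nroots := by
  by_cases hi : i - 1 < P.len r s
  · rw [Pk.cRoot, P.entry_getElem? hi] at e
    simp at e
    exact e ▸ h.tgt_lt hr hs hi
  · rw [Pk.cRoot, List.getElem?_eq_none_iff.2 (by rw [P.entry_length]; omega)] at e
    simp at e

theorem cterms_eq {r s : ℕ} (hr : r < P.nroots) (hs : s < P.nroots) :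
    D.commTerms r s = P.cterms r s := by
  have hb : ∀ a b, a < P.nroots → b < P.nroots → ∀ c < P.nroots, ∀ i,
      ((P.cRoot a b i).bind fun k => D.chainRoot k c 1) = (P.cRoot a b i).bind fun k => P.cRoot k c 1 := by
    intro a b ha hb c hc i
    cases e : P.cRoot a b i with
    | none => rfl
    | some k => exact h.cRoot_eq (h.cRoot_lt ha hb e) hc 1
  have hm : ∀ (f : ℤ → ℤ) (c : ℕ), c < P.nroots →
      ((P.cRoot r s 1).map fun k => f (D.chainM k c 2)) = (P.cRoot r s 1).map fun k => f (P.cM' k c 2) := by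
    intro f c hc
    cases e : P.cRoot r s 1 with
    | none => rfl
    | some k => simp [h.cM'_eq (h.cRoot_lt hr hs e) hc]
  have hm1 := hm (fun z => z / 3) r hr
  have hm2 := hm (fun z => -2 * z / 3) s hs
  simp only [ChevalleyDatum.commTerms, Pk.cterms, h.cRoot_eq hr hs, h.cRoot_eq hs hr, h.cM'_eq hr hs,
    h.cM'_eq hs hr, hb r s hr hs s hs 3, hb s r hs hr r hr 3]
  rw [hm1, hm2]

theorem cterms_lt {r s : ℕ} (hr : r < P.nroots) (hs : s < P.nroots) :
    ∀ c ∈ P.cterms r s, c.1 < P.nroots := by
  intro c hc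
  simp only [Pk.cterms, List.mem_filterMap] at hc
  obtain ⟨d, hd, e⟩ := hc
  simp only [Option.map_eq_some_iff] at e
  obtain ⟨k, hk, rfl⟩ := e
  simp only [List.mem_cons, List.not_mem_nil, or_false] at hd
  rcases hd with rfl | rfl | rfl | rfl | rfl | rfl | rfl
  · exact h.cRoot_lt hr hs hk
  · exact h.cRoot_lt hr hs hk
  · exact h.cRoot_lt hs hr hk
  · exact h.cRoot_lt hr hs hk
  · exact h.cRoot_lt hs hr hk
  · obtain ⟨j, hj, hk⟩ := Option.bind_eq_some_iff.1 hk
    exact h.cRoot_lt (h.cRoot_lt hr hs hj) hs hk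
  · obtain ⟨j, hj, hk⟩ := Option.bind_eq_some_iff.1 hk
    exact h.cRoot_lt (h.cRoot_lt hs hr hj) hr hk

theorem evalPV_xapp {R : Type*} [CommRing R] (t u : R) {g : ℕ × ℤ × ℕ × ℕ} (hg : g.1 < P.nroots)
    (v : PV) (hv : ∀ p ∈ v, p.1 < P.dim) :
    X D P g.1 ((g.2.1 : R) * t ^ g.2.2.1 * u ^ g.2.2.2) *ᵥ evalPV D P t u v =
      evalPV D P t u (P.xapp g v) ∧ ∀ p ∈ P.xapp g v, p.1 < P.dim := by
  constructor
  swap
  · intro p hp
    simp only [Pk.xapp, List.mem_flatMap, List.mem_map] at hp
    obtain ⟨q, hq, k, -, z, hz, rfl⟩ := hp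
    exact h.valid_colL hg (hv q hq) z hz
  induction v with
  | nil => funext x; simp [evalPV, Pk.xapp, Matrix.mulVec, dotProduct]
  | cons p v ih =>
    have ih' := ih fun q hq => hv q (List.mem_cons_of_mem _ hq)
    obtain ⟨x, hx⟩ := h.exists_code (hv p List.mem_cons_self)
    have e1 : evalPV D P t u (p :: v) =
        Pi.single x ((p.2.2.2 : R) * t ^ p.2.1 * u ^ p.2.2.1) + evalPV D P t u v := by
      funext y
      simp only [evalPV, List.map_cons, List.sum_cons, Pi.add_apply, Pi.single_apply, ← hx,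
        h.code_inj.eq_iff, eq_comm]
    have e2 : P.xapp g (p :: v) = P.xapp g [p] ++ P.xapp g v := by simp [Pk.xapp]
    rw [e1, e2, evalPV_append, Matrix.mulVec_add, ih']
    congr 1
    funext y
    rw [Matrix.mulVec_single, X]
    simp only [Matrix.col_apply, Pi.smul_apply, MulOpposite.smul_eq_mul_unop, MulOpposite.unop_op,
      Matrix.sum_apply, Matrix.smul_apply, smul_eq_mul, cM_apply, Finset.sum_mul, hx]
    have e3 : ∀ (k : ℕ) (l : V), ((l.map fun q =>
        (q.1, p.2.1 + k * g.2.2.1, p.2.2.1 + k * g.2.2.2, p.2.2.2 * g.2.1 ^ k * q.2)).map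
          fun z => if z.1 = code P y then (z.2.2.2 : R) * t ^ z.2.1 * u ^ z.2.2.1 else 0).sum =
        (cf l (code P y) : R) *
          ((p.2.2.2 : R) * t ^ p.2.1 * u ^ p.2.2.1 * ((g.2.1 : R) * t ^ g.2.2.1 * u ^ g.2.2.2) ^ k) := by
      intro k l
      induction l with
      | nil => simp [cf_nil]
      | cons q l ihl =>
        rw [List.map_cons, List.map_cons, List.sum_cons, ihl, cf_cons]
        by_cases hq : q.1 = code P y <;> simp [hq, mul_pow, ← pow_mul, pow_add] <;> ring
    simp only [evalPV, Pk.xapp, List.flatMap_cons, List.flatMap_nil, List.append_nil,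
      List.map_flatMap, List.range_succ, List.range_zero, List.nil_append, List.flatMap_append,
      List.map_append, List.sum_append, e3, Finset.sum_range_succ, Finset.range_zero, Finset.sum_empty,
      Ek, opM_apply, hx]
    ring

theorem evalPV_wapp {R : Type*} [CommRing R] (t u : R) :
    ∀ w : List (ℕ × ℤ × ℕ × ℕ), (∀ g ∈ w, g.1 < P.nroots) → ∀ v : PV, (∀ p ∈ v, p.1 < P.dim) →
    monWord D P t u w *ᵥ evalPV D P t u v = evalPV D P t u (P.wapp w v) ∧
      ∀ p ∈ P.wapp w v, p.1 < P.dim
  | [], _, v, hv => ⟨by simp [monWord, Pk.wapp], hv⟩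
  | g :: w, hw, v, hv => by
    obtain ⟨e, hv'⟩ := evalPV_wapp t u w (fun x hx => hw x (List.mem_cons_of_mem _ hx)) v hv
    obtain ⟨e2, hv2⟩ := h.evalPV_xapp t u (hw g List.mem_cons_self) _ hv'
    refine ⟨?_, hv2⟩
    show monWord D P t u (g :: w) *ᵥ _ = evalPV D P t u (P.xapp g (P.wapp w v))
    rw [← e2, ← e, Matrix.mulVec_mulVec]
    rfl

theorem monWord_aut {R : Type*} [CommRing R] (t u : R) :
    ∀ w : List (ℕ × ℤ × ℕ × ℕ), (∀ g ∈ w, g.1 < P.nroots) → AutP D P (monWord D P t u w)
  | [], _ => by simpa [monWord] using autP_one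
  | g :: w, hw => by
    have := autP_mul (h.X_aut (hw g List.mem_cons_self) ((g.2.1 : R) * t ^ g.2.2.1 * u ^ g.2.2.2))
      (monWord_aut t u w fun x hx => hw x (List.mem_cons_of_mem _ hx))
    simpa [monWord] using this

/-- Automorphisms agreeing on the fundamental root vectors are equal. -/
theorem aut_ext {R : Type*} [CommRing R] [IsDomain R] [CharZero R] {M N : Matrix D.Idx D.Idx R}
    (hM : AutP D P M) (hN : AutP D P N)
    (hg : ∀ i (hi : i < P.rank),
      M *ᵥ Pi.single (h.rootIdx (P.sim i) (h.sim_lt hi)) 1 = N *ᵥ Pi.single (h.rootIdx (P.sim i) (h.sim_lt hi)) 1 ∧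
      M *ᵥ Pi.single (h.rootIdx (P.ng (P.sim i)) (ng_lt (h.sim_lt hi))) 1 =
        N *ᵥ Pi.single (h.rootIdx (P.ng (P.sim i)) (ng_lt (h.sim_lt hi))) 1) : M = N := by
  have closed : ∀ a b, M *ᵥ a = N *ᵥ a → M *ᵥ b = N *ᵥ b →
      M *ᵥ (adR D P a *ᵥ b) = N *ᵥ (adR D P a *ᵥ b) := by
    intro a b ha hb
    rw [Matrix.mulVec_mulVec, Matrix.mulVec_mulVec, hM, hN, ← Matrix.mulVec_mulVec,
      ← Matrix.mulVec_mulVec, ha, hb]
  have root : ∀ r (hr : r < P.nroots),
      M *ᵥ Pi.single (h.rootIdx r hr) 1 = N *ᵥ Pi.single (h.rootIdx r hr) 1 := by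
    have hd := h.down
    simp only [Pk.ckDown, nbeq, List.all_eq_true, Pk.mem_allRoots, Bool.or_eq_true, Bool.and_eq_true,
      List.any_eq_true, List.mem_range, decide_eq_true_eq] at hd
    let m : ℕ → ℕ := fun r => if P.isPos r then r else P.nroots + (P.nroots - r)
    intro r hr
    induction hm : m r using Nat.strong_induction_on generalizing r with
    | _ n ih =>
      rcases hd r hr with ⟨i, hi, hs | hs⟩ | ⟨-, i, hi, s, hskey, htgt, hlt⟩
      · subst hs; exact (hg i hi).1
      · subst hs; exact (hg i hi).2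
      · generalize hgdef : (bif P.isPos r then P.sim i else P.ng (P.sim i)) = g at hskey htgt
        have hgn : g < P.nroots := by
          rw [← hgdef]; cases P.isPos r <;> simp [h.sim_lt hi, ng_lt (h.sim_lt hi)]
        obtain ⟨hsn, hl⟩ := (h.mem_keys hgn).1 hskey
        have hgen : M *ᵥ Pi.single (h.rootIdx g hgn) 1 = N *ᵥ Pi.single (h.rootIdx g hgn) 1 := by
          cases hp : P.isPos r <;> simp only [hp, cond_true, cond_false] at hgdef <;> subst hgdef
          · exact (hg i hi).2
          · exact (hg i hi).1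
        have hs' := ih (m s) (by
          cases hp : P.isPos r <;> simp [hp] at hlt <;> simp [m, hp, hlt.2] at hm ⊢ <;> omega) s hsn rfl
        have hc := closed _ _ hgen hs'
        have e : adR D P (Pi.single (h.rootIdx g hgn) (1 : R)) *ᵥ Pi.single (h.rootIdx s hsn) 1 =
            (P.coef g s 0 : R) • Pi.single (h.rootIdx r hr) 1 := by
          obtain ⟨h1, h2, -, -⟩ := h.range_spec hgn hskey
          have hcs : code P (h.rootIdx s hsn) = s := rfl
          rw [adR_single, h.AD_root hgn]
          funext y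
          rw [Matrix.mulVec_single_one, Matrix.col_apply, cM_apply, Ek, opM_apply, hcs,
            colL_gen one_ne_zero hsn h1 h2, if_pos (show 1 ≤ _ from hl), Nat.sub_self, htgt, cf_cons,
            cf_nil, Pi.smul_apply, Pi.single_apply]
          by_cases ey : y = h.rootIdx r hr
          · subst ey; simp [rootIdx, code]
          · have : r ≠ code P y := fun e2 => ey (h.code_inj (e2.symm.trans rfl))
            simp [ey, this]
        rw [e, Matrix.mulVec_smul, Matrix.mulVec_smul] at hc
        exact smul_right_injective _ (Int.cast_ne_zero.2 (h.coef_ne hgn hsn hl)) hc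
  ext row col
  have : M *ᵥ Pi.single col 1 = N *ᵥ Pi.single col 1 := by
    rcases col with j | s
    · have hj : j.val < P.rank := h.rank ▸ j.isLt
      have hp := h.sim_lt hj
      have hc := closed _ _ (hg j hj).1 (hg j hj).2
      have e : adR D P (Pi.single (h.rootIdx (P.sim j) hp) (1 : R)) *ᵥ
          Pi.single (h.rootIdx (P.ng (P.sim j)) (ng_lt hp)) 1 = Pi.single (Sum.inl j : D.Idx) 1 := by
        rw [adR_single, h.AD_root hp]
        funext y
        have hcs : code P (h.rootIdx (P.ng (P.sim j)) (ng_lt hp)) = P.ng (P.sim j) := rfl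
        rw [Matrix.mulVec_single_one, Matrix.col_apply, cM_apply, Ek, opM_apply, hcs,
          h.colL_ng one_ne_zero hp, if_pos rfl, cf_map_range, Pi.single_apply,
          ← List.sum_toFinset _ List.nodup_range, Finset.sum_eq_single j.val]
        · rw [h.co_sim hj hj, if_pos rfl]
          by_cases ey : y = Sum.inl j
          · subst ey; simp [code]
          · have : P.nroots + j.val ≠ code P y := fun e2 => ey (h.code_inj (e2.symm.trans rfl))
            simp [ey, this]
        · intro k hk hne
          rw [h.co_sim hj (by simpa using hk), if_neg (Ne.symm hne)]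
          simp
        · intro hn; exact absurd (by simpa using hj) hn
      rw [e] at hc
      exact hc
    · exact root s.val (h.slt s)
  simpa [Matrix.mulVec_single_one] using congrFun this row

theorem commB {R : Type*} [CommRing R] [IsDomain R] [CharZero R] {r s : ℕ} (hr : r < P.nroots)
    (hs : s < P.nroots) (hck : P.ckB r s = true) (t u : R) :
    monWord D P t u [(s, 1, 0, 1), (r, 1, 1, 0)] =
      monWord D P t u ([(r, 1, 1, 0), (s, 1, 0, 1)] ++ P.cword r s) := by
  have hl : ∀ g ∈ [(s, (1 : ℤ), 0, 1), (r, 1, 1, 0)], g.1 < P.nroots := by simp [hr, hs]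
  have hrr : ∀ g ∈ [(r, (1 : ℤ), 1, 0), (s, 1, 0, 1)] ++ P.cword r s, g.1 < P.nroots := by
    intro g hg
    simp only [List.mem_append, List.mem_cons, List.not_mem_nil, or_false, Pk.cword, List.mem_map] at hg
    rcases hg with (rfl | rfl) | ⟨c, hc, rfl⟩
    · exact hr
    · exact hs
    · exact h.cterms_lt hr hs c hc
  simp only [Pk.ckB, List.all_eq_true, List.mem_range] at hck
  refine h.aut_ext (h.monWord_aut t u _ hl) (h.monWord_aut t u _ hrr) fun i hi => ?_
  have hcol : ∀ (e : ℕ) (he : e < P.nroots), e ∈ [P.sim i, P.ng (P.sim i)] →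
      monWord D P t u [(s, 1, 0, 1), (r, 1, 1, 0)] *ᵥ Pi.single (h.rootIdx e he) 1 =
      monWord D P t u ([(r, 1, 1, 0), (s, 1, 0, 1)] ++ P.cword r s) *ᵥ Pi.single (h.rootIdx e he) 1 := by
    intro e he hmem
    have hv : ∀ p ∈ [(e, 0, 0, (1 : ℤ))], p.1 < P.dim := by
      intro p hp; simp at hp; subst hp; exact Nat.lt_of_lt_of_le he (Nat.le_add_right _ _)
    have hz := hck i hi e hmem
    have e0 : evalPV D P t u [(e, 0, 0, 1)] = Pi.single (h.rootIdx e he) 1 := by
      funext x
      have : code P (h.rootIdx e he) = e := rfl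
      simp only [evalPV, List.map_cons, List.map_nil, List.sum_cons, List.sum_nil, add_zero,
        Pi.single_apply]
      by_cases ex : x = h.rootIdx e he
      · subst ex; simp [this]
      · have : e ≠ code P x := fun e2 => ex (h.code_inj (e2.symm.trans this.symm))
        simp [ex, this]
    rw [← e0, (h.evalPV_wapp t u _ hl _ hv).1, (h.evalPV_wapp t u _ hrr _ hv).1, ← sub_eq_zero,
      sub_eq_add_neg, ← evalPV_pneg, ← evalPV_append]
    funext x
    exact pzero_sum t u (code P x) _ _ hz
  exact ⟨hcol _ _ (by simp), hcol _ _ (by simp)⟩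

theorem commute_of {a b : ℕ} (ha : a < P.nroots) (hb : b < P.nroots) (hck : P.commute2 a b = true)
    {R : Type*} [CommRing R] : Commute (cM D R (Ek D P 1 a)) (cM D R (Ek D P 1 b)) := by
  simp only [Pk.commute2, nbeq, Bool.and_eq_true, decide_eq_true_eq, Bool.not_eq_true',
    decide_eq_false_iff_not] at hck
  have hd := h.der ha (Pi.single (h.rootIdx b hb) 1)
  unfold DerV at hd
  rw [adZ_single, h.AD_root hb] at hd
  have e : Ek D P 1 a *ᵥ Pi.single (h.rootIdx b hb) 1 = 0 := by
    funext y
    have hcb : code P (h.rootIdx b hb) = b := rfl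
    rw [Matrix.mulVec_single_one, Matrix.col_apply, Ek, opM_apply, hcb]
    by_cases e1 : b = a
    · rw [e1, colL_self one_ne_zero ha]; rfl
    · rw [colL_gen one_ne_zero hb e1 hck.2, if_neg (by omega)]; rfl
  rw [e, adZ_zero, sub_eq_zero] at hd
  show cM D R _ * cM D R _ = cM D R _ * cM D R _
  rw [← map_mul, ← map_mul, hd]

section exp

variable {K : Type*} [Field K] [CharZero K]

theorem E_pow {a : ℕ} (ha : a < P.nroots) :
    ∀ k, (cM D K (Ek D P 1 a)) ^ k = (k.factorial : K) • cM D K (Ek D P k a)
  | 0 => by simp [h.Ek_zero]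
  | k + 1 => by
    rw [pow_succ', E_pow ha k, mul_smul_comm, ← map_mul, h.Ek_succ ha, cM_smul, smul_smul,
      Nat.factorial_succ]
    push_cast
    rw [mul_comm]

theorem nilp {a : ℕ} (ha : a < P.nroots) (t : K) : IsNilpotent (t • cM D K (Ek D P 1 a)) :=
  ⟨4, by rw [smul_pow, h.E_pow ha, h.cM_Ek_ge ha le_rfl, smul_zero, smul_zero]⟩

theorem X_exp {a : ℕ} (ha : a < P.nroots) (t : K) :
    X D P a t = IsNilpotent.exp (t • cM D K (Ek D P 1 a)) := by
  have h4 : (t • cM D K (Ek D P 1 a)) ^ 4 = 0 := by
    rw [smul_pow, h.E_pow ha, h.cM_Ek_ge ha le_rfl, smul_zero, smul_zero]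
  rw [IsNilpotent.exp_eq_sum h4, X]
  refine Finset.sum_congr rfl fun k _ => ?_
  rw [smul_pow, h.E_pow ha, smul_smul, ← Rat.cast_smul_eq_qsmul K, smul_smul]
  congr 1
  push_cast
  have : (k.factorial : K) ≠ 0 := Nat.cast_ne_zero.2 k.factorial_ne_zero
  field_simp

theorem exp_list : ∀ L : List (ℕ × K), (∀ p ∈ L, p.1 < P.nroots) →
    P.commuteAll (L.map Prod.fst) = true →
    IsNilpotent (L.map fun p => p.2 • cM D K (Ek D P 1 p.1)).sum ∧
      (L.map fun p => X D P p.1 p.2).prod =
        IsNilpotent.exp (L.map fun p => p.2 • cM D K (Ek D P 1 p.1)).sum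
  | [], _, _ => by simp
  | p :: L, hL, hc => by
    simp only [List.map_cons, Pk.commuteAll, Bool.and_eq_true, List.all_eq_true] at hc
    have hL' : ∀ q ∈ L, q.1 < P.nroots := fun q hq => hL q (List.mem_cons_of_mem _ hq)
    obtain ⟨hn, he⟩ := exp_list L hL' hc.2
    have hp := hL p List.mem_cons_self
    have hcomm : Commute (p.2 • cM D K (Ek D P 1 p.1))
        (L.map fun q => q.2 • cM D K (Ek D P 1 q.1)).sum := by
      refine Commute.list_sum_right _ _ fun x hx => ?_
      obtain ⟨q, hq, rfl⟩ := List.mem_map.1 hx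
      exact ((h.commute_of hp (hL' q hq) (hc.1 q.1 (List.mem_map_of_mem hq))).smul_left _).smul_right _
    simp only [List.map_cons, List.sum_cons, List.prod_cons]
    exact ⟨hcomm.isNilpotent_add (h.nilp hp _) hn,
      by rw [IsNilpotent.exp_add_of_commute hcomm (h.nilp hp _) hn, ← he, h.X_exp hp]⟩

theorem commA {r s : ℕ} (hr : r < P.nroots) (hs : s < P.nroots) (hsr : s ≠ r) (hsn : s ≠ P.ng r)
    (hck : P.ckA r s = true) (t u : K) :
    monWord D P t u [(s, 1, 0, 1), (r, 1, 1, 0)] =
      monWord D P t u ([(r, 1, 1, 0), (s, 1, 0, 1)] ++ P.cword r s) := by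
  simp only [Pk.ckA, Bool.and_eq_true, decide_eq_true_eq] at hck
  obtain ⟨hterms, hcomm⟩ := hck
  have hlen := h.len_lt hr hs
  set L : List (ℕ × K) := (s, u) :: (List.range (P.len r s)).map
    (fun k => (P.tgt r s k, u * ((-t) ^ (k + 1) * (P.coef r s k : K)))) with hLdef
  have hL : ∀ p ∈ L, p.1 < P.nroots := by
    intro p hp
    simp only [hLdef, List.mem_cons, List.mem_map, List.mem_range] at hp
    rcases hp with rfl | ⟨k, hk, rfl⟩
    · exact hs
    · exact h.tgt_lt hr hs hk
  have hfst : L.map Prod.fst = s :: (P.straight r s).map Prod.fst := by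
    simp [hLdef, Pk.straight, Function.comp_def]
  obtain ⟨hn, he⟩ := h.exp_list L hL (hfst ▸ hcomm)
  have e1 : monWord D P t u ([(r, 1, 1, 0), (s, 1, 0, 1)] ++ P.cword r s) =
      X D P r t * (L.map fun p => X D P p.1 p.2).prod := by
    simp only [monWord, hLdef, Pk.cword, hterms, Pk.straight, List.map_append, List.map_cons,
      List.map_nil, List.prod_append, List.prod_cons, List.prod_nil, List.map_map, mul_assoc, one_mul,
      mul_one, pow_zero, pow_one, Int.cast_one, Function.comp_def]
    congr 3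
    refine List.map_congr_left fun k _ => ?_
    congr 1
    rw [neg_pow]
    push_cast
    ring
  have e2 : monWord D P t u [(s, 1, 0, 1), (r, 1, 1, 0)] = X D P s u * X D P r t := by
    simp [monWord]
  have key : X D P r (-t) * (u • cM D K (Ek D P 1 s)) * X D P r t =
      (L.map fun p => p.2 • cM D K (Ek D P 1 p.1)).sum := by
    have ha := h.X_aut hr (-t) (Pi.single (h.rootIdx s hs) u)
    have e3 : adR D P (Pi.single (h.rootIdx s hs) u) = u • cM D K (Ek D P 1 s) := by
      rw [show (Pi.single (h.rootIdx s hs) u : D.Idx → K) = u • Pi.single (h.rootIdx s hs) 1 by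
        rw [← Pi.single_smul, smul_eq_mul, mul_one], adR_smul, adR_single, h.AD_root hs]
    rw [e3] at ha
    rw [ha, mul_assoc, h.X_add hr, neg_add_cancel, h.X_zero, mul_one]
    set w : D.Idx → K := Pi.single (h.rootIdx s hs) u + ∑ k ∈ (Finset.range (P.len r s)).attach,
      Pi.single (h.rootIdx (P.tgt r s k.1) (h.tgt_lt hr hs (Finset.mem_range.1 k.2)))
        (u * ((-t) ^ (k.1 + 1) * (P.coef r s k.1 : K))) with hw
    have ew : X D P r (-t) *ᵥ Pi.single (h.rootIdx s hs) u = w := by
      funext y
      have hcs : code P (h.rootIdx s hs) = s := rfl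
      rw [Matrix.mulVec_single, X]
      simp only [Matrix.col_apply, Pi.smul_apply, MulOpposite.smul_eq_mul_unop, MulOpposite.unop_op,
        Matrix.sum_apply, Matrix.smul_apply, smul_eq_mul, cM_apply, hw, Pi.add_apply, Finset.sum_apply,
        Pi.single_apply, Ek, opM_apply, hcs]
      have hy : ∀ a (ha : a < P.nroots), (y = h.rootIdx a ha ↔ a = code P y) := fun a ha =>
        ⟨fun e => e ▸ rfl, fun e => h.code_inj (e.symm.trans rfl)⟩
      simp only [hy]
      rw [Finset.sum_attach (Finset.range (P.len r s))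
        (fun k => if P.tgt r s k = code P y then u * ((-t) ^ (k + 1) * (P.coef r s k : K)) else 0)]
      simp only [Finset.sum_range_succ, Finset.range_zero, Finset.sum_empty, zero_add,
        colL_gen one_ne_zero hs hsr hsn, colL_gen (by norm_num : (2 : ℕ) ≠ 0) hs hsr hsn,
        colL_gen (by norm_num : (3 : ℕ) ≠ 0) hs hsr hsn]
      obtain hl | hl | hl | hl : P.len r s = 0 ∨ P.len r s = 1 ∨ P.len r s = 2 ∨ P.len r s = 3 := by omega
      all_goals (try simp [hl, Pk.colL, cf_cons, cf_nil, Finset.sum_range_succ])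
      all_goals (split_ifs <;> (try simp) <;> (try ring))
    rw [ew, hw]
    simp only [hLdef, List.map_cons, List.sum_cons, List.map_map, Function.comp_def]
    rw [adR_add, e3]
    congr 1
    rw [← List.sum_toFinset _ List.nodup_range, List.toFinset_range,
      ← Finset.sum_attach (Finset.range (P.len r s))]
    have : ∀ S : Finset {x // x ∈ Finset.range (P.len r s)},
        adR D P (∑ k ∈ S, Pi.single (h.rootIdx (P.tgt r s k.1) (h.tgt_lt hr hs (Finset.mem_range.1 k.2)))
          (u * ((-t) ^ (k.1 + 1) * (P.coef r s k.1 : K)))) =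
        ∑ k ∈ S, (u * ((-t) ^ (k.1 + 1) * (P.coef r s k.1 : K))) • cM D K (Ek D P 1 (P.tgt r s k.1)) := by
      intro S
      induction S using Finset.induction_on with
      | empty => simp [adR_zero]
      | insert k S hk ih =>
        rw [Finset.sum_insert hk, Finset.sum_insert hk, adR_add, ih]
        congr 1
        rw [show ∀ (x : D.Idx) (c : K), (Pi.single x c : D.Idx → K) = c • Pi.single x 1 from
          fun x c => by rw [← Pi.single_smul, smul_eq_mul, mul_one], adR_smul, adR_single, h.AD_root]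
    exact this _
  rw [e1, e2, he, ← key]
  set A := u • cM D K (Ek D P 1 s) with hA
  let conj : Matrix D.Idx D.Idx K →+* Matrix D.Idx D.Idx K :=
    { toFun := fun M => X D P r (-t) * M * X D P r t
      map_one' := by rw [mul_one, h.X_add hr, neg_add_cancel, h.X_zero]
      map_mul' := fun M N => by
        have : X D P r t * X D P r (-t) = 1 := by rw [h.X_add hr, add_neg_cancel, h.X_zero]
        calc X D P r (-t) * (M * N) * X D P r t
            = X D P r (-t) * M * 1 * N * X D P r t := by simp [mul_assoc]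
          _ = _ := by rw [← this]; simp only [mul_assoc]
      map_zero' := by simp
      map_add' := fun M N => by rw [mul_add, add_mul] }
  have hmap := IsNilpotent.map_exp (h.nilp hs u) conj
  rw [show X D P r (-t) * A * X D P r t = conj A from rfl, ← hmap,
    show conj (IsNilpotent.exp A) = X D P r (-t) * IsNilpotent.exp A * X D P r t from rfl,
    ← mul_assoc, ← mul_assoc, h.X_add hr, add_neg_cancel, h.X_zero, one_mul, h.X_exp hs]

end exp

/-- The commutator formula over any commutative ring. -/
theorem comm_formula (hck : P.ckComm = true) {R : Type*} [CommRing R] {r s : ℕ} (hr : r < P.nroots)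
    (hs : s < P.nroots) (hsr : s ≠ r) (hsn : s ≠ P.ng r) (t u : R) :
    X D P s u * X D P r t = X D P r t * X D P s u *
      monWord D P t u (P.cword r s) := by
  simp only [Pk.ckComm, List.all_eq_true, Pk.mem_allRoots, Bool.and_eq_true, Bool.or_eq_true,
    Nat.blt_eq] at hck
  suffices hu : monWord D P t u [(s, 1, 0, 1), (r, 1, 1, 0)] =
      monWord D P t u ([(r, 1, 1, 0), (s, 1, 0, 1)] ++ P.cword r s) by
    simpa [monWord, mul_assoc] using hu
  have hchoice : P.ckA r s = true ∨ P.ckB r s = true := by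
    by_cases hk : 0 < P.len r s
    · exact (hck r hr s ((h.mem_keys hr).2 ⟨hs, hk⟩)).2
    · left
      have hsr' : P.len s r = 0 := by
        by_contra hne
        exact hk (hck s hs r ((h.mem_keys hs).2 ⟨hr, Nat.pos_of_ne_zero hne⟩)).1
      have h0 : P.len r s = 0 := by omega
      simp [Pk.ckA, Pk.cterms, Pk.straight, Pk.cRoot, Pk.entry, Pk.commuteAll, h0, hsr']
  set S := MvPolynomial (Fin 2) ℤ
  set T : S := MvPolynomial.X 0
  set U : S := MvPolynomial.X 1
  have huniv : monWord D P T U [(s, 1, 0, 1), (r, 1, 1, 0)] =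
      monWord D P T U ([(r, 1, 1, 0), (s, 1, 0, 1)] ++ P.cword r s) := by
    rcases hchoice with hA | hB
    · let K := FractionRing S
      let f : S →+* K := algebraMap S K
      haveI : CharZero K := charZero_of_injective_ringHom (IsFractionRing.injective S K)
      apply Matrix.map_injective (IsFractionRing.injective S K)
      show (monWord D P T U _).map f = (monWord D P T U _).map f
      rw [monWord_map, monWord_map]
      exact h.commA hr hs hsr hsn hA _ _
    · exact h.commB hr hs hB T U
  have := congrArg (fun M : Matrix D.Idx D.Idx S => M.map (MvPolynomial.eval₂Hom (Int.castRingHom R) ![t, u])) huniv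
  have e1 : MvPolynomial.eval₂Hom (Int.castRingHom R) ![t, u] T = t := MvPolynomial.eval₂_X _ _ _
  have e2 : MvPolynomial.eval₂Hom (Int.castRingHom R) ![t, u] U = u := MvPolynomial.eval₂_X _ _ _
  simp only [monWord_map, e1, e2] at this
  exact this

theorem wordMat_commWord {F : Type*} [Field F] {r s : ℕ} (hr : r < P.nroots) (hs : s < P.nroots)
    (t u : F) : D.wordMat F (D.commWord F r s t u) = monWord D P t u (P.cword r s) := by
  rw [ChevalleyDatum.wordMat, ChevalleyDatum.commWord, h.cterms_eq hr hs, monWord, Pk.cword,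
    List.map_map, List.map_map]
  congr 1
  refine List.map_congr_left fun c hc => ?_
  simp only [Function.comp_apply]
  rw [h.x_eq (h.cterms_lt hr hs c hc)]
  congr 1
  rw [neg_pow]
  push_cast
  ring

/-- The commutator formula in the notation of the definitions. -/
theorem x_comm (hck : P.ckComm = true) {F : Type*} [Field F] {r s : ℕ} (hr : r < P.nroots)
    (hs : s < P.nroots) (hsr : s ≠ r) (hsn : s ≠ P.ng r) (t u : F) :
    D.x F s u * D.x F r t = D.x F r t * D.x F s u * D.wordMat F (D.commWord F r s t u) := by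
  rw [h.x_eq hr, h.x_eq hs, h.wordMat_commWord hr hs, h.comm_formula hck hr hs hsr hsn]

end Ok

end Cfsg.Agent.Chev
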