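/-
The subgroups G, H, N, words in the fundamental reflections.
-/
import Cfsg.Agent.Lib.Chev.Group

set_option autoImplicit false

namespace Cfsg.Agent.Chev

open Cfsg.Lie
open scoped Matrix

/-- Action of a word of fundamental reflections on root indices. -/
def wl (P : Pk) : List ℕ → ℕ → ℕ
  | [], r => r
  | i :: l, r => P.w i (wl P l r)

/-- All letters of a word are nodes. -/
def WordOk (P : Pk) (l : List ℕ) : Prop := ∀ i ∈ l, i < P.rank

theorem wl_append (P : Pk) (a b : List ℕ) (r : ℕ) : wl P (a ++ b) r = wl P a (wl P b r) := by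
  induction a with
  | nil => rfl
  | cons i a ih => simp [wl, ih]

variable {D : ChevalleyDatum} {P : Pk} {F : Type*} [Field F]

theorem WordOk.tail {i : ℕ} {l : List ℕ} (hl : WordOk P (i :: l)) : WordOk P l :=
  fun j hj => hl j (List.mem_cons_of_mem _ hj)

theorem WordOk.head {i : ℕ} {l : List ℕ} (hl : WordOk P (i :: l)) : i < P.rank :=
  hl i List.mem_cons_self

theorem prod_zpow {ι : Type*} {S : Finset ι} {t : F} (ht : t ≠ 0) (f : ι → ℤ) :
    ∏ x ∈ S, t ^ f x = t ^ ∑ x ∈ S, f x := by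
  classical
  induction S using Finset.induction_on with
  | empty => simp
  | insert a S ha ih => rw [Finset.prod_insert ha, Finset.sum_insert ha, ih, zpow_add₀ ht]

/-- The character of a vector of parameters. -/
def hchar (P : Pk) (c : Fin P.rank → Fˣ) (s : ℕ) : F := ∏ i : Fin P.rank, (c i : F) ^ P.A i s

namespace Ok

variable (h : Ok D P)
include h

/-- Induction on roots along fundamental reflections. -/
theorem root_induction {Q : ℕ → Prop} (hsim : ∀ i < P.rank, Q (P.sim i))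
    (hw : ∀ i < P.rank, ∀ r < P.nroots, Q r → Q (P.w i r)) : ∀ r < P.nroots, Q r := by
  have hd := h.down
  simp only [Pk.ckDown, nbeq, List.all_eq_true, Pk.mem_allRoots, Bool.or_eq_true, Bool.and_eq_true,
    List.any_eq_true, List.mem_range, decide_eq_true_eq] at hd
  let m : ℕ → ℕ := fun r => if P.isPos r then r else P.nroots + (P.nroots - r)
  intro r hr
  induction hm : m r using Nat.strong_induction_on generalizing r with
  | _ n ih =>
    rcases hd r hr with ⟨i, hi, hs | hs⟩ | ⟨⟨i, hi, hwr⟩, -⟩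
    · exact hs ▸ hsim i hi
    · rw [hs, ← h.w_sim hi]; exact hw i hi _ (h.sim_lt hi) (hsim i hi)
    · have hlt := h.w_lt hi hr
      have : Q (P.w i r) := by
        refine ih (m (P.w i r)) ?_ _ hlt rfl
        cases hp : P.isPos r
        · simp [hp] at hwr
          simp [m, hp, hwr.2] at hm ⊢
          omega
        · simp [hp] at hwr
          simp [m, hp, hwr.2] at hm ⊢
          omega
      have := hw i hi _ hlt this
      rwa [h.w_w hi hr] at this

theorem mem_group_of_xG (r : ℕ) (t : F) : h.xG r t ∈ D.group F := by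
  by_cases hr : r < P.nroots
  · refine Subgroup.subset_closure ⟨⟨r, h.nroots ▸ hr⟩, t, ?_⟩
    rw [h.coe_xG, ChevalleyDatum.x, dif_pos]
  · rw [xG, dif_neg hr]; exact one_mem _

theorem group_le {S : Subgroup (GL D.Idx F)} (hS : ∀ r < P.nroots, ∀ t : F, h.xG r t ∈ S) :
    D.group F ≤ S := by
  refine (Subgroup.closure_le _).2 ?_
  rintro g ⟨r, t, hg⟩
  have : g = h.xG r.val t := h.eq_xG_iff.1 (by rw [hg, ChevalleyDatum.x, dif_pos r.isLt])
  exact this ▸ hS r.val (h.slt r) t

theorem rootSubgroup_eq (r : ℕ) :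
    (D.rootSubgroup F r : Set (GL D.Idx F)) = Set.range (h.xG r) := by
  let S : Subgroup (GL D.Idx F) :=
    { carrier := Set.range (h.xG r)
      one_mem' := ⟨0, h.xG_zero r⟩
      mul_mem' := by rintro _ _ ⟨t, rfl⟩ ⟨u, rfl⟩; exact ⟨t + u, (h.xG_add r t u).symm⟩
      inv_mem' := by rintro _ ⟨t, rfl⟩; exact ⟨-t, (h.xG_inv r t).symm⟩ }
  have : D.rootSubgroup F r = S := by
    refine le_antisymm ((Subgroup.closure_le _).2 ?_) ?_
    · rintro g ⟨t, hg⟩; exact ⟨t, (h.eq_xG_iff.1 hg).symm⟩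
    · rintro _ ⟨t, rfl⟩; exact Subgroup.subset_closure ⟨t, h.coe_xG r t⟩
  rw [this]; rfl

theorem mem_rootSubgroup {r : ℕ} (t : F) : h.xG r t ∈ D.rootSubgroup F r :=
  Subgroup.subset_closure ⟨t, h.coe_xG r t⟩

theorem xG_mem_pos {r : ℕ} (hr : P.isPos r = true) (t : F) : h.xG r t ∈ D.posUnipotent F :=
  Subgroup.subset_closure ⟨r, t, (h.isPosRoot_iff r).2 hr, h.coe_xG r t⟩

theorem xG_mem_neg {r : ℕ} (hr : r < P.nroots) (hp : P.isPos r = false) (t : F) :
    h.xG r t ∈ D.negUnipotent F :=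
  Subgroup.subset_closure ⟨r, t, (h.isNegRoot_iff r).2 ⟨hr, hp⟩, h.coe_xG r t⟩

theorem posUnipotent_le {S : Subgroup (GL D.Idx F)}
    (hS : ∀ r, P.isPos r = true → ∀ t : F, h.xG r t ∈ S) : D.posUnipotent F ≤ S := by
  refine (Subgroup.closure_le _).2 ?_
  rintro g ⟨r, t, hr, hg⟩
  exact h.eq_xG_iff.1 hg ▸ hS r ((h.isPosRoot_iff r).1 hr) t

theorem negUnipotent_le {S : Subgroup (GL D.Idx F)}
    (hS : ∀ r < P.nroots, P.isPos r = false → ∀ t : F, h.xG r t ∈ S) : D.negUnipotent F ≤ S := by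
  refine (Subgroup.closure_le _).2 ?_
  rintro g ⟨r, t, hr, hg⟩
  obtain ⟨h1, h2⟩ := (h.isNegRoot_iff r).1 hr
  exact h.eq_xG_iff.1 hg ▸ hS r h1 h2 t

theorem sup_pos_neg : D.posUnipotent F ⊔ D.negUnipotent F = D.group F := by
  refine le_antisymm (sup_le (h.posUnipotent_le fun r _ t => h.mem_group_of_xG r t)
    (h.negUnipotent_le fun r _ _ t => h.mem_group_of_xG r t)) (h.group_le fun r hr t => ?_)
  cases hp : P.isPos r
  · exact Subgroup.mem_sup_right (h.xG_mem_neg hr hp t)
  · exact Subgroup.mem_sup_left (h.xG_mem_pos hp t)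

theorem isChar_hchar (c : Fin P.rank → Fˣ) : IsChar P (hchar P c) := by
  have h1 : IsChar P (fun _ => (1 : F)) :=
    ⟨fun _ _ => one_ne_zero, fun _ _ => inv_one.symm, fun _ _ _ _ _ _ => by simp⟩
  have : ∀ S : Finset (Fin P.rank), IsChar P (fun s => ∏ i ∈ S, (c i : F) ^ P.A i s) := by
    intro S
    induction S using Finset.induction_on with
    | empty => simpa using h1
    | insert i S hi ih =>
      simp only [Finset.prod_insert hi]
      refine h.isChar_mul ?_ ih
      have e : (fun s => (c i : F) ^ P.A i s) = fun s => (c i : F) ^ P.pair (P.sim i) s := by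
        funext s; rw [h.pair_sim i.isLt]
      rw [e]; exact h.isChar_pair (c i).ne_zero
  exact this Finset.univ

theorem hchar_mul (c d : Fin P.rank → Fˣ) (s : ℕ) :
    hchar P (c * d) s = hchar P c s * hchar P d s := by
  simp [hchar, mul_zpow, Finset.prod_mul_distrib]

/-- The parametrisation of `H`. -/
def hHom : (Fin P.rank → Fˣ) →* GL D.Idx F where
  toFun c := h.dG (h.isChar_hchar c)
  map_one' := by
    apply Units.ext
    rw [h.coe_dG, Units.val_one, ← dM_one (D := D)]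
    congr 1
    funext s; simp [hchar]
  map_mul' c d := (h.dG_mul (h.isChar_hchar c) (h.isChar_hchar d) (h.isChar_hchar (c * d))
    fun s _ => h.hchar_mul c d s).symm

theorem coe_hHom (c : Fin P.rank → Fˣ) :
    ((h.hHom c : GL D.Idx F) : Matrix D.Idx D.Idx F) = dM D (hchar P c) := rfl

theorem hHom_single (i : Fin P.rank) (t : Fˣ) :
    h.hHom (Pi.mulSingle i t) = h.ht (P.sim i) (t : F) := by
  rw [h.ht_eq (h.sim_lt i.isLt) t.ne_zero]
  apply Units.ext
  rw [h.coe_hHom, h.coe_dG]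
  congr 1
  funext s
  rw [h.pair_sim i.isLt, hchar, Finset.prod_eq_single i]
  · simp
  · intro j _ hj; simp [Pi.mulSingle_eq_of_ne hj]
  · simp

theorem ht_mem_range {r : ℕ} (hr : r < P.nroots) {t : F} (ht' : t ≠ 0) :
    h.ht r t ∈ (h.hHom (F := F)).range := by
  refine ⟨fun i => (Units.mk0 t ht') ^ P.co r i, ?_⟩
  rw [h.ht_eq hr ht']
  apply Units.ext
  rw [h.coe_hHom, h.coe_dG]
  congr 1
  funext s
  simp only [hchar, Units.val_zpow_eq_zpow_val, Units.val_mk0, ← zpow_mul]
  rw [prod_zpow ht', Pk.pair, ← List.sum_toFinset _ List.nodup_range]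
  congr 1
  rw [show (List.range P.rank).toFinset = Finset.range P.rank by ext; simp,
    Fin.sum_univ_eq_sum_range (fun i => P.co r i * P.A i s)]

theorem diagonal_eq : D.diagonalSubgroup F = (h.hHom (F := F)).range := by
  refine le_antisymm ((Subgroup.closure_le _).2 ?_) ?_
  · rintro g ⟨r, t, hr, ht0, hg⟩
    have hr' : r < P.nroots := h.nroots ▸ hr
    rw [← h.coe_ht hr'] at hg
    exact Units.ext hg ▸ h.ht_mem_range hr' ht0
  · rintro _ ⟨c, rfl⟩
    refine Subgroup.mem_comap.1 (Subgroup.pi_mem_of_mulSingle_mem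
      (H := (D.diagonalSubgroup F).comap h.hHom) c fun i => ?_)
    rw [Subgroup.mem_comap, h.hHom_single]
    exact Subgroup.subset_closure ⟨P.sim i, _, h.nroots.symm ▸ h.sim_lt i.isLt, (c i).ne_zero,
      h.coe_ht (h.sim_lt i.isLt) _⟩

theorem ht_mem {r : ℕ} (hr : r < P.nroots) {t : F} (ht' : t ≠ 0) :
    h.ht r t ∈ D.diagonalSubgroup F := by rw [h.diagonal_eq]; exact h.ht_mem_range hr ht'

theorem mem_diagonal_iff {g : GL D.Idx F} :
    g ∈ D.diagonalSubgroup F ↔ ∃ c, h.hHom c = g := by rw [h.diagonal_eq]; rfl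

theorem hHom_xG (c : Fin P.rank → Fˣ) {r : ℕ} (hr : r < P.nroots) (t : F) :
    h.hHom c * h.xG r t * (h.hHom c)⁻¹ = h.xG r (hchar P c r * t) :=
  h.dG_xG (h.isChar_hchar c) hr t

theorem nG_hHom {i : ℕ} (hi : i < P.rank) (c : Fin P.rank → Fˣ) :
    h.nG i * h.hHom c * (h.nG i)⁻¹ ∈ D.diagonalSubgroup F := by
  have hmem : h.hHom c ∈ D.diagonalSubgroup F := h.mem_diagonal_iff.2 ⟨c, rfl⟩
  revert hmem
  generalize h.hHom c = g
  intro hg
  induction hg using Subgroup.closure_induction with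
  | mem g hg =>
    obtain ⟨r, t, hr, ht0, hgeq⟩ := hg
    have hr' : r < P.nroots := h.nroots ▸ hr
    rw [← h.coe_ht hr'] at hgeq
    rw [Units.ext hgeq, ht, show ∀ x y g : GL D.Idx F, g * (x * y) * g⁻¹ = (g * x * g⁻¹) * (g * y * g⁻¹) by
      intros; group, h.nG_nt hi hr', h.nG_nt hi hr']
    have hη : (P.eta i r : F) ≠ 0 := by rcases h.eta_cases i r with e | e <;> simp [e]
    have e1 : ∀ a : F, h.nt (P.w i r) a * h.nt (P.w i r) ((P.eta i r : F) * -1) =
        h.ht (P.w i r) a * (h.ht (P.w i r) ((P.eta i r : F)))⁻¹ := by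
      intro a
      rw [ht, ht, mul_neg, mul_one, h.nt_neg (P.w i r) ((P.eta i r : F)), mul_inv_rev,
        ← h.nt_neg (P.w i r) (-1 : F), neg_neg]
      simp [h.nt_neg, mul_assoc]
    rw [e1]
    exact mul_mem (h.ht_mem (h.w_lt hi hr') (mul_ne_zero hη ht0))
      (inv_mem (h.ht_mem (h.w_lt hi hr') hη))
  | one => simp [one_mem]
  | mul a b _ _ ha hb =>
    rw [show h.nG i * (a * b) * (h.nG i)⁻¹ = (h.nG i * a * (h.nG i)⁻¹) * (h.nG i * b * (h.nG i)⁻¹) by group]
    exact mul_mem ha hb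
  | inv a _ ha =>
    rw [show h.nG i * a⁻¹ * (h.nG i)⁻¹ = (h.nG i * a * (h.nG i)⁻¹)⁻¹ by group]
    exact inv_mem ha

theorem nG_sq {i : ℕ} (hi : i < P.rank) :
    h.nG (F := F) i * h.nG i ∈ D.diagonalSubgroup F := by
  have : h.nG (F := F) i * h.nG i = h.ht (P.sim i) (-1 : F) := by
    rw [nG, ht, h.nt_mul_nt (h.sim_lt hi) one_ne_zero one_ne_zero,
      h.nt_mul_nt (h.sim_lt hi) (neg_ne_zero.2 one_ne_zero) (neg_ne_zero.2 one_ne_zero)]
    apply Units.ext
    simp only [h.coe_dG, neg_div_neg_eq]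
  rw [this]
  exact h.ht_mem (h.sim_lt hi) (neg_ne_zero.2 one_ne_zero)

theorem nG_normalizer {i : ℕ} (hi : i < P.rank) :
    h.nG i ∈ Subgroup.normalizer (D.diagonalSubgroup F : Set (GL D.Idx F)) := by
  rw [Subgroup.mem_normalizer_iff]
  intro g
  have hfwd : ∀ x : GL D.Idx F, x ∈ D.diagonalSubgroup F → h.nG i * x * (h.nG i)⁻¹ ∈ D.diagonalSubgroup F := by
    intro x hx
    obtain ⟨c, rfl⟩ := h.mem_diagonal_iff.1 hx
    exact h.nG_hHom hi c
  refine ⟨hfwd g, fun hg => ?_⟩
  have h2 := hfwd _ hg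
  have h3 := mul_mem (mul_mem (inv_mem (h.nG_sq (F := F) hi)) h2) (h.nG_sq (F := F) hi)
  convert h3 using 1
  group

theorem nt_mem_monomial {r : ℕ} (hr : r < P.nroots) :
    h.nt r (1 : F) ∈ D.diagonalSubgroup F ⊔
      Subgroup.closure (Set.range fun i : Fin P.rank => h.nG (F := F) i) := by
  set S := D.diagonalSubgroup F ⊔ Subgroup.closure (Set.range fun i : Fin P.rank => h.nG (F := F) i)
  refine h.root_induction (Q := fun r => h.nt r (1 : F) ∈ S) (fun i hi => ?_) (fun i hi r hr hm => ?_) r hr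
  · exact Subgroup.mem_sup_right (Subgroup.subset_closure ⟨⟨i, hi⟩, rfl⟩)
  · have hn : h.nG (F := F) i ∈ S := Subgroup.mem_sup_right (Subgroup.subset_closure ⟨⟨i, hi⟩, rfl⟩)
    have hη : (P.eta i r : F) ≠ 0 := by rcases h.eta_cases i r with e | e <;> simp [e]
    have hsq : (P.eta i r : F) * P.eta i r = 1 := by rw [← Int.cast_mul, eta_sq, Int.cast_one]
    have e := h.nG_nt hi hr (P.eta i r : F)
    rw [hsq] at e
    rw [← e, h.nt_eq_ht_mul r]
    exact mul_mem (mul_mem hn (mul_mem (Subgroup.mem_sup_left (h.ht_mem hr hη)) hm)) (inv_mem hn)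

theorem monomial_eq : D.monomialSubgroup F =
    D.diagonalSubgroup F ⊔ Subgroup.closure (Set.range fun i : Fin P.rank => h.nG (F := F) i) := by
  refine le_antisymm (sup_le le_sup_left ((Subgroup.closure_le _).2 ?_))
    (sup_le_sup_left (Subgroup.closure_mono ?_) _)
  · rintro g ⟨r, hr, hg⟩
    have hr' : r < P.nroots := h.nroots ▸ hr
    exact ((h.eq_nt_iff hr').1 hg) ▸ h.nt_mem_monomial hr'
  · rintro _ ⟨i, rfl⟩
    exact ⟨P.sim i, h.nroots.symm ▸ h.sim_lt i.isLt, h.coe_nt (h.sim_lt i.isLt) 1⟩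

theorem nG_mem {i : ℕ} (hi : i < P.rank) : h.nG (F := F) i ∈ D.monomialSubgroup F :=
  by rw [h.monomial_eq]; exact Subgroup.mem_sup_right (Subgroup.subset_closure ⟨⟨i, hi⟩, rfl⟩)

theorem diagonal_le_group : D.diagonalSubgroup F ≤ D.group F := by
  refine (Subgroup.closure_le _).2 ?_
  rintro g ⟨r, t, hr, -, hg⟩
  rw [← h.coe_ht (h.nroots ▸ hr)] at hg
  rw [Units.ext hg, ht, nt, nt]
  exact mul_mem (mul_mem (mul_mem (h.mem_group_of_xG _ _) (h.mem_group_of_xG _ _)) (h.mem_group_of_xG _ _))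
    (mul_mem (mul_mem (h.mem_group_of_xG _ _) (h.mem_group_of_xG _ _)) (h.mem_group_of_xG _ _))

theorem monomial_le_group : D.monomialSubgroup F ≤ D.group F := by
  rw [h.monomial_eq]
  refine sup_le h.diagonal_le_group ((Subgroup.closure_le _).2 ?_)
  rintro _ ⟨i, rfl⟩
  exact mul_mem (mul_mem (h.mem_group_of_xG _ _) (h.mem_group_of_xG _ _)) (h.mem_group_of_xG _ _)

theorem borel_le_group : D.borelSubgroup F ≤ D.group F :=
  sup_le (h.posUnipotent_le fun r _ t => h.mem_group_of_xG r t) h.diagonal_le_group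

theorem group_eq_pos_nG : D.group F =
    D.posUnipotent F ⊔ Subgroup.closure (Set.range fun i : Fin P.rank => h.nG (F := F) i) := by
  refine le_antisymm (h.group_le fun r hr => ?_)
    (sup_le (h.posUnipotent_le fun r _ t => h.mem_group_of_xG r t) ((Subgroup.closure_le _).2 ?_))
  · refine h.root_induction (Q := fun r => ∀ t : F, h.xG r t ∈ _)
      (fun i hi t => Subgroup.mem_sup_left (h.xG_mem_pos (h.sim_pos hi) t)) (fun i hi r hr hm t => ?_) r hr
    have hn : h.nG (F := F) i ∈ D.posUnipotent F ⊔ Subgroup.closure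
        (Set.range fun i : Fin P.rank => h.nG (F := F) i) :=
      Subgroup.mem_sup_right (Subgroup.subset_closure ⟨⟨i, hi⟩, rfl⟩)
    have hsq : (P.eta i r : F) * P.eta i r = 1 := by rw [← Int.cast_mul, eta_sq, Int.cast_one]
    have e := h.nG_xG hi hr ((P.eta i r : F) * t)
    rw [← mul_assoc, hsq, one_mul] at e
    exact e ▸ mul_mem (mul_mem hn (hm _)) (inv_mem hn)
  · rintro _ ⟨i, rfl⟩
    exact mul_mem (mul_mem (h.mem_group_of_xG _ _) (h.mem_group_of_xG _ _)) (h.mem_group_of_xG _ _)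

theorem borel_sup_monomial : D.borelSubgroup F ⊔ D.monomialSubgroup F = D.group F := by
  refine le_antisymm (sup_le h.borel_le_group h.monomial_le_group) ?_
  rw [h.group_eq_pos_nG]
  refine sup_le (le_sup_left.trans le_sup_left) ((Subgroup.closure_le _).2 ?_)
  rintro _ ⟨i, rfl⟩
  exact Subgroup.mem_sup_right (h.nG_mem i.isLt)

/-! ### Words -/

theorem wl_lt : ∀ l, WordOk P l → ∀ r < P.nroots, wl P l r < P.nroots
  | [], _, _, hr => hr
  | i :: l, hl, r, hr => h.w_lt hl.head (wl_lt l hl.tail r hr)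

theorem wl_ng : ∀ l, WordOk P l → ∀ r < P.nroots, wl P l (P.ng r) = P.ng (wl P l r)
  | [], _, _, _ => rfl
  | i :: l, hl, r, hr => by
    simp only [wl]
    rw [wl_ng l hl.tail r hr, h.w_ng hl.head (h.wl_lt l hl.tail r hr)]

theorem wl_reverse : ∀ l, WordOk P l → ∀ r < P.nroots, wl P l.reverse (wl P l r) = r
  | [], _, _, _ => rfl
  | i :: l, hl, r, hr => by
    simp only [wl, List.reverse_cons, wl_append]
    rw [h.w_w hl.head (h.wl_lt l hl.tail r hr), wl_reverse l hl.tail r hr]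

/-- Product of `n_p` along a word. -/
def nW (l : List ℕ) : GL D.Idx F := (l.map fun i => h.nG i).prod

theorem nW_nil : h.nW (F := F) [] = 1 := rfl

theorem nW_cons (i : ℕ) (l : List ℕ) : h.nW (F := F) (i :: l) = h.nG i * h.nW l := by simp [nW]

theorem nW_append (a b : List ℕ) : h.nW (F := F) (a ++ b) = h.nW a * h.nW b := by simp [nW]

theorem nW_mem : ∀ l, WordOk P l → h.nW (F := F) l ∈ D.monomialSubgroup F
  | [], _ => one_mem _
  | i :: l, hl => by rw [h.nW_cons]; exact mul_mem (h.nG_mem hl.head) (nW_mem l hl.tail)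

theorem nW_xG : ∀ l, WordOk P l → ∀ r < P.nroots,
    ∃ e : F, e * e = 1 ∧ ∀ t : F, h.nW l * h.xG r t * (h.nW l)⁻¹ = h.xG (wl P l r) (e * t) ∧
      h.nW l * h.xG (P.ng r) t * (h.nW l)⁻¹ = h.xG (P.ng (wl P l r)) (e * t)
  | [], _, r, _ => ⟨1, one_mul 1, fun t => by simp [nW_nil, wl]⟩
  | i :: l, hl, r, hr => by
    obtain ⟨e, he, hx⟩ := nW_xG l hl.tail r hr
    have hlt := h.wl_lt l hl.tail r hr
    refine ⟨(P.eta i (wl P l r) : F) * e, ?_, fun t => ?_⟩
    · rw [mul_mul_mul_comm, he, ← Int.cast_mul, eta_sq, Int.cast_one, one_mul]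
    · have hc : ∀ a b x : GL D.Idx F, a * b * x * (a * b)⁻¹ = a * (b * x * b⁻¹) * a⁻¹ := by
        intros; group
      rw [h.nW_cons, wl, hc, hc, (hx t).1, (hx t).2, h.nG_xG hl.head hlt, h.nG_xG hl.head (ng_lt hlt),
        h.w_ng hl.head hlt, h.eta_ng hl.head hlt, mul_assoc]
      exact ⟨rfl, rfl⟩

theorem nW_normalizer : ∀ l, WordOk P l →
    h.nW (F := F) l ∈ Subgroup.normalizer (D.diagonalSubgroup F : Set (GL D.Idx F))
  | [], _ => one_mem _
  | i :: l, hl => by rw [h.nW_cons]; exact mul_mem (h.nG_normalizer hl.head) (nW_normalizer l hl.tail)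

theorem monomial_normalizes :
    D.monomialSubgroup F ≤ Subgroup.normalizer (D.diagonalSubgroup F : Set (GL D.Idx F)) := by
  rw [h.monomial_eq]
  refine sup_le Subgroup.le_normalizer ((Subgroup.closure_le _).2 ?_)
  rintro _ ⟨i, rfl⟩
  exact h.nG_normalizer i.isLt

theorem exists_word_of_mem {g : GL D.Idx F} (hg : g ∈ D.monomialSubgroup F) :
    ∃ l, WordOk P l ∧ ∃ d ∈ D.diagonalSubgroup F, g = h.nW l * d := by
  rw [h.monomial_eq, ← Subgroup.closure_eq (D.diagonalSubgroup F), ← Subgroup.closure_union] at hg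
  have hH : ∀ l, WordOk P l → ∀ d ∈ D.diagonalSubgroup F,
      ∃ d' ∈ D.diagonalSubgroup F, d * h.nW (F := F) l = h.nW l * d' := by
    intro l hl d hd
    refine ⟨(h.nW l)⁻¹ * d * h.nW l, ?_, by group⟩
    have := (Subgroup.mem_normalizer_iff.1 (inv_mem (h.nW_normalizer (F := F) l hl)) d).1 hd
    simpa using this
  have key : ∀ x ∈ (D.diagonalSubgroup F : Set (GL D.Idx F)) ∪ Set.range (fun i : Fin P.rank => h.nG (F := F) i),
      ∀ l, WordOk P l → ∀ d ∈ D.diagonalSubgroup F,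
        (∃ l', WordOk P l' ∧ ∃ d' ∈ D.diagonalSubgroup F, x * (h.nW l * d) = h.nW l' * d') ∧
        (∃ l', WordOk P l' ∧ ∃ d' ∈ D.diagonalSubgroup F, x⁻¹ * (h.nW l * d) = h.nW l' * d') := by
    rintro x (hx | ⟨i, rfl⟩) l hl d hd
    · obtain ⟨d1, hd1, e1⟩ := hH l hl x hx
      obtain ⟨d2, hd2, e2⟩ := hH l hl x⁻¹ (inv_mem hx)
      exact ⟨⟨l, hl, d1 * d, mul_mem hd1 hd, by rw [← mul_assoc, e1, mul_assoc]⟩,
        ⟨l, hl, d2 * d, mul_mem hd2 hd, by rw [← mul_assoc, e2, mul_assoc]⟩⟩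
    · have hl' : WordOk P (i.val :: l) := List.forall_mem_cons.2 ⟨i.isLt, hl⟩
      refine ⟨⟨_, hl', d, hd, by rw [h.nW_cons, mul_assoc]⟩, ?_⟩
      obtain ⟨d', hd', e'⟩ := hH _ hl' _ (inv_mem (h.nG_sq (F := F) i.isLt))
      refine ⟨_, hl', d' * d, mul_mem hd' hd, ?_⟩
      rw [← mul_assoc (h.nW (i.val :: l)), ← e', h.nW_cons]
      group
  suffices ∀ l, WordOk P l → ∀ d ∈ D.diagonalSubgroup F,
      ∃ l', WordOk P l' ∧ ∃ d' ∈ D.diagonalSubgroup F, g * (h.nW l * d) = h.nW l' * d' by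
    simpa [h.nW_nil] using this [] (fun _ h' => absurd h' List.not_mem_nil) 1 (one_mem _)
  induction hg using Subgroup.closure_induction'' with
  | one => intro l hl d hd; exact ⟨l, hl, d, hd, one_mul _⟩
  | mem x hx => intro l hl d hd; exact (key x hx l hl d hd).1
  | inv_mem x hx => intro l hl d hd; exact (key x hx l hl d hd).2
  | mul a b _ _ iha ihb =>
    intro l hl d hd
    obtain ⟨l1, hl1, d1, hd1, e1⟩ := ihb l hl d hd
    obtain ⟨l2, hl2, d2, hd2, e2⟩ := iha l1 hl1 d1 hd1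
    exact ⟨l2, hl2, d2, hd2, by rw [mul_assoc, e1, e2]⟩

/-- Where the sign changes along a word. -/
theorem sign_change : ∀ l, WordOk P l → ∀ r, P.isPos r = true → P.isPos (wl P l r) = false →
    ∃ a j b, l = a ++ j :: b ∧ wl P b r = P.sim j
  | [], _, r, h1, h2 => by simp [wl] at h2; simp [h2] at h1
  | i :: l, hl, r, h1, h2 => by
    cases hm : P.isPos (wl P l r)
    · obtain ⟨a, j, b, e, hb⟩ := sign_change l hl.tail r h1 hm
      exact ⟨i :: a, j, b, by rw [e]; rfl, hb⟩
    · have hlt := h.wl_lt l hl.tail r (P.isPos_iff.1 h1).2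
      rcases (h.w_spec hl.head hlt).2.2.2.2.2.2.1 with e | e | e
      · exact ⟨[], i, l, rfl, e⟩
      · rw [e] at hm
        have := (h.ng_pos_iff (h.sim_lt hl.head)).1 hm
        rw [h.sim_pos hl.head] at this
        exact absurd this (by simp)
      · simp only [wl] at h2
        rw [hm, h2] at e
        exact absurd e (by simp)

/-- Distinct roots have distinct coordinates. -/
theorem rv_inj {r s : ℕ} (hr : r < P.nroots) (hs : s < P.nroots)
    (e : ∀ i < P.rank, P.rv r i = P.rv s i) : r = s := by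
  obtain ⟨d, inv, hc⟩ := h.cartanM
  simp only [Pk.ckCartan, Bool.and_eq_true, List.all_eq_true, List.mem_range] at hc
  have hlex : ∀ k, k + 1 < P.nroots → P.rvc k < P.rvc (k + 1) := by
    intro k hk
    have := hc.2 k (by omega)
    exact (List.lt_iff_lex_lt _ _).2 (by simpa [List.lex_eq_true_iff_lex] using this)
  have hmono : ∀ b, b < P.nroots → ∀ a, a < b → P.rvc a < P.rvc b := by
    intro b
    induction b with
    | zero => intro _ a ha; omega
    | succ b ih =>
      intro hb a ha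
      rcases Nat.lt_or_ge a b with hab | hab
      · exact lt_trans (ih (by omega) a hab) (hlex b hb)
      · rw [show a = b by omega]; exact hlex b hb
  have heq : P.rvc r = P.rvc s := List.map_congr_left fun i hi => e i (List.mem_range.1 hi)
  rcases lt_trichotomy r s with hlt | rfl | hlt
  · exact absurd (hmono s hs r hlt) (by rw [heq]; exact lt_irrefl _)
  · rfl
  · exact absurd (hmono r hr s hlt) (by rw [heq]; exact lt_irrefl _)

theorem rv_wl : ∀ l, WordOk P l → ∀ r < P.nroots, ∀ j < P.rank,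
    P.rv (wl P l r) j = ∑ k ∈ Finset.range P.rank, P.rv r k * P.rv (wl P l (P.sim k)) j
  | [], _, r, _, j, hj => by
    simp only [wl]
    rw [Finset.sum_eq_single j]
    · rw [h.rv_sim hj hj, if_pos rfl, mul_one]
    · intro k hk hne
      rw [h.rv_sim (Finset.mem_range.1 hk) hj, if_neg hne, mul_zero]
    · intro hn; exact absurd (Finset.mem_range.2 hj) hn
  | i :: l, hl, r, hr, j, hj => by
    have hlt := fun s hs => h.wl_lt l hl.tail s hs
    have hA : P.A i (wl P l r) = ∑ k ∈ Finset.range P.rank, P.rv r k * P.A i (wl P l (P.sim k)) := by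
      rw [h.A_eq_sum (hlt r hr) hl.head]
      have : ∀ m ∈ Finset.range P.rank, P.rv (wl P l r) m * P.A i (P.sim m) =
          ∑ k ∈ Finset.range P.rank, P.rv r k * (P.rv (wl P l (P.sim k)) m * P.A i (P.sim m)) := by
        intro m hm
        rw [rv_wl l hl.tail r hr m (Finset.mem_range.1 hm), Finset.sum_mul]
        exact Finset.sum_congr rfl fun k _ => mul_assoc _ _ _
      rw [Finset.sum_congr rfl this, Finset.sum_comm]
      refine Finset.sum_congr rfl fun k hk => ?_
      rw [← Finset.mul_sum, ← h.A_eq_sum (hlt _ (h.sim_lt (Finset.mem_range.1 hk))) hl.head]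
    simp only [wl]
    rw [((h.w_spec hl.head (hlt r hr)).2.2.2.2.2.1 j hj).1, rv_wl l hl.tail r hr j hj]
    have e : ∀ k ∈ Finset.range P.rank, P.rv r k * P.rv (P.w i (wl P l (P.sim k))) j =
        P.rv r k * P.rv (wl P l (P.sim k)) j -
          (if j = i then P.rv r k * P.A i (wl P l (P.sim k)) else 0) := by
      intro k hk
      rw [((h.w_spec hl.head (hlt _ (h.sim_lt (Finset.mem_range.1 hk)))).2.2.2.2.2.1 j hj).1]
      split_ifs <;> ring
    rw [Finset.sum_congr rfl e, Finset.sum_sub_distrib]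
    congr 1
    split_ifs
    · exact hA
    · simp

theorem pair_wl : ∀ l, WordOk P l → ∀ r < P.nroots, ∀ s < P.nroots,
    P.pair (wl P l r) (wl P l s) = P.pair r s
  | [], _, _, _, _, _ => rfl
  | i :: l, hl, r, hr, s, hs => by
    have hr' := h.wl_lt l hl.tail r hr
    have hs' := h.wl_lt l hl.tail s hs
    simp only [wl]
    rw [h.pair_w hl.head hr' (h.w_lt hl.head hs'), h.w_w hl.head hs', pair_wl l hl.tail r hr s hs]

theorem wl_w {b : List ℕ} (hb : WordOk P b) {i j : ℕ} (hi : i < P.rank) (hj : j < P.rank)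
    (e : wl P b (P.sim i) = P.sim j) {r : ℕ} (hr : r < P.nroots) :
    wl P b (P.w i r) = P.w j (wl P b r) := by
  have hbr := h.wl_lt b hb r hr
  have hwr := h.w_lt hi hr
  refine h.rv_inj (h.wl_lt b hb _ hwr) (h.w_lt hj hbr) fun m hm => ?_
  rw [h.rv_wl b hb _ hwr m hm, ((h.w_spec hj hbr).2.2.2.2.2.1 m hm).1, h.rv_wl b hb r hr m hm]
  have hA : P.A j (wl P b r) = P.A i r := by
    rw [← h.pair_sim hj, ← e, h.pair_wl b hb _ (h.sim_lt hi) r hr, h.pair_sim hi]
  have e2 : ∀ k ∈ Finset.range P.rank, P.rv (P.w i r) k * P.rv (wl P b (P.sim k)) m =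
      P.rv r k * P.rv (wl P b (P.sim k)) m -
        (if k = i then P.A i r * P.rv (wl P b (P.sim k)) m else 0) := by
    intro k hk
    rw [((h.w_spec hi hr).2.2.2.2.2.1 k (Finset.mem_range.1 hk)).1]
    split_ifs <;> ring
  rw [Finset.sum_congr rfl e2, Finset.sum_sub_distrib, Finset.sum_ite_eq' (Finset.range P.rank) i,
    if_pos (Finset.mem_range.2 hi), e, h.rv_sim hj hm, hA]
  by_cases hmj : j = m
  · subst hmj; simp
  · simp [hmj, Ne.symm hmj]

/-- A word that sends a simple root to a negative one absorbs the reflection. -/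
theorem nW_shorten {l : List ℕ} (hl : WordOk P l) {i : ℕ} (hi : i < P.rank)
    (hneg : P.isPos (wl P l (P.sim i)) = false) :
    ∃ a j b, l = a ++ j :: b ∧ (∃ d ∈ D.diagonalSubgroup F,
      h.nW (F := F) (l ++ [i]) = h.nW (a ++ b) * d) ∧
      ∀ r < P.nroots, wl P (l ++ [i]) r = wl P (a ++ b) r := by
  obtain ⟨a, j, b, rfl, hb⟩ := h.sign_change l hl _ (h.sim_pos hi) hneg
  refine ⟨a, j, b, rfl, ?_, fun r hr => ?_⟩
  · have hbok : WordOk P b := fun x hx => hl x (by simp [hx])
    have hj : j < P.rank := hl j (by simp)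
    obtain ⟨e, he, hx⟩ := h.nW_xG (F := F) b hbok (P.sim i) (h.sim_lt hi)
    rw [hb] at hx
    have he0 : e ≠ 0 := by rintro rfl; simp at he
    have heinv : e⁻¹ = e := inv_eq_of_mul_eq_one_right he
    have hconj : h.nW (F := F) b * h.nG i * (h.nW b)⁻¹ = h.ht (P.sim j) e * h.nG j := by
      have hc : ∀ g x y z : GL D.Idx F, g * (x * y * z) * g⁻¹ = (g * x * g⁻¹) * (g * y * g⁻¹) * (g * z * g⁻¹) := by
        intros; group
      show _ * h.nt (P.sim i) 1 * _ = _ * h.nt (P.sim j) 1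
      rw [← h.nt_eq_ht_mul, nt, nt, hc, (hx _).1, (hx _).2, heinv, inv_one, mul_one, mul_neg, mul_one]
    have hd : h.nG j * h.ht (P.sim j) e * h.nG j ∈ D.diagonalSubgroup F := by
      have h1 := (Subgroup.mem_normalizer_iff.1 (h.nG_normalizer (F := F) hj) _).1 (h.ht_mem (h.sim_lt hj) he0)
      have h2 := mul_mem h1 (h.nG_sq (F := F) hj)
      convert h2 using 1
      group
    refine ⟨(h.nW b)⁻¹ * (h.nG j * h.ht (P.sim j) e * h.nG j) * h.nW b, ?_, ?_⟩
    · have := (Subgroup.mem_normalizer_iff.1 (inv_mem (h.nW_normalizer (F := F) b hbok)) _).1 hd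
      simpa using this
    · have e3 : h.nW (F := F) b * h.nG i = h.ht (P.sim j) e * h.nG j * h.nW b := by
        rw [← hconj]; group
      rw [h.nW_append, h.nW_append, h.nW_cons, h.nW_cons, h.nW_nil, h.nW_append, mul_one]
      calc h.nW a * (h.nG j * h.nW b) * h.nG i = h.nW a * h.nG j * (h.nW b * h.nG i) := by group
        _ = _ := by rw [e3]; group
  · have hbok : WordOk P b := fun x hx => hl x (by simp [hx])
    have hj : j < P.rank := hl j (by simp)
    simp only [wl_append, wl]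
    rw [h.wl_w hbok hi hj hb hr, h.w_w hj (h.wl_lt b hbok r hr)]

/-- A word acting trivially on the roots gives an element of `H`. -/
theorem nW_mem_diagonal {l : List ℕ} (hl : WordOk P l) (htriv : ∀ r < P.nroots, wl P l r = r) :
    h.nW (F := F) l ∈ D.diagonalSubgroup F := by
  induction hn : l.length using Nat.strong_induction_on generalizing l with
  | _ n ih =>
    rcases List.eq_nil_or_concat l with rfl | ⟨l', i, rfl⟩
    · rw [h.nW_nil]; exact one_mem _
    rw [List.concat_eq_append] at hl htriv hn ⊢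
    have hi : i < P.rank := hl i (by simp)
    have hl' : WordOk P l' := fun x hx => hl x (by simp [hx])
    have hneg : P.isPos (wl P l' (P.sim i)) = false := by
      have h1 := htriv (P.ng (P.sim i)) (ng_lt (h.sim_lt hi))
      rw [wl_append] at h1
      simp only [wl] at h1
      rw [h.w_ng hi (h.sim_lt hi), h.w_sim hi, ng_ng (h.sim_lt hi)] at h1
      rw [h1, ← Bool.not_eq_true, h.ng_pos_iff (h.sim_lt hi), h.sim_pos hi]
      simp
    obtain ⟨a, j, b, rfl, ⟨d, hd, e⟩, ew⟩ := h.nW_shorten (F := F) hl' hi hneg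
    rw [e]
    refine mul_mem (ih (a ++ b).length ?_ (fun x hx => hl' x ?_) (fun r hr => ?_) rfl) hd
    · simp at hn ⊢; omega
    · simp only [List.mem_append, List.mem_cons] at hx ⊢; tauto
    · rw [← ew r hr]; exact htriv r hr

end Ok

end Cfsg.Agent.Chev
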