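/-
The unipotent subgroups: ordered products, uniqueness, triangularity.
-/
import Cfsg.Agent.Lib.Chev.Subgroups
import Cfsg.Agent.Lib.Chev.Comm

set_option autoImplicit false

namespace Cfsg.Agent.Chev

open Cfsg.Lie
open scoped Matrix

theorem mem_normalizer_closure {G : Type*} [Group G] {S : Set G} {g : G}
    (h1 : ∀ s ∈ S, g * s * g⁻¹ ∈ Subgroup.closure S) (h2 : ∀ s ∈ S, g⁻¹ * s * g ∈ Subgroup.closure S) :
    g ∈ Subgroup.normalizer (Subgroup.closure S : Set G) := by
  have h1' : ∀ x ∈ Subgroup.closure S, g * x * g⁻¹ ∈ Subgroup.closure S := fun x hx =>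
    (show Subgroup.closure S ≤ (Subgroup.closure S).comap (MulAut.conj g).toMonoidHom from
      (Subgroup.closure_le _).2 h1) hx
  have h2' : ∀ x ∈ Subgroup.closure S, g⁻¹ * x * g ∈ Subgroup.closure S := fun x hx => by
    have := (show Subgroup.closure S ≤ (Subgroup.closure S).comap (MulAut.conj g⁻¹).toMonoidHom from
      (Subgroup.closure_le _).2 fun s hs => by simpa using h2 s hs) hx
    simpa using this
  refine Subgroup.mem_normalizer_iff.2 fun x => ⟨h1' x, fun hx => ?_⟩
  have := h2' _ hx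
  simpa [mul_assoc] using this

open scoped commutatorElement in
theorem commutator_closure_le {G : Type*} [Group G] {A B : Set G} {K : Subgroup G}
    (hA : A ⊆ Subgroup.normalizer (K : Set G)) (hB : B ⊆ Subgroup.normalizer (K : Set G))
    (h : ∀ a ∈ A, ∀ b ∈ B, ⁅a, b⁆ ∈ K) : ⁅Subgroup.closure A, Subgroup.closure B⁆ ≤ K := by
  have hN : ∀ n ∈ Subgroup.normalizer (K : Set G), ∀ x ∈ K, n * x * n⁻¹ ∈ K :=
    fun n hn x hx => (Subgroup.mem_normalizer_iff.1 hn x).1 hx
  have hB' : Subgroup.closure B ≤ Subgroup.normalizer (K : Set G) := (Subgroup.closure_le _).2 hB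
  have hA' : Subgroup.closure A ≤ Subgroup.normalizer (K : Set G) := (Subgroup.closure_le _).2 hA
  have step : ∀ a ∈ A, ∀ b ∈ Subgroup.closure B, ⁅a, b⁆ ∈ K := by
    intro a ha b hb
    induction hb using Subgroup.closure_induction with
    | mem b hb => exact h a ha b hb
    | one => simp [one_mem]
    | mul b c hb' _ ihb ihc =>
      rw [show ⁅a, b * c⁆ = ⁅a, b⁆ * (b * ⁅a, c⁆ * b⁻¹) by simp [commutatorElement_def]; group]
      exact mul_mem ihb (hN b (hB' hb') _ ihc)
    | inv b hb' ihb =>
      rw [show ⁅a, b⁻¹⁆ = b⁻¹ * ⁅a, b⁆⁻¹ * (b⁻¹)⁻¹ by simp [commutatorElement_def]; group]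
      exact hN _ (inv_mem (hB' hb')) _ (inv_mem ihb)
  rw [Subgroup.commutator_le]
  intro a ha b hb
  induction ha using Subgroup.closure_induction with
  | mem a ha => exact step a ha b hb
  | one => simp [one_mem]
  | mul x y hx' _ ihx ihy =>
    rw [show ⁅x * y, b⁆ = (x * ⁅y, b⁆ * x⁻¹) * ⁅x, b⁆ by simp [commutatorElement_def]; group]
    exact mul_mem (hN x (hA' hx') _ ihy) ihx
  | inv x hx' ihx =>
    rw [show ⁅x⁻¹, b⁆ = x⁻¹ * ⁅x, b⁆⁻¹ * (x⁻¹)⁻¹ by simp [commutatorElement_def]; group]
    exact hN _ (inv_mem (hA' hx')) _ (inv_mem ihx)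

variable {D : ChevalleyDatum} {P : Pk} {F : Type*} [Field F]

/-- Level of a coordinate: negative roots, then the coroots, then positive roots. -/
def lev (P : Pk) (x : D.Idx) : ℤ :=
  if P.nroots ≤ code P x then (P.nroots / 2 : ℕ)
  else if P.isPos (code P x) then (code P x : ℤ) + 1 else code P x

/-- Unitriangular with respect to a level function. -/
def Tri {R : Type*} [Zero R] [One R] (f : D.Idx → ℤ) (M : Matrix D.Idx D.Idx R) : Prop :=
  ∀ row col, (row = col → M row col = 1) ∧ (row ≠ col → M row col ≠ 0 → f col < f row)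

theorem tri_one {R : Type*} [Zero R] [One R] (f : D.Idx → ℤ) :
    Tri f (1 : Matrix D.Idx D.Idx R) := fun row col =>
  ⟨fun e => e ▸ Matrix.one_apply_eq row, fun e h => absurd (Matrix.one_apply_ne e) h⟩

theorem Tri.mul {R : Type*} [Semiring R] {f : D.Idx → ℤ} {M N : Matrix D.Idx D.Idx R}
    (hM : Tri f M) (hN : Tri f N) : Tri f (M * N) := by
  intro row col
  constructor
  · rintro rfl
    rw [Matrix.mul_apply, Finset.sum_eq_single row, (hM row row).1 rfl, (hN row row).1 rfl, one_mul]
    · intro x _ hx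
      by_contra hne
      have h1 := (hM row x).2 (Ne.symm hx) fun e => hne (by rw [e, zero_mul])
      have h2 := (hN x row).2 hx fun e => hne (by rw [e, mul_zero])
      omega
    · simp
  · intro hrc hne
    rw [Matrix.mul_apply] at hne
    obtain ⟨x, -, hx⟩ := Finset.exists_ne_zero_of_sum_ne_zero hne
    rcases eq_or_ne row x with rfl | h1
    · exact (hN row col).2 hrc fun e => hx (by rw [e, mul_zero])
    · have h1' := (hM row x).2 h1 fun e => hx (by rw [e, zero_mul])
      rcases eq_or_ne x col with rfl | h2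
      · exact h1'
      · have h2' := (hN x col).2 h2 fun e => hx (by rw [e, mul_zero])
        omega

theorem Tri.pow_sub_one {R : Type*} [Ring R] {f : D.Idx → ℤ} {M : Matrix D.Idx D.Idx R} (hM : Tri f M) :
    ∀ (k : ℕ) row col, ((M - 1) ^ k) row col ≠ 0 → f col + k ≤ f row
  | 0, row, col, h => by
    rcases eq_or_ne row col with rfl | e
    · simp
    · simp [e] at h
  | k + 1, row, col, h => by
    rw [pow_succ', Matrix.mul_apply] at h
    obtain ⟨x, -, hx⟩ := Finset.exists_ne_zero_of_sum_ne_zero h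
    have h2 := Tri.pow_sub_one hM k x col fun e => hx (by rw [e, mul_zero])
    have hne : (M - 1) row x ≠ 0 := fun e => hx (by rw [e, zero_mul])
    rcases eq_or_ne row x with rfl | e
    · simp [(hM row row).1 rfl] at hne
    · have := (hM row x).2 e (by simpa [e] using hne)
      push_cast
      omega

/-- Root columns at least `m` are mapped into higher roots. -/
def Raise {R : Type*} [Zero R] [One R] (P : Pk) (m : ℕ) (M : Matrix D.Idx D.Idx R) : Prop :=
  ∀ row col, code P col < P.nroots → m ≤ code P col →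
    (row = col → M row col = 1) ∧ (row ≠ col → M row col ≠ 0 → code P row < P.nroots ∧ code P col < code P row)

theorem raise_one {R : Type*} [Zero R] [One R] (m : ℕ) : Raise P m (1 : Matrix D.Idx D.Idx R) :=
  fun row col _ _ =>
    ⟨fun e => e ▸ Matrix.one_apply_eq row, fun e h => absurd (Matrix.one_apply_ne e) h⟩

theorem Raise.mul {R : Type*} [Semiring R] {m : ℕ} {M N : Matrix D.Idx D.Idx R}
    (hM : Raise P m M) (hN : Raise P m N) : Raise P m (M * N) := by
  intro row col hc hm
  constructor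
  · rintro rfl
    rw [Matrix.mul_apply, Finset.sum_eq_single row, (hM row row hc hm).1 rfl, (hN row row hc hm).1 rfl, one_mul]
    · intro x _ hx
      by_contra hne
      obtain ⟨h2a, h2b⟩ := (hN x row hc hm).2 hx fun e => hne (by rw [e, mul_zero])
      have h1 := ((hM row x h2a (by omega)).2 (Ne.symm hx) fun e => hne (by rw [e, zero_mul])).2
      omega
    · simp
  · intro hrc hne
    rw [Matrix.mul_apply] at hne
    obtain ⟨x, -, hx⟩ := Finset.exists_ne_zero_of_sum_ne_zero hne
    rcases eq_or_ne x col with rfl | h2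
    · exact (hM row x hc hm).2 hrc fun e => hx (by rw [e, zero_mul])
    · obtain ⟨h2a, h2b⟩ := (hN x col hc hm).2 h2 fun e => hx (by rw [e, mul_zero])
      rcases eq_or_ne row x with rfl | h1
      · exact ⟨h2a, h2b⟩
      · obtain ⟨h1a, h1b⟩ := (hM row x h2a (by omega)).2 h1 fun e => hx (by rw [e, zero_mul])
        exact ⟨h1a, by omega⟩

/-- A list of roots closed under chains. -/
def ClosedL (P : Pk) (L : List ℕ) : Prop :=
  ∀ r ∈ L, ∀ s ∈ L, ∀ k < P.len r s, P.tgt r s k ∈ L

/-- The positive roots in increasing order. -/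
def posL (P : Pk) : List ℕ := (List.range P.nroots).filter P.isPos

theorem mem_posL {r : ℕ} : r ∈ posL P ↔ P.isPos r = true := by
  simp only [posL, List.mem_filter, List.mem_range]
  exact ⟨fun h => h.2, fun h => ⟨(P.isPos_iff.1 h).2, h⟩⟩

theorem posL_sorted : (posL P).Pairwise (· < ·) := List.pairwise_lt_range.filter _

namespace Ok

variable (h : Ok D P)
include h

/-! ### Signs -/

theorem rv_sign {r i : ℕ} (hr : r < P.nroots) (hi : i < P.rank) :
    (P.isPos r = true → 0 ≤ P.rv r i) ∧ (P.isPos r = false → P.rv r i ≤ 0) := by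
  have := h.roots
  simp only [Pk.ckRoots, List.all_eq_true, Pk.mem_allRoots, Bool.and_eq_true, List.mem_range] at this
  have hb := ((this r hr).1.1 i hi).1.2
  refine ⟨fun e => ?_, fun e => ?_⟩ <;> simp [e] at hb <;> exact hb.1

theorem pos_of_rv {r i : ℕ} (hr : r < P.nroots) (hi : i < P.rank) (hp : 0 < P.rv r i) :
    P.isPos r = true := by
  by_contra e
  have := (h.rv_sign hr hi).2 (by simpa using e)
  omega

theorem rv_exists_ne {r : ℕ} (hr : r < P.nroots) : ∃ i < P.rank, P.rv r i ≠ 0 := by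
  by_contra hall
  push_neg at hall
  have := h.roots
  simp only [Pk.ckRoots, List.all_eq_true, Pk.mem_allRoots, Bool.and_eq_true, List.mem_range,
    decide_eq_true_eq] at this
  have hp := (this r hr).1.2
  rw [Pk.pair, ← List.sum_toFinset _ List.nodup_range, Finset.sum_eq_zero] at hp
  · exact absurd hp (by norm_num)
  · intro i hi
    rw [h.A_eq_sum hr (by simpa using hi), Finset.sum_eq_zero, mul_zero]
    intro j hj
    rw [hall j (Finset.mem_range.1 hj), zero_mul]

theorem exists_pos_coord {r : ℕ} (hp : P.isPos r = true) : ∃ i < P.rank, 0 < P.rv r i := by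
  have hr := (P.isPos_iff.1 hp).2
  obtain ⟨i, hi, hne⟩ := h.rv_exists_ne hr
  exact ⟨i, hi, lt_of_le_of_ne ((h.rv_sign hr hi).1 hp) (Ne.symm hne)⟩

theorem order_spec {r s k : ℕ} (hr : r < P.nroots) (hs : s < P.nroots) (hk : k < P.len r s) :
    (P.isPos r = true → s < P.tgt r s k ∧ (P.ng r < s → P.isPos (P.tgt r s k) = true) ∧
      (P.isPos s = true → r < P.tgt r s k ∧ P.isPos (P.tgt r s k) = true)) ∧
    (P.isPos r = false → P.tgt r s k < s) := by
  have ho := h.order
  simp only [Pk.ckOrder, List.all_eq_true, Pk.mem_allRoots, List.mem_range] at ho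
  have := ho r hr s ((h.mem_keys hr).2 ⟨hs, by omega⟩) k hk
  refine ⟨fun e => ?_, fun e => ?_⟩
  · simp only [e, cond_true, Bool.and_eq_true, Bool.or_eq_true, Bool.not_eq_true', Nat.blt_eq,
      ← Bool.not_eq_true, Nat.blt_eq] at this
    obtain ⟨⟨a, b⟩, c⟩ := this
    refine ⟨a, fun hng => b.resolve_left (not_not_intro hng), fun hsp => ?_⟩
    have hc := c.resolve_left (not_not_intro hsp)
    refine ⟨hc, P.isPos_iff.2 ⟨?_, h.tgt_lt hr hs hk⟩⟩
    have := (P.isPos_iff.1 e).1
    omega
  · simpa [e] using this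

theorem pos_tgt {r s k : ℕ} (hr : P.isPos r = true) (hs : P.isPos s = true) (hk : k < P.len r s) :
    P.isPos (P.tgt r s k) = true ∧ r < P.tgt r s k ∧ s < P.tgt r s k := by
  obtain ⟨a, -, c⟩ := (h.order_spec (P.isPos_iff.1 hr).2 (P.isPos_iff.1 hs).2 hk).1 hr
  exact ⟨(c hs).2, (c hs).1, a⟩

theorem cRoot_cases {r s i c : ℕ} (e : P.cRoot r s i = some c) :
    ∃ k < P.len r s, P.tgt r s k = c := by
  refine ⟨i - 1, ?_⟩
  by_cases hi : i - 1 < P.len r s
  · rw [Pk.cRoot, P.entry_getElem? hi] at e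
    simp at e
    exact ⟨hi, e⟩
  · rw [Pk.cRoot, List.getElem?_eq_none_iff.2 (by rw [P.entry_length]; omega)] at e
    simp at e

theorem cterms_ind (T : ℕ → Prop) {r s : ℕ} (hr : r < P.nroots) (hs : s < P.nroots)
    (h1 : ∀ k < P.len r s, T (P.tgt r s k)) (h2 : ∀ k < P.len s r, T (P.tgt s r k))
    (h3 : ∀ a < P.nroots, T a → ∀ k < P.len a s, T (P.tgt a s k))
    (h4 : ∀ a < P.nroots, T a → ∀ k < P.len a r, T (P.tgt a r k)) :
    ∀ c ∈ P.cterms r s, T c.1 := by
  have a1 : ∀ i c, P.cRoot r s i = some c → T c := by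
    intro i c e
    obtain ⟨k, hk, rfl⟩ := h.cRoot_cases e
    exact h1 k hk
  have a2 : ∀ i c, P.cRoot s r i = some c → T c := by
    intro i c e
    obtain ⟨k, hk, rfl⟩ := h.cRoot_cases e
    exact h2 k hk
  intro c hc
  simp only [Pk.cterms, List.mem_filterMap] at hc
  obtain ⟨d, hd, e⟩ := hc
  simp only [Option.map_eq_some_iff] at e
  obtain ⟨k, hk, rfl⟩ := e
  simp only [List.mem_cons, List.not_mem_nil, or_false] at hd
  rcases hd with rfl | rfl | rfl | rfl | rfl | rfl | rfl
  · exact a1 _ _ hk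
  · exact a1 _ _ hk
  · exact a2 _ _ hk
  · exact a1 _ _ hk
  · exact a2 _ _ hk
  · obtain ⟨j, hj, hk⟩ := Option.bind_eq_some_iff.1 hk
    obtain ⟨m, hm, rfl⟩ := h.cRoot_cases hk
    exact h3 j (h.cRoot_lt hr hs hj) (a1 _ _ hj) m hm
  · obtain ⟨j, hj, hk⟩ := Option.bind_eq_some_iff.1 hk
    obtain ⟨m, hm, rfl⟩ := h.cRoot_cases hk
    exact h4 j (h.cRoot_lt hs hr hj) (a2 _ _ hj) m hm

/-- Conjugates of root elements. -/
theorem conj_mem (hC : P.ckComm = true) {S : Subgroup (GL D.Idx F)} {r s : ℕ} (hr : r < P.nroots)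
    (hs : s < P.nroots) (hsr : s ≠ r) (hsn : s ≠ P.ng r) (t u : F) (hu : h.xG s u ∈ S)
    (hc : ∀ c ∈ P.cterms r s, ∀ v : F, h.xG c.1 v ∈ S) :
    (h.xG r t)⁻¹ * h.xG s u * h.xG r t ∈ S := by
  set W : GL D.Idx F := ((P.cword r s).map fun g =>
    h.xG g.1 ((g.2.1 : F) * t ^ g.2.2.1 * u ^ g.2.2.2)).prod with hW
  have hWm : W ∈ S := by
    refine list_prod_mem fun x hx => ?_
    simp only [Pk.cword, List.map_map, List.mem_map, Function.comp_apply] at hx
    obtain ⟨c, hc', rfl⟩ := hx
    exact hc c hc' _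
  have hcoe : (W : Matrix D.Idx D.Idx F) = monWord D P t u (P.cword r s) := by
    rw [hW, monWord]
    have hlt : ∀ g ∈ P.cword r s, g.1 < P.nroots := by
      intro g hg
      simp only [Pk.cword, List.mem_map] at hg
      obtain ⟨c, hc', rfl⟩ := hg
      exact h.cterms_lt hr hs c hc'
    generalize P.cword r s = L at hlt ⊢
    induction L with
    | nil => simp
    | cons g L ih =>
      simp only [List.map_cons, List.prod_cons, Units.val_mul]
      rw [h.coe_xG' (hlt g List.mem_cons_self), ih fun x hx => hlt x (List.mem_cons_of_mem _ hx)]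
  have e : h.xG s u * h.xG r t = h.xG r t * h.xG s u * W := by
    apply Units.ext
    simp only [Units.val_mul, h.coe_xG' hr, h.coe_xG' hs, hcoe]
    exact h.comm_formula hC hr hs hsr hsn t u
  rw [mul_assoc, e, show (h.xG r t)⁻¹ * (h.xG r t * h.xG s u * W) = h.xG s u * W by group]
  exact mul_mem hu hWm

theorem conj_mem' (hC : P.ckComm = true) {S : Subgroup (GL D.Idx F)} {r s : ℕ} (hr : r < P.nroots)
    (hs : s < P.nroots) (hsr : s ≠ r) (hsn : s ≠ P.ng r) (t u : F) (hu : h.xG s u ∈ S)
    (hc : ∀ c ∈ P.cterms r s, ∀ v : F, h.xG c.1 v ∈ S) :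
    h.xG r t * h.xG s u * (h.xG r t)⁻¹ ∈ S := by
  have := h.conj_mem hC hr hs hsr hsn (-t) u hu hc
  rwa [← h.xG_inv, inv_inv] at this

/-! ### Generated subgroups -/

/-- The subgroup generated by the root groups of a set of roots. -/
def genR (S : ℕ → Prop) : Subgroup (GL D.Idx F) :=
  Subgroup.closure {g | ∃ r t, S r ∧ g = h.xG r t}

theorem xG_mem_genR {S : ℕ → Prop} {r : ℕ} (hr : S r) (t : F) : h.xG r t ∈ h.genR S :=
  Subgroup.subset_closure ⟨r, t, hr, rfl⟩

theorem genR_le {S : ℕ → Prop} {T : Subgroup (GL D.Idx F)}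
    (hT : ∀ r, S r → ∀ t : F, h.xG r t ∈ T) : h.genR S ≤ T := by
  refine (Subgroup.closure_le _).2 ?_
  rintro _ ⟨r, t, hr, rfl⟩
  exact hT r hr t

theorem genR_mono {S S' : ℕ → Prop} (hS : ∀ r, S r → S' r) : h.genR (F := F) S ≤ h.genR S' :=
  h.genR_le fun r hr t => h.xG_mem_genR (hS r hr) t

theorem posUnipotent_eq : D.posUnipotent F = h.genR fun r => P.isPos r = true :=
  le_antisymm (h.posUnipotent_le fun _ hr t => h.xG_mem_genR hr t)
    (h.genR_le fun _ hr t => h.xG_mem_pos hr t)

theorem genR_normalizer (hC : P.ckComm = true) {S : ℕ → Prop} (hSlt : ∀ s, S s → s < P.nroots)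
    {r : ℕ} (hr : r < P.nroots)
    (hS : ∀ s, S s → s = r ∨ (s ≠ P.ng r ∧ ∀ c ∈ P.cterms r s, S c.1)) (t : F) :
    h.xG r t ∈ Subgroup.normalizer (h.genR (F := F) S : Set (GL D.Idx F)) := by
  refine mem_normalizer_closure ?_ ?_ <;> rintro _ ⟨s, u, hs, rfl⟩
  all_goals rcases eq_or_ne s r with rfl | hne
  all_goals first
    | (rw [h.xG_inv, h.xG_add, h.xG_add]; exact h.xG_mem_genR hs _)
    | skip
  · obtain ⟨h1, h2⟩ := (hS s hs).resolve_left hne
    exact h.conj_mem' hC hr (hSlt s hs) hne h1 t u (h.xG_mem_genR hs u)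
      fun c hc v => h.xG_mem_genR (h2 c hc) v
  · obtain ⟨h1, h2⟩ := (hS s hs).resolve_left hne
    exact h.conj_mem hC hr (hSlt s hs) hne h1 t u (h.xG_mem_genR hs u)
      fun c hc v => h.xG_mem_genR (h2 c hc) v

theorem closedL_tail {a : ℕ} {L : List ℕ} (hsort : (a :: L).Pairwise (· < ·))
    (hpos : ∀ r ∈ a :: L, P.isPos r = true) (hcl : ClosedL P (a :: L)) : ClosedL P L := by
  intro r hr s hs k hk
  have := hcl r (List.mem_cons_of_mem _ hr) s (List.mem_cons_of_mem _ hs) k hk
  have h1 := (List.pairwise_cons.1 hsort).1 r hr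
  have h2 := (h.pos_tgt (hpos r (List.mem_cons_of_mem _ hr)) (hpos s (List.mem_cons_of_mem _ hs)) hk).2.1
  rcases List.mem_cons.1 this with e | e
  · omega
  · exact e

/-- Elements generated by a closed set of positive roots are ordered products. -/
theorem exists_prod (hC : P.ckComm = true) : ∀ L : List ℕ, L.Pairwise (· < ·) →
    (∀ r ∈ L, P.isPos r = true) → ClosedL P L → ∀ g ∈ h.genR (F := F) (· ∈ L),
    ∃ t : ℕ → F, g = (L.map fun r => h.xG r (t r)).prod
  | [], _, _, _, g, hg => by
    have : h.genR (F := F) (· ∈ ([] : List ℕ)) ≤ ⊥ := h.genR_le fun r hr => absurd hr List.not_mem_nil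
    exact ⟨0, by simpa using this hg⟩
  | a :: L, hsort, hpos, hcl, g, hg => by
    have hlt : ∀ r ∈ a :: L, r < P.nroots := fun r hr => (P.isPos_iff.1 (hpos r hr)).2
    have hgt := (List.pairwise_cons.1 hsort).1
    have hnorm : D.rootSubgroup F a ≤ Subgroup.normalizer (h.genR (F := F) (· ∈ L) : Set (GL D.Idx F)) := by
      refine (Subgroup.closure_le _).2 ?_
      rintro x ⟨t, hx⟩
      rw [h.eq_xG_iff.1 hx]
      refine h.genR_normalizer hC (fun s hs => hlt s (List.mem_cons_of_mem _ hs)) (hlt a List.mem_cons_self)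
        (fun s hs => Or.inr ⟨?_, ?_⟩) t
      · intro e
        have := hpos s (List.mem_cons_of_mem _ hs)
        rw [e, h.ng_pos_iff (hlt a List.mem_cons_self), hpos a List.mem_cons_self] at this
        exact absurd this (by simp)
      · intro c hc
        have key : ∀ x ∈ a :: L, ∀ y ∈ a :: L, ∀ k < P.len x y, P.tgt x y k ∈ L := by
          intro x hx y hy k hk
          refine (List.mem_cons.1 (hcl x hx y hy k hk)).resolve_left fun e => ?_
          obtain ⟨-, h1, -⟩ := h.pos_tgt (hpos x hx) (hpos y hy) hk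
          rcases List.mem_cons.1 hx with rfl | hx'
          · omega
          · have := hgt x hx'; omega
        exact h.cterms_ind (T := fun c => c ∈ L) (hlt a List.mem_cons_self) (hlt s (List.mem_cons_of_mem _ hs))
          (key a List.mem_cons_self s (List.mem_cons_of_mem _ hs))
          (key s (List.mem_cons_of_mem _ hs) a List.mem_cons_self)
          (fun b _ hb => key b (List.mem_cons_of_mem _ hb) s (List.mem_cons_of_mem _ hs))
          (fun b _ hb => key b (List.mem_cons_of_mem _ hb) a List.mem_cons_self) c hc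
    have hg' : g ∈ D.rootSubgroup F a ⊔ h.genR (· ∈ L) := by
      refine h.genR_le (fun r hr t => ?_) hg
      rcases List.mem_cons.1 hr with rfl | hr
      · exact Subgroup.mem_sup_left (h.mem_rootSubgroup t)
      · exact Subgroup.mem_sup_right (h.xG_mem_genR hr t)
    rw [← SetLike.mem_coe, Subgroup.coe_mul_of_left_le_normalizer_right _ _ hnorm] at hg'
    obtain ⟨x, hx, y, hy, rfl⟩ := hg'
    rw [h.rootSubgroup_eq] at hx
    obtain ⟨t, rfl⟩ := hx
    obtain ⟨f, hf⟩ := exists_prod hC L (List.pairwise_cons.1 hsort).2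
      (fun r hr => hpos r (List.mem_cons_of_mem _ hr)) (h.closedL_tail hsort hpos hcl) y hy
    refine ⟨Function.update f a t, ?_⟩
    simp only [List.map_cons, List.prod_cons, Function.update_self]
    rw [hf]
    congr 2
    refine List.map_congr_left fun r hr => ?_
    rw [Function.update_of_ne (Nat.ne_of_gt (hgt r hr))]

theorem posL_closed : ClosedL P (posL P) := fun r hr s hs _ hk =>
  mem_posL.2 (h.pos_tgt (mem_posL.1 hr) (mem_posL.1 hs) hk).1

theorem genR_posL : h.genR (F := F) (· ∈ posL P) = D.posUnipotent F := by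
  rw [h.posUnipotent_eq]
  exact le_antisymm (h.genR_mono fun _ hr => mem_posL.1 hr) (h.genR_mono fun _ hr => mem_posL.2 hr)

/-! ### Matrix shape -/

omit h in
theorem X_apply (r : ℕ) (t : F) (row col : D.Idx) :
    X D P r t row col = ∑ k ∈ Finset.range 4, t ^ k * (cf (P.colL k r (code P col)) (code P row) : F) := by
  simp [X, Matrix.sum_apply, cM_apply, Ek, opM_apply]

theorem X_entry {r : ℕ} (hr : r < P.nroots) (t : F) (row col : D.Idx) :
    (row = col → (∀ k, k ≠ 0 → cf (P.colL k r (code P col)) (code P row) = 0) → X D P r t row col = 1) ∧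
    (row ≠ col → X D P r t row col ≠ 0 →
      ∃ k, k ≠ 0 ∧ cf (P.colL k r (code P col)) (code P row) ≠ 0) := by
  have h0 : (cf (P.colL 0 r (code P col)) (code P row) : F) = if row = col then 1 else 0 := by
    have := congrFun (congrFun (h.Ek_zero (r := r)) row) col
    rw [Ek, opM_apply] at this
    rw [this, Matrix.one_apply]
    split_ifs <;> simp
  refine ⟨fun e hz => ?_, fun e hne => ?_⟩
  · rw [X_apply, Finset.sum_eq_single 0]
    · rw [h0, if_pos e, pow_zero, one_mul]
    · intro k _ hk
      rw [hz k hk, Int.cast_zero, mul_zero]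
    · simp
  · rw [X_apply] at hne
    obtain ⟨k, -, hk⟩ := Finset.exists_ne_zero_of_sum_ne_zero hne
    refine ⟨k, ?_, fun e2 => hk (by rw [e2, Int.cast_zero, mul_zero])⟩
    rintro rfl
    rw [h0, if_neg e, mul_zero] at hk
    exact hk rfl

theorem code_lt_dim (x : D.Idx) : code P x < P.nroots + P.rank := by
  rcases x with i | s
  · have := i.isLt; simp only [code, h.rank] at this ⊢; omega
  · have := s.isLt; simp only [code, h.nroots] at this ⊢; omega

theorem colL_entry {k r : ℕ} (hk : k ≠ 0) (hr : r < P.nroots) {c x : ℕ}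
    (hne : cf (P.colL k r c) x ≠ 0) :
    (P.nroots ≤ c ∧ x = r) ∨
    (c = P.ng r ∧ ((P.nroots ≤ x) ∨ x = r)) ∨
    (c < P.nroots ∧ c ≠ r ∧ c ≠ P.ng r ∧ k - 1 < P.len r c ∧ x = P.tgt r c (k - 1)) := by
  by_cases hc : P.nroots ≤ c
  · left
    rw [colL_h hk hc] at hne
    split_ifs at hne with h1
    · exact ⟨hc, by_contra fun e => by simp [cf_cons, cf_nil, Ne.symm e] at hne⟩
    · exact absurd rfl hne
  by_cases h1 : c = P.ng r
  · right; left
    refine ⟨h1, ?_⟩
    rw [h1, h.colL_ng hk hr] at hne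
    split_ifs at hne with k1 k2
    · left
      by_contra e
      refine hne (cf_eq_zero fun p hp => ?_)
      obtain ⟨j, -, rfl⟩ := List.mem_map.1 hp
      show P.nroots + j ≠ x
      omega
    · exact Or.inr (by_contra fun e => by simp [cf_cons, cf_nil, Ne.symm e] at hne)
    · exact absurd rfl hne
  by_cases h2 : c = r
  · rw [h2, colL_self hk hr] at hne; exact absurd rfl hne
  right; right
  rw [colL_gen hk (by omega) h2 h1] at hne
  split_ifs at hne with hl
  · exact ⟨by omega, h2, h1, by omega, by_contra fun e => by simp [cf_cons, cf_nil, Ne.symm e] at hne⟩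
  · exact absurd rfl hne

theorem lev_cases (x : D.Idx) :
    (P.nroots ≤ code P x ∧ lev P x = (P.nroots / 2 : ℕ)) ∨
    (code P x < P.nroots ∧ P.nroots ≤ 2 * code P x ∧ lev P x = (code P x : ℤ) + 1) ∨
    (code P x < P.nroots ∧ 2 * code P x < P.nroots ∧ lev P x = code P x) := by
  unfold lev
  by_cases h1 : P.nroots ≤ code P x
  · exact Or.inl ⟨h1, if_pos h1⟩
  rw [if_neg h1]
  by_cases h2 : P.isPos (code P x) = true
  · exact Or.inr (Or.inl ⟨by omega, (P.isPos_iff.1 h2).1, if_pos h2⟩)
  · exact Or.inr (Or.inr ⟨by omega, by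
      by_contra e; exact h2 (P.isPos_iff.2 ⟨by omega, by omega⟩), if_neg h2⟩)

theorem X_tri {r : ℕ} (hr : r < P.nroots) (t : F) :
    (P.isPos r = true → Tri (lev P) (X D P r t)) ∧
    (P.isPos r = false → Tri (fun x => -lev P x) (X D P r t)) := by
  have key : ∀ (row col : D.Idx) (k : ℕ), k ≠ 0 → cf (P.colL k r (code P col)) (code P row) ≠ 0 →
      (P.isPos r = true → lev P col < lev P row) ∧ (P.isPos r = false → lev P row < lev P col) := by
    intro row col k hk hne
    have hn := h.n_even
    have hp : P.isPos r = true ↔ P.nroots ≤ 2 * r := by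
      rw [P.isPos_iff]; exact ⟨fun a => a.1, fun a => ⟨a, hr⟩⟩
    rcases h.colL_entry hk hr hne with ⟨h1, h2⟩ | ⟨h1, h2⟩ | ⟨h1, h2, h3, h4, h5⟩
    · refine ⟨fun e => ?_, fun e => ?_⟩ <;> simp only [hp, ← Bool.not_eq_true] at e <;>
        rcases h.lev_cases row with a | a | a <;> rcases h.lev_cases col with b | b | b <;> omega
    · have hcn : code P col < P.nroots := h1 ▸ ng_lt hr
      have hng : code P col + r + 1 = P.nroots := by rw [h1, Pk.ng]; omega
      refine ⟨fun e => ?_, fun e => ?_⟩ <;> simp only [hp, ← Bool.not_eq_true] at e <;>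
        rcases h.lev_cases row with a | a | a <;> rcases h.lev_cases col with b | b | b <;> omega
    · have hx := h.tgt_lt hr h1 h4
      refine ⟨fun e => ?_, fun e => ?_⟩
      · have := ((h.order_spec hr h1 h4).1 e).1
        rcases h.lev_cases row with a | a | a <;> rcases h.lev_cases col with b | b | b <;> omega
      · have := (h.order_spec hr h1 h4).2 e
        rcases h.lev_cases row with a | a | a <;> rcases h.lev_cases col with b | b | b <;> omega
  refine ⟨fun e row col => ⟨fun e1 => (h.X_entry hr t row col).1 e1 fun k hk => ?_, fun e1 e2 => ?_⟩,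
    fun e row col => ⟨fun e1 => (h.X_entry hr t row col).1 e1 fun k hk => ?_, fun e1 e2 => ?_⟩⟩
  · by_contra hne
    have := (key row col k hk hne).1 e
    rw [e1] at this; omega
  · obtain ⟨k, hk, hne⟩ := (h.X_entry hr t row col).2 e1 e2
    exact (key row col k hk hne).1 e
  · by_contra hne
    have := (key row col k hk hne).2 e
    rw [e1] at this; omega
  · obtain ⟨k, hk, hne⟩ := (h.X_entry hr t row col).2 e1 e2
    have := (key row col k hk hne).2 e
    show -lev P col < -lev P row
    omega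

theorem tri_of_pos {g : GL D.Idx F} (hg : g ∈ D.posUnipotent F) :
    Tri (lev P) (g : Matrix D.Idx D.Idx F) := by
  rw [h.posUnipotent_eq] at hg
  induction hg using Subgroup.closure_induction'' with
  | one => simpa using tri_one _
  | mem x hx =>
    obtain ⟨r, t, hr, rfl⟩ := hx
    rw [h.coe_xG' (P.isPos_iff.1 hr).2]
    exact (h.X_tri (P.isPos_iff.1 hr).2 t).1 hr
  | inv_mem x hx =>
    obtain ⟨r, t, hr, rfl⟩ := hx
    rw [h.xG_inv, h.coe_xG' (P.isPos_iff.1 hr).2]
    exact (h.X_tri (P.isPos_iff.1 hr).2 _).1 hr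
  | mul a b _ _ iha ihb => rw [Units.val_mul]; exact iha.mul ihb

theorem negUnipotent_eq : D.negUnipotent F = h.genR fun r => r < P.nroots ∧ P.isPos r = false :=
  le_antisymm (h.negUnipotent_le fun _ hr hp t => h.xG_mem_genR ⟨hr, hp⟩ t)
    (h.genR_le fun _ hr t => h.xG_mem_neg hr.1 hr.2 t)

theorem tri_of_neg {g : GL D.Idx F} (hg : g ∈ D.negUnipotent F) :
    Tri (fun x => -lev P x) (g : Matrix D.Idx D.Idx F) := by
  rw [h.negUnipotent_eq] at hg
  induction hg using Subgroup.closure_induction'' with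
  | one => simpa using tri_one _
  | mem x hx =>
    obtain ⟨r, t, hr, rfl⟩ := hx
    rw [h.coe_xG' hr.1]
    exact (h.X_tri hr.1 t).2 hr.2
  | inv_mem x hx =>
    obtain ⟨r, t, hr, rfl⟩ := hx
    rw [h.xG_inv, h.coe_xG' hr.1]
    exact (h.X_tri hr.1 _).2 hr.2
  | mul a b _ _ iha ihb => rw [Units.val_mul]; exact iha.mul ihb

theorem X_raise {r : ℕ} (hp : P.isPos r = true) {m : ℕ} (hm : P.ng r < m) (t : F) :
    Raise P m (X D P r t) := by
  have hr := (P.isPos_iff.1 hp).2
  intro row col hc hmc
  have key : ∀ k, k ≠ 0 → cf (P.colL k r (code P col)) (code P row) ≠ 0 →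
      code P row < P.nroots ∧ code P col < code P row := by
    intro k hk hne
    rcases h.colL_entry hk hr hne with ⟨h1, -⟩ | ⟨h1, -⟩ | ⟨h1, h2, h3, h4, h5⟩
    · omega
    · omega
    · exact h5 ▸ ⟨h.tgt_lt hr h1 h4, ((h.order_spec hr h1 h4).1 hp).1⟩
  refine ⟨fun e => (h.X_entry hr t row col).1 e fun k hk => ?_, fun e1 e2 => ?_⟩
  · by_contra hne
    have := (key k hk hne).2
    rw [e] at this; omega
  · obtain ⟨k, hk, hne⟩ := (h.X_entry hr t row col).2 e1 e2
    exact key k hk hne

theorem X_coroot {r : ℕ} (hr : r < P.nroots) (t : F) {i : ℕ} (hi : i < P.rank) :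
    X D P r t (h.hIdx i hi) (h.rootIdx (P.ng r) (ng_lt hr)) = t * (P.co r i : F) := by
  rw [X_apply, Finset.sum_eq_single 1]
  · have hcs : code P (h.rootIdx (P.ng r) (ng_lt hr)) = P.ng r := rfl
    have hci : code P (h.hIdx i hi) = P.nroots + i := rfl
    rw [hcs, hci, h.colL_ng one_ne_zero hr, if_pos rfl, cf_map_range, pow_one,
      ← List.sum_toFinset _ List.nodup_range, Finset.sum_eq_single i]
    · rw [if_pos rfl]
    · intro j _ hj
      rw [if_neg (by omega)]
    · intro hn; exact absurd (by simpa using hi) hn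
  · intro k _ hk
    have hcs : code P (h.rootIdx (P.ng r) (ng_lt hr)) = P.ng r := rfl
    have hci : code P (h.hIdx i hi) = P.nroots + i := rfl
    have hne : code P (h.hIdx i hi) ≠ code P (h.rootIdx (P.ng r) (ng_lt hr)) := by
      rw [hcs, hci]; have := ng_lt hr; omega
    rcases Nat.eq_zero_or_pos k with rfl | hk0
    · have := congrFun (congrFun (h.Ek_zero (r := r)) (h.hIdx i hi)) (h.rootIdx (P.ng r) (ng_lt hr))
      rw [Ek, opM_apply] at this
      rw [this, Matrix.one_apply_ne fun e => hne (congrArg _ e)]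
      simp
    · rw [hcs, hci, h.colL_ng (by omega) hr, if_neg hk]
      split_ifs
      · simp [cf_cons, cf_nil, show r ≠ P.nroots + i by omega]
      · simp [cf_nil]
  · simp

/-- The coordinates of an ordered product are determined. -/
theorem prod_unique : ∀ L : List ℕ, L.Pairwise (· < ·) → (∀ r ∈ L, P.isPos r = true) → ∀ t u : ℕ → F,
    (L.map fun r => h.xG r (t r)).prod = (L.map fun r => h.xG r (u r)).prod → ∀ r ∈ L, t r = u r
  | [], _, _, _, _, _, _, hr => absurd hr List.not_mem_nil
  | a :: L, hsort, hpos, t, u, e, r, hr => by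
    have hgt := (List.pairwise_cons.1 hsort).1
    have ha := hpos a List.mem_cons_self
    have han := (P.isPos_iff.1 ha).2
    simp only [List.map_cons, List.prod_cons] at e
    have coeq : ∀ (f : ℕ → F) (i : ℕ) (hi : i < P.rank),
        ((h.xG a (f a) * (L.map fun r => h.xG r (f r)).prod : GL D.Idx F) : Matrix D.Idx D.Idx F)
          (h.hIdx i hi) (h.rootIdx (P.ng a) (ng_lt han)) = f a * (P.co a i : F) := by
      intro f i hi
      have hraise : Raise P (P.ng a)
          (((L.map fun r => h.xG r (f r)).prod : GL D.Idx F) : Matrix D.Idx D.Idx F) := by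
        have : ∀ L' : List ℕ, (∀ x ∈ L', x ∈ L) → Raise P (P.ng a)
            (((L'.map fun r => h.xG r (f r)).prod : GL D.Idx F) : Matrix D.Idx D.Idx F) := by
          intro L'
          induction L' with
          | nil => intro _; simpa using raise_one _
          | cons x L' ih =>
            intro hx
            simp only [List.map_cons, List.prod_cons, Units.val_mul]
            have hxL := hx x List.mem_cons_self
            have hxp := hpos x (List.mem_cons_of_mem _ hxL)
            rw [h.coe_xG' (P.isPos_iff.1 hxp).2]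
            refine Raise.mul (h.X_raise hxp ?_ _) (ih fun y hy => hx y (List.mem_cons_of_mem _ hy))
            have := hgt x hxL
            have := (P.isPos_iff.1 hxp).2
            simp only [Pk.ng]; omega
        exact this L fun x hx => hx
      set col := h.rootIdx (P.ng a) (ng_lt han)
      have hcol : code P col = P.ng a := rfl
      rw [Units.val_mul, Matrix.mul_apply, Finset.sum_eq_single col,
        ((hraise col col (hcol ▸ ng_lt han) hcol.ge).1 rfl), mul_one, h.coe_xG' han, h.X_coroot han _ hi]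
      · intro x _ hx
        by_contra hne
        obtain ⟨h1, h2⟩ := (hraise x col (hcol ▸ ng_lt han) hcol.ge).2 hx fun e' => hne (by rw [e', mul_zero])
        have hx' : X D P a (f a) (h.hIdx i hi) x = 0 := by
          by_contra hz
          have := ((h.X_raise ha (m := P.ng a + 1) (Nat.lt_succ_self _) (f a)) (h.hIdx i hi) x h1
            (by omega)).2 (fun e' => by
              have : code P (h.hIdx i hi) = P.nroots + i := rfl
              rw [e'] at this; omega) hz
          have hc : code P (h.hIdx i hi) = P.nroots + i := rfl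
          omega
        exact hne (by rw [h.coe_xG' han, hx', zero_mul])
      · simp
    have hall : ∀ i < P.rank, (t a - u a) * (P.co a i : F) = 0 := by
      intro i hi
      rw [sub_mul, ← coeq t i hi, ← coeq u i hi, e, sub_self]
    have hta : t a = u a := by
      by_contra hne
      have hz : ∀ i < P.rank, (P.co a i : F) = 0 :=
        fun i hi => (mul_eq_zero.1 (hall i hi)).resolve_left (sub_ne_zero.2 hne)
      have := h.roots
      simp only [Pk.ckRoots, List.all_eq_true, Pk.mem_allRoots, Bool.and_eq_true, List.mem_range,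
        decide_eq_true_eq] at this
      have hg := (this a han).2
      have key : ∀ l : List ℤ, (∀ c ∈ l, (c : F) = 0) →
          ((l.foldr (fun c g => Int.gcd c (g : ℤ)) 0 : ℕ) : F) = 0 := by
        intro l
        induction l with
        | nil => simp
        | cons c l ih =>
          intro hc
          rw [List.foldr_cons, ← Int.cast_natCast, Int.gcd_eq_gcd_ab]
          push_cast
          rw [hc c List.mem_cons_self, ih fun x hx => hc x (List.mem_cons_of_mem _ hx)]
          simp
      have h1 := key ((List.range P.rank).map fun i => P.co a i) fun c hc => by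
        obtain ⟨i, hi, rfl⟩ := List.mem_map.1 hc
        exact hz i (List.mem_range.1 hi)
      rw [hg] at h1
      simp at h1
    rcases List.mem_cons.1 hr with rfl | hr
    · exact hta
    · rw [hta] at e
      exact prod_unique L (List.pairwise_cons.1 hsort).2 (fun x hx => hpos x (List.mem_cons_of_mem _ hx))
        t u (mul_left_cancel e) r hr

theorem wordMat_eq (L : List ℕ) (t : ℕ → F) :
    ((L.map fun r => h.xG r (t r)).prod : GL D.Idx F).val = D.wordMat F (L.map fun r => (r, t r)) := by
  induction L with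
  | nil => simp [ChevalleyDatum.wordMat]
  | cons a L ih =>
    simp only [List.map_cons, List.prod_cons, Units.val_mul, ih, h.coe_xG, ChevalleyDatum.wordMat]

theorem posRoots_eq : D.posRoots = posL P := by
  rw [ChevalleyDatum.posRoots, posL, h.nroots]
  refine List.filter_congr fun r _ => ?_
  rw [Bool.eq_iff_iff, decide_eq_true_iff, h.isPosRoot_iff]

theorem posL_toFinset : (posL P).toFinset = Finset.Ico (P.nroots / 2) P.nroots := by
  ext r
  rw [List.mem_toFinset, mem_posL, P.isPos_iff, Finset.mem_Ico]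
  have := h.n_even
  omega

theorem mem_pos_prod (t : ℕ → F) : ((posL P).map fun r => h.xG r (t r)).prod ∈ D.posUnipotent F := by
  refine list_prod_mem fun x hx => ?_
  obtain ⟨r, hr, rfl⟩ := List.mem_map.1 hx
  exact h.xG_mem_pos (mem_posL.1 hr) _

theorem pos_normal_form (hC : P.ckComm = true) {g : GL D.Idx F} (hg : g ∈ D.posUnipotent F) :
    ∃ t : ℕ → F, g = ((posL P).map fun r => h.xG r (t r)).prod :=
  h.exists_prod hC _ posL_sorted (fun _ hr => mem_posL.1 hr) h.posL_closed g (by rw [h.genR_posL]; exact hg)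

theorem card_pos (hC : P.ckComm = true) [Fintype F] :
    Nat.card (D.posUnipotent F) = Fintype.card F ^ (P.nroots / 2) := by
  classical
  let S := (posL P).toFinset
  let ext : (S → F) → ℕ → F := fun v r => if hr : r ∈ S then v ⟨r, hr⟩ else 0
  let f : (S → F) → D.posUnipotent F := fun v =>
    ⟨((posL P).map fun r => h.xG r (ext v r)).prod, h.mem_pos_prod _⟩
  have hf : Function.Bijective f := by
    constructor
    · intro v w e
      funext ⟨r, hr⟩
      have := h.prod_unique _ posL_sorted (fun _ hx => mem_posL.1 hx) _ _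
        (congrArg Subtype.val e) r (List.mem_toFinset.1 hr)
      simpa [ext, hr] using this
    · rintro ⟨g, hg⟩
      obtain ⟨t, rfl⟩ := h.pos_normal_form hC hg
      refine ⟨fun r => t r.1, Subtype.ext ?_⟩
      refine congrArg List.prod (List.map_congr_left fun r hr => ?_)
      have : r ∈ S := List.mem_toFinset.2 hr
      simp [ext, this]
  rw [← Nat.card_congr (Equiv.ofBijective f hf), Nat.card_eq_fintype_card, Fintype.card_fun,
    Fintype.card_coe, show S = _ from h.posL_toFinset, Nat.card_Ico]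
  congr 1
  have := h.n_even
  omega

/-! ### Intersections -/

theorem diagonal_normalizes :
    D.diagonalSubgroup F ≤ Subgroup.normalizer (D.posUnipotent F : Set (GL D.Idx F)) := by
  intro g hg
  obtain ⟨c, rfl⟩ := h.mem_diagonal_iff.1 hg
  rw [h.posUnipotent_eq]
  refine mem_normalizer_closure ?_ ?_ <;> rintro _ ⟨r, t, hr, rfl⟩
  · rw [h.hHom_xG c (P.isPos_iff.1 hr).2]; exact h.xG_mem_genR hr _
  · have := h.hHom_xG (F := F) c⁻¹ (P.isPos_iff.1 hr).2 t
    rw [map_inv, inv_inv] at this
    rw [this]; exact h.xG_mem_genR hr _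

theorem mem_borel {g : GL D.Idx F} (hg : g ∈ D.borelSubgroup F) :
    ∃ u ∈ D.posUnipotent F, ∃ d ∈ D.diagonalSubgroup F, g = u * d := by
  rw [ChevalleyDatum.borelSubgroup, ← SetLike.mem_coe,
    Subgroup.coe_mul_of_right_le_normalizer_left _ _ h.diagonal_normalizes] at hg
  obtain ⟨u, hu, d, hd, rfl⟩ := hg
  exact ⟨u, hu, d, hd, rfl⟩

theorem coe_diag {d : GL D.Idx F} (hd : d ∈ D.diagonalSubgroup F) :
    ∃ χ : D.Idx → F, (d : Matrix D.Idx D.Idx F) = Matrix.diagonal χ := by
  obtain ⟨c, rfl⟩ := h.mem_diagonal_iff.1 hd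
  exact ⟨_, h.coe_hHom c⟩

theorem tri_diag_eq_one {f : D.Idx → ℤ} {d : GL D.Idx F} (hd : d ∈ D.diagonalSubgroup F)
    (ht : Tri f (d : Matrix D.Idx D.Idx F)) : d = 1 := by
  obtain ⟨χ, e⟩ := h.coe_diag hd
  apply Units.ext
  ext row col
  rw [Units.val_one]
  by_cases hrc : row = col
  · subst hrc; rw [(ht row row).1 rfl, Matrix.one_apply_eq]
  · rw [e, Matrix.diagonal_apply_ne _ hrc, Matrix.one_apply_ne hrc]

theorem pos_inf_diagonal : D.posUnipotent F ⊓ D.diagonalSubgroup F = ⊥ :=
  eq_bot_iff.2 fun _ hg => h.tri_diag_eq_one hg.2 (h.tri_of_pos hg.1)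

theorem pos_diag_neg {u d v : GL D.Idx F} (hu : u ∈ D.posUnipotent F) (hd : d ∈ D.diagonalSubgroup F)
    (hv : v ∈ D.negUnipotent F) (e : u * d = v) : v = 1 := by
  obtain ⟨χ, ed⟩ := h.coe_diag hd
  have ev : (v : Matrix D.Idx D.Idx F) = u * Matrix.diagonal χ := by rw [← e, Units.val_mul, ed]
  apply Units.ext
  ext row col
  rw [Units.val_one]
  by_cases hrc : row = col
  · subst hrc; rw [(h.tri_of_neg hv row row).1 rfl, Matrix.one_apply_eq]
  · rw [Matrix.one_apply_ne hrc]
    by_contra hne
    have h1 := (h.tri_of_neg hv row col).2 hrc hne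
    rw [ev, Matrix.mul_diagonal] at hne
    have h2 := (h.tri_of_pos hu row col).2 hrc (left_ne_zero_of_mul hne)
    simp only at h1
    omega

theorem borel_inf_neg : D.borelSubgroup F ⊓ D.negUnipotent F = ⊥ := by
  rw [eq_bot_iff]
  rintro g ⟨hg, hv⟩
  obtain ⟨u, hu, d, hd, rfl⟩ := h.mem_borel hg
  exact h.pos_diag_neg hu hd hv rfl

theorem neg_normalized :
    D.diagonalSubgroup F ≤ Subgroup.normalizer (D.negUnipotent F : Set (GL D.Idx F)) := by
  intro g hg
  obtain ⟨c, rfl⟩ := h.mem_diagonal_iff.1 hg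
  rw [h.negUnipotent_eq]
  refine mem_normalizer_closure ?_ ?_ <;> rintro _ ⟨r, t, hr, rfl⟩
  · rw [h.hHom_xG c hr.1]; exact h.xG_mem_genR hr _
  · have := h.hHom_xG (F := F) c⁻¹ hr.1 t
    rw [map_inv, inv_inv] at this
    rw [this]; exact h.xG_mem_genR hr _

theorem borel_inf_neg_diag :
    D.borelSubgroup F ⊓ (D.negUnipotent F ⊔ D.diagonalSubgroup F) = D.diagonalSubgroup F := by
  refine le_antisymm ?_ (le_inf le_sup_right le_sup_right)
  intro g hg
  obtain ⟨hg, hv⟩ := Subgroup.mem_inf.1 hg
  rw [← SetLike.mem_coe, Subgroup.coe_mul_of_right_le_normalizer_left _ _ h.neg_normalized] at hv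
  obtain ⟨v, hv, d', hd', rfl⟩ := hv
  obtain ⟨u, hu, d, hd, e⟩ := h.mem_borel hg
  have := h.pos_diag_neg (d := d * d'⁻¹) hu (mul_mem hd (inv_mem hd')) hv (by rw [← mul_assoc, ← e]; group)
  simpa [this] using hd'

theorem nW_col : ∀ l, WordOk P l → ∀ (row col : D.Idx), code P col < P.nroots →
    (h.nW (F := F) l : Matrix D.Idx D.Idx F) row col ≠ 0 → code P row = wl P l (code P col)
  | [], _, row, col, _, hne => by
    rw [h.nW_nil, Units.val_one] at hne
    rcases eq_or_ne row col with rfl | e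
    · rfl
    · exact absurd (Matrix.one_apply_ne e) hne
  | i :: l, hl, row, col, hc, hne => by
    rw [h.nW_cons, Units.val_mul, Matrix.mul_apply] at hne
    obtain ⟨x, -, hx⟩ := Finset.exists_ne_zero_of_sum_ne_zero hne
    have e := nW_col l hl.tail x col hc (right_ne_zero_of_mul hx)
    have hxn : code P x < P.nroots := e ▸ h.wl_lt l hl.tail _ hc
    have h1 := left_ne_zero_of_mul hx
    rw [h.coe_nG hl.head, cM_apply, Sg, opM_apply] at h1
    have hb : Nat.blt (code P x) P.nroots = true := by simpa [Nat.blt_eq] using hxn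
    simp only [Pk.sigCol, hb, cond_true] at h1
    by_contra hne'
    refine h1 ?_
    have : P.w i (code P x) ≠ code P row := by
      intro e2; exact hne' (by rw [← e2, e]; rfl)
    simp [cf_cons, cf_nil, this]

theorem pos_inf_monomial : D.posUnipotent F ⊓ D.monomialSubgroup F = ⊥ := by
  rw [eq_bot_iff]
  rintro g ⟨hg, hn⟩
  obtain ⟨l, hl, d, hd, rfl⟩ := h.exists_word_of_mem hn
  obtain ⟨χ, ed⟩ := h.coe_diag hd
  have htri := h.tri_of_pos hg
  have htriv : ∀ r < P.nroots, wl P l r = r := by
    intro r hr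
    have h1 := (htri (h.rootIdx r hr) (h.rootIdx r hr)).1 rfl
    rw [Units.val_mul, ed, Matrix.mul_diagonal] at h1
    exact (h.nW_col (F := F) l hl (h.rootIdx r hr) (h.rootIdx r hr) hr
      (left_ne_zero_of_mul (h1 ▸ one_ne_zero))).symm
  exact h.tri_diag_eq_one (mul_mem (h.nW_mem_diagonal hl htriv) hd) htri

theorem borel_inf_monomial :
    D.borelSubgroup F ⊓ D.monomialSubgroup F = D.diagonalSubgroup F := by
  refine le_antisymm ?_ (le_inf le_sup_right (by rw [h.monomial_eq]; exact le_sup_left))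
  intro g hg
  obtain ⟨hg, hn⟩ := Subgroup.mem_inf.1 hg
  obtain ⟨u, hu, d, hd, rfl⟩ := h.mem_borel hg
  have hdN : d ∈ D.monomialSubgroup F := by rw [h.monomial_eq]; exact Subgroup.mem_sup_left hd
  have : u ∈ D.posUnipotent F ⊓ D.monomialSubgroup F :=
    ⟨hu, by simpa using mul_mem hn (inv_mem hdN)⟩
  rw [h.pos_inf_monomial, Subgroup.mem_bot] at this
  simpa [this] using hd

/-! ### Nilpotence and solvability -/

theorem ht_pos {r : ℕ} (hp : P.isPos r = true) : 0 < P.ht r := by
  obtain ⟨i, hi, hpos⟩ := h.exists_pos_coord hp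
  rw [Pk.ht, ← List.sum_toFinset _ List.nodup_range]
  refine Finset.sum_pos' (fun j hj => (h.rv_sign (P.isPos_iff.1 hp).2 (by simpa using hj)).1 hp)
    ⟨i, by simpa using hi, hpos⟩

theorem ht_tgt {r s k : ℕ} (hr : r < P.nroots) (hs : s < P.nroots) (hk : k < P.len r s) :
    P.ht (P.tgt r s k) = (k + 1) * P.ht r + P.ht s := by
  simp only [Pk.ht, ← List.sum_toFinset _ List.nodup_range, Finset.mul_sum, ← Finset.sum_add_distrib]
  exact Finset.sum_congr rfl fun i hi => h.rv_additive hr hs hk (by simpa using hi)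

/-- The height filtration. -/
def uFil (m : ℤ) : Subgroup (GL D.Idx F) := h.genR fun r => P.isPos r = true ∧ m ≤ P.ht r

theorem cterms_ht {r s : ℕ} (hr : P.isPos r = true) (hs : P.isPos s = true) :
    ∀ c ∈ P.cterms r s, P.isPos c.1 = true ∧ P.ht r + P.ht s ≤ P.ht c.1 := by
  have hr' := (P.isPos_iff.1 hr).2
  have hs' := (P.isPos_iff.1 hs).2
  have := h.ht_pos hr
  have := h.ht_pos hs
  refine h.cterms_ind (T := fun c => P.isPos c = true ∧ P.ht r + P.ht s ≤ P.ht c) hr' hs' ?_ ?_ ?_ ?_
  · intro k hk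
    refine ⟨(h.pos_tgt hr hs hk).1, ?_⟩
    rw [h.ht_tgt hr' hs' hk]; nlinarith
  · intro k hk
    refine ⟨(h.pos_tgt hs hr hk).1, ?_⟩
    rw [h.ht_tgt hs' hr' hk]; nlinarith
  · intro a ha hT k hk
    refine ⟨(h.pos_tgt hT.1 hs hk).1, ?_⟩
    have := h.ht_pos hT.1
    rw [h.ht_tgt ha hs' hk]; nlinarith [hT.2]
  · intro a ha hT k hk
    refine ⟨(h.pos_tgt hT.1 hr hk).1, ?_⟩
    have := h.ht_pos hT.1
    rw [h.ht_tgt ha hr' hk]; nlinarith [hT.2]

theorem pos_normalizes_uFil (hC : P.ckComm = true) (m : ℤ) :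
    D.posUnipotent F ≤ Subgroup.normalizer (h.uFil (F := F) m : Set (GL D.Idx F)) := by
  refine h.posUnipotent_le fun r hr t => h.genR_normalizer hC (fun s hs => (P.isPos_iff.1 hs.1).2)
    (P.isPos_iff.1 hr).2 (fun s hs => ?_) t
  by_cases hsr : s = r
  · exact Or.inl hsr
  refine Or.inr ⟨?_, fun c hc => ?_⟩
  · intro e
    have := hs.1
    rw [e, h.ng_pos_iff (P.isPos_iff.1 hr).2, hr] at this
    exact absurd this (by simp)
  · obtain ⟨h1, h2⟩ := h.cterms_ht hr hs.1 c hc
    exact ⟨h1, by linarith [hs.2, h.ht_pos hr]⟩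

open scoped commutatorElement in
theorem uFil_comm (hC : P.ckComm = true) (m : ℤ) :
    ⁅h.uFil (F := F) m, D.posUnipotent F⁆ ≤ h.uFil (m + 1) := by
  rw [h.posUnipotent_eq]
  refine commutator_closure_le ?_ ?_ ?_
  · rintro _ ⟨r, t, hr, rfl⟩
    exact h.pos_normalizes_uFil hC _ (h.xG_mem_pos hr.1 t)
  · rintro _ ⟨r, t, hr, rfl⟩
    exact h.pos_normalizes_uFil hC _ (h.xG_mem_pos hr t)
  · rintro _ ⟨s, u, hs, rfl⟩ _ ⟨r, t, hr, rfl⟩
    by_cases hsr : s = r
    · subst hsr
      rw [commutatorElement_def, h.xG_inv, h.xG_inv, h.xG_add, h.xG_add, h.xG_add]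
      rw [show u + t + -u + -t = (0 : F) by ring, h.xG_zero]
      exact one_mem _
    have hrn := (P.isPos_iff.1 hr).2
    have hsn := (P.isPos_iff.1 hs.1).2
    have hne : s ≠ P.ng r := by
      intro e
      have := hs.1
      rw [e, h.ng_pos_iff hrn, hr] at this
      exact absurd this (by simp)
    set W : GL D.Idx F := ((P.cword r s).map fun g =>
      h.xG g.1 ((g.2.1 : F) * (-t) ^ g.2.2.1 * (-u) ^ g.2.2.2)).prod with hW
    have hWm : W ∈ h.uFil (F := F) (m + 1) := by
      refine list_prod_mem fun x hx => ?_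
      simp only [Pk.cword, List.map_map, List.mem_map, Function.comp_apply] at hx
      obtain ⟨c, hc', rfl⟩ := hx
      obtain ⟨h1, h2⟩ := h.cterms_ht hr hs.1 c hc'
      exact h.xG_mem_genR ⟨h1, by linarith [hs.2, h.ht_pos hr]⟩ _
    have e : h.xG s (-u) * h.xG r (-t) = h.xG r (-t) * h.xG s (-u) * W := by
      apply Units.ext
      simp only [Units.val_mul, h.coe_xG' hrn, h.coe_xG' hsn, h.comm_formula hC hrn hsn hsr hne]
      congr 1
      rw [hW, monWord]
      generalize hL : P.cword r s = L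
      have hlt : ∀ g ∈ L, g.1 < P.nroots := by
        intro g hg
        rw [← hL] at hg
        simp only [Pk.cword, List.mem_map] at hg
        obtain ⟨c, hc', rfl⟩ := hg
        exact h.cterms_lt hrn hsn c hc'
      clear hL
      induction L with
      | nil => simp
      | cons g L ih =>
        simp only [List.map_cons, List.prod_cons, Units.val_mul]
        rw [h.coe_xG' (hlt g List.mem_cons_self), ← ih fun x hx => hlt x (List.mem_cons_of_mem _ hx)]
    rw [← h.xG_inv, ← h.xG_inv] at e
    have : ⁅h.xG s u, h.xG r t⁆ = h.xG s u * h.xG r t * ((h.xG r t)⁻¹ * (h.xG s u)⁻¹ * W) := by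
      rw [← e, commutatorElement_def]; group
    rw [this, show h.xG s u * h.xG r t * ((h.xG r t)⁻¹ * (h.xG s u)⁻¹ * W) = W by group]
    exact hWm

open scoped commutatorElement in
theorem pos_nilpotent (hC : P.ckComm = true) : Group.IsNilpotent (D.posUnipotent F) := by
  let B : ℕ := ((Finset.range P.nroots).sup fun r => (P.ht r).toNat)
  have hmem : ∀ n : ℕ, (⊤ : Subgroup (D.posUnipotent F)).lowerCentralSeries n ≤
      (h.uFil (F := F) ((n : ℤ) + 1)).subgroupOf (D.posUnipotent F) := by
    intro n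
    induction n with
    | zero =>
      intro x _
      rw [Subgroup.mem_subgroupOf]
      refine h.posUnipotent_le (S := h.uFil _) (fun r hr t => h.xG_mem_genR ⟨hr, ?_⟩ t) x.2
      have := h.ht_pos hr
      push_cast; omega
    | succ n ih =>
      rw [Subgroup.lowerCentralSeries_succ, Subgroup.commutator_le]
      intro x hx y _
      rw [Subgroup.mem_subgroupOf]
      have := h.uFil_comm hC _ (Subgroup.commutator_mem_commutator (ih hx) y.2)
      push_cast at this ⊢
      exact this
  rw [Subgroup.nilpotent_iff_lowerCentralSeries]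
  refine ⟨B, eq_bot_iff.2 fun x hx => ?_⟩
  have hbot : h.uFil (F := F) ((B : ℤ) + 1) ≤ ⊥ := by
    refine h.genR_le fun r hr => ?_
    exfalso
    have h1 := (P.isPos_iff.1 hr.1).2
    have h2 : (P.ht r).toNat ≤ B := Finset.le_sup (f := fun r => (P.ht r).toNat) (Finset.mem_range.2 h1)
    have := h.ht_pos hr.1
    omega
  exact Subgroup.mem_bot.2 (Subtype.ext (Subgroup.mem_bot.1 (hbot (hmem B hx))))

open scoped commutatorElement in
theorem borel_solvable (hC : P.ckComm = true) : Group.IsSolvable (D.borelSubgroup F) := by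
  have hle : ⁅D.borelSubgroup F, D.borelSubgroup F⁆ ≤ D.posUnipotent F := by
    set A : Set (GL D.Idx F) := (D.posUnipotent F : Set (GL D.Idx F)) ∪ D.diagonalSubgroup F
    have hA : D.borelSubgroup F = Subgroup.closure A := by
      rw [ChevalleyDatum.borelSubgroup, Subgroup.closure_union, Subgroup.closure_eq, Subgroup.closure_eq]
    have hAn : A ⊆ Subgroup.normalizer (D.posUnipotent F : Set (GL D.Idx F)) :=
      Set.union_subset Subgroup.le_normalizer h.diagonal_normalizes
    rw [hA]
    refine commutator_closure_le hAn hAn ?_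
    intro a ha b hb
    rcases ha with ha | ha
    · have hb' : b ∈ Subgroup.normalizer (D.posUnipotent F : Set (GL D.Idx F)) := hAn hb
      rw [commutatorElement_def, mul_assoc, mul_assoc]
      exact mul_mem ha (by simpa [mul_assoc] using (Subgroup.mem_normalizer_iff.1 hb' _).1 (inv_mem ha))
    · rcases hb with hb | hb
      · rw [commutatorElement_def]
        exact mul_mem ((Subgroup.mem_normalizer_iff.1 (h.diagonal_normalizes ha) _).1 hb) (inv_mem hb)
      · obtain ⟨c, rfl⟩ := h.mem_diagonal_iff.1 ha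
        obtain ⟨d, rfl⟩ := h.mem_diagonal_iff.1 hb
        rw [commutatorElement_eq_one_iff_commute.2 ((Commute.all c d).map h.hHom)]
        exact one_mem _
  haveI := h.pos_nilpotent (F := F) hC
  set K := (D.posUnipotent F).subgroupOf (D.borelSubgroup F)
  have hK : K.Normal := ⟨fun x hx g => by
    rw [Subgroup.mem_subgroupOf] at hx ⊢
    have : ((g * x * g⁻¹ : D.borelSubgroup F) : GL D.Idx F) = ⁅(g : GL D.Idx F), (x : GL D.Idx F)⁆ * x := by
      simp [commutatorElement_def]
    rw [this]
    exact mul_mem (hle (Subgroup.commutator_mem_commutator g.2 x.2)) hx⟩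
  haveI : Group.IsSolvable K :=
    Group.isSolvable_of_isSolvable_injective (f := (Subgroup.subgroupOfEquivOfLe
      (le_sup_left : D.posUnipotent F ≤ D.borelSubgroup F)).toMonoidHom) (MulEquiv.injective _)
  haveI : Group.IsSolvable (D.borelSubgroup F ⧸ K) := by
    refine Group.isSolvable_of_comm ?_
    intro a b
    induction a using QuotientGroup.induction_on with
    | H a =>
      induction b using QuotientGroup.induction_on with
      | H b =>
        rw [← QuotientGroup.mk_mul, ← QuotientGroup.mk_mul, QuotientGroup.eq]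
        rw [Subgroup.mem_subgroupOf]
        have := hle (Subgroup.commutator_mem_commutator (inv_mem b.2) (inv_mem a.2))
        simpa [commutatorElement_def, mul_assoc] using this
  exact Group.isSolvable_of_ker_le_range K.subtype (QuotientGroup.mk' K) (by simp)

/-! ### A fundamental root inside `U` -/

/-- Roots with a positive coordinate outside `J`. -/
def Out (P : Pk) (J : ℕ → Prop) (a : ℕ) : Prop :=
  a < P.nroots ∧ ∃ m < P.rank, ¬ J m ∧ 0 < P.rv a m

theorem out_normalizer (hC : P.ckComm = true) (J : ℕ → Prop) {r : ℕ} (hr : r < P.nroots)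
    (hJ : ∀ m < P.rank, ¬ J m → P.rv r m = 0) (t : F) :
    h.xG r t ∈ Subgroup.normalizer (h.genR (F := F) (Out P J) : Set (GL D.Idx F)) := by
  refine h.genR_normalizer hC (fun s hs => hs.1) hr (fun s hs => Or.inr ⟨?_, fun c hc => ?_⟩) t
  · intro e
    obtain ⟨-, m, hm, hmJ, hpos⟩ := hs
    rw [e, h.rv_ng hr hm, hJ m hm hmJ] at hpos
    omega
  · obtain ⟨hsn, m, hm, hmJ, hpos⟩ := hs
    suffices hh : c.1 < P.nroots ∧ 0 < P.rv c.1 m from ⟨hh.1, m, hm, hmJ, hh.2⟩
    refine h.cterms_ind (T := fun c => c < P.nroots ∧ 0 < P.rv c m) hr hsn ?_ ?_ ?_ ?_ c hc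
    · intro k hk
      refine ⟨h.tgt_lt hr hsn hk, ?_⟩
      rw [h.rv_additive hr hsn hk hm, hJ m hm hmJ]; simpa using hpos
    · intro k hk
      refine ⟨h.tgt_lt hsn hr hk, ?_⟩
      rw [h.rv_additive hsn hr hk hm, hJ m hm hmJ, add_zero]
      positivity
    · intro a ha hT k hk
      refine ⟨h.tgt_lt ha hsn hk, ?_⟩
      rw [h.rv_additive ha hsn hk hm]; nlinarith [hT.2]
    · intro a ha hT k hk
      refine ⟨h.tgt_lt ha hr hk, ?_⟩
      rw [h.rv_additive ha hr hk hm, hJ m hm hmJ, add_zero]
      exact mul_pos (by positivity) hT.2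

theorem out_sim {i : ℕ} (hi : i < P.rank) {s : ℕ} :
    Out P (· = i) s ↔ P.isPos s = true ∧ s ≠ P.sim i := by
  constructor
  · rintro ⟨hs, m, hm, hmi, hpos⟩
    refine ⟨h.pos_of_rv hs hm hpos, ?_⟩
    rintro rfl
    rw [h.rv_sim hi hm, if_neg (Ne.symm hmi)] at hpos
    omega
  · rintro ⟨hp, hne⟩
    have hs := (P.isPos_iff.1 hp).2
    refine ⟨hs, ?_⟩
    by_contra hall
    push_neg at hall
    obtain ⟨j, hj, hjpos⟩ := h.exists_pos_coord hp
    have hji : j = i := by
      by_contra e
      have := hall j hj e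
      omega
    subst hji
    have hwp : P.isPos (P.w j s) = true := by
      rcases (h.w_spec hj hs).2.2.2.2.2.2.1 with e | e | e
      · exact absurd e hne
      · exfalso
        rw [e, h.ng_pos_iff (h.sim_lt hj), h.sim_pos hj] at hp
        simp at hp
      · rw [← e]; exact hp
    have hw := (h.w_spec hj hs).2.2.2.2.2.1 j hj
    rw [if_pos rfl] at hw
    have hA : P.A j s = 2 * P.rv s j := by
      rw [h.A_eq_sum hs hj, Finset.sum_eq_single j, h.A_self hj, mul_comm]
      · intro k hk hkj
        have h1 := hall k (Finset.mem_range.1 hk) hkj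
        have h2 := (h.rv_sign hs (Finset.mem_range.1 hk)).1 hp
        rw [show P.rv s k = 0 by omega, zero_mul]
      · intro hn; exact absurd (Finset.mem_range.2 hj) hn
    have := (h.rv_sign (h.w_lt hj hs) hj).1 hwp
    omega

theorem fundamental_closure {i : ℕ} (hi : i < P.rank) :
    Subgroup.closure {g : GL D.Idx F | ∃ (s : ℕ) (t : F), D.IsPosRoot s ∧ s ≠ D.simple i ∧
      (g : Matrix D.Idx D.Idx F) = D.x F s t} = h.genR (Out P (· = i)) := by
  unfold genR
  congr 1
  ext g
  simp only [Set.mem_setOf_eq, h.isPosRoot_iff, h.simple_eq hi, h.eq_xG_iff, h.out_sim hi, and_assoc]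

theorem fundamental_split (hC : P.ckComm = true) {i : ℕ} (hi : i < P.rank) :
    D.rootSubgroup F (P.sim i) ⊔ D.rootSubgroup F (P.ng (P.sim i)) ≤
        Subgroup.normalizer (h.genR (F := F) (Out P (· = i)) : Set (GL D.Idx F)) ∧
      h.genR (F := F) (Out P (· = i)) ⊔ D.rootSubgroup F (P.sim i) = D.posUnipotent F := by
  have hp := h.sim_lt hi
  refine ⟨sup_le ?_ ?_, le_antisymm (sup_le ?_ ?_) ?_⟩
  · refine (Subgroup.closure_le _).2 ?_
    rintro g ⟨t, hg⟩
    rw [h.eq_xG_iff.1 hg]
    exact h.out_normalizer hC _ hp (fun m hm hne => by rw [h.rv_sim hi hm, if_neg (Ne.symm hne)]) t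
  · refine (Subgroup.closure_le _).2 ?_
    rintro g ⟨t, hg⟩
    rw [h.eq_xG_iff.1 hg]
    exact h.out_normalizer hC _ (ng_lt hp)
      (fun m hm hne => by rw [h.rv_ng hp hm, h.rv_sim hi hm, if_neg (Ne.symm hne), neg_zero]) t
  · exact h.genR_le fun r hr t => h.xG_mem_pos ((h.out_sim hi).1 hr).1 t
  · refine (Subgroup.closure_le _).2 ?_
    rintro g ⟨t, hg⟩
    rw [h.eq_xG_iff.1 hg]
    exact h.xG_mem_pos (h.sim_pos hi) t
  · refine h.posUnipotent_le fun r hr t => ?_
    by_cases e : r = P.sim i
    · subst e; exact Subgroup.mem_sup_right (h.mem_rootSubgroup t)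
    · exact Subgroup.mem_sup_left (h.xG_mem_genR ((h.out_sim hi).2 ⟨hr, e⟩) t)

/-! ### The longest word -/

/-- The positive roots sent to negative roots by a word. -/
def inv' (P : Pk) (l : List ℕ) : Finset ℕ :=
  (Finset.range P.nroots).filter fun r => P.isPos r = true ∧ P.isPos (wl P l r) = false

theorem exists_longest : ∃ l, WordOk P l ∧ ∀ r, P.isPos r = true → P.isPos (wl P l r) = false := by
  have step : ∀ l, WordOk P l → (∃ r, P.isPos r = true ∧ P.isPos (wl P l r) = true) →
      ∃ l', WordOk P l' ∧ (inv' P l).card < (inv' P l').card := by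
    rintro l hl ⟨r, hr, hwr⟩
    have hrn := (P.isPos_iff.1 hr).2
    obtain ⟨i, hi, hsi⟩ : ∃ i < P.rank, P.isPos (wl P l (P.sim i)) = true := by
      by_contra hall
      push_neg at hall
      obtain ⟨m, hm, hpos⟩ := h.exists_pos_coord hwr
      have : P.rv (wl P l r) m ≤ 0 := by
        rw [h.rv_wl l hl r hrn m hm]
        refine Finset.sum_nonpos fun k hk => mul_nonpos_of_nonneg_of_nonpos
          ((h.rv_sign hrn (Finset.mem_range.1 hk)).1 hr) ?_
        have hk' := Finset.mem_range.1 hk
        exact (h.rv_sign (h.wl_lt l hl _ (h.sim_lt hk')) hm).2 (by simpa using hall k hk')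
      omega
    refine ⟨l ++ [i], fun x hx => ?_, ?_⟩
    · rcases List.mem_append.1 hx with e | e
      · exact hl x e
      · simp at e; exact e ▸ hi
    have hsim : P.sim i ∈ inv' P (l ++ [i]) := by
      refine Finset.mem_filter.2 ⟨Finset.mem_range.2 (h.sim_lt hi), h.sim_pos hi, ?_⟩
      rw [wl_append]
      simp only [wl]
      rw [h.w_sim hi, h.wl_ng l hl _ (h.sim_lt hi), ← Bool.not_eq_true,
        h.ng_pos_iff (h.wl_lt l hl _ (h.sim_lt hi)), hsi]
      simp
    refine lt_of_lt_of_le ?_ (Finset.card_le_card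
      (show insert (P.sim i) ((inv' P l).image (P.w i)) ⊆ inv' P (l ++ [i]) from ?_))
    · rw [Finset.card_insert_of_notMem, Finset.card_image_of_injOn]
      · omega
      · intro a ha b hb
        exact h.w_inj hi (Finset.mem_range.1 (Finset.mem_filter.1 ha).1)
          (Finset.mem_range.1 (Finset.mem_filter.1 hb).1)
      · intro hmem
        obtain ⟨a, ha, e⟩ := Finset.mem_image.1 hmem
        obtain ⟨han, hap, hneg⟩ := Finset.mem_filter.1 ha
        have han' := Finset.mem_range.1 han
        have : a = P.ng (P.sim i) := by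
          rw [← h.w_w hi han', e, h.w_sim hi]
        rw [this, h.ng_pos_iff (h.sim_lt hi), h.sim_pos hi] at hap
        simp at hap
    · refine Finset.insert_subset hsim fun x hx => ?_
      obtain ⟨a, ha, rfl⟩ := Finset.mem_image.1 hx
      obtain ⟨han, hap, hneg⟩ := Finset.mem_filter.1 ha
      have han' := Finset.mem_range.1 han
      refine Finset.mem_filter.2 ⟨Finset.mem_range.2 (h.w_lt hi han'), ?_, ?_⟩
      · rcases (h.w_spec hi han').2.2.2.2.2.2.1 with e | e | e
        · exfalso; rw [e, hsi] at hneg; simp at hneg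
        · rw [e, h.ng_pos_iff (h.sim_lt hi), h.sim_pos hi] at hap; simp at hap
        · rw [← e]; exact hap
      · rw [wl_append]
        simp only [wl]
        rw [h.w_w hi han']
        exact hneg
  have main : ∀ k, (∀ l, WordOk P l → (∃ r, P.isPos r = true ∧ P.isPos (wl P l r) = true)) →
      ∃ l, WordOk P l ∧ k ≤ (inv' P l).card := by
    intro k hall
    induction k with
    | zero => exact ⟨[], fun _ hx => absurd hx List.not_mem_nil, Nat.zero_le _⟩
    | succ k ih =>
      obtain ⟨l, hl, hk⟩ := ih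
      obtain ⟨l', hl', hlt⟩ := step l hl (hall l hl)
      exact ⟨l', hl', by omega⟩
  by_contra hne
  push_neg at hne
  obtain ⟨l, -, hk⟩ := main (P.nroots + 1) fun l hl => by
    obtain ⟨r, h1, h2⟩ := hne l hl
    exact ⟨r, h1, by simpa using h2⟩
  have : (inv' P l).card ≤ P.nroots := by
    simpa [inv'] using Finset.card_filter_le (Finset.range P.nroots) _
  omega

theorem exists_flip : ∃ n ∈ D.monomialSubgroup F,
    (D.posUnipotent F).map (MulAut.conj n).toMonoidHom = D.negUnipotent F := by
  obtain ⟨l, hl, hneg⟩ := h.exists_longest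
  refine ⟨h.nW l, h.nW_mem l hl, le_antisymm ?_ ?_⟩
  · rw [Subgroup.map_le_iff_le_comap]
    refine h.posUnipotent_le fun r hr t => ?_
    have hrn := (P.isPos_iff.1 hr).2
    obtain ⟨e, -, hx⟩ := h.nW_xG (F := F) l hl r hrn
    rw [Subgroup.mem_comap, MulEquiv.toMonoidHom_eq_coe, MonoidHom.coe_coe, MulAut.conj_apply, (hx t).1]
    exact h.xG_mem_neg (h.wl_lt l hl r hrn) (hneg r hr) _
  · refine h.negUnipotent_le fun s hs hsp t => ?_
    have hl' : WordOk P l.reverse := fun x hx => hl x (List.mem_reverse.1 hx)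
    set r := wl P l.reverse s
    have hrn : r < P.nroots := h.wl_lt _ hl' s hs
    have hrs : wl P l r = s := by
      have := h.wl_reverse l.reverse hl' s hs
      rwa [List.reverse_reverse] at this
    have hrp : P.isPos r = true := by
      by_contra e
      have h1 := hneg (P.ng r) ((h.ng_pos_iff hrn).2 (by simpa using e))
      rw [h.wl_ng l hl r hrn, hrs, ← Bool.not_eq_true, h.ng_pos_iff hs] at h1
      exact h1 hsp
    obtain ⟨e, he, hx⟩ := h.nW_xG (F := F) l hl r hrn
    refine ⟨h.xG r (e * t), h.xG_mem_pos hrp _, ?_⟩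
    rw [MulEquiv.toMonoidHom_eq_coe, MonoidHom.coe_coe, MulAut.conj_apply, (hx (e * t)).1, ← mul_assoc, he,
      one_mul, hrs]

end Ok

end Cfsg.Agent.Chev
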