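/-
The (B,N)-pair of a Chevalley group.
-/
import Cfsg.Agent.Lib.Chev.Unipotent
import Cfsg.Prelude.Def_LieExceptional

set_option autoImplicit false

namespace Cfsg.Agent.Chev

open Cfsg.Lie
open scoped Matrix

variable {D : ChevalleyDatum} {P : Pk} {F : Type*} [Field F]

namespace Pk

variable (Q : Pk)

/-- Nodes reachable from the first one in `k` steps. -/
def reach : ℕ → List ℕ
  | 0 => [0]
  | k + 1 => (List.range Q.rank).filter fun i =>
      (reach k).any fun j => Nat.beq i j || !(Q.A i (Q.sim j) == 0)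

/-- The diagram is connected. -/
def ckConn : Bool := (List.range Q.rank).all fun i => (Q.reach Q.rank).any fun j => Nat.beq i j

end Pk

namespace Ok

variable (h : Ok D P)
include h

theorem xG_pos_eq_one {r : ℕ} (hr : P.isPos r = true) {t : F} (e : h.xG r t = 1) : t = 0 := by
  have := h.prod_unique [r] (List.pairwise_singleton _ _) (fun x hx => by
    rw [List.mem_singleton.1 hx]; exact hr) (fun _ => t) (fun _ => 0)
    (by simp only [List.map_cons, List.map_nil, List.prod_cons, List.prod_nil]; rw [e, h.xG_zero])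
    r List.mem_cons_self
  exact this

theorem co_cast_ne {r : ℕ} (hr : r < P.nroots) : ∃ i < P.rank, (P.co r i : F) ≠ 0 := by
  by_contra hall
  push_neg at hall
  have := h.roots
  simp only [Pk.ckRoots, List.all_eq_true, Pk.mem_allRoots, Bool.and_eq_true, List.mem_range,
    decide_eq_true_eq] at this
  have hg := (this r hr).2
  have key : ∀ l : List ℤ, (∀ c ∈ l, (c : F) = 0) →
      ((l.foldr (fun c g => Int.gcd c (g : ℤ)) 0 : ℕ) : F) = 0 := by
    intro l
    induction l with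
    | nil => simp
    | cons c l ih =>
      intro hc
      rw [List.foldr_cons, ← Int.cast_natCast, Int.gcd_eq_gcd_ab]
      push_cast
      rw [hc c List.mem_cons_self, ih fun x hx => hc x (List.mem_cons_of_mem _ hx)]
      simp
  have h1 := key ((List.range P.rank).map fun i => P.co r i) fun c hc => by
    obtain ⟨i, hi, rfl⟩ := List.mem_map.1 hc
    exact hall i (List.mem_range.1 hi)
  rw [hg] at h1
  simp at h1

theorem xG_index_inj {a b : ℕ} (ha : a < P.nroots) (hb : b < P.nroots) {t s : F} (ht : t ≠ 0)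
    (e : h.xG a t = h.xG b s) : a = b := by
  by_contra hab
  obtain ⟨i, hi, hco⟩ := h.co_cast_ne (F := F) ha
  have e' := congrArg (fun g : GL D.Idx F => g.val (h.hIdx i hi) (h.rootIdx (P.ng a) (ng_lt ha))) e
  simp only [h.coe_xG' ha, h.coe_xG' hb, h.X_coroot ha] at e'
  refine mul_ne_zero ht hco (e'.trans ?_)
  by_contra hne
  have hc1 : code P (h.hIdx i hi) = P.nroots + i := rfl
  have hc2 : code P (h.rootIdx (P.ng a) (ng_lt ha)) = P.ng a := rfl
  obtain ⟨k, hk, hz⟩ := (h.X_entry hb s _ _).2 (fun e2 => by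
    have := congrArg (code P) e2; rw [hc1, hc2] at this; have := ng_lt ha; omega) hne
  rw [hc1, hc2] at hz
  rcases h.colL_entry hk hb hz with ⟨h1, -⟩ | ⟨h1, -⟩ | ⟨h1, -, -, h4, h5⟩
  · have := ng_lt ha; omega
  · exact hab (by rw [← ng_ng ha, h1, ng_ng hb])
  · have := h.tgt_lt hb h1 h4; omega

theorem xG_inj_param {r : ℕ} (hr : r < P.nroots) {t s : F} (e : h.xG r t = h.xG r s) : t = s := by
  obtain ⟨i, hi, hco⟩ := h.co_cast_ne (F := F) hr
  have e' := congrArg (fun g : GL D.Idx F => g.val (h.hIdx i hi) (h.rootIdx (P.ng r) (ng_lt hr))) e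
  simp only [h.coe_xG' hr, h.X_coroot hr] at e'
  exact mul_right_cancel₀ hco e'

theorem nG_sim {i : ℕ} (hi : i < P.rank) (t : F) :
    h.nG i * h.xG (P.sim i) t * (h.nG i)⁻¹ = h.xG (P.ng (P.sim i)) ((P.eta i (P.sim i) : F) * t) := by
  rw [h.nG_xG hi (h.sim_lt hi), h.w_sim hi]

theorem neg_decomp {r : ℕ} (t : F) :
    h.xG (P.ng r) t = h.xG r t⁻¹ * h.nt r (-t⁻¹) * h.xG r t⁻¹ := by
  rw [nt, neg_inv, inv_inv, neg_neg]
  simp only [← mul_assoc, h.xG_add]
  rw [← neg_inv, add_neg_cancel, h.xG_zero, one_mul, mul_assoc, h.xG_add, neg_add_cancel, h.xG_zero,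
    mul_one]

/-- The monomial element attached to a word and an element of `H`. -/
theorem nW_mul_mem {l : List ℕ} (hl : WordOk P l) {d : GL D.Idx F} (hd : d ∈ D.diagonalSubgroup F) :
    h.nW l * d ∈ D.monomialSubgroup F :=
  mul_mem (h.nW_mem l hl) (by rw [h.monomial_eq]; exact Subgroup.mem_sup_left hd)

/-- Moving a positive root element to the right of a monomial element. -/
theorem move_right {l : List ℕ} (hl : WordOk P l) {d : GL D.Idx F} (hd : d ∈ D.diagonalSubgroup F)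
    {r : ℕ} (hr : r < P.nroots) (t : F) :
    ∃ t' : F, h.xG r t * (h.nW l * d) = h.nW l * d * h.xG (wl P l.reverse r) t' := by
  have hl' : WordOk P l.reverse := fun x hx => hl x (List.mem_reverse.1 hx)
  have hq := h.wl_lt _ hl' r hr
  have hqr : wl P l (wl P l.reverse r) = r := by
    have := h.wl_reverse l.reverse hl' r hr
    rwa [List.reverse_reverse] at this
  obtain ⟨c, rfl⟩ := h.mem_diagonal_iff.1 hd
  obtain ⟨e, he, hx⟩ := h.nW_xG (F := F) l hl _ hq
  have hc := (h.isChar_hchar (F := F) c).ne _ hq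
  refine ⟨(hchar P c (wl P l.reverse r))⁻¹ * (e * t), ?_⟩
  have h1 := h.hHom_xG c hq ((hchar P c (wl P l.reverse r))⁻¹ * (e * t))
  rw [mul_inv_cancel_left₀ hc, mul_inv_eq_iff_eq_mul] at h1
  have h2 := (hx (e * t)).1
  rw [hqr, ← mul_assoc, he, one_mul, mul_inv_eq_iff_eq_mul] at h2
  rw [mul_assoc (h.nW l), h1, ← mul_assoc, ← mul_assoc, h2]

theorem bruhat_step (hC : P.ckComm = true) {i : ℕ} (hi : i < P.rank) {n : GL D.Idx F}
    (hn : n ∈ D.monomialSubgroup F) {b : GL D.Idx F} (hb : b ∈ D.borelSubgroup F) :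
    ∃ b₁ ∈ D.borelSubgroup F, ∃ b₂ ∈ D.borelSubgroup F,
      h.nG i * b * n = b₁ * (h.nG i * n) * b₂ ∨ h.nG i * b * n = b₁ * n * b₂ := by
  set B := D.borelSubgroup F
  have hU : ∀ u ∈ D.posUnipotent F, u ∈ B := fun u hu => Subgroup.mem_sup_left hu
  have hH : ∀ u ∈ D.diagonalSubgroup F, u ∈ B := fun u hu => Subgroup.mem_sup_right hu
  have hB : ∀ d ∈ D.diagonalSubgroup F, ∀ m ∈ D.monomialSubgroup F, m⁻¹ * d * m ∈ D.diagonalSubgroup F := by
    intro d hd m hm
    simpa using (Subgroup.mem_normalizer_iff.1 (inv_mem (h.monomial_normalizes hm)) d).1 hd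
  obtain ⟨u, hu, d, hd, rfl⟩ := h.mem_borel hb
  obtain ⟨hnorm, hsplit⟩ := h.fundamental_split (F := F) hC hi
  rw [← hsplit, ← SetLike.mem_coe, Subgroup.coe_mul_of_right_le_normalizer_left _ _
    (le_sup_left.trans hnorm)] at hu
  obtain ⟨u', hu', x, hx, rfl⟩ := hu
  rw [h.rootSubgroup_eq] at hx
  obtain ⟨t, rfl⟩ := hx
  have hnorm' : h.nG (F := F) i ∈ Subgroup.normalizer
      (h.genR (F := F) (Out P (· = i)) : Set (GL D.Idx F)) :=
    mul_mem (mul_mem (hnorm (Subgroup.mem_sup_left (h.mem_rootSubgroup _)))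
      (hnorm (Subgroup.mem_sup_right (h.mem_rootSubgroup _))))
      (hnorm (Subgroup.mem_sup_left (h.mem_rootSubgroup _)))
  set b₀ := h.nG i * u' * (h.nG i)⁻¹
  have hb₀ : b₀ ∈ B := hU _ (hsplit ▸ Subgroup.mem_sup_left ((Subgroup.mem_normalizer_iff.1 hnorm' u').1 hu'))
  set d' := n⁻¹ * d * n
  have hd' : d' ∈ B := hH _ (hB d hd n hn)
  obtain ⟨l, hl, e, he, rfl⟩ := h.exists_word_of_mem hn
  have hl' : WordOk P l.reverse := fun x hx => hl x (List.mem_reverse.1 hx)
  have hp := h.sim_lt hi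
  have main : h.nG i * (u' * h.xG (P.sim i) t * d) * (h.nW l * e) =
      b₀ * (h.nG i * (h.xG (P.sim i) t * (h.nW l * e))) * d' := by
    simp only [b₀, d']; group
  cases hsgn : P.isPos (wl P l.reverse (P.sim i))
  · by_cases ht : (P.eta i (P.sim i) : F) * t = 0
    · have : t = 0 := by
        rcases h.eta_cases i (P.sim i) with e' | e' <;> simpa [e'] using ht
      exact ⟨b₀, hb₀, d', hd', Or.inl (by rw [main, this, h.xG_zero, one_mul])⟩
    · set s := (P.eta i (P.sim i) : F) * t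
      have hl2 : WordOk P (i :: l) := List.forall_mem_cons.2 ⟨hi, hl⟩
      obtain ⟨t', ht'⟩ := h.move_right hl2 he hp s⁻¹
      have hpos : P.isPos (wl P (i :: l).reverse (P.sim i)) = true := by
        rw [List.reverse_cons, wl_append]
        simp only [wl]
        rw [h.w_sim hi, h.wl_ng _ hl' _ hp]
        exact (h.ng_pos_iff (h.wl_lt _ hl' _ hp)).2 hsgn
      have e1 : h.nG i * (h.xG (P.sim i) t * (h.nW l * e)) =
          h.xG (P.sim i) s⁻¹ * h.nt (P.sim i) (-s⁻¹) * (h.xG (P.sim i) s⁻¹ * (h.nW (i :: l) * e)) := by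
        rw [← mul_assoc _ (h.xG (P.sim i) s⁻¹), ← h.neg_decomp, ← h.nG_sim hi, h.nW_cons]
        group
      rw [ht', h.nt_eq_ht_mul, show h.nt (P.sim i) (1 : F) = h.nG i from rfl, h.nW_cons] at e1
      set a := h.ht (P.sim i) (-s⁻¹)
      have ha : a ∈ D.diagonalSubgroup F := h.ht_mem hp (neg_ne_zero.2 (inv_ne_zero ht))
      have hsq : h.nG i * h.nG i ∈ D.diagonalSubgroup F := h.nG_sq hi
      refine ⟨b₀ * (h.xG (P.sim i) s⁻¹ * (a * (h.nG i * h.nG i))),
        mul_mem hb₀ (mul_mem (hU _ (h.xG_mem_pos (h.sim_pos hi) _)) (hH _ (mul_mem ha hsq))),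
        h.xG (wl P (i :: l).reverse (P.sim i)) t' * d',
        mul_mem (hU _ (h.xG_mem_pos hpos _)) hd', Or.inr ?_⟩
      rw [main, e1]
      group
  · obtain ⟨t', ht'⟩ := h.move_right hl he hp t
    exact ⟨b₀, hb₀, h.xG (wl P l.reverse (P.sim i)) t' * d', mul_mem (hU _ (h.xG_mem_pos hsgn _)) hd',
      Or.inl (by rw [main, ht']; group)⟩

/-- The fundamental representatives inside the group. -/
def sG (i : Fin P.rank) : D.group F := ⟨h.nG i, h.monomial_le_group (h.nG_mem i.isLt)⟩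

theorem nG_not_neg_mem {i : ℕ} (hi : i < P.rank) {t : F} (e : h.xG (P.ng (P.sim i)) t ∈ D.borelSubgroup F) :
    h.xG (P.ng (P.sim i)) t = 1 := by
  have hneg : P.isPos (P.ng (P.sim i)) = false := by
    rw [← Bool.not_eq_true, h.ng_pos_iff (h.sim_lt hi), h.sim_pos hi]; simp
  have := h.borel_inf_neg (F := F)
  exact Subgroup.mem_bot.1 (this ▸ Subgroup.mem_inf.2 ⟨e, h.xG_mem_neg (ng_lt (h.sim_lt hi)) hneg t⟩)

theorem nG_not_conj {i : ℕ} (hi : i < P.rank) :
    h.nG i * h.xG (P.sim i) (1 : F) * (h.nG i)⁻¹ ∉ D.borelSubgroup F := by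
  intro hmem
  rw [h.nG_sim hi] at hmem
  have e := h.nG_not_neg_mem hi hmem
  rw [← h.nG_sim hi, conj_eq_one_iff] at e
  exact one_ne_zero (h.xG_pos_eq_one (h.sim_pos hi) e)

theorem sG_inj {i j : Fin P.rank}
    (e : ((h.sG (F := F) i)⁻¹ * h.sG j : D.group F).val ∈ D.borelSubgroup F) : i = j := by
  by_contra hij
  have hd : (h.nG i.val)⁻¹ * h.nG j.val ∈ D.diagonalSubgroup F := by
    rw [← h.borel_inf_monomial (F := F)]
    exact Subgroup.mem_inf.2 ⟨by simpa [sG] using e, mul_mem (inv_mem (h.nG_mem i.isLt)) (h.nG_mem j.isLt)⟩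
  obtain ⟨c, hc⟩ := h.mem_diagonal_iff.1 hd
  have e1 : h.nG j.val = h.nG i.val * h.hHom (F := F) c := by rw [hc]; group
  have hp := h.sim_lt i.isLt
  have e2 := h.nG_xG (F := F) j.isLt hp 1
  have hpos : P.isPos (P.w j (P.sim i)) = true := by
    rcases (h.w_spec j.isLt hp).2.2.2.2.2.2.1 with e | e | e
    · have := congrArg (fun r => P.rv r i.val) e
      simp only [h.rv_sim i.isLt i.isLt, h.rv_sim j.isLt i.isLt] at this
      simp [Fin.val_ne_iff.2 (Ne.symm hij)] at this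
    · exfalso
      have := h.sim_pos i.isLt
      rw [e, h.ng_pos_iff (h.sim_lt j.isLt), h.sim_pos j.isLt] at this
      simp at this
    · rw [← e]; exact h.sim_pos i.isLt
  refine h.nG_not_conj (F := F) i.isLt ?_
  have : h.nG i.val * (h.hHom c * h.xG (P.sim i) 1 * (h.hHom c)⁻¹) * (h.nG i.val)⁻¹ ∈ D.posUnipotent F := by
    have := h.xG_mem_pos hpos ((P.eta j (P.sim i) : F) * 1)
    rw [← e2, e1] at this
    convert this using 1
    group
  rw [h.hHom_xG c hp, h.nG_sim i.isLt] at this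
  rw [h.nG_sim i.isLt]
  have e3 := h.nG_not_neg_mem i.isLt (Subgroup.mem_sup_left this)
  rw [← h.nG_sim i.isLt, conj_eq_one_iff] at e3
  have h0 := h.xG_pos_eq_one (h.sim_pos i.isLt) e3
  exact absurd (by simpa using h0) ((h.isChar_hchar (F := F) c).ne _ hp)

/-- The (B,N)-pair. -/
def bnPair (hC : P.ckComm = true) : Cfsg.BNPair (D.group F) where
  B := (D.borelSubgroup F).subgroupOf (D.group F)
  N := (D.monomialSubgroup F).subgroupOf (D.group F)
  S := Set.range h.sG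
  sup_eq_top := by
    rw [← Subgroup.subgroupOf_sup h.borel_le_group h.monomial_le_group, h.borel_sup_monomial]
    simp
  conj_mem n hn t ht := by
    rw [Subgroup.mem_inf, Subgroup.mem_subgroupOf, Subgroup.mem_subgroupOf] at ht
    rw [Subgroup.mem_subgroupOf] at hn ⊢
    have : t.val ∈ D.diagonalSubgroup F := h.borel_inf_monomial (F := F) ▸ Subgroup.mem_inf.2 ht
    exact Subgroup.mem_sup_right ((Subgroup.mem_normalizer_iff.1 (h.monomial_normalizes hn) _).1 this)
  subset := by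
    rintro _ ⟨i, rfl⟩
    exact Subgroup.mem_subgroupOf.2 (h.nG_mem i.isLt)
  sq_mem := by
    rintro _ ⟨i, rfl⟩
    exact Subgroup.mem_subgroupOf.2 (Subgroup.mem_sup_right (h.nG_sq i.isLt))
  inj := by
    rintro _ ⟨i, rfl⟩ _ ⟨j, rfl⟩ hm
    rw [h.sG_inj (Subgroup.mem_subgroupOf.1 hm)]
  closure_sup := by
    refine le_antisymm (sup_le ((Subgroup.closure_le _).2 ?_) inf_le_right) ?_
    · rintro _ ⟨i, rfl⟩
      exact Subgroup.mem_subgroupOf.2 (h.nG_mem i.isLt)
    intro x hx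
    rw [Subgroup.mem_subgroupOf] at hx
    obtain ⟨l, hl, d, hd, e⟩ := h.exists_word_of_mem hx
    have hdg : d ∈ D.group F := h.diagonal_le_group hd
    have hdm : (⟨d, hdg⟩ : D.group F) ∈ (D.borelSubgroup F).subgroupOf (D.group F) ⊓
        (D.monomialSubgroup F).subgroupOf (D.group F) := by
      rw [Subgroup.mem_inf, Subgroup.mem_subgroupOf, Subgroup.mem_subgroupOf]
      exact Subgroup.mem_inf.1 (h.borel_inf_monomial (F := F) ▸ hd)
    have key : ∀ l', WordOk P l' → ∃ y ∈ Subgroup.closure (Set.range (h.sG (F := F))),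
        (y : GL D.Idx F) = h.nW l' := by
      intro l'
      induction l' with
      | nil => intro _; exact ⟨1, one_mem _, rfl⟩
      | cons i l' ih =>
        intro hl'
        obtain ⟨y, hy, ey⟩ := ih hl'.tail
        exact ⟨h.sG ⟨i, hl'.head⟩ * y, mul_mem (Subgroup.subset_closure ⟨_, rfl⟩) hy,
          by simp [h.nW_cons, ey, sG]⟩
    obtain ⟨y, hy, ey⟩ := key l hl
    have : x = y * ⟨d, hdg⟩ := Subtype.ext (by simp [ey, e])
    exact this ▸ mul_mem (Subgroup.mem_sup_left hy) (Subgroup.mem_sup_right hdm)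
  mul_mem_union := by
    rintro _ ⟨i, rfl⟩ n hn b hb
    rw [Subgroup.mem_subgroupOf] at hn hb
    obtain ⟨b₁, h1, b₂, h2, e | e⟩ := h.bruhat_step hC i.isLt hn hb
    · refine Or.inl (DoubleCoset.mem_doubleCoset.2 ⟨⟨b₁, h.borel_le_group h1⟩, Subgroup.mem_subgroupOf.2 h1,
        ⟨b₂, h.borel_le_group h2⟩, Subgroup.mem_subgroupOf.2 h2, Subtype.ext ?_⟩)
      simpa [sG] using e
    · refine Or.inr (DoubleCoset.mem_doubleCoset.2 ⟨⟨b₁, h.borel_le_group h1⟩, Subgroup.mem_subgroupOf.2 h1,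
        ⟨b₂, h.borel_le_group h2⟩, Subgroup.mem_subgroupOf.2 h2, Subtype.ext ?_⟩)
      simpa [sG] using e
  conj_ne := by
    rintro _ ⟨i, rfl⟩ e
    have hx : (⟨h.xG (P.sim i) 1, h.mem_group_of_xG _ _⟩ : D.group F) ∈
        (D.borelSubgroup F).subgroupOf (D.group F) :=
      Subgroup.mem_subgroupOf.2 (Subgroup.mem_sup_left (h.xG_mem_pos (h.sim_pos i.isLt) _))
    have h1 := e.subset ⟨_, hx, rfl⟩
    rw [SetLike.mem_coe, Subgroup.mem_subgroupOf] at h1
    refine h.nG_not_conj (F := F) i.isLt ?_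
    have h2 := mul_mem h1 (inv_mem (Subgroup.mem_sup_right (h.nG_sq (F := F) i.isLt) :
      h.nG i.val * h.nG i.val ∈ D.borelSubgroup F))
    convert h2 using 1
    simp [sG, mul_assoc]

theorem bnPair_S (hC : P.ckComm = true) : (h.bnPair (F := F) hC).S =
    {n : D.group F | ∃ i < D.rank, ((n : GL D.Idx F) : Matrix D.Idx D.Idx F) = D.nMat F (D.simple i) 1} := by
  ext n
  constructor
  · rintro ⟨i, rfl⟩
    exact ⟨i, i.isLt.trans_eq h.rank.symm, by rw [h.simple_eq i.isLt]; exact h.coe_nt (h.sim_lt i.isLt) 1⟩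
  · rintro ⟨i, hi, e⟩
    have hi' : i < P.rank := h.rank ▸ hi
    rw [h.simple_eq hi', ← h.coe_nt (h.sim_lt hi')] at e
    exact ⟨⟨i, hi'⟩, Subtype.ext (Units.ext e.symm)⟩

theorem commute_A {i j : ℕ} (hi : i < P.rank) (hj : j < P.rank) (hij : i ≠ j)
    (e : ∀ r < P.nroots, P.w i (P.w j r) = P.w j (P.w i r)) : P.A i (P.sim j) = 0 := by
  have h1 := e (P.sim j) (h.sim_lt hj)
  have hw := h.w_lt hi (h.sim_lt hj)
  rw [h.w_sim hj, h.w_ng hi (h.sim_lt hj)] at h1
  have h2 := congrArg (fun r => P.rv r i) h1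
  simp only [h.rv_ng hw hi, ((h.w_spec hj hw).2.2.2.2.2.1 i hi).1,
    ((h.w_spec hi (h.sim_lt hj)).2.2.2.2.2.1 i hi).1, h.rv_sim hj hi, if_neg (Ne.symm hij), if_neg hij] at h2
  simp at h2
  omega

theorem comm_w {i j : ℕ} (hi : i < P.rank) (hj : j < P.rank)
    (e : h.nG (F := F) i * h.nG j * (h.nG i)⁻¹ * (h.nG j)⁻¹ ∈ D.diagonalSubgroup F) :
    ∀ r < P.nroots, P.w i (P.w j r) = P.w j (P.w i r) := by
  intro r hr
  obtain ⟨c, hc⟩ := h.mem_diagonal_iff.1 e
  have e1 : h.nG (F := F) i * h.nG j = h.hHom c * (h.nG j * h.nG i) := by rw [hc]; group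
  have ha := h.w_lt hi (h.w_lt hj hr)
  have hb := h.w_lt hj (h.w_lt hi hr)
  have conj : ∀ (u v x : GL D.Idx F), u * v * x * (u * v)⁻¹ = u * (v * x * v⁻¹) * u⁻¹ := by intros; group
  have l1 : (h.nG i * h.nG j) * h.xG r (1 : F) * (h.nG i * h.nG j)⁻¹ =
      h.xG (P.w i (P.w j r)) ((P.eta i (P.w j r) : F) * ((P.eta j r : F) * 1)) := by
    rw [conj, h.nG_xG hj hr, h.nG_xG hi (h.w_lt hj hr)]
  have l2 : (h.hHom c * (h.nG j * h.nG i)) * h.xG r (1 : F) * (h.hHom c * (h.nG j * h.nG i))⁻¹ =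
      h.xG (P.w j (P.w i r))
        (hchar P c (P.w j (P.w i r)) * ((P.eta j (P.w i r) : F) * ((P.eta i r : F) * 1))) := by
    rw [conj, conj (h.nG j), h.nG_xG hi hr, h.nG_xG hj (h.w_lt hi hr), h.hHom_xG c hb]
  rw [← e1, l1] at l2
  have hne1 : ((P.eta i (P.w j r) : F) * ((P.eta j r : F) * 1)) ≠ 0 := by
    rcases h.eta_cases i (P.w j r) with a | a <;> rcases h.eta_cases j r with b | b <;> simp [a, b]
  exact h.xG_index_inj ha hb hne1 l2

end Ok

end Cfsg.Agent.Chev
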