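/-
The Bruhat normal form.
-/
import Cfsg.Agent.Lib.Chev.BN
import Cfsg.Agent.Lib.BN.Basic

set_option autoImplicit false

namespace Cfsg.Agent.Chev

open Cfsg.Lie
open scoped Matrix commutatorElement

/-- The positive roots that a word sends to negative roots. -/
def negS (P : Pk) (l : List ℕ) (r : ℕ) : Prop := P.isPos r = true ∧ P.isPos (wl P l r) = false

variable {D : ChevalleyDatum} {P : Pk} {F : Type*} [Field F]

namespace Ok

variable (h : Ok D P)
include h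

theorem uFil_le_pos (m : ℤ) : h.uFil (F := F) m ≤ D.posUnipotent F :=
  h.genR_le fun _ hr t => h.xG_mem_pos hr.1 t

/-- A partition of the positive roots factorises `U`. -/
theorem split_pos (hC : P.ckComm = true) (S T : ℕ → Prop) (hST : ∀ r, P.isPos r = true → S r ∨ T r)
    {g : GL D.Idx F} (hg : g ∈ D.posUnipotent F) :
    ∃ a ∈ h.genR (fun r => P.isPos r = true ∧ S r), ∃ b ∈ h.genR (fun r => P.isPos r = true ∧ T r),
      g = a * b := by
  have main : ∀ (k : ℕ) (m : ℤ), 1 ≤ m → ((P.nroots : ℤ) + ((Finset.range P.nroots).sup fun r => (P.ht r).toNat) + 1 ≤ m + k) →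
      ∀ g ∈ h.uFil (F := F) m, ∃ a ∈ h.genR (fun r => P.isPos r = true ∧ S r),
        ∃ b ∈ h.genR (fun r => P.isPos r = true ∧ T r), g = a * b := by
    intro k
    induction k with
    | zero =>
      intro m _ hm g hg
      have hbot : h.uFil (F := F) m ≤ ⊥ := by
        refine h.genR_le fun r hr => ?_
        exfalso
        have h1 := (P.isPos_iff.1 hr.1).2
        have h2 : (P.ht r).toNat ≤ (Finset.range P.nroots).sup fun r => (P.ht r).toNat :=
          Finset.le_sup (f := fun r => (P.ht r).toNat) (Finset.mem_range.2 h1)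
        have := hr.2
        push_cast at hm
        omega
      exact ⟨1, one_mem _, 1, one_mem _, by simpa using hbot hg⟩
    | succ k ih =>
      intro m hm1 hm g hg
      set K := h.uFil (F := F) (m + 1)
      set A := h.genR (F := F) fun r => P.isPos r = true ∧ P.ht r = m ∧ S r
      set C := h.genR (F := F) fun r => P.isPos r = true ∧ P.ht r = m ∧ T r
      have hAU : A ≤ D.posUnipotent F := h.genR_le fun _ hr t => h.xG_mem_pos hr.1 t
      have hCU : C ≤ D.posUnipotent F := h.genR_le fun _ hr t => h.xG_mem_pos hr.1 t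
      have hAm : A ≤ h.uFil m := h.genR_mono fun _ hr => ⟨hr.1, hr.2.1.ge⟩
      have hKU : D.posUnipotent F ≤ Subgroup.normalizer (K : Set (GL D.Idx F)) := h.pos_normalizes_uFil hC _
      have hACK : A ≤ Subgroup.normalizer ((C ⊔ K : Subgroup _) : Set (GL D.Idx F)) := by
        intro a ha
        have hstep : ∀ a ∈ A, ∀ x ∈ C ⊔ K, a * x * a⁻¹ ∈ C ⊔ K := by
          intro a ha x hx
          rw [← SetLike.mem_coe, Subgroup.coe_mul_of_left_le_normalizer_right _ _ (hCU.trans hKU)] at hx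
          obtain ⟨c, hc, z, hz, rfl⟩ := hx
          have h1 : ⁅a, c⁆ ∈ K := h.uFil_comm hC m (Subgroup.commutator_mem_commutator (hAm ha) (hCU hc))
          have h2 := (Subgroup.mem_normalizer_iff.1 (hKU (hAU ha)) z).1 hz
          show a * (c * z) * a⁻¹ ∈ C ⊔ K
          rw [show a * (c * z) * a⁻¹ = ⁅a, c⁆ * c * (a * z * a⁻¹) by simp [commutatorElement_def, mul_assoc]]
          exact mul_mem (mul_mem (Subgroup.mem_sup_right h1) (Subgroup.mem_sup_left hc)) (Subgroup.mem_sup_right h2)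
        refine Subgroup.mem_normalizer_iff.2 fun x => ⟨hstep a ha x, fun hx => ?_⟩
        simpa [mul_assoc] using hstep _ (inv_mem ha) _ hx
      have hg' : g ∈ A ⊔ (C ⊔ K) := by
        refine h.genR_le (fun r hr t => ?_) hg
        rcases eq_or_lt_of_le hr.2 with e | e
        · rcases hST r hr.1 with hs | ht
          · exact Subgroup.mem_sup_left (h.xG_mem_genR ⟨hr.1, e.symm, hs⟩ t)
          · exact Subgroup.mem_sup_right (Subgroup.mem_sup_left (h.xG_mem_genR ⟨hr.1, e.symm, ht⟩ t))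
        · exact Subgroup.mem_sup_right (Subgroup.mem_sup_right (h.xG_mem_genR ⟨hr.1, by omega⟩ t))
      rw [← SetLike.mem_coe, Subgroup.coe_mul_of_left_le_normalizer_right _ _ hACK] at hg'
      obtain ⟨a, ha, x, hx, rfl⟩ := hg'
      rw [Subgroup.coe_mul_of_left_le_normalizer_right _ _ (hCU.trans hKU)] at hx
      obtain ⟨c, hc, z, hz, rfl⟩ := hx
      obtain ⟨a', ha', b', hb', e⟩ := ih (m + 1) (by omega) (by push_cast at hm ⊢; omega) (c * z * c⁻¹)
        ((Subgroup.mem_normalizer_iff.1 (hKU (hCU hc)) z).1 hz)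
      refine ⟨a * a', mul_mem (h.genR_mono (fun _ hr => ⟨hr.1, hr.2.2⟩) ha) ha', b' * c,
        mul_mem hb' (h.genR_mono (fun _ hr => ⟨hr.1, hr.2.2⟩) hc), ?_⟩
      show a * (c * z) = _
      rw [show a * (c * z) = a * (c * z * c⁻¹) * c by group, e]
      group
  refine main (P.nroots + ((Finset.range P.nroots).sup fun r => (P.ht r).toNat) + 1) 1 le_rfl ?_ g ?_
  · push_cast; omega
  · exact h.posUnipotent_le (fun r hr t => h.xG_mem_genR ⟨hr, h.ht_pos hr⟩ t) hg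

theorem conj_nW {l : List ℕ} (hl : WordOk P l) {d : GL D.Idx F} (hd : d ∈ D.diagonalSubgroup F)
    {r : ℕ} (hr : r < P.nroots) :
    ∃ e : F, e ≠ 0 ∧ ∀ t : F, h.nW l * d * h.xG r t * (h.nW l * d)⁻¹ = h.xG (wl P l r) (e * t) := by
  obtain ⟨c, rfl⟩ := h.mem_diagonal_iff.1 hd
  obtain ⟨e, he, hx⟩ := h.nW_xG (F := F) l hl r hr
  refine ⟨e * hchar P c r, mul_ne_zero (left_ne_zero_of_mul_eq_one he) ((h.isChar_hchar c).ne r hr),
    fun t => ?_⟩
  rw [show h.nW l * h.hHom c * h.xG r t * (h.nW l * h.hHom c)⁻¹ =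
    h.nW l * (h.hHom c * h.xG r t * (h.hHom c)⁻¹) * (h.nW l)⁻¹ by group, h.hHom_xG c hr, (hx _).1, mul_assoc]

theorem map_root_le_iff {l : List ℕ} (hl : WordOk P l) {d : GL D.Idx F} (hd : d ∈ D.diagonalSubgroup F)
    {r : ℕ} (hr : r < P.nroots) :
    (D.rootSubgroup F r).map (MulAut.conj (h.nW l * d)).toMonoidHom ≤ D.negUnipotent F ↔
      P.isPos (wl P l r) = false := by
  obtain ⟨e, he, hx⟩ := h.conj_nW hl hd hr
  have hw := h.wl_lt l hl r hr
  constructor
  · intro hle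
    by_contra hp
    have h1 := hle ⟨h.xG r e⁻¹, h.mem_rootSubgroup _, rfl⟩
    rw [MulEquiv.toMonoidHom_eq_coe, MonoidHom.coe_coe, MulAut.conj_apply, hx, mul_inv_cancel₀ he] at h1
    have hp' : P.isPos (wl P l r) = true := by simpa using hp
    have h2 : h.xG (wl P l r) (1 : F) ∈ D.borelSubgroup F ⊓ D.negUnipotent F :=
      Subgroup.mem_inf.2 ⟨Subgroup.mem_sup_left (h.xG_mem_pos hp' _), h1⟩
    rw [h.borel_inf_neg, Subgroup.mem_bot] at h2
    exact one_ne_zero (h.xG_pos_eq_one hp' h2)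
  · intro hp
    rintro _ ⟨x, hx', rfl⟩
    rw [h.rootSubgroup_eq] at hx'
    obtain ⟨t, rfl⟩ := hx'
    rw [MulEquiv.toMonoidHom_eq_coe, MonoidHom.coe_coe, MulAut.conj_apply, hx]
    exact h.xG_mem_neg hw hp _

theorem uminus_eq {l : List ℕ} (hl : WordOk P l) {d : GL D.Idx F} (hd : d ∈ D.diagonalSubgroup F) :
    Subgroup.closure {x : GL D.Idx F | ∃ (r : ℕ) (t : F), D.IsPosRoot r ∧
      (D.rootSubgroup F r).map (MulAut.conj (h.nW l * d)).toMonoidHom ≤ D.negUnipotent F ∧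
      (x : Matrix D.Idx D.Idx F) = D.x F r t} = h.genR (negS P l) := by
  unfold genR negS
  congr 1
  ext g
  simp only [Set.mem_setOf_eq, h.isPosRoot_iff, h.eq_xG_iff]
  constructor
  · rintro ⟨r, t, h1, h2, h3⟩
    exact ⟨r, t, ⟨h1, (h.map_root_le_iff hl hd (P.isPos_iff.1 h1).2).1 h2⟩, h3⟩
  · rintro ⟨r, t, ⟨h1, h2⟩, h3⟩
    exact ⟨r, t, h1, (h.map_root_le_iff hl hd (P.isPos_iff.1 h1).2).2 h2, h3⟩

theorem uminus_conj {l : List ℕ} (hl : WordOk P l) {d : GL D.Idx F} (hd : d ∈ D.diagonalSubgroup F)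
    {u : GL D.Idx F} (hu : u ∈ h.genR (negS P l)) :
    h.nW l * d * u * (h.nW l * d)⁻¹ ∈ D.negUnipotent F := by
  have : h.genR (F := F) (negS P l) ≤ (D.negUnipotent F).comap (MulAut.conj (h.nW l * d)).toMonoidHom := by
    refine h.genR_le fun r hr t => ?_
    have hrn := (P.isPos_iff.1 hr.1).2
    exact (h.map_root_le_iff hl hd hrn).2 hr.2 ⟨_, h.mem_rootSubgroup t, rfl⟩
  have h1 := this hu
  rwa [Subgroup.mem_comap, MulEquiv.toMonoidHom_eq_coe, MonoidHom.coe_coe, MulAut.conj_apply] at h1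

theorem uplus_conj {l : List ℕ} (hl : WordOk P l) {d : GL D.Idx F} (hd : d ∈ D.diagonalSubgroup F)
    {u : GL D.Idx F} (hu : u ∈ h.genR (fun r => P.isPos r = true ∧ P.isPos (wl P l r) = true)) :
    h.nW l * d * u * (h.nW l * d)⁻¹ ∈ D.posUnipotent F := by
  have : h.genR (F := F) (fun r => P.isPos r = true ∧ P.isPos (wl P l r) = true) ≤
      (D.posUnipotent F).comap (MulAut.conj (h.nW l * d)).toMonoidHom := by
    refine h.genR_le fun r hr t => ?_
    obtain ⟨e, -, hx⟩ := h.conj_nW hl hd (P.isPos_iff.1 hr.1).2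
    rw [Subgroup.mem_comap, MulEquiv.toMonoidHom_eq_coe, MonoidHom.coe_coe, MulAut.conj_apply, hx t]
    exact h.xG_mem_pos hr.2 (e * t)
  have h1 := this hu
  rwa [Subgroup.mem_comap, MulEquiv.toMonoidHom_eq_coe, MonoidHom.coe_coe, MulAut.conj_apply] at h1

/-- Words giving the same element modulo `H` act equally. -/
theorem wl_eq_of_mem {l l' : List ℕ} (hl : WordOk P l) (hl' : WordOk P l')
    (e : (h.nW (F := F) l)⁻¹ * h.nW l' ∈ D.diagonalSubgroup F) {r : ℕ} (hr : r < P.nroots) :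
    wl P l r = wl P l' r := by
  obtain ⟨a, ha, hx⟩ := h.conj_nW hl e hr
  obtain ⟨b, -, hy⟩ := h.conj_nW hl' (one_mem (D.diagonalSubgroup F)) hr
  have h1 := hx 1
  rw [mul_inv_cancel_left] at h1
  have h2 := hy 1
  rw [mul_one (h.nW l'), h1] at h2
  exact h.xG_index_inj (h.wl_lt l hl r hr) (h.wl_lt l' hl' r hr) (mul_ne_zero ha one_ne_zero) h2

theorem mem_diagonal_of_wl_eq {l l' : List ℕ} (hl : WordOk P l) (hl' : WordOk P l')
    (e : ∀ r < P.nroots, wl P l r = wl P l' r) :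
    (h.nW (F := F) l)⁻¹ * h.nW l' ∈ D.diagonalSubgroup F := by
  have hrev : WordOk P l.reverse := fun x hx => hl x (List.mem_reverse.1 hx)
  have h1 := h.nW_mem_diagonal (F := F) (l := l.reverse ++ l')
    (fun x hx => by rcases List.mem_append.1 hx with a | a; exacts [hrev x a, hl' x a])
    (fun r hr => by rw [wl_append, ← e r hr, h.wl_reverse l hl r hr])
  have h2 := h.nW_mem_diagonal (F := F) (l := l.reverse ++ l)
    (fun x hx => by rcases List.mem_append.1 hx with a | a; exacts [hrev x a, hl x a])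
    (fun r hr => by rw [wl_append, h.wl_reverse l hl r hr])
  have h3 := mul_mem (inv_mem h2) h1
  rw [h.nW_append, h.nW_append] at h3
  convert h3 using 1
  group

theorem bruhat_exists (hC : P.ckComm = true) {g : GL D.Idx F} (hg : g ∈ D.group F) :
    ∃ b ∈ D.borelSubgroup F, ∃ l, WordOk P l ∧ ∃ u ∈ h.genR (negS P l), g = b * h.nW l * u := by
  obtain ⟨w, hw⟩ := Cfsg.Agent.BN.exists_mem_C (h.bnPair (F := F) hC) ⟨g, hg⟩
  obtain ⟨n, rfl⟩ := QuotientGroup.mk_surjective w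
  rw [Cfsg.Agent.BN.C_eq_doubleCoset, DoubleCoset.mem_doubleCoset] at hw
  obtain ⟨b₁, hb₁, b₂, hb₂, e⟩ := hw
  have e' : g = (b₁ : GL D.Idx F) * n.1.1 * b₂.1 := by
    simpa using congrArg (fun x : D.group F => (x : GL D.Idx F)) e
  obtain ⟨l, hl, d, hd, en⟩ := h.exists_word_of_mem (Subgroup.mem_subgroupOf.1 n.2)
  obtain ⟨u₂, hu₂, d₂, hd₂, e₂⟩ := h.mem_borel (Subgroup.mem_subgroupOf.1 hb₂)
  set d₀ := d * d₂
  have hd₀ : d₀ ∈ D.diagonalSubgroup F := mul_mem hd hd₂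
  have hu : d₂⁻¹ * u₂ * d₂ ∈ D.posUnipotent F := by
    simpa using (Subgroup.mem_normalizer_iff.1 (h.diagonal_normalizes (inv_mem hd₂)) u₂).1 hu₂
  obtain ⟨a, ha, c, hc, e₃⟩ := h.split_pos hC (fun r => P.isPos (wl P l r) = true)
    (fun r => P.isPos (wl P l r) = false) (fun r _ => by cases P.isPos (wl P l r) <;> simp) hu
  refine ⟨b₁.1 * (h.nW l * d₀ * a * (h.nW l * d₀)⁻¹) * (h.nW l * d₀ * (h.nW l)⁻¹),
    mul_mem (mul_mem (Subgroup.mem_subgroupOf.1 hb₁) (Subgroup.mem_sup_left (h.uplus_conj hl hd₀ ha)))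
      (Subgroup.mem_sup_right ((Subgroup.mem_normalizer_iff.1 (h.nW_normalizer l hl) d₀).1 hd₀)),
    l, hl, c, hc, ?_⟩
  rw [e', en, e₂]
  calc b₁.1 * (h.nW l * d) * (u₂ * d₂)
      = b₁.1 * (h.nW l * d₀) * (d₂⁻¹ * u₂ * d₂) := by simp only [d₀]; group
    _ = _ := by rw [e₃]; group

theorem bruhat_unique (hC : P.ckComm = true) {b b' : GL D.Idx F} (hb : b ∈ D.borelSubgroup F)
    (hb' : b' ∈ D.borelSubgroup F) {l l' : List ℕ} (hl : WordOk P l) (hl' : WordOk P l')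
    {d d' : GL D.Idx F} (hd : d ∈ D.diagonalSubgroup F) (hd' : d' ∈ D.diagonalSubgroup F)
    {u u' : GL D.Idx F} (hu : u ∈ D.posUnipotent F) (hu' : u' ∈ D.posUnipotent F)
    (e : b * (h.nW l * d) * u = b' * (h.nW l' * d') * u') :
    (h.nW l)⁻¹ * h.nW l' ∈ D.diagonalSubgroup F := by
  set BP := h.bnPair (F := F) hC
  have hg : b * (h.nW l * d) * u ∈ D.group F :=
    mul_mem (mul_mem (h.borel_le_group hb) (h.monomial_le_group (h.nW_mul_mem hl hd)))
      (h.borel_le_group (Subgroup.mem_sup_left hu))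
  have key : ∀ (b : GL D.Idx F) (hb : b ∈ D.borelSubgroup F) (l : List ℕ) (hl : WordOk P l)
      (d : GL D.Idx F) (hd : d ∈ D.diagonalSubgroup F) (u : GL D.Idx F) (hu : u ∈ D.posUnipotent F)
      (x : D.group F), (x : GL D.Idx F) = b * (h.nW l * d) * u →
      x ∈ Cfsg.Agent.BN.C BP (Cfsg.Agent.BN.cl BP ⟨⟨h.nW l * d, h.monomial_le_group (h.nW_mul_mem hl hd)⟩,
        Subgroup.mem_subgroupOf.2 (h.nW_mul_mem hl hd)⟩) := by
    intro b hb l hl d hd u hu x hx
    rw [Cfsg.Agent.BN.C_eq_doubleCoset, DoubleCoset.mem_doubleCoset]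
    exact ⟨⟨b, h.borel_le_group hb⟩, Subgroup.mem_subgroupOf.2 hb,
      ⟨u, h.borel_le_group (Subgroup.mem_sup_left hu)⟩,
      Subgroup.mem_subgroupOf.2 (Subgroup.mem_sup_left hu), Subtype.ext (by simpa using hx)⟩
  have h1 := (Cfsg.Agent.BN.cl_eq_iff BP _ _).1 (Cfsg.Agent.BN.C_inj BP
    (key b hb l hl d hd u hu ⟨_, hg⟩ rfl) (key b' hb' l' hl' d' hd' u' hu' ⟨_, hg⟩ e))
  have h2 : (h.nW l * d)⁻¹ * (h.nW l' * d') ∈ D.borelSubgroup F ⊓ D.monomialSubgroup F :=
    Subgroup.mem_inf.2 ⟨by simpa using Subgroup.mem_subgroupOf.1 h1,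
      mul_mem (inv_mem (h.nW_mul_mem hl hd)) (h.nW_mul_mem hl' hd')⟩
  rw [h.borel_inf_monomial] at h2
  have h3 := mul_mem (mul_mem hd h2) (inv_mem hd')
  convert h3 using 1
  group

theorem bruhat_factor {l : List ℕ} (hl : WordOk P l) {d : GL D.Idx F} (hd : d ∈ D.diagonalSubgroup F)
    {b b' u u' : GL D.Idx F} (hb : b ∈ D.borelSubgroup F) (hb' : b' ∈ D.borelSubgroup F)
    (hu : u ∈ h.genR (negS P l)) (hu' : u' ∈ h.genR (negS P l))
    (e : b * (h.nW l * d) * u = b' * (h.nW l * d) * u') : b = b' ∧ u = u' := by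
  have e1 : h.nW l * d * (u * u'⁻¹) * (h.nW l * d)⁻¹ = b⁻¹ * b' := by
    rw [show h.nW l * d * (u * u'⁻¹) * (h.nW l * d)⁻¹ =
      b⁻¹ * (b * (h.nW l * d) * u) * u'⁻¹ * (h.nW l * d)⁻¹ by group, e]
    group
  have h1 := h.uminus_conj hl hd (mul_mem hu (inv_mem hu'))
  have h2 : b⁻¹ * b' ∈ D.borelSubgroup F ⊓ D.negUnipotent F :=
    Subgroup.mem_inf.2 ⟨mul_mem (inv_mem hb) hb', e1 ▸ h1⟩
  rw [h.borel_inf_neg, Subgroup.mem_bot] at h2
  rw [h2] at e1
  exact ⟨inv_mul_eq_one.1 h2, mul_inv_eq_one.1 (conj_eq_one_iff.1 e1)⟩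

theorem negS_le_pos (l : List ℕ) : h.genR (F := F) (negS P l) ≤ D.posUnipotent F :=
  h.genR_le fun _ hr t => h.xG_mem_pos hr.1 t

end Ok

end Cfsg.Agent.Chev
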