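/-
Polynomials with natural coefficients as lists.
-/
import Mathlib

set_option autoImplicit false

namespace Cfsg.Agent.Chev

/-- Sum of two coefficient lists. -/
def padd : List ℕ → List ℕ → List ℕ
  | [], b => b
  | a, [] => a
  | x :: a, y :: b => (x + y) :: padd a b

/-- Product of two coefficient lists. -/
def pmul : List ℕ → List ℕ → List ℕ
  | [], _ => []
  | x :: a, b => padd (b.map (x * ·)) (0 :: pmul a b)

/-- The value at `q`. -/
def pev (q : ℕ) : List ℕ → ℕ
  | [] => 0
  | x :: a => x + q * pev q a

theorem pev_padd (q : ℕ) : ∀ a b, pev q (padd a b) = pev q a + pev q b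
  | [], b => by simp [padd, pev]
  | x :: a, [] => by simp [padd, pev]
  | x :: a, y :: b => by simp [padd, pev, pev_padd q a b]; ring

theorem pev_map_mul (q x : ℕ) : ∀ b, pev q (b.map (x * ·)) = x * pev q b
  | [] => by simp [pev]
  | y :: b => by simp [pev, pev_map_mul q x b]; ring

theorem pev_pmul (q : ℕ) : ∀ a b, pev q (pmul a b) = pev q a * pev q b
  | [], b => by simp [pmul, pev]
  | x :: a, b => by
    simp [pmul, pev, pev_padd, pev_map_mul, pev_pmul q a b]
    ring

/-- A monomial. -/
def pmon : ℕ → List ℕ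
  | 0 => [1]
  | k + 1 => 0 :: pmon k

theorem pev_pmon (q : ℕ) : ∀ k, pev q (pmon k) = q ^ k
  | 0 => by simp [pmon, pev]
  | k + 1 => by simp [pmon, pev, pev_pmon q k, pow_succ']

/-- The sum of the monomials with the given exponents. -/
def psum (l : List ℕ) : List ℕ := l.foldr (fun k p => padd (pmon k) p) []

theorem pev_psum (q : ℕ) : ∀ l, pev q (psum l) = (l.map (q ^ ·)).sum
  | [] => by simp [psum, pev]
  | k :: l => by
    have := pev_psum q l
    simp [psum, pev_padd, pev_pmon] at this ⊢
    rw [this]

/-- The product of `1 + q + … + q^{d-1}` over the list. -/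
def pgeom (ds : List ℕ) : List ℕ := ds.foldr (fun d p => pmul (List.replicate d 1) p) [1]

theorem pev_replicate (q : ℕ) : ∀ d, pev q (List.replicate d 1) = ∑ i ∈ Finset.range d, q ^ i
  | 0 => by simp [pev]
  | d + 1 => by
    rw [List.replicate_succ, pev, pev_replicate q d, Finset.sum_range_succ', Finset.mul_sum]
    simp [pow_succ', add_comm]

theorem pev_pgeom (q : ℕ) (hq : 1 ≤ q) : ∀ ds : List ℕ,
    pev q (pgeom ds) * (q - 1) ^ ds.length = (ds.map fun d => q ^ d - 1).prod
  | [] => by simp [pgeom, pev]
  | d :: ds => by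
    have ih := pev_pgeom q hq ds
    have hd : (∑ i ∈ Finset.range d, q ^ i) * (q - 1) = q ^ d - 1 := by
      obtain ⟨k, rfl⟩ := Nat.exists_eq_add_of_le' hq
      have := geom_sum_mul_add (k : ℕ) d
      simp only [Nat.add_sub_cancel]
      omega
    simp only [pgeom, List.foldr_cons, pev_pmul, pev_replicate, List.length_cons, List.map_cons,
      List.prod_cons] at ih ⊢
    rw [← hd, ← ih, pow_succ]
    ring

end Cfsg.Agent.Chev
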