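/-
The Weyl group as permutations of the roots and its Poincaré polynomial.
-/
import Cfsg.Agent.Lib.Chev.Unipotent
import Cfsg.Agent.Lib.Chev.Poly

set_option autoImplicit false

namespace Cfsg.Agent.Chev

open Cfsg.Lie

/-- The permutation of root indices given by a word. -/
def act (P : Pk) (l : List ℕ) (r : Fin P.nroots) : Fin P.nroots :=
  ⟨wl P l r.val % P.nroots, Nat.mod_lt _ r.pos⟩

/-- The letters of a word lie in a list. -/
def WordIn (P : Pk) (J l : List ℕ) : Prop := WordOk P l ∧ ∀ i ∈ l, i ∈ J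

/-- The elements of the Weyl group given by words in `J`. -/
noncomputable def WJ (P : Pk) (J : List ℕ) : Finset (Fin P.nroots → Fin P.nroots) := by
  classical exact Finset.univ.filter fun f => ∃ l, WordIn P J l ∧ act P l = f

/-- All coordinates of `r` outside `J` vanish. -/
def inJ (P : Pk) (J : List ℕ) (r : ℕ) : Bool :=
  (List.range P.rank).all fun m => (J.any fun j => Nat.beq j m) || (P.rv r m == 0)

/-- The positive roots with support in `J` made negative. -/
def invJ (P : Pk) (J : List ℕ) (f : Fin P.nroots → Fin P.nroots) : ℕ :=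
  (Finset.univ.filter fun r : Fin P.nroots =>
    inJ P J r.val = true ∧ P.isPos r.val = true ∧ P.isPos (f r).val = false).card

/-- The Poincaré sum. -/
noncomputable def poin (P : Pk) (J : List ℕ) (q : ℕ) : ℕ := ∑ f ∈ WJ P J, q ^ invJ P J f

namespace Pk

variable (Q : Pk)

/-- Reflection of a functional. -/
def vstep (m : ℕ) (v : List ℤ) : List ℤ :=
  (List.range Q.rank).map fun i => v.getD i 0 - Q.A m (Q.sim i) * v.getD m 0

/-- The functional `r ↦ rv r j`. -/
def vinit (j : ℕ) : List ℤ := (List.range Q.rank).map fun i => bif Nat.beq i j then 1 else 0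

/-- One breadth-first step. -/
def orbStep (J : List ℕ) : List (List ℤ) × List (List ℤ) → List (List ℤ) × List (List ℤ)
  | (seen, front) =>
    let new := (front.flatMap fun v => J.map fun m => Q.vstep m v).foldl
      (fun acc v => bif (acc.any fun w => w == v) || (seen.any fun w => w == v) then acc else v :: acc) []
    (seen ++ new, new)

/-- The orbit of the functional `r ↦ rv r j` after some breadth-first steps. -/
def orbIt (J : List ℕ) (j : ℕ) : ℕ → List (List ℤ) × List (List ℤ)
  | 0 => ([Q.vinit j], [Q.vinit j])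
  | k + 1 => Q.orbStep J (orbIt J j k)

/-- The orbit. -/
def orbit (J : List ℕ) (j : ℕ) : List (List ℤ) := (Q.orbIt J j Q.nroots).1

/-- The value of a functional at a root. -/
def vval (v : List ℤ) (r : ℕ) : ℤ := ((List.range Q.rank).map fun k => Q.rv r k * v.getD k 0).sum

/-- The number of positive roots in `J` on which a functional is negative. -/
def vcnt (J : List ℕ) (v : List ℤ) : ℕ :=
  (Q.allRoots.filter fun r => inJ Q J r && Q.isPos r && decide (Q.vval v r < 0)).length

/-- The orbit is closed and has no repetitions. -/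
def ckOrb : List ℕ → Bool
  | [] => true
  | j :: K =>
    let O := Q.orbit (j :: K) j
    Nat.blt j Q.rank && (!(K.any fun i => Nat.beq i j)) &&
      (O.all fun v => (j :: K).all fun m => O.any fun w => w == Q.vstep m v) &&
      decide O.Nodup && ckOrb K

/-- The Poincaré polynomial computed from the orbits. -/
def poinP : List ℕ → List ℕ
  | [] => [1]
  | j :: K => pmul (psum ((Q.orbit (j :: K) j).map (Q.vcnt (j :: K)))) (poinP K)

end Pk

/-- The functional attached to a word. -/
def vOf (P : Pk) (j : ℕ) (l : List ℕ) : List ℤ :=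
  (List.range P.rank).map fun i => P.rv (wl P l.reverse (P.sim i)) j

theorem inJ_iff {P : Pk} {J : List ℕ} {r : ℕ} :
    inJ P J r = true ↔ ∀ m < P.rank, m ∉ J → P.rv r m = 0 := by
  simp only [inJ, List.all_eq_true, List.mem_range, Bool.or_eq_true, List.any_eq_true, nbeq,
    decide_eq_true_eq, beq_iff_eq]
  refine forall₂_congr fun m _ => ⟨fun h hn => h.resolve_left ?_, fun h => ?_⟩
  · rintro ⟨j, hj, rfl⟩; exact hn hj
  · by_cases hm : m ∈ J
    · exact Or.inl ⟨m, hm, rfl⟩
    · exact Or.inr (h hm)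

variable {D : ChevalleyDatum} {P : Pk}

namespace Ok

variable (h : Ok D P)
include h

theorem act_val {l : List ℕ} (hl : WordOk P l) (r : Fin P.nroots) : (act P l r).val = wl P l r.val :=
  Nat.mod_eq_of_lt (h.wl_lt l hl r.val r.isLt)

theorem mem_WJ {J : List ℕ} {f : Fin P.nroots → Fin P.nroots} :
    f ∈ WJ P J ↔ ∃ l, WordIn P J l ∧ act P l = f := by
  simp [WJ]

theorem act_eq_iff {l l' : List ℕ} (hl : WordOk P l) (hl' : WordOk P l') :
    act P l = act P l' ↔ ∀ r < P.nroots, wl P l r = wl P l' r := by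
  constructor
  · intro e r hr
    rw [← h.act_val hl ⟨r, hr⟩, ← h.act_val hl' ⟨r, hr⟩, e]
  · intro e
    funext r
    exact Fin.ext (by rw [h.act_val hl, h.act_val hl', e r.val r.isLt])

/-- A word preserving positivity acts trivially. -/
theorem wl_eq_id : ∀ (n : ℕ) (l : List ℕ), l.length ≤ n → WordOk P l →
    (∀ i < P.rank, P.isPos (wl P l (P.sim i)) = true) → ∀ r < P.nroots, wl P l r = r := by
  intro n
  induction n with
  | zero => intro l hl _ _ r _; rw [List.length_eq_zero_iff.1 (Nat.le_zero.1 hl)]; rfl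
  | succ n ih =>
    intro l hlen hl hpos r hr
    rcases List.eq_nil_or_concat l with rfl | ⟨l', i, rfl⟩
    · rfl
    rw [List.concat_eq_append] at hl hlen hpos ⊢
    have hi : i < P.rank := hl i (by simp)
    have hl' : WordOk P l' := fun x hx => hl x (by simp [hx])
    have h1 := hpos i hi
    rw [wl_append] at h1
    simp only [wl] at h1
    rw [h.w_sim hi, h.wl_ng l' hl' _ (h.sim_lt hi), h.ng_pos_iff (h.wl_lt l' hl' _ (h.sim_lt hi))] at h1
    obtain ⟨a, j, b, rfl, -, ew⟩ := h.nW_shorten (F := ℚ) hl' hi h1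
    rw [ew r hr]
    refine ih (a ++ b) (by simp at hlen ⊢; omega) (fun x hx => hl' x ?_) (fun m hm => ?_) r hr
    · simp only [List.mem_append, List.mem_cons] at hx ⊢; tauto
    · rw [← ew _ (h.sim_lt hm)]; exact hpos m hm

theorem wl_outside {J l : List ℕ} (hl : WordIn P J l) {r : ℕ} (hr : r < P.nroots) {m : ℕ}
    (hm : m < P.rank) (hmJ : m ∉ J) : P.rv (wl P l r) m = P.rv r m := by
  induction l with
  | nil => rfl
  | cons i l ih =>
    have hl' : WordIn P J l := ⟨hl.1.tail, fun x hx => hl.2 x (List.mem_cons_of_mem _ hx)⟩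
    simp only [wl]
    rw [((h.w_spec hl.1.head (h.wl_lt l hl'.1 r hr)).2.2.2.2.2.1 m hm).1, ih hl',
      if_neg (fun e => hmJ (by rw [e]; exact hl.2 i List.mem_cons_self)), sub_zero]

theorem inJ_wl {J l : List ℕ} (hl : WordIn P J l) {r : ℕ} (hr : r < P.nroots) :
    inJ P J (wl P l r) = inJ P J r := by
  rw [Bool.eq_iff_iff, inJ_iff, inJ_iff]
  refine forall₂_congr fun m hm => forall_congr' fun hmJ => ?_
  rw [h.wl_outside hl hr hm hmJ]

theorem wordIn_reverse {J l : List ℕ} (hl : WordIn P J l) : WordIn P J l.reverse :=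
  ⟨fun x hx => hl.1 x (List.mem_reverse.1 hx), fun x hx => hl.2 x (List.mem_reverse.1 hx)⟩

theorem wl_reverse' {l : List ℕ} (hl : WordOk P l) {r : ℕ} (hr : r < P.nroots) :
    wl P l (wl P l.reverse r) = r := by
  have := h.wl_reverse l.reverse (fun x hx => hl x (List.mem_reverse.1 hx)) r hr
  rwa [List.reverse_reverse] at this

omit h in
/-- The roots in `J` inverted by a word. -/
theorem invJ_def (J : List ℕ) (f : Fin P.nroots → Fin P.nroots) :
    invJ P J f = (Finset.univ.filter fun r : Fin P.nroots =>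
      inJ P J r.val = true ∧ P.isPos r.val = true ∧ P.isPos (f r).val = false).card := rfl

/-- Appending a reflection in an inverted fundamental root lowers the count. -/
theorem invJ_lt {J : List ℕ} {l : List ℕ} (hl : WordOk P l) {i : ℕ} (hi : i < P.rank) (hiJ : i ∈ J)
    (hneg : P.isPos (wl P l (P.sim i)) = false) :
    invJ P J (act P (l ++ [i])) < invJ P J (act P l) := by
  have hl1 : WordOk P (l ++ [i]) := fun x hx => by
    rcases List.mem_append.1 hx with a | a
    · exact hl x a
    · simp at a; exact a ▸ hi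
  let f : Fin P.nroots → Fin P.nroots := fun r => ⟨P.w i r.val, h.w_lt hi r.isLt⟩
  set p : Fin P.nroots := ⟨P.sim i, h.sim_lt hi⟩
  have hp : p ∈ Finset.univ.filter fun r : Fin P.nroots =>
      inJ P J r.val = true ∧ P.isPos r.val = true ∧ P.isPos (act P l r).val = false := by
    refine Finset.mem_filter.2 ⟨Finset.mem_univ _, inJ_iff.2 fun m hm hmJ => ?_, h.sim_pos hi,
      by rw [h.act_val hl]; exact hneg⟩
    rw [h.rv_sim hi hm, if_neg]
    rintro rfl; exact hmJ hiJ
  rw [invJ_def, invJ_def, ← Finset.card_erase_add_one hp, Nat.lt_succ_iff]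
  refine Finset.card_le_card_of_injOn f (fun r hr => ?_) fun a _ b _ e =>
    Fin.ext (h.w_inj hi a.isLt b.isLt (congrArg Fin.val e))
  obtain ⟨-, hrJ, hrp, hrn⟩ := Finset.mem_filter.1 hr
  rw [h.act_val hl1, wl_append] at hrn
  simp only [wl] at hrn
  have hwJ : inJ P J (P.w i r.val) = true := by
    rw [← show wl P [i] r.val = P.w i r.val from rfl, h.inJ_wl (J := J) ⟨fun x hx => by
      simp at hx; exact hx ▸ hi, fun x hx => by simp at hx; exact hx ▸ hiJ⟩ r.isLt]
    exact hrJ
  rcases (h.w_spec hi r.isLt).2.2.2.2.2.2.1 with e | e | e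
  · exfalso
    rw [e, h.w_sim hi, h.wl_ng l hl _ (h.sim_lt hi)] at hrn
    rw [← Bool.not_eq_true, h.ng_pos_iff (h.wl_lt l hl _ (h.sim_lt hi))] at hrn
    exact hrn hneg
  · rw [e, h.ng_pos_iff (h.sim_lt hi), h.sim_pos hi] at hrp; simp at hrp
  · refine Finset.mem_coe.2 (Finset.mem_erase.2 ⟨fun e2 => ?_, Finset.mem_filter.2 ⟨Finset.mem_univ _,
      hwJ, (by show P.isPos (P.w i r.val) = true; rw [← e]; exact hrp), by rw [h.act_val hl]; exact hrn⟩⟩)
    have e3 : P.w i r.val = P.sim i := congrArg Fin.val e2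
    have e4 : r.val = P.ng (P.sim i) := by rw [← h.w_w hi r.isLt, e3, h.w_sim hi]
    rw [e4, h.ng_pos_iff (h.sim_lt hi), h.sim_pos hi] at hrp
    simp at hrp

/-- Positivity on the fundamental roots of `J` gives positivity on all roots of `J`. -/
theorem pos_of_simple {J l : List ℕ} (hl : WordOk P l)
    (hs : ∀ i ∈ J, i < P.rank → P.isPos (wl P l (P.sim i)) = true)
    {r : ℕ} (hrJ : inJ P J r = true) (hr : P.isPos r = true) : P.isPos (wl P l r) = true := by
  have hrn := (P.isPos_iff.1 hr).2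
  by_contra hneg
  obtain ⟨m, hm, hne⟩ := h.rv_exists_ne (h.wl_lt l hl r hrn)
  have h1 := (h.rv_sign (h.wl_lt l hl r hrn) hm).2 (by simpa using hneg)
  have h2 : 0 ≤ P.rv (wl P l r) m := by
    rw [h.rv_wl l hl r hrn m hm]
    refine Finset.sum_nonneg fun k hk => ?_
    have hk' := Finset.mem_range.1 hk
    by_cases hkJ : k ∈ J
    · exact mul_nonneg ((h.rv_sign hrn hk').1 hr)
        ((h.rv_sign (h.wl_lt l hl _ (h.sim_lt hk')) hm).1 (hs k hkJ hk'))
    · rw [inJ_iff.1 hrJ k hk' hkJ, zero_mul]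
  omega

/-- The stabiliser of the functional `r ↦ rv r j`. -/
theorem stab_word (j : ℕ) (K : List ℕ) : ∀ (n : ℕ) (l : List ℕ), WordIn P (j :: K) l →
    invJ P (j :: K) (act P l) ≤ n → (∀ r < P.nroots, P.rv (wl P l r) j = P.rv r j) → j < P.rank →
    ∃ l', WordIn P K l' ∧ act P l = act P l' := by
  intro n
  induction n using Nat.strong_induction_on with
  | _ n ih =>
    intro l hl hn hfix hj
    by_cases hall : ∀ i ∈ j :: K, i < P.rank → P.isPos (wl P l (P.sim i)) = true
    · refine ⟨[], ⟨fun _ hx => absurd hx List.not_mem_nil, fun _ hx => absurd hx List.not_mem_nil⟩,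
        (h.act_eq_iff hl.1 fun _ hx => absurd hx List.not_mem_nil).2 fun r hr => ?_⟩
      refine h.wl_eq_id l.length l le_rfl hl.1 (fun i hi => ?_) r hr
      by_cases hiJ : i ∈ j :: K
      · exact hall i hiJ hi
      · refine h.pos_of_rv (h.wl_lt l hl.1 _ (h.sim_lt hi)) hi ?_
        rw [h.wl_outside hl (h.sim_lt hi) hi hiJ, h.rv_sim hi hi, if_pos rfl]
        omega
    · push_neg at hall
      obtain ⟨i, hiJ, hi, hneg⟩ := hall
      have hneg' : P.isPos (wl P l (P.sim i)) = false := by simpa using hneg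
      have hij : i ≠ j := by
        rintro rfl
        have h1 := hfix _ (h.sim_lt hi)
        rw [h.rv_sim hi hi, if_pos rfl] at h1
        have := h.pos_of_rv (h.wl_lt l hl.1 _ (h.sim_lt hi)) hi (by rw [h1]; omega)
        exact hneg this
      have hiK : i ∈ K := (List.mem_cons.1 hiJ).resolve_left hij
      have hlt := h.invJ_lt (J := j :: K) hl.1 hi hiJ hneg'
      have hl1 : WordIn P (j :: K) (l ++ [i]) := by
        refine ⟨fun x hx => ?_, fun x hx => ?_⟩ <;> rcases List.mem_append.1 hx with a | a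
        · exact hl.1 x a
        · simp at a; exact a ▸ hi
        · exact hl.2 x a
        · simp at a; exact a ▸ hiJ
      obtain ⟨l', hl', e⟩ := ih _ (lt_of_lt_of_le hlt hn) (l ++ [i]) hl1 le_rfl (fun r hr => by
        rw [wl_append]
        simp only [wl]
        rw [hfix _ (h.w_lt hi hr), ((h.w_spec hi hr).2.2.2.2.2.1 j hj).1, if_neg (Ne.symm hij), sub_zero]) hj
      have hl'' : WordIn P K (l' ++ [i]) := by
        refine ⟨fun x hx => ?_, fun x hx => ?_⟩ <;> rcases List.mem_append.1 hx with a | a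
        · exact hl'.1 x a
        · simp at a; exact a ▸ hi
        · exact hl'.2 x a
        · simp at a; exact a ▸ hiK
      refine ⟨l' ++ [i], hl'', (h.act_eq_iff hl.1 hl''.1).2 fun r hr => ?_⟩
      have e1 := (h.act_eq_iff hl1.1 hl'.1).1 e (P.w i r) (h.w_lt hi hr)
      rw [wl_append] at e1 ⊢
      simp only [wl] at e1 ⊢
      rwa [h.w_w hi hr] at e1

theorem vOf_getD {j : ℕ} {l : List ℕ} {i : ℕ} (hi : i < P.rank) :
    (vOf P j l).getD i 0 = P.rv (wl P l.reverse (P.sim i)) j := by
  rw [vOf, getD_map_range _ hi]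

theorem vval_vOf {j : ℕ} (hj : j < P.rank) {l : List ℕ} (hl : WordOk P l) {r : ℕ} (hr : r < P.nroots) :
    P.vval (vOf P j l) r = P.rv (wl P l.reverse r) j := by
  rw [h.rv_wl _ (fun x hx => hl x (List.mem_reverse.1 hx)) r hr j hj, Pk.vval,
    ← List.sum_toFinset _ List.nodup_range, List.toFinset_range]
  exact Finset.sum_congr rfl fun k hk => by rw [h.vOf_getD (Finset.mem_range.1 hk)]

theorem vOf_cons {j : ℕ} (hj : j < P.rank) {l : List ℕ} (hl : WordOk P l) {m : ℕ} (hm : m < P.rank) :
    vOf P j (m :: l) = P.vstep m (vOf P j l) := by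
  refine List.map_congr_left fun i hi => ?_
  have hi' := List.mem_range.1 hi
  rw [List.reverse_cons, wl_append, h.vOf_getD hi', h.vOf_getD hm]
  simp only [wl]
  have hrev : WordOk P l.reverse := fun x hx => hl x (List.mem_reverse.1 hx)
  have hp := h.sim_lt hi'
  rw [h.rv_wl _ hrev _ (h.w_lt hm hp) j hj]
  have e : ∀ k ∈ Finset.range P.rank,
      P.rv (P.w m (P.sim i)) k * P.rv (wl P l.reverse (P.sim k)) j =
        P.rv (P.sim i) k * P.rv (wl P l.reverse (P.sim k)) j -
          if k = m then P.A m (P.sim i) * P.rv (wl P l.reverse (P.sim k)) j else 0 := by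
    intro k hk
    rw [((h.w_spec hm hp).2.2.2.2.2.1 k (Finset.mem_range.1 hk)).1]
    split_ifs <;> ring
  rw [Finset.sum_congr rfl e, Finset.sum_sub_distrib, Finset.sum_ite_eq' (Finset.range P.rank) m,
    if_pos (Finset.mem_range.2 hm), ← h.rv_wl _ hrev _ hp j hj]

theorem vOf_nil {j : ℕ} (hj : j < P.rank) : vOf P j [] = P.vinit j := by
  refine List.map_congr_left fun i hi => ?_
  simp only [List.reverse_nil, wl]
  rw [h.rv_sim (List.mem_range.1 hi) hj, nbeq]
  by_cases e : i = j <;> simp [e]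

theorem orbIt_reach {J : List ℕ} {j : ℕ} (hj : j < P.rank) (hJ : ∀ m ∈ J, m < P.rank) : ∀ k v,
    (v ∈ (P.orbIt J j k).1 ∨ v ∈ (P.orbIt J j k).2) → ∃ l, WordIn P J l ∧ vOf P j l = v := by
  intro k
  induction k with
  | zero =>
    intro v hv
    simp only [Pk.orbIt, List.mem_singleton, or_self] at hv
    exact ⟨[], ⟨fun _ hx => absurd hx List.not_mem_nil, fun _ hx => absurd hx List.not_mem_nil⟩,
      hv ▸ h.vOf_nil hj⟩
  | succ k ih =>
    intro v hv
    have hnew : ∀ (cand acc : List (List ℤ)) (seen : List (List ℤ)),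
        v ∈ cand.foldl (fun acc v => bif (acc.any fun w => w == v) || (seen.any fun w => w == v) then acc
          else v :: acc) acc → v ∈ cand ∨ v ∈ acc := by
      intro cand
      induction cand with
      | nil => intro acc _ hm; exact Or.inr hm
      | cons c cand ihc =>
        intro acc seen hm
        rcases ihc _ _ hm with e | e
        · exact Or.inl (List.mem_cons_of_mem _ e)
        · cases hb : (acc.any fun w => w == c) || (seen.any fun w => w == c) <;> simp [hb] at e
          · rcases e with rfl | e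
            · exact Or.inl List.mem_cons_self
            · exact Or.inr e
          · exact Or.inr e
    rcases hP : P.orbIt J j k with ⟨seen, front⟩
    simp only [Pk.orbIt, hP, Pk.orbStep, List.mem_append] at hv
    rw [hP] at ih
    have key : v ∈ (front.flatMap fun v => J.map fun m => P.vstep m v) →
        ∃ l, WordIn P J l ∧ vOf P j l = v := by
      intro hm
      obtain ⟨w, hw, hm⟩ := List.mem_flatMap.1 hm
      obtain ⟨m, hmJ, rfl⟩ := List.mem_map.1 hm
      obtain ⟨l, hl, rfl⟩ := ih w (Or.inr hw)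
      exact ⟨m :: l, ⟨List.forall_mem_cons.2 ⟨hJ m hmJ, hl.1⟩, List.forall_mem_cons.2 ⟨hmJ, hl.2⟩⟩,
        h.vOf_cons hj hl.1 (hJ m hmJ)⟩
    rcases hv with (hv | hv) | hv
    · exact ih v (Or.inl hv)
    · exact key ((hnew _ _ _ hv).resolve_right List.not_mem_nil)
    · exact key ((hnew _ _ _ hv).resolve_right List.not_mem_nil)

theorem orbit_init {J : List ℕ} {j : ℕ} : P.vinit j ∈ P.orbit J j := by
  unfold Pk.orbit
  generalize P.nroots = k
  induction k with
  | zero => simp [Pk.orbIt]
  | succ k ih =>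
    rcases hP : P.orbIt J j k with ⟨seen, front⟩
    simp only [Pk.orbIt, hP, Pk.orbStep, List.mem_append]
    rw [hP] at ih
    exact Or.inl ih

theorem vOf_mem {J : List ℕ} {j : ℕ} (hj : j < P.rank)
    (hck : ∀ v ∈ P.orbit J j, ∀ m ∈ J, P.vstep m v ∈ P.orbit J j) :
    ∀ l, WordIn P J l → vOf P j l ∈ P.orbit J j
  | [], _ => by rw [h.vOf_nil hj]; exact h.orbit_init
  | m :: l, hl => by
    rw [h.vOf_cons hj hl.1.tail hl.1.head]
    exact hck _ (vOf_mem hj hck l ⟨hl.1.tail, fun x hx => hl.2 x (List.mem_cons_of_mem _ hx)⟩) m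
      (hl.2 m List.mem_cons_self)

theorem invJ_split {j : ℕ} {K : List ℕ} (hj : j < P.rank) (hjK : j ∉ K) {l : List ℕ}
    (hl : WordIn P (j :: K) l) :
    invJ P (j :: K) (act P l) = P.vcnt (j :: K) (vOf P j l) + invJ P K (act P l) := by
  have hrev := h.wordIn_reverse hl
  have hinK : ∀ r, inJ P K r = true ↔ inJ P (j :: K) r = true ∧ P.rv r j = 0 := by
    intro r
    rw [inJ_iff, inJ_iff]
    refine ⟨fun e => ⟨fun m hm hn => e m hm fun hk => hn (List.mem_cons_of_mem _ hk), e j hj hjK⟩,
      fun e m hm hn => ?_⟩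
    by_cases hmj : m = j
    · exact hmj ▸ e.2
    · exact e.1 m hm (List.not_mem_cons_of_ne_of_not_mem hmj hn)
  rw [invJ_def, invJ_def, ← Finset.card_filter_add_card_filter_not (fun r : Fin P.nroots => P.rv r.val j = 0),
    add_comm]
  congr 1
  · rw [Pk.vcnt, Pk.allRoots, ← List.toFinset_card_of_nodup (List.nodup_range.filter _)]
    refine Finset.card_bij (fun r _ => P.ng (act P l r).val) (fun r hr => ?_) (fun a _ b _ e => ?_)
      (fun r hr => ?_)
    · simp only [Finset.mem_filter, Finset.mem_univ, true_and] at hr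
      obtain ⟨⟨hrJ, hrp, hrn⟩, hne⟩ := hr
      rw [h.act_val hl.1] at hrn ⊢
      have hlt := h.wl_lt l hl.1 r.val r.isLt
      simp only [List.mem_toFinset, List.mem_filter, List.mem_range, Bool.and_eq_true, decide_eq_true_eq]
      refine ⟨ng_lt hlt, ⟨?_, (h.ng_pos_iff hlt).2 hrn⟩, ?_⟩
      · rw [← h.wl_ng l hl.1 _ r.isLt, h.inJ_wl hl (ng_lt r.isLt)]
        exact inJ_iff.2 fun m hm hn => by rw [h.rv_ng r.isLt hm, inJ_iff.1 hrJ m hm hn, neg_zero]
      · rw [h.vval_vOf hj hl.1 (ng_lt hlt), h.wl_ng _ hrev.1 _ hlt, h.wl_reverse l hl.1 _ r.isLt,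
          h.rv_ng r.isLt hj]
        have := (h.rv_sign r.isLt hj).1 hrp
        omega
    · simp only [h.act_val hl.1] at e
      have ha := h.wl_lt l hl.1 _ a.isLt
      have hb := h.wl_lt l hl.1 _ b.isLt
      have e2 := congrArg P.ng e
      rw [ng_ng ha, ng_ng hb] at e2
      have e3 := congrArg (wl P l.reverse) e2
      rw [h.wl_reverse l hl.1 _ a.isLt, h.wl_reverse l hl.1 _ b.isLt] at e3
      exact Fin.ext e3
    · simp only [List.mem_toFinset, List.mem_filter, List.mem_range, Bool.and_eq_true, decide_eq_true_eq] at hr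
      obtain ⟨hrn, ⟨hrJ, hrp⟩, hv⟩ := hr
      rw [h.vval_vOf hj hl.1 hrn] at hv
      have hs := h.wl_lt _ hrev.1 r hrn
      have hpos : P.isPos (P.ng (wl P l.reverse r)) = true := by
        refine h.pos_of_rv (ng_lt hs) hj ?_
        rw [h.rv_ng hs hj]; omega
      have hw : wl P l (P.ng (wl P l.reverse r)) = P.ng r := by
        rw [h.wl_ng l hl.1 _ hs, h.wl_reverse' hl.1 hrn]
      refine ⟨⟨P.ng (wl P l.reverse r), ng_lt hs⟩, ?_, ?_⟩
      · simp only [Finset.mem_filter, Finset.mem_univ, true_and]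
        refine ⟨⟨?_, hpos, ?_⟩, ?_⟩
        · exact inJ_iff.2 fun m hm hn => by
            rw [h.rv_ng hs hm, h.wl_outside hrev hrn hm hn, inJ_iff.1 hrJ m hm hn, neg_zero]
        · rw [h.act_val hl.1, hw, ← Bool.not_eq_true, h.ng_pos_iff hrn, hrp]; simp
        · rw [h.rv_ng hs hj]; omega
      · show P.ng (act P l ⟨P.ng (wl P l.reverse r), ng_lt hs⟩).val = r
        rw [h.act_val hl.1, hw, ng_ng hrn]
  · rw [Finset.filter_filter]
    congr 1
    refine Finset.filter_congr fun r _ => ?_
    rw [hinK]; tauto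

theorem vOf_congr {j : ℕ} {l l' : List ℕ} (hl : WordOk P l) (hl' : WordOk P l')
    (e : act P l = act P l') : vOf P j l = vOf P j l' := by
  refine List.map_congr_left fun i hi => ?_
  have hs := h.sim_lt (List.mem_range.1 hi)
  have h1 := h.wl_lt _ (fun x hx => hl x (List.mem_reverse.1 hx)) _ hs
  have h2 := (h.act_eq_iff hl hl').1 e _ h1
  rw [h.wl_reverse' hl hs] at h2
  conv_rhs => rw [h2, h.wl_reverse l' hl' _ h1]

theorem exists_pos_rep {j : ℕ} {K : List ℕ} (hj : j < P.rank) (hjK : j ∉ K) :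
    ∀ (n : ℕ) (l : List ℕ), WordIn P (j :: K) l → invJ P K (act P l) ≤ n →
    ∃ a, WordIn P (j :: K) a ∧ vOf P j a = vOf P j l ∧
      ∀ i ∈ K, i < P.rank → P.isPos (wl P a (P.sim i)) = true := by
  intro n
  induction n using Nat.strong_induction_on with
  | _ n ih =>
    intro l hl hn
    by_cases hall : ∀ i ∈ K, i < P.rank → P.isPos (wl P l (P.sim i)) = true
    · exact ⟨l, hl, rfl, hall⟩
    push_neg at hall
    obtain ⟨i, hiK, hi, hneg⟩ := hall
    have hlt := h.invJ_lt (J := K) hl.1 hi hiK (by simpa using hneg)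
    have hl1 : WordIn P (j :: K) (l ++ [i]) := by
      refine ⟨fun x hx => ?_, fun x hx => ?_⟩ <;> rcases List.mem_append.1 hx with a | a
      · exact hl.1 x a
      · simp at a; exact a ▸ hi
      · exact hl.2 x a
      · simp at a; exact a ▸ List.mem_cons_of_mem _ hiK
    obtain ⟨a, ha, ea, hpa⟩ := ih _ (lt_of_lt_of_le hlt hn) _ hl1 le_rfl
    refine ⟨a, ha, ea.trans (List.map_congr_left fun m hm => ?_), hpa⟩
    have hs := h.wl_lt _ (h.wordIn_reverse hl).1 _ (h.sim_lt (List.mem_range.1 hm))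
    rw [List.reverse_append, List.reverse_singleton, List.singleton_append]
    simp only [wl]
    rw [((h.w_spec hi hs).2.2.2.2.2.1 j hj).1, if_neg, sub_zero]
    rintro rfl
    exact hjK hiK

theorem poin_cons {j : ℕ} {K : List ℕ} (hj : j < P.rank) (hjK : j ∉ K) (hKr : ∀ i ∈ K, i < P.rank)
    (hck : ∀ v ∈ P.orbit (j :: K) j, ∀ m ∈ j :: K, P.vstep m v ∈ P.orbit (j :: K) j)
    (hnd : (P.orbit (j :: K) j).Nodup) (q : ℕ) :
    poin P (j :: K) q = ((P.orbit (j :: K) j).map fun v => q ^ P.vcnt (j :: K) v).sum * poin P K q := by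
  classical
  rw [← List.sum_toFinset _ hnd, Finset.sum_mul]
  set O := (P.orbit (j :: K) j).toFinset with hO
  have hsel : ∀ f ∈ WJ P (j :: K), ∃ l, WordIn P (j :: K) l ∧ act P l = f := fun f hf => h.mem_WJ.1 hf
  choose! wd hwd using hsel
  rw [poin, ← Finset.sum_fiberwise_of_maps_to (t := O) (g := fun f => vOf P j (wd f))
    fun f hf => List.mem_toFinset.2 (h.vOf_mem hj hck _ (hwd f hf).1)]
  refine Finset.sum_congr rfl fun v hv => ?_
  obtain ⟨l₀, hl₀, hv₀⟩ := h.orbIt_reach hj (List.forall_mem_cons.2 ⟨hj, hKr⟩) P.nroots v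
    (Or.inl (List.mem_toFinset.1 hv))
  obtain ⟨a, ha, hav, hap⟩ := h.exists_pos_rep hj hjK _ l₀ hl₀ le_rfl
  rw [hv₀] at hav
  rw [poin, Finset.mul_sum]
  symm
  refine Finset.sum_bij (fun g _ => act P a ∘ g) (fun g hg => ?_) (fun g₁ _ g₂ _ e => ?_)
    (fun f hf => ?_) (fun g hg => ?_)
  · obtain ⟨b, hb, rfl⟩ := h.mem_WJ.1 hg
    have hab : WordIn P (j :: K) (a ++ b) := ⟨fun x hx => by
        rcases List.mem_append.1 hx with e | e; exacts [ha.1 x e, hb.1 x e],
      fun x hx => by rcases List.mem_append.1 hx with e | e; exacts [ha.2 x e, List.mem_cons_of_mem _ (hb.2 x e)]⟩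
    have he : act P (a ++ b) = act P a ∘ act P b := by
      funext r
      exact Fin.ext (by rw [Function.comp_apply, h.act_val hab.1, h.act_val ha.1, h.act_val hb.1, wl_append])
    have hmem : act P a ∘ act P b ∈ WJ P (j :: K) := h.mem_WJ.2 ⟨_, hab, he⟩
    refine Finset.mem_filter.2 ⟨hmem, ?_⟩
    rw [h.vOf_congr (hwd _ hmem).1.1 hab.1 ((hwd _ hmem).2.trans he.symm), ← hav]
    refine List.map_congr_left fun i hi => ?_
    rw [List.reverse_append, wl_append]
    exact h.wl_outside (J := K) (h.wordIn_reverse hb)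
      (h.wl_lt _ (h.wordIn_reverse ha).1 _ (h.sim_lt (List.mem_range.1 hi))) hj hjK
  · funext r
    have e1 := congrArg Fin.val (congrFun e r)
    simp only [Function.comp_apply, h.act_val ha.1] at e1
    have e2 := congrArg (wl P a.reverse) e1
    rw [h.wl_reverse a ha.1 _ (g₁ r).isLt, h.wl_reverse a ha.1 _ (g₂ r).isLt] at e2
    exact Fin.ext e2
  · obtain ⟨hfW, hfv⟩ := Finset.mem_filter.1 hf
    obtain ⟨hwl, hwe⟩ := hwd f hfW
    set c := a.reverse ++ wd f with hc
    have hcin : WordIn P (j :: K) c := ⟨fun x hx => by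
        rcases List.mem_append.1 hx with e | e; exacts [(h.wordIn_reverse ha).1 x e, hwl.1 x e],
      fun x hx => by rcases List.mem_append.1 hx with e | e; exacts [(h.wordIn_reverse ha).2 x e, hwl.2 x e]⟩
    have hfix : ∀ r < P.nroots, P.rv (wl P c r) j = P.rv r j := by
      intro r hr
      have h1 := h.wl_lt _ hwl.1 r hr
      rw [hc, wl_append, ← h.vval_vOf hj ha.1 h1, hav, ← hfv, h.vval_vOf hj hwl.1 h1,
        h.wl_reverse _ hwl.1 r hr]
    obtain ⟨b, hb, hbe⟩ := h.stab_word j K _ c hcin le_rfl hfix hj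
    refine ⟨act P b, h.mem_WJ.2 ⟨b, hb, rfl⟩, ?_⟩
    rw [← hwe, ← hbe]
    funext r
    refine Fin.ext ?_
    rw [Function.comp_apply, h.act_val ha.1, h.act_val hcin.1, h.act_val hwl.1, hc, wl_append,
      h.wl_reverse' ha.1 (h.wl_lt _ hwl.1 _ r.isLt)]
  · obtain ⟨b, hb, rfl⟩ := h.mem_WJ.1 hg
    have hab : WordIn P (j :: K) (a ++ b) := ⟨fun x hx => by
        rcases List.mem_append.1 hx with e | e; exacts [ha.1 x e, hb.1 x e],
      fun x hx => by rcases List.mem_append.1 hx with e | e; exacts [ha.2 x e, List.mem_cons_of_mem _ (hb.2 x e)]⟩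
    have he : act P (a ++ b) = act P a ∘ act P b := by
      funext r
      exact Fin.ext (by rw [Function.comp_apply, h.act_val hab.1, h.act_val ha.1, h.act_val hb.1, wl_append])
    rw [← he, h.invJ_split hj hjK hab, pow_add]
    have hvab : vOf P j (a ++ b) = v := by
      rw [← hav]
      refine List.map_congr_left fun i hi => ?_
      rw [List.reverse_append, wl_append]
      exact h.wl_outside (J := K) (h.wordIn_reverse hb)
        (h.wl_lt _ (h.wordIn_reverse ha).1 _ (h.sim_lt (List.mem_range.1 hi))) hj hjK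
    rw [hvab]
    congr 2
    rw [invJ_def, invJ_def]
    congr 1
    refine Finset.filter_congr fun r _ => and_congr_right fun hrK => and_congr_right fun _ => ?_
    rw [h.act_val hab.1, h.act_val hb.1, wl_append]
    have hbr := h.wl_lt b hb.1 r.val r.isLt
    have hbK : inJ P K (wl P b r.val) = true := by rw [h.inJ_wl hb r.isLt]; exact hrK
    constructor
    · intro hn
      rw [← Bool.not_eq_true]
      intro hp
      have hngK : inJ P K (P.ng (wl P b r.val)) = true :=
        inJ_iff.2 fun m hm hmK => by rw [h.rv_ng hbr hm, inJ_iff.1 hbK m hm hmK, neg_zero]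
      have := h.pos_of_simple ha.1 hap hngK ((h.ng_pos_iff hbr).2 hn)
      rw [h.wl_ng a ha.1 _ hbr, h.ng_pos_iff (h.wl_lt a ha.1 _ hbr), hp] at this
      simp at this
    · intro hn
      rw [← Bool.not_eq_true]
      intro hp
      rw [h.pos_of_simple ha.1 hap hbK hp] at hn
      simp at hn

theorem poin_nil (q : ℕ) : poin P [] q = 1 := by
  have hW : WJ P [] = {act P []} := by
    ext f
    rw [h.mem_WJ, Finset.mem_singleton]
    constructor
    · rintro ⟨l, hl, rfl⟩
      rw [List.eq_nil_iff_forall_not_mem.2 fun x hx => absurd (hl.2 x hx) List.not_mem_nil]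
    · rintro rfl
      exact ⟨[], ⟨fun _ hx => absurd hx List.not_mem_nil, fun _ hx => hx⟩, rfl⟩
  rw [poin, hW, Finset.sum_singleton, invJ_def, Finset.card_eq_zero.2, pow_zero]
  refine Finset.filter_eq_empty_iff.2 fun r _ => ?_
  rintro ⟨-, h2, h3⟩
  rw [h.act_val (fun _ hx => absurd hx List.not_mem_nil)] at h3
  simp [wl, h2] at h3

theorem poin_eq : ∀ J : List ℕ, P.ckOrb J = true → ∀ q, poin P J q = pev q (P.poinP J)
  | [], _, q => by rw [h.poin_nil]; simp [Pk.poinP, pev]
  | j :: K, hck, q => by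
    simp only [Pk.ckOrb, Bool.and_eq_true, Nat.blt_eq, Bool.not_eq_true', List.any_eq_false,
      List.all_eq_true, List.any_eq_true, nbeq, decide_eq_true_eq, beq_iff_eq] at hck
    obtain ⟨⟨⟨⟨hj, hjK⟩, hclosed⟩, hnd⟩, hK⟩ := hck
    have hKr : ∀ i ∈ K, i < P.rank := by
      clear hclosed hnd hjK
      induction K with
      | nil => simp
      | cons k K ih =>
        simp only [Pk.ckOrb, Bool.and_eq_true, Nat.blt_eq] at hK
        exact List.forall_mem_cons.2 ⟨hK.1.1.1.1, ih hK.2⟩
    rw [h.poin_cons hj (fun hm => hjK j hm rfl) hKr (fun v hv m hm => by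
      obtain ⟨w, hw, e⟩ := hclosed v hv m hm
      exact e ▸ hw) hnd, poin_eq K hK q, Pk.poinP, pev_pmul, pev_psum, List.map_map]
    rfl

end Ok

end Cfsg.Agent.Chev
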