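/-
Orders of the Chevalley groups over finite fields.
-/
import Cfsg.Agent.Lib.Chev.Bruhat
import Cfsg.Agent.Lib.Chev.Weyl

set_option autoImplicit false

namespace Cfsg.Agent.Chev

open Cfsg.Lie

/-- The homomorphism of a power of an abelian group given by an integer matrix. -/
def mhom {A : Type*} [CommGroup A] {l : ℕ} (M : Matrix (Fin l) (Fin l) ℤ) : (Fin l → A) →* (Fin l → A) where
  toFun c k := ∏ i, c i ^ M i k
  map_one' := by funext k; simp
  map_mul' c d := by funext k; simp [mul_zpow, Finset.prod_mul_distrib]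

theorem mhom_apply {A : Type*} [CommGroup A] {l : ℕ} (M : Matrix (Fin l) (Fin l) ℤ) (c : Fin l → A) (k : Fin l) :
    mhom M c k = ∏ i, c i ^ M i k := rfl

theorem mhom_mul {A : Type*} [CommGroup A] {l : ℕ} (M N : Matrix (Fin l) (Fin l) ℤ) (c : Fin l → A) :
    mhom (M * N) c = mhom N (mhom M c) := by
  funext k
  have zp : ∀ (a : A) (f : Fin l → ℤ), a ^ (∑ j, f j) = ∏ j, a ^ f j := by
    intro a f
    induction (Finset.univ : Finset (Fin l)) using Finset.induction_on with
    | empty => simp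
    | insert x S hx ih => rw [Finset.sum_insert hx, Finset.prod_insert hx, zpow_add, ih]
  have zq : ∀ (f : Fin l → A) (n : ℤ), (∏ j, f j) ^ n = ∏ j, f j ^ n := by
    intro f n
    induction (Finset.univ : Finset (Fin l)) using Finset.induction_on with
    | empty => simp
    | insert x S hx ih => rw [Finset.prod_insert hx, Finset.prod_insert hx, mul_zpow, ih]
  simp only [mhom_apply, Matrix.mul_apply, zp, zq, ← zpow_mul]
  exact Finset.prod_comm

theorem mhom_one {A : Type*} [CommGroup A] {l : ℕ} (c : Fin l → A) :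
    mhom (1 : Matrix (Fin l) (Fin l) ℤ) c = c := by
  funext k
  rw [mhom_apply, Finset.prod_eq_single k]
  · simp
  · intro i _ hi; simp [Matrix.one_apply_ne hi]
  · simp

theorem card_mhom_ker {A : Type*} [CommGroup A] [IsCyclic A] [Finite A] {l : ℕ}
    {M U U' V V' : Matrix (Fin l) (Fin l) ℤ} {d : Fin l → ℤ} (hU : U * U' = 1) (hV : V * V' = 1)
    (hM : U * M * V = Matrix.diagonal d) :
    Nat.card (mhom (A := A) M).ker = ∏ k, (Nat.card A).gcd (d k).natAbs := by
  have hU' : U' * U = 1 := mul_eq_one_comm.1 hU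
  have eU : Function.Bijective (mhom (A := A) U) := Function.bijective_iff_has_inverse.2
    ⟨mhom U', fun c => by rw [← mhom_mul, hU, mhom_one], fun c => by rw [← mhom_mul, hU', mhom_one]⟩
  have hVi : ∀ c : Fin l → A, mhom V c = 1 ↔ c = 1 := fun c => by
    refine ⟨fun e => ?_, fun e => by rw [e, map_one]⟩
    have := congrArg (mhom V') e
    rwa [← mhom_mul, hV, mhom_one, map_one] at this
  have e1 : Nat.card (mhom (A := A) M).ker = Nat.card (mhom (A := A) (Matrix.diagonal d)).ker := by
    refine (Nat.card_congr (Equiv.subtypeEquiv (Equiv.ofBijective _ eU) fun c => ?_)).symm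
    rw [MonoidHom.mem_ker, MonoidHom.mem_ker, Equiv.ofBijective_apply, ← hM, mhom_mul, mhom_mul, hVi]
  have e2 : ∀ c : Fin l → A, c ∈ (mhom (A := A) (Matrix.diagonal d)).ker ↔
      ∀ k, c k ∈ (powMonoidHom (d k).natAbs : A →* A).ker := by
    intro c
    rw [MonoidHom.mem_ker, funext_iff]
    refine forall_congr' fun k => ?_
    rw [mhom_apply, Finset.prod_eq_single k, Matrix.diagonal_apply_eq, MonoidHom.mem_ker, powMonoidHom_apply,
      Pi.one_apply]
    · rcases Int.natAbs_eq (d k) with e | e <;> conv_lhs => rw [e]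
      · rw [zpow_natCast]
      · rw [zpow_neg, zpow_natCast, inv_eq_one]
    · intro i _ hi; simp [Matrix.diagonal_apply_ne _ hi]
    · simp
  rw [e1, Nat.card_congr ((Equiv.subtypeEquivRight e2).trans (Equiv.subtypePiEquivPi)), Nat.card_pi]
  exact Finset.prod_congr rfl fun k _ => IsCyclic.card_powMonoidHom_ker _ _

/-- A Smith normal form certificate for the Cartan matrix. -/
def ckSmith (P : Pk) (U U' V V' : List (List ℤ)) (d : List ℤ) : Bool :=
  let g := fun (M : List (List ℤ)) (i j : ℕ) => (M.getD i []).getD j 0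
  let rg := List.range P.rank
  let mul := fun (f h : ℕ → ℕ → ℤ) (i j : ℕ) => (rg.map fun k => f i k * h k j).sum
  rg.all fun i => rg.all fun j =>
    (mul (g U) (g U') i j == bif Nat.beq i j then 1 else 0) &&
    (mul (g V) (g V') i j == bif Nat.beq i j then 1 else 0) &&
    (mul (mul (g U) (fun a b => P.A a (P.sim b))) (g V) i j == bif Nat.beq i j then d.getD i 0 else 0)

variable {D : ChevalleyDatum} {P : Pk} {F : Type*} [Field F]

namespace Ok

variable (h : Ok D P)
include h

theorem card_diagonal [Fintype F] {U U' V V' : List (List ℤ)} {d : List ℤ}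
    (hck : ckSmith P U U' V V' d = true) :
    Nat.card (D.diagonalSubgroup F) *
        ((List.range P.rank).map fun k => (Fintype.card F - 1).gcd (d.getD k 0).natAbs).prod =
      (Fintype.card F - 1) ^ P.rank := by
  rw [← List.prod_toFinset _ List.nodup_range, List.toFinset_range,
    ← Fin.prod_univ_eq_prod_range (fun k => (Fintype.card F - 1).gcd (d.getD k 0).natAbs)]
  classical
  let M : Matrix (Fin P.rank) (Fin P.rank) ℤ := Matrix.of fun i k => P.A i (P.sim k)
  let mk : List (List ℤ) → Matrix (Fin P.rank) (Fin P.rank) ℤ := fun X =>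
    Matrix.of fun i j => (X.getD i.val []).getD j.val 0
  have hsum : ∀ f : ℕ → ℤ, ((List.range P.rank).map f).sum = ∑ k : Fin P.rank, f k.val := fun f => by
    rw [← List.sum_toFinset _ List.nodup_range, List.toFinset_range, Fin.sum_univ_eq_sum_range]
  simp only [ckSmith, List.all_eq_true, List.mem_range, Bool.and_eq_true, beq_iff_eq, hsum, nbeq] at hck
  have hU : mk U * mk U' = 1 := by
    ext i j
    rw [Matrix.mul_apply, Matrix.one_apply]
    simp only [mk, Matrix.of_apply, (hck i i.isLt j j.isLt).1.1, Fin.ext_iff]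
    by_cases e : i.val = j.val <;> simp [e]
  have hV : mk V * mk V' = 1 := by
    ext i j
    rw [Matrix.mul_apply, Matrix.one_apply]
    simp only [mk, Matrix.of_apply, (hck i i.isLt j j.isLt).1.2, Fin.ext_iff]
    by_cases e : i.val = j.val <;> simp [e]
  have hM : mk U * M * mk V = Matrix.diagonal fun k : Fin P.rank => d.getD k.val 0 := by
    ext i j
    rw [Matrix.diagonal_apply]
    simp only [mk, M, Matrix.mul_apply, Matrix.of_apply, (hck i i.isLt j j.isLt).2, Fin.ext_iff]
    by_cases e : i.val = j.val <;> simp [e]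
  have hker : (h.hHom (F := F)).ker = (mhom (A := Fˣ) M).ker := by
    ext c
    rw [MonoidHom.mem_ker, MonoidHom.mem_ker]
    have hcol : ∀ k : Fin P.rank, ((mhom M c k : Fˣ) : F) = hchar P c (P.sim k) := fun k => by
      rw [mhom_apply, Units.coe_prod]
      simp [hchar, M, Units.val_zpow_eq_zpow_val]
    constructor
    · intro e
      funext k
      apply Units.ext
      rw [hcol]
      have hk := h.sim_lt k.isLt
      have e1 := congrArg (fun g : GL D.Idx F => g.val (h.rootIdx _ hk) (h.rootIdx _ hk)) e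
      simpa [h.coe_hHom, dM, rootIdx] using e1
    · intro e
      apply Units.ext
      rw [h.coe_hHom, Units.val_one, dM, ← Matrix.diagonal_one]
      congr 1
      funext x
      rcases x with i | s
      · rfl
      · show hchar P c s.val = 1
        have hs := h.slt s
        have key : ∀ T : Finset (Fin P.rank), (∏ i : Fin P.rank, (c i : F) ^ (∑ k ∈ T, P.rv s.val k.val * P.A i (P.sim k))) = 1 := by
          intro T
          induction T using Finset.induction_on with
          | empty => simp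
          | insert a T ha ih =>
            simp only [Finset.sum_insert ha, zpow_add₀ (Units.ne_zero _), Finset.prod_mul_distrib, ih, mul_one]
            have e2 : hchar P c (P.sim a) = 1 := by rw [← hcol, e]; simp
            rw [Finset.prod_congr rfl fun i _ => by rw [mul_comm, zpow_mul]]
            rw [Finset.prod_zpow]
            rw [show (∏ i : Fin P.rank, (c i : F) ^ P.A i (P.sim a)) = hchar P c (P.sim a) from rfl, e2, one_zpow]
        rw [hchar, ← key Finset.univ]
        refine Finset.prod_congr rfl fun i _ => ?_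
        rw [Fin.sum_univ_eq_sum_range (fun k => P.rv s.val k * P.A i (P.sim k)), ← h.A_eq_sum hs i.isLt]
  have hcard := Subgroup.card_mul_index (h.hHom (F := F)).ker
  rw [Subgroup.index_ker, ← h.diagonal_eq, hker, card_mhom_ker hU hV hM, Nat.card_fun, Nat.card_eq_fintype_card
    (α := Fˣ), Fintype.card_units] at hcard
  rw [mul_comm]
  simpa using hcard

theorem card_genR_list [Fintype F] (hC : P.ckComm = true) {L : List ℕ} (hs : L.Pairwise (· < ·))
    (hp : ∀ r ∈ L, P.isPos r = true) (hcl : ClosedL P L) :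
    Nat.card (h.genR (F := F) (· ∈ L)) = Fintype.card F ^ L.length := by
  classical
  let S := L.toFinset
  let ext : (S → F) → ℕ → F := fun v r => if hr : r ∈ S then v ⟨r, hr⟩ else 0
  let f : (S → F) → h.genR (F := F) (· ∈ L) := fun v =>
    ⟨(L.map fun r => h.xG r (ext v r)).prod, list_prod_mem fun x hx => by
      obtain ⟨r, hr, rfl⟩ := List.mem_map.1 hx; exact h.xG_mem_genR hr _⟩
  have hf : Function.Bijective f := by
    constructor
    · intro v w e
      funext ⟨r, hr⟩
      simpa [ext, hr] using h.prod_unique _ hs hp _ _ (congrArg Subtype.val e) r (List.mem_toFinset.1 hr)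
    · rintro ⟨g, hg⟩
      obtain ⟨t, rfl⟩ := h.exists_prod hC L hs hp hcl g hg
      refine ⟨fun r => t r.1, Subtype.ext (congrArg List.prod (List.map_congr_left fun r hr => ?_))⟩
      simp [ext, show r ∈ S from List.mem_toFinset.2 hr]
  rw [← Nat.card_congr (Equiv.ofBijective f hf), Nat.card_eq_fintype_card, Fintype.card_fun,
    Fintype.card_coe, List.toFinset_card_of_nodup (hs.imp fun h' => Nat.ne_of_lt h')]

theorem card_negS [Fintype F] (hC : P.ckComm = true) {J : List ℕ} (hJ : ∀ i < P.rank, i ∈ J) {l : List ℕ}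
    (hl : WordOk P l) :
    Nat.card (h.genR (F := F) (negS P l)) = Fintype.card F ^ invJ P J (act P l) := by
  set L := (posL P).filter fun r => !P.isPos (wl P l r) with hL
  have hmem : ∀ r, r ∈ L ↔ negS P l r := fun r => by
    simp [hL, mem_posL, negS]
  have hcl : ClosedL P L := by
    intro r hr s hs k hk
    obtain ⟨hr1, hr2⟩ := (hmem r).1 hr
    obtain ⟨hs1, hs2⟩ := (hmem s).1 hs
    have hrn := (P.isPos_iff.1 hr1).2
    have hsn := (P.isPos_iff.1 hs1).2
    refine (hmem _).2 ⟨(h.pos_tgt hr1 hs1 hk).1, ?_⟩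
    rw [← Bool.not_eq_true]
    intro hp
    obtain ⟨m, hm, hpos⟩ := h.exists_pos_coord hp
    have htn := h.tgt_lt hrn hsn hk
    rw [h.rv_wl l hl _ htn m hm] at hpos
    have e : ∑ i ∈ Finset.range P.rank, P.rv (P.tgt r s k) i * P.rv (wl P l (P.sim i)) m =
        (k + 1) * P.rv (wl P l r) m + P.rv (wl P l s) m := by
      rw [h.rv_wl l hl r hrn m hm, h.rv_wl l hl s hsn m hm, Finset.mul_sum, ← Finset.sum_add_distrib]
      refine Finset.sum_congr rfl fun i hi => ?_
      rw [h.rv_additive hrn hsn hk (Finset.mem_range.1 hi)]; ring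
    have h1 := (h.rv_sign (h.wl_lt l hl r hrn) hm).2 hr2
    have h2 := (h.rv_sign (h.wl_lt l hl s hsn) hm).2 hs2
    rw [e] at hpos
    nlinarith
  have e1 : h.genR (F := F) (negS P l) = h.genR (· ∈ L) :=
    le_antisymm (h.genR_mono fun r hr => (hmem r).2 hr) (h.genR_mono fun r hr => (hmem r).1 hr)
  have hsort : L.Pairwise (· < ·) := posL_sorted.filter _
  rw [e1, h.card_genR_list hC hsort (fun r hr => ((hmem r).1 hr).1) hcl]
  congr 1
  rw [← List.toFinset_card_of_nodup (hsort.imp fun h' => Nat.ne_of_lt h'), invJ_def]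
  refine (Finset.card_bij (fun r _ => r.val) (fun r hr => ?_) (fun a _ b _ e => Fin.ext e) fun r hr => ?_).symm
  · simp only [Finset.mem_filter, Finset.mem_univ, true_and, h.act_val hl] at hr
    exact List.mem_toFinset.2 ((hmem _).2 hr.2)
  · obtain ⟨hr1, hr2⟩ := (hmem r).1 (List.mem_toFinset.1 hr)
    refine ⟨⟨r, (P.isPos_iff.1 hr1).2⟩, ?_, rfl⟩
    simp only [Finset.mem_filter, Finset.mem_univ, true_and, h.act_val hl]
    exact ⟨inJ_iff.2 fun m hm hn => absurd (hJ m hm) hn, hr1, hr2⟩

theorem card_borel : Nat.card (D.borelSubgroup F) =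
    Nat.card (D.posUnipotent F) * Nat.card (D.diagonalSubgroup F) := by
  rw [← Nat.card_prod]
  refine (Nat.card_eq_of_bijective (fun p : D.posUnipotent F × D.diagonalSubgroup F =>
    (⟨p.1.1 * p.2.1, mul_mem (Subgroup.mem_sup_left p.1.2) (Subgroup.mem_sup_right p.2.2)⟩ :
      D.borelSubgroup F)) ⟨?_, ?_⟩).symm
  · rintro ⟨u, d⟩ ⟨u', d'⟩ e
    have e' : u.1 * d.1 = u'.1 * d'.1 := congrArg Subtype.val e
    have h1 : u'.1⁻¹ * u.1 = d'.1 * d.1⁻¹ := by
      rw [show u'.1⁻¹ * u.1 = u'.1⁻¹ * (u.1 * d.1) * d.1⁻¹ by group, e']; group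
    have h2 : u'.1⁻¹ * u.1 ∈ D.posUnipotent F ⊓ D.diagonalSubgroup F :=
      Subgroup.mem_inf.2 ⟨mul_mem (inv_mem u'.2) u.2, h1 ▸ mul_mem d'.2 (inv_mem d.2)⟩
    rw [h.pos_inf_diagonal, Subgroup.mem_bot] at h2
    rw [h2] at h1
    exact Prod.ext (Subtype.ext (inv_mul_eq_one.1 h2).symm) (Subtype.ext (mul_inv_eq_one.1 h1.symm).symm)
  · rintro ⟨g, hg⟩
    obtain ⟨u, hu, d, hd, rfl⟩ := h.mem_borel hg
    exact ⟨⟨⟨u, hu⟩, ⟨d, hd⟩⟩, rfl⟩

theorem card_group [Fintype F] (hC : P.ckComm = true) {J : List ℕ} (hJ : ∀ i < P.rank, i ∈ J) :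
    Nat.card (D.group F) =
      Fintype.card F ^ (P.nroots / 2) * Nat.card (D.diagonalSubgroup F) * poin P J (Fintype.card F) := by
  classical
  rw [← h.card_pos (F := F) hC, ← h.card_borel]
  have hsel : ∀ f ∈ WJ P J, ∃ l, WordOk P l ∧ act P l = f := fun f hf => by
    obtain ⟨l, hl, e⟩ := h.mem_WJ.1 hf
    exact ⟨l, hl.1, e⟩
  choose! wd hwd using hsel
  let T := Σ f : WJ P J, D.borelSubgroup F × h.genR (F := F) (negS P (wd f.1))
  let Φ : T → D.group F := fun x => ⟨x.2.1.1 * h.nW (wd x.1.1) * x.2.2.1,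
    mul_mem (mul_mem (h.borel_le_group x.2.1.2) (h.monomial_le_group (h.nW_mem _ (hwd _ x.1.2).1)))
      (h.borel_le_group (Subgroup.mem_sup_left (h.negS_le_pos _ x.2.2.2)))⟩
  have hΦ : Function.Bijective Φ := by
    constructor
    · rintro ⟨f, b, u⟩ ⟨f', b', u'⟩ e
      have e' := congrArg Subtype.val e
      simp only [Φ] at e'
      obtain ⟨hl, hf⟩ := hwd _ f.2
      obtain ⟨hl', hf'⟩ := hwd _ f'.2
      have h1 := h.bruhat_unique hC b.2 b'.2 hl hl' (one_mem _) (one_mem _) (h.negS_le_pos _ u.2)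
        (h.negS_le_pos _ u'.2) (by simpa using e')
      have hff : f = f' := Subtype.ext (by
        rw [← hf, ← hf', h.act_eq_iff hl hl']
        exact fun r hr => h.wl_eq_of_mem hl hl' h1 hr)
      subst hff
      obtain ⟨eb, eu⟩ := h.bruhat_factor hl (one_mem _) b.2 b'.2 u.2 u'.2 (by simpa using e')
      rw [Subtype.ext eb, Subtype.ext eu]
    · rintro ⟨g, hg⟩
      obtain ⟨b, hb, l, hl, u, hu, rfl⟩ := h.bruhat_exists hC hg
      have hin : act P l ∈ WJ P J := h.mem_WJ.2 ⟨l, ⟨hl, fun i hi => hJ i (hl i hi)⟩, rfl⟩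
      obtain ⟨hl', hf⟩ := hwd _ hin
      have heq := (h.act_eq_iff hl' hl).1 hf
      set d := (h.nW (F := F) (wd (act P l)))⁻¹ * h.nW l
      have hd : d ∈ D.diagonalSubgroup F := h.mem_diagonal_of_wl_eq hl' hl heq
      have hd' := (Subgroup.mem_normalizer_iff.1 (h.nW_normalizer (F := F) _ hl') d).1 hd
      have hu' : u ∈ h.genR (negS P (wd (act P l))) :=
        h.genR_mono (fun r hr => ⟨hr.1, by rw [heq r (P.isPos_iff.1 hr.1).2]; exact hr.2⟩) hu
      refine ⟨⟨⟨_, hin⟩, ⟨b * (h.nW (wd (act P l)) * d * (h.nW (wd (act P l)))⁻¹),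
        mul_mem hb (Subgroup.mem_sup_right hd')⟩, ⟨u, hu'⟩⟩, Subtype.ext ?_⟩
      simp only [Φ, d]
      group
  haveI : Finite (GL D.Idx F) := inferInstance
  rw [← Nat.card_eq_of_bijective Φ hΦ, Nat.card_sigma, poin, Finset.mul_sum, ← Finset.sum_coe_sort (WJ P J)]
  refine Finset.sum_congr rfl fun f _ => ?_
  rw [Nat.card_prod, h.card_negS hC hJ (hwd _ f.2).1, (hwd _ f.2).2]

theorem order_formula [Fintype F] (hC : P.ckComm = true) {J : List ℕ} (hJ : ∀ i < P.rank, i ∈ J)
    (hO : P.ckOrb J = true) {ds : List ℕ} (hp : P.poinP J = pgeom ds) (hds : ds.length = P.rank)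
    {U U' V V' : List (List ℤ)} {d : List ℤ} (hck : ckSmith P U U' V V' d = true) :
    ((List.range P.rank).map fun k => (Fintype.card F - 1).gcd (d.getD k 0).natAbs).prod *
        Nat.card (D.group F) =
      Fintype.card F ^ (P.nroots / 2) * (ds.map fun e => Fintype.card F ^ e - 1).prod := by
  rw [h.card_group hC hJ, h.poin_eq J hO, hp, ← pev_pgeom _ Fintype.card_pos ds, hds,
    ← h.card_diagonal (F := F) hck]
  ring

end Ok

end Cfsg.Agent.Chev
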