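/-
Functoriality in the field, and fixed points of field automorphisms.
-/
import Cfsg.Prelude.Def_ChevAutomorphisms
import Cfsg.Agent.Lib.Chev.Bruhat
import Cfsg.Agent.Lib.Chev.Order
import Mathlib.FieldTheory.Fixed
import Mathlib.Algebra.Ring.Action.Basic
import Mathlib.LinearAlgebra.Matrix.GeneralLinearGroup.Defs

set_option autoImplicit false

namespace Cfsg.Agent.Chev

open Cfsg.Lie
open scoped Matrix

variable {D : ChevalleyDatum} {P : Pk} {E F : Type*} [Field E] [Field F]

/-- Entrywise application of a ring map. -/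
def gmap (D : ChevalleyDatum) (f : E →+* F) : GL D.Idx E →* GL D.Idx F :=
  Matrix.GeneralLinearGroup.map f

theorem coe_gmap (f : E →+* F) (g : GL D.Idx E) :
    (gmap D f g : Matrix D.Idx D.Idx F) = (g : Matrix D.Idx D.Idx E).map f := rfl

theorem gmap_injective (f : E →+* F) : Function.Injective (gmap D f) := by
  intro a b e
  apply Units.ext
  exact Matrix.map_injective f.injective (by simpa [← coe_gmap] using congrArg Units.val e)

namespace Ok

variable (h : Ok D P)
include h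

theorem gmap_xG (f : E →+* F) {r : ℕ} (hr : r < P.nroots) (t : E) :
    gmap D f (h.xG r t) = h.xG r (f t) := by
  apply Units.ext
  rw [coe_gmap, h.coe_xG' hr, h.coe_xG' hr, ← X_map]

theorem gmap_nt (f : E →+* F) {r : ℕ} (hr : r < P.nroots) (t : E) :
    gmap D f (h.nt r t) = h.nt r (f t) := by
  simp only [nt, map_mul, h.gmap_xG f hr, h.gmap_xG f (ng_lt hr), map_neg, map_inv₀]

theorem gmap_nG (f : E →+* F) {i : ℕ} (hi : i < P.rank) : gmap D f (h.nG i) = h.nG i := by
  rw [nG, nG, h.gmap_nt f (h.sim_lt hi), map_one]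

theorem gmap_nW (f : E →+* F) : ∀ l, WordOk P l → gmap D f (h.nW l) = h.nW l
  | [], _ => by simp [nW_nil]
  | i :: l, hl => by
    rw [h.nW_cons, h.nW_cons, map_mul, h.gmap_nG f hl.head, gmap_nW f l hl.tail]

theorem gmap_hHom (f : E →+* F) (c : Fin P.rank → Eˣ) :
    gmap D f (h.hHom c) = h.hHom fun i => Units.map f.toMonoidHom (c i) := by
  apply Units.ext
  rw [coe_gmap, h.coe_hHom, h.coe_hHom, dM, dM, Matrix.diagonal_map (map_zero f)]
  congr 1
  funext x
  rcases x with i | s <;> simp [hchar, map_prod, map_zpow₀]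

theorem map_genR_le (f : E →+* F) {S : ℕ → Prop} (hS : ∀ r, S r → r < P.nroots) :
    (h.genR (F := E) S).map (gmap D f) ≤ h.genR S := by
  rw [Subgroup.map_le_iff_le_comap]
  refine h.genR_le fun r hr t => ?_
  rw [Subgroup.mem_comap, h.gmap_xG f (hS r hr)]
  exact h.xG_mem_genR hr _

theorem gmap_pos (f : E →+* F) {g : GL D.Idx E} (hg : g ∈ D.posUnipotent E) :
    gmap D f g ∈ D.posUnipotent F := by
  rw [h.posUnipotent_eq] at hg ⊢
  exact h.map_genR_le f (fun r hr => (P.isPos_iff.1 hr).2) ⟨g, hg, rfl⟩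

theorem gmap_diagonal (f : E →+* F) {g : GL D.Idx E} (hg : g ∈ D.diagonalSubgroup E) :
    gmap D f g ∈ D.diagonalSubgroup F := by
  obtain ⟨c, rfl⟩ := h.mem_diagonal_iff.1 hg
  exact h.mem_diagonal_iff.2 ⟨_, (h.gmap_hHom f c).symm⟩

theorem gmap_borel (f : E →+* F) {g : GL D.Idx E} (hg : g ∈ D.borelSubgroup E) :
    gmap D f g ∈ D.borelSubgroup F := by
  obtain ⟨u, hu, d, hd, rfl⟩ := h.mem_borel hg
  rw [map_mul]
  exact mul_mem (Subgroup.mem_sup_left (h.gmap_pos f hu)) (Subgroup.mem_sup_right (h.gmap_diagonal f hd))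

theorem map_group_le (f : E →+* F) : (D.group E).map (gmap D f) ≤ D.group F := by
  rw [Subgroup.map_le_iff_le_comap]
  refine h.group_le fun r hr t => ?_
  rw [Subgroup.mem_comap, h.gmap_xG f hr]
  exact h.mem_group_of_xG r _

theorem hHom_injective [Fintype F] {U U' V V' : List (List ℤ)} {d : List ℤ}
    (hck : ckSmith P U U' V V' d = true)
    (hd : ((List.range P.rank).all fun k => Nat.beq (d.getD k 0).natAbs 1) = true) :
    Function.Injective (h.hHom (F := F)) := by
  classical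
  have e := h.card_diagonal (F := F) hck
  have h1 : ((List.range P.rank).map fun k => (Fintype.card F - 1).gcd (d.getD k 0).natAbs).prod = 1 := by
    refine List.prod_eq_one fun x hx => ?_
    obtain ⟨k, hk, rfl⟩ := List.mem_map.1 hx
    rw [Nat.eq_of_beq_eq_true (List.all_eq_true.1 hd k hk), Nat.gcd_one_right]
  rw [h1, mul_one] at e
  have hb : Function.Bijective (h.hHom (F := F)).rangeRestrict :=
    (Nat.bijective_iff_surjective_and_card _).2 ⟨MonoidHom.rangeRestrict_surjective _, by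
      rw [← h.diagonal_eq, e, Nat.card_fun, Nat.card_eq_fintype_card (α := Fˣ), Fintype.card_units,
        Nat.card_eq_fintype_card, Fintype.card_fin]⟩
  exact fun a b hab => hb.1 (Subtype.ext hab)

/-- An element fixed by an entrywise field automorphism is defined over the fixed field. -/
theorem mem_map_of_fixed (hC : P.ckComm = true) (hinj : Function.Injective (h.hHom (F := F)))
    (ι : E →+* F) (σ : F →+* F) (hfix : ∀ x : F, σ x = x → ∃ y, ι y = x)
    {g : GL D.Idx F} (hg : g ∈ D.group F) (e : gmap D σ g = g) :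
    g ∈ (D.group E).map (gmap D ι) := by
  set M := (D.group E).map (gmap D ι)
  have hU : ∀ u ∈ D.posUnipotent F, gmap D σ u = u → u ∈ M := by
    intro u hu eu
    obtain ⟨t, rfl⟩ := h.pos_normal_form hC hu
    have e1 : ((posL P).map fun r => h.xG r (σ (t r))).prod = ((posL P).map fun r => h.xG r (t r)).prod := by
      refine Eq.trans ?_ eu
      rw [map_list_prod, List.map_map]
      refine congrArg List.prod (List.map_congr_left fun r hr => ?_)
      exact (h.gmap_xG σ (P.isPos_iff.1 (mem_posL.1 hr)).2 _).symm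
    have e2 := h.prod_unique _ posL_sorted (fun _ hr => mem_posL.1 hr) _ _ e1
    refine list_prod_mem fun x hx => ?_
    obtain ⟨r, hr, rfl⟩ := List.mem_map.1 hx
    obtain ⟨y, hy⟩ := hfix _ (e2 r hr)
    exact ⟨h.xG r y, h.mem_group_of_xG r y, by rw [h.gmap_xG ι (P.isPos_iff.1 (mem_posL.1 hr)).2, hy]⟩
  obtain ⟨b, hb, l, hl, u, hu, rfl⟩ := h.bruhat_exists hC hg
  rw [map_mul, map_mul, h.gmap_nW σ l hl] at e
  obtain ⟨eb, eu⟩ := h.bruhat_factor hl (one_mem _) (h.gmap_borel σ hb) hb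
    (h.map_genR_le σ (fun r hr => (P.isPos_iff.1 hr.1).2) ⟨u, hu, rfl⟩) hu
    (by rw [mul_one]; exact e)
  obtain ⟨v, hv, d, hd, rfl⟩ := h.mem_borel hb
  rw [map_mul] at eb
  have e1 : (gmap D σ v)⁻¹ * v = gmap D σ d * d⁻¹ := by
    rw [eq_mul_inv_iff_mul_eq, mul_assoc, inv_mul_eq_iff_eq_mul]; exact eb.symm
  have h2 : (gmap D σ v)⁻¹ * v ∈ D.posUnipotent F ⊓ D.diagonalSubgroup F :=
    Subgroup.mem_inf.2 ⟨mul_mem (inv_mem (h.gmap_pos σ hv)) hv,
      e1 ▸ mul_mem (h.gmap_diagonal σ hd) (inv_mem hd)⟩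
  rw [h.pos_inf_diagonal, Subgroup.mem_bot] at h2
  rw [h2] at e1
  have evd : gmap D σ d = d := mul_inv_eq_one.1 e1.symm
  obtain ⟨c, rfl⟩ := h.mem_diagonal_iff.1 hd
  rw [h.gmap_hHom σ] at evd
  have hc := hinj evd
  have hci : ∀ i, ∃ y : Eˣ, Units.map ι.toMonoidHom y = c i := by
    intro i
    obtain ⟨y, hy⟩ := hfix (c i : F) (by simpa using congrArg Units.val (congrFun hc i))
    have hy0 : y ≠ 0 := by rintro rfl; exact (c i).ne_zero (by rw [← hy, map_zero])
    exact ⟨Units.mk0 y hy0, Units.ext hy⟩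
  choose y hy using hci
  refine mul_mem (mul_mem (mul_mem (hU v hv (inv_mul_eq_one.1 h2)) ?_) ?_) (hU u (h.negS_le_pos l hu) eu)
  · refine ⟨h.hHom y, h.diagonal_le_group (h.mem_diagonal_iff.2 ⟨y, rfl⟩), ?_⟩
    rw [h.gmap_hHom ι]
    exact congrArg _ (funext hy)
  · exact ⟨h.nW l, h.monomial_le_group (h.nW_mem l hl), h.gmap_nW ι l hl⟩

/-- The fixed points of a field automorphism of prime order `r`. -/
theorem fieldAut_fixed (hC : P.ckComm = true) [Fintype F] (hinj : Function.Injective (h.hHom (F := F)))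
    (hroot : 0 < P.nroots) (φ : MulAut ↥(D.group F)) (hφ : D.IsFieldAut φ) (r : ℕ) (hr : r.Prime)
    (ho : orderOf φ = r) :
    ∃ (F₀ : Type) (_ : Field F₀) (_ : Fintype F₀), Fintype.card F = Fintype.card F₀ ^ r ∧
      Nonempty (↥((MulEquiv.toMonoidHom φ).eqLocus (MonoidHom.id ↥(D.group F))) ≃* ↥(D.group F₀)) := by
  classical
  obtain ⟨σ, hσ⟩ := hφ
  set s : F →+* F := σ.toRingHom
  have hval : ∀ g : ↥(D.group F), ((φ g : GL D.Idx F)) = gmap D s g := by
    have hle : D.group F ≤ Subgroup.map (D.group F).subtype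
        (MonoidHom.eqLocus ((D.group F).subtype.comp φ.toMonoidHom) ((gmap D s).comp (D.group F).subtype)) := by
      refine h.group_le fun x hx t => ⟨⟨h.xG x t, h.mem_group_of_xG x t⟩, ?_, rfl⟩
      apply Units.ext
      show ((φ ⟨h.xG x t, _⟩ : ↥(D.group F)) : GL D.Idx F).val = (gmap D s (h.xG x t)).val
      rw [hσ ⟨h.xG x t, _⟩ x t (h.nroots ▸ hx) (h.coe_xG x t), h.gmap_xG s hx, h.coe_xG]
      rfl
    intro g
    obtain ⟨g', hg', e⟩ := hle g.2
    obtain rfl : g' = g := Subtype.ext e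
    exact hg'
  have hpow : ∀ (n : ℕ) (t : F), ((φ ^ n) ⟨h.xG 0 t, h.mem_group_of_xG 0 t⟩ : GL D.Idx F) = h.xG 0 ((σ ^ n) t) := by
    intro n
    induction n with
    | zero => intro t; rfl
    | succ n ih =>
      intro t
      rw [pow_succ', MulAut.mul_apply, hval, ih, h.gmap_xG s hroot, pow_succ']
      rfl
  have hσr : σ ^ r = 1 := by
    ext t
    refine h.xG_inj_param hroot ?_
    rw [← hpow, ← ho, pow_orderOf_eq_one]
    rfl
  have hσ1 : σ ≠ 1 := by
    intro e
    apply hr.one_lt.ne'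
    rw [← ho, orderOf_eq_one_iff]
    ext g
    have e1 : s = RingHom.id F := by ext x; show σ x = x; rw [e]; rfl
    rw [hval, e1]
    show ((g : GL D.Idx F).val.map (RingHom.id F)) _ _ = _
    simp
  have hord : orderOf σ = r := orderOf_eq_prime (hp := ⟨hr⟩) hσr hσ1
  haveI : Finite (F ≃+* F) := Finite.of_injective (fun f => (f : F → F)) fun a b e => RingEquiv.ext (congrFun e)
  haveI : Fintype (Subgroup.zpowers σ) := Fintype.ofFinite _
  let K := FixedPoints.subfield (Subgroup.zpowers σ) F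
  haveI : FaithfulSMul (Subgroup.zpowers σ) F :=
    ⟨fun {a b} e => Subtype.ext (RingEquiv.ext fun x => e x)⟩
  have hcard : Fintype.card F = Fintype.card K ^ r := by
    rw [Module.card_eq_pow_finrank (K := K) (V := F), FixedPoints.finrank_eq_card, Fintype.card_eq_nat_card
      (α := Subgroup.zpowers σ), Nat.card_zpowers, hord]
  let F₀ := Shrink.{0} K
  let q : K ≃ F₀ := equivShrink.{0} K
  letI : Field F₀ := q.symm.field
  haveI : Fintype F₀ := Fintype.ofEquiv K q
  let ι : F₀ →+* F := (K.subtype).comp q.symm.ringEquiv.toRingHom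
  refine ⟨F₀, inferInstance, inferInstance, ?_, ?_⟩
  · rw [hcard]; congr 1; exact Fintype.card_congr q
  have hι : ∀ y : F₀, σ (ι y) = ι y := fun y =>
    (q.symm y).2 ⟨σ, Subgroup.mem_zpowers σ⟩
  have hfix : ∀ x : F, s x = x → ∃ y, ι y = x := by
    intro x hx
    have hle : Subgroup.zpowers σ ≤ MulAction.stabilizer (F ≃+* F) x := Subgroup.zpowers_le.2 hx
    have hxK : x ∈ K := fun m => hle m.2
    exact ⟨q ⟨x, hxK⟩, congrArg Subtype.val (q.symm_apply_apply ⟨x, hxK⟩)⟩
  let f : ↥(D.group F₀) →* ↥((MulEquiv.toMonoidHom φ).eqLocus (MonoidHom.id ↥(D.group F))) :=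
    { toFun := fun g => ⟨⟨gmap D ι g, h.map_group_le ι ⟨g, g.2, rfl⟩⟩, by
        show φ _ = _
        apply Subtype.ext
        rw [hval]
        apply Units.ext
        show ((g : GL D.Idx F₀).val.map ι).map s = (g : GL D.Idx F₀).val.map ι
        ext i j
        exact hι _⟩
      map_one' := by ext1; ext1; exact map_one _
      map_mul' := fun a b => by ext1; ext1; exact map_mul _ _ _ }
  refine ⟨(MulEquiv.ofBijective f ⟨?_, ?_⟩).symm⟩
  · intro a b hab
    exact Subtype.ext (gmap_injective ι (congrArg (fun x => ((x.1 : ↥(D.group F)) : GL D.Idx F)) hab))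
  · rintro ⟨g, hg⟩
    obtain ⟨g₀, hg₀, e⟩ := h.mem_map_of_fixed hC hinj ι s hfix g.2
      (by rw [← hval]; exact congrArg Subtype.val hg)
    exact ⟨⟨g₀, hg₀⟩, Subtype.ext (Subtype.ext e)⟩

end Ok

end Cfsg.Agent.Chev
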