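/-
The special linear group of degree three on the long roots of G₂.
-/
import Cfsg.Agent.Lib.Chev.Bruhat
import Cfsg.Agent.Lib.Chev.AllC
import Cfsg.Agent.Lib.Chev.FieldAut
import Mathlib.LinearAlgebra.Matrix.Transvection
import Mathlib.LinearAlgebra.Matrix.SpecialLinearGroup

set_option autoImplicit false
set_option maxHeartbeats 400000

namespace Cfsg.Agent.Chev

open Cfsg.Lie
open scoped Matrix MatrixGroups

namespace Ok

variable {D : ChevalleyDatum} {P : Pk} {F : Type*} [Field F] (h : Ok D P)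
include h

/-- The centralizer of an element of the torus moved by every non-trivial Weyl element is the torus. -/
theorem centralizer_of_stab (hC : P.ckComm = true) (c : Fin P.rank → Fˣ)
    (h1 : ∀ r < P.nroots, hchar P c r ≠ 1)
    (hst : ∀ l, WordOk P l → (∀ r < P.nroots, hchar P c (wl P l r) = hchar P c r) → ∀ r < P.nroots, wl P l r = r)
    {g : GL D.Idx F} (hg : g ∈ D.group F) (hc : Commute g (h.hHom c)) : g ∈ D.diagonalSubgroup F := by
  set t := h.hHom (F := F) c with ht
  have htd : t ∈ D.diagonalSubgroup F := h.mem_diagonal_iff.2 ⟨c, rfl⟩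
  have htn : ∀ {v : GL D.Idx F}, v ∈ D.posUnipotent F → t * v * t⁻¹ ∈ D.posUnipotent F := fun hv =>
    (Subgroup.mem_normalizer_iff.1 (h.diagonal_normalizes htd) _).1 hv
  have hfix : ∀ v ∈ D.posUnipotent F, t * v * t⁻¹ = v → v = 1 := by
    intro v hv e
    obtain ⟨x, rfl⟩ := h.pos_normal_form hC hv
    have e' : ((posL P).map fun r => h.xG r (hchar P c r * x r)).prod = ((posL P).map fun r => h.xG r (x r)).prod := by
      rw [← e, ← MulAut.conj_apply t, map_list_prod, List.map_map]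
      refine congrArg List.prod (List.map_congr_left fun r hr => ?_)
      exact (h.hHom_xG c (P.isPos_iff.1 (mem_posL.1 hr)).2 (x r)).symm
    have hz := h.prod_unique (posL P) posL_sorted (fun r hr => mem_posL.1 hr) _ _ e'
    refine List.prod_eq_one fun y hy => ?_
    obtain ⟨r, hr, rfl⟩ := List.mem_map.1 hy
    have : (hchar P c r - 1) * x r = 0 := by linear_combination hz r hr
    rw [(mul_eq_zero.1 this).resolve_left (sub_ne_zero.2 (h1 r (P.isPos_iff.1 (mem_posL.1 hr)).2)), h.xG_zero]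
  obtain ⟨b, hb, l, hl, u, hu, rfl⟩ := h.bruhat_exists hC hg
  set n := h.nW (F := F) l
  have hn0 : n * t * n⁻¹ ∈ D.diagonalSubgroup F := (Subgroup.mem_normalizer_iff.1 (h.nW_normalizer l hl) t).1 htd
  have hu' : u ∈ D.posUnipotent F := h.negS_le_pos l hu
  -- the last factor
  have key : ∀ x ∈ h.genR (F := F) (negS P l), t * x * t⁻¹ ∈ h.genR (negS P l) := by
    intro x hx
    induction hx using Subgroup.closure_induction with
    | mem x hx =>
      obtain ⟨r, s, hr, rfl⟩ := hx
      rw [ht, h.hHom_xG c (P.isPos_iff.1 hr.1).2]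
      exact h.xG_mem_genR hr _
    | one => simpa using one_mem _
    | mul x y hx hy ihx ihy =>
      rw [show t * (x * y) * t⁻¹ = (t * x * t⁻¹) * (t * y * t⁻¹) by group]
      exact mul_mem ihx ihy
    | inv x hx ih =>
      rw [show t * x⁻¹ * t⁻¹ = (t * x * t⁻¹)⁻¹ by group]
      exact inv_mem ih
  have hut := key u hu
  have hb' : t * b * (n * t * n⁻¹)⁻¹ ∈ D.borelSubgroup F :=
    mul_mem (mul_mem (Subgroup.mem_sup_right htd) hb) (inv_mem (Subgroup.mem_sup_right hn0))
  have e : b * (n * 1) * u = t * b * (n * t * n⁻¹)⁻¹ * (n * 1) * (t * u * t⁻¹) := by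
    rw [show t * b * (n * t * n⁻¹)⁻¹ * (n * 1) * (t * u * t⁻¹) = t * (b * n * u) * t⁻¹ by group, mul_one,
      ← hc.eq, mul_inv_cancel_right]
  obtain ⟨eb, eu⟩ := h.bruhat_factor hl (one_mem _) hb hb' hu hut e
  have hu1 : u = 1 := hfix u hu' eu.symm
  subst hu1
  -- the first factor
  obtain ⟨v, hv, d, hd, rfl⟩ := h.mem_borel hb
  have hdc : t * d = d * t := by
    obtain ⟨cd, rfl⟩ := h.mem_diagonal_iff.1 hd
    rw [ht, ← map_mul, ← map_mul, mul_comm]
  have e2 : (t * v * t⁻¹)⁻¹ * v = d * (t * (n * t * n⁻¹)⁻¹) * d⁻¹ := by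
    have : v * d = t * v * t⁻¹ * (d * (t * (n * t * n⁻¹)⁻¹)) := by
      rw [← mul_assoc d, ← hdc]
      conv_lhs => rw [eb]
      group
    rw [eq_mul_inv_iff_mul_eq, mul_assoc, this]
    group
  have h0 : (t * v * t⁻¹)⁻¹ * v ∈ D.posUnipotent F ⊓ D.diagonalSubgroup F :=
    Subgroup.mem_inf.2 ⟨mul_mem (inv_mem (htn hv)) hv,
      e2 ▸ mul_mem (mul_mem hd (mul_mem htd (inv_mem hn0))) (inv_mem hd)⟩
  rw [h.pos_inf_diagonal, Subgroup.mem_bot] at h0
  have hv1 : v = 1 := hfix v hv (inv_mul_eq_one.1 h0)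
  subst hv1
  have htn' : n * t * n⁻¹ = t := by
    have h3 : d * (t * (n * t * n⁻¹)⁻¹) * d⁻¹ = 1 := e2.symm.trans h0
    rw [conj_eq_one_iff, mul_inv_eq_one] at h3
    exact h3.symm
  have hperm : ∀ r < P.nroots, wl P l r = r := hst l hl fun r hr => by
    obtain ⟨a, hae, hx3⟩ := h.nW_xG (F := F) l hl r hr
    have ha : a ≠ 0 := fun e => by simp [e] at hae
    have e3 := fun s : F => (hx3 s).1
    have hlt : wl P l r < P.nroots := h.wl_lt l hl r hr
    have e4 : h.xG (wl P l r) (hchar P c (wl P l r) * (a * 1)) = h.xG (wl P l r) (a * (hchar P c r * 1)) := by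
      rw [← h.hHom_xG c hlt, ← e3, ← e3, ← h.hHom_xG c hr, ← ht]
      have hnt : n * t = t * n := mul_inv_eq_iff_eq_mul.1 htn'
      calc t * (n * h.xG r 1 * n⁻¹) * t⁻¹ = (t * n) * h.xG r 1 * (t * n)⁻¹ := by group
        _ = (n * t) * h.xG r 1 * (n * t)⁻¹ := by rw [hnt]
        _ = n * (t * h.xG r 1 * t⁻¹) * n⁻¹ := by group
    have e5 : (hchar P c (wl P l r) - hchar P c r) * a = 0 := by linear_combination h.xG_inj_param hlt e4
    exact sub_eq_zero.1 ((mul_eq_zero.1 e5).resolve_right ha)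
  rw [one_mul, mul_one]
  exact mul_mem hd (h.nW_mem_diagonal hl hperm)

/-- The centralizer of a regular element of the torus is the torus. -/
theorem centralizer_regular (hC : P.ckComm = true) (c : Fin P.rank → Fˣ)
    (h1 : ∀ r < P.nroots, hchar P c r ≠ 1)
    (hinj : ∀ r < P.nroots, ∀ s < P.nroots, hchar P c r = hchar P c s → r = s)
    {g : GL D.Idx F} (hg : g ∈ D.group F) (hc : Commute g (h.hHom c)) : g ∈ D.diagonalSubgroup F :=
  h.centralizer_of_stab hC c h1 (fun l hl he r hr => hinj _ (h.wl_lt l hl r hr) r hr (he r hr)) hg hc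

end Ok

namespace G2SL3

/-- The model of the coordinates: the long-root subalgebra, the natural module and its dual. -/
abbrev J : Type := Fin 8 ⊕ (Fin 3 ⊕ Fin 3)

/-- Codes. -/
def jc : J → ℕ := Sum.elim (![10, 6, 11, 1, 5, 0, 12, 13] ·) (Sum.elim (![9, 4, 3] ·) (![2, 7, 8] ·))

/-- The model index of a code. -/
def cj (c : ℕ) : J :=
  [.inl 5, .inl 3, .inr (.inr 0), .inr (.inl 2), .inr (.inl 1), .inl 4, .inl 1, .inr (.inr 1), .inr (.inr 2),
    .inr (.inl 0), .inl 0, .inl 2, .inl 6, .inl 7].getD c (.inl 0)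

/-- The index of a coordinate. -/
def toJ (x : chevG2.Idx) : J := cj (code G2.pk x)

theorem jc_toJ : ∀ x : chevG2.Idx, jc (toJ x) = code G2.pk x := by decide +kernel

theorem toJ_bij : Function.Bijective toJ := by decide +kernel

/-- The identification of the coordinates. -/
noncomputable def eJ : chevG2.Idx ≃ J := Equiv.ofBijective toJ toJ_bij

/-- The basis of the long-root subalgebra. -/
def Bs : Fin 8 → Matrix (Fin 3) (Fin 3) ℤ :=
  ![!![0, 1, 0; 0, 0, 0; 0, 0, 0], !![0, 0, 0; 0, 0, 1; 0, 0, 0], !![0, 0, -1; 0, 0, 0; 0, 0, 0],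
    !![0, 0, 0; 1, 0, 0; 0, 0, 0], !![0, 0, 0; 0, 0, 0; 0, 1, 0], !![0, 0, 0; 0, 0, 0; -1, 0, 0],
    !![1, 0, 0; 0, -2, 0; 0, 0, 1], !![0, 0, 0; 0, 1, 0; 0, 0, -1]]

/-- The coordinates in the long-root subalgebra. -/
def Ls : Fin 8 → Matrix (Fin 3) (Fin 3) ℤ :=
  ![!![0, 1, 0; 0, 0, 0; 0, 0, 0], !![0, 0, 0; 0, 0, 1; 0, 0, 0], !![0, 0, -1; 0, 0, 0; 0, 0, 0],
    !![0, 0, 0; 1, 0, 0; 0, 0, 0], !![0, 0, 0; 0, 0, 0; 0, 1, 0], !![0, 0, 0; 0, 0, 0; -1, 0, 0],
    !![1, 0, 0; 0, 0, 0; 0, 0, 0], !![2, 0, 0; 0, 1, 0; 0, 0, 0]]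

/-- The signs of the bases of the natural module and its dual. -/
def sn : Fin 3 → ℤ := ![1, -1, 1]

variable {R : Type*} [CommRing R]

/-- Cast of an integral matrix. -/
def cz (M : Matrix (Fin 3) (Fin 3) ℤ) : Matrix (Fin 3) (Fin 3) R := M.map fun z : ℤ => (z : R)

/-- A coordinate. -/
def lin (r : Fin 8) (X : Matrix (Fin 3) (Fin 3) R) : R := ∑ i, ∑ j, (Ls r i j : R) * X i j

/-- The action on the model, from a matrix and its inverse. -/
def blk (A A' : Matrix (Fin 3) (Fin 3) R) : Matrix J J R :=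
  Matrix.fromBlocks (Matrix.of fun r c => lin r (A * cz (Bs c) * A')) 0 0
    (Matrix.fromBlocks (Matrix.of fun i j => (sn i : R) * sn j * A i j) 0 0
      (Matrix.of fun i j => (sn i : R) * sn j * A' j i))

theorem lin_mul (r : Fin 8) (A A' X : Matrix (Fin 3) (Fin 3) R) (a : Fin 8 → R) (hX : X = ∑ c, a c • cz (Bs c)) :
    lin r (A * X * A') = ∑ c, lin r (A * cz (Bs c) * A') * a c := by
  have hlin : ∀ (Y : Fin 8 → Matrix (Fin 3) (Fin 3) R), lin r (∑ c, a c • Y c) = ∑ c, lin r (Y c) * a c := by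
    intro Y
    simp only [lin, Matrix.sum_apply, Matrix.smul_apply, smul_eq_mul, Finset.mul_sum, Finset.sum_mul]
    rw [Finset.sum_congr rfl fun i _ => Finset.sum_comm, Finset.sum_comm]
    exact Finset.sum_congr rfl fun c _ => Finset.sum_congr rfl fun i _ => Finset.sum_congr rfl fun j _ => by ring
  rw [hX, Matrix.mul_sum, Matrix.sum_mul, ← hlin]
  simp only [Matrix.mul_smul, Matrix.smul_mul]

theorem trace_cz : ∀ c, Matrix.trace (Bs c) = 0 := by decide

theorem recon (X : Matrix (Fin 3) (Fin 3) R) (hX : Matrix.trace X = 0) :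
    X = ∑ c, lin c X • cz (Bs c) := by
  rw [Matrix.trace_fin_three] at hX
  ext i j
  simp only [lin, Matrix.sum_apply, Matrix.smul_apply, smul_eq_mul, cz, Matrix.map_apply, Fin.sum_univ_eight,
    Fin.sum_univ_three]
  fin_cases i <;> fin_cases j <;> simp [Ls, Bs]
  all_goals first | ring1 | linear_combination hX | linear_combination -hX

theorem blk_mul (A A' B B' : Matrix (Fin 3) (Fin 3) R) (hB : B' * B = 1) :
    blk A A' * blk B B' = blk (A * B) (B' * A') := by
  have hs : ∀ k, (sn k : R) * sn k = 1 := fun k => by fin_cases k <;> simp [sn]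
  rw [blk, blk, blk, Matrix.fromBlocks_multiply, Matrix.fromBlocks_multiply]
  simp only [Matrix.mul_zero, Matrix.zero_mul, add_zero, zero_add]
  congr 1
  · ext r c
    rw [Matrix.mul_apply, Matrix.of_apply]
    simp only [Matrix.of_apply]
    have htr : Matrix.trace (B * cz (Bs c) * B') = 0 := by
      rw [Matrix.trace_mul_cycle, hB, Matrix.one_mul]
      have h3 := congrArg (fun z : ℤ => (z : R)) (trace_cz c)
      rw [Matrix.trace_fin_three] at h3
      simpa [cz, Matrix.trace_fin_three] using h3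
    rw [← lin_mul r A A' _ _ (recon _ htr)]
    simp only [Matrix.mul_assoc]
  · congr 1 <;> ext i j <;> simp only [Matrix.mul_apply, Matrix.of_apply, Finset.mul_sum]
    · refine Finset.sum_congr rfl fun k _ => ?_
      linear_combination ((sn i : R) * sn j * A i k * B k j) * hs k
    · refine Finset.sum_congr rfl fun k _ => ?_
      linear_combination ((sn i : R) * sn j * A' k i * B' j k) * hs k

theorem blk_one : blk (1 : Matrix (Fin 3) (Fin 3) R) 1 = 1 := by
  have hr' : (Matrix.of fun r c : Fin 8 => ∑ i : Fin 3, ∑ j : Fin 3, Ls r i j * Bs c i j) = (1 : Matrix (Fin 8) (Fin 8) ℤ) := by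
    decide +kernel
  have hr : ∀ r c : Fin 8, ∑ i : Fin 3, ∑ j : Fin 3, Ls r i j * Bs c i j = (1 : Matrix (Fin 8) (Fin 8) ℤ) r c := fun r c =>
    congrFun (congrFun hr' r) c
  have hs : ∀ k, (sn k : R) * sn k = 1 := fun k => by fin_cases k <;> simp [sn]
  rw [blk, ← Matrix.fromBlocks_one, ← Matrix.fromBlocks_one]
  congr 1
  · ext r c
    have := congrArg (fun z : ℤ => (z : R)) (hr r c)
    simp only [Int.cast_sum, Int.cast_mul] at this
    simp only [Matrix.of_apply, lin, Matrix.one_mul, Matrix.mul_one, cz, Matrix.map_apply, this, Matrix.one_apply]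
    split_ifs <;> simp
  · congr 1 <;> ext i j <;> simp only [Matrix.of_apply, Matrix.one_apply] <;> split_ifs with e e' <;>
      simp_all

variable {K : Type*} [Field K]

/-- The representation on the coordinates of G₂, as matrices. -/
noncomputable def rhoM : SL(3, K) →* Matrix chevG2.Idx chevG2.Idx K where
  toFun A := (blk (A : Matrix (Fin 3) (Fin 3) K) ((A⁻¹ : SL(3, K)) : Matrix (Fin 3) (Fin 3) K)).submatrix eJ eJ
  map_one' := by rw [inv_one, Matrix.SpecialLinearGroup.coe_one, blk_one, Matrix.submatrix_one_equiv]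
  map_mul' A B := by
    rw [Matrix.submatrix_mul_equiv, mul_inv_rev, Matrix.SpecialLinearGroup.coe_mul,
      Matrix.SpecialLinearGroup.coe_mul,
      blk_mul _ _ _ _ (by rw [← Matrix.SpecialLinearGroup.coe_mul, inv_mul_cancel, Matrix.SpecialLinearGroup.coe_one])]

/-- The representation on the coordinates of G₂. -/
noncomputable def rho : SL(3, K) →* GL chevG2.Idx K := rhoM.toHomUnits

theorem coe_rho (A : SL(3, K)) : (rho A : Matrix chevG2.Idx chevG2.Idx K) = rhoM A := rfl

theorem rho_apply (A : SL(3, K)) (x y : chevG2.Idx) : (rho A : Matrix chevG2.Idx chevG2.Idx K) x y =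
    blk (A : Matrix (Fin 3) (Fin 3) K) ((A⁻¹ : SL(3, K)) : Matrix (Fin 3) (Fin 3) K) (toJ x) (toJ y) := rfl

theorem rho_gmap {L : Type*} [Field L] (f : K →+* L) (A : SL(3, K)) :
    gmap chevG2 f (rho A) = rho (Matrix.SpecialLinearGroup.map f A) := by
  apply Units.ext
  ext x y
  rw [coe_gmap, Matrix.map_apply, rho_apply, rho_apply, ← map_inv, Matrix.SpecialLinearGroup.map_apply_coe,
    Matrix.SpecialLinearGroup.map_apply_coe, RingHom.mapMatrix_apply, RingHom.mapMatrix_apply]
  rcases toJ x with r | i | i <;> rcases toJ y with c | j | j <;>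
    simp [blk, lin, cz, Matrix.mul_apply, Matrix.map_apply, map_sum]

/-- Roots and signs of the transvections. -/
def trr : Fin 3 → Fin 3 → ℕ × ℤ :=
  ![![(12, 0), (10, 1), (11, -1)], ![(1, 1), (12, 0), (6, 1)], ![(0, -1), (5, 1), (12, 0)]]

/-- The coefficient of `t ^ k` in a transvection. -/
def trc (i j : Fin 3) (k : ℕ) : Matrix J J ℤ :=
  let E : Matrix (Fin 3) (Fin 3) ℤ := Matrix.single i j 1
  Matrix.fromBlocks
    (Matrix.of fun r c => ∑ a, ∑ b, Ls r a b *
      ([Bs c, E * Bs c - Bs c * E, -(E * Bs c * E), 0].getD k 0) a b) 0 0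
    (Matrix.fromBlocks (Matrix.of fun a b => sn a * sn b * ([1, E, 0, 0].getD k 0) a b) 0 0
      (Matrix.of fun a b => sn a * sn b * ([1, -E, 0, 0].getD k 0) b a))

theorem trc_eq : ∀ i j : Fin 3, i ≠ j → (trr i j).1 < G2.pk.nroots ∧ ∀ a b : J, ∀ k : Fin 4,
    trc i j k a b = (trr i j).2 ^ (k : ℕ) * cf (G2.pk.colL k (trr i j).1 (jc b)) (jc a) := by decide +kernel

theorem rho_transvection {i j : Fin 3} (hij : i ≠ j) (t : K) (A : SL(3, K))
    (hA : (A : Matrix (Fin 3) (Fin 3) K) = Matrix.transvection i j t) :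
    rho A = G2.ok.xG (trr i j).1 ((trr i j).2 * t) := by
  obtain ⟨hr, hc⟩ := trc_eq i j hij
  have hA' : ((A⁻¹ : SL(3, K)) : Matrix (Fin 3) (Fin 3) K) = Matrix.transvection i j (-t) := by
    rw [Matrix.SpecialLinearGroup.coe_inv, hA]
    have h2 : Matrix.transvection i j t * Matrix.transvection i j (-t) = 1 := by
      rw [Matrix.transvection_mul_transvection_same _ _ hij, add_neg_cancel, Matrix.transvection_zero]
    have h3 := congrArg (Matrix.adjugate (Matrix.transvection i j t) * ·) h2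
    rw [← Matrix.mul_assoc, Matrix.adjugate_mul, Matrix.det_transvection_of_ne _ _ hij, one_smul, Matrix.one_mul,
      Matrix.mul_one] at h3
    exact h3.symm
  apply Units.ext
  ext x y
  rw [rho_apply, G2.ok.coe_xG' hr, Ok.X_apply, hA, hA']
  have hk : ∀ k : Fin 4, ((trr i j).2 : K) ^ (k : ℕ) * (cf (G2.pk.colL k (trr i j).1 (code G2.pk y)) (code G2.pk x) : K) =
      (trc i j k (toJ x) (toJ y) : K) := fun k => by
    rw [hc, jc_toJ, jc_toJ]; push_cast; rfl
  have hk' : ∀ k : ℕ, k < 4 → (((trr i j).2 : K) * t) ^ k *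
      (cf (G2.pk.colL k (trr i j).1 (code G2.pk y)) (code G2.pk x) : K) = t ^ k * (trc i j k (toJ x) (toJ y) : K) :=
    fun k hk4 => by
      rw [mul_pow]
      linear_combination t ^ k * hk ⟨k, hk4⟩
  simp only [Finset.sum_range_succ, Finset.sum_range_zero, zero_add]
  rw [hk' 0 (by omega), hk' 1 (by omega), hk' 2 (by omega), hk' 3 (by omega)]
  simp only [pow_zero, one_mul, pow_one, trc, List.getD_cons_zero, List.getD_cons_succ]
  have hT : ∀ s : K, Matrix.transvection i j s = 1 + s • cz (Matrix.single i j 1) := fun s => by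
    ext a b
    simp [Matrix.transvection, cz, Matrix.single]
  rw [hT, hT]
  rcases toJ x with r | a | a <;> rcases toJ y with c | b | b
  · simp only [blk, Matrix.fromBlocks_apply₁₁, Matrix.of_apply, lin, Int.cast_sum, Int.cast_mul, Finset.mul_sum,
      ← Finset.sum_add_distrib]
    refine Finset.sum_congr rfl fun a _ => Finset.sum_congr rfl fun b _ => ?_
    have e : (1 + t • cz (Matrix.single i j 1)) * cz (Bs c) * (1 + -t • cz (Matrix.single i j 1)) =
        (cz (Bs c) + t • cz (Matrix.single i j 1 * Bs c - Bs c * Matrix.single i j 1) +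
          t ^ 2 • cz (-(Matrix.single i j 1 * Bs c * Matrix.single i j 1)) : Matrix (Fin 3) (Fin 3) K) := by
      have hm : ∀ X Y : Matrix (Fin 3) (Fin 3) ℤ, (cz (X * Y) : Matrix (Fin 3) (Fin 3) K) = cz X * cz Y := fun X Y =>
        Matrix.map_mul (f := Int.castRingHom K)
      have hs : ∀ X Y : Matrix (Fin 3) (Fin 3) ℤ, (cz (X - Y) : Matrix (Fin 3) (Fin 3) K) = cz X - cz Y := fun X Y =>
        by ext; simp [cz]
      have hn : ∀ X : Matrix (Fin 3) (Fin 3) ℤ, (cz (-X) : Matrix (Fin 3) (Fin 3) K) = -cz X := fun X => by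
        ext; simp [cz]
      rw [hs, hn, hm, hm, hm, hm]
      simp only [neg_smul, Matrix.mul_neg, Matrix.neg_mul, Matrix.add_mul, Matrix.mul_add, Matrix.one_mul, Matrix.mul_one,
        Matrix.smul_mul, Matrix.mul_smul, smul_smul, smul_sub, smul_neg, pow_two]
      module
    rw [e]
    simp only [cz, Matrix.add_apply, Matrix.smul_apply, Matrix.map_apply, smul_eq_mul, Matrix.zero_apply,
      Int.cast_zero, mul_zero, add_zero]
    ring
  all_goals simp [blk, cz, Matrix.one_apply, Matrix.single_apply, eq_comm]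
  all_goals split_ifs <;> first | (simp; done) | ring1 | (simp; ring1)

/-- The parameters of a diagonal matrix. -/
def cpar (a : Fin 3 → Kˣ) : Fin G2.pk.rank → Kˣ := fun i => if (i : ℕ) = 0 then a 0 else a 0 ^ 2 * a 1

theorem cart_vals : ∀ c : Fin 14, (c : ℕ) < 12 → [G2.pk.A 0 c, G2.pk.A 1 c] =
    [[0, -1], [-3, 1], [-1, 0], [1, -1], [-2, 1], [3, -2], [-3, 2], [2, -1], [-1, 1], [1, 0], [3, -1], [0, 1]].getD c [] := by
  decide +kernel

/-- The diagonal of the image of a diagonal matrix. -/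
def dval (a a' : Fin 3 → K) : J → K :=
  Sum.elim ![a 0 * a' 1, a 1 * a' 2, a 0 * a' 2, a 1 * a' 0, a 2 * a' 1, a 2 * a' 0, 1, 1] (Sum.elim a a')

theorem blk_diag (a a' : Fin 3 → K) (h : ∀ i, a i * a' i = 1) :
    blk (Matrix.diagonal a) (Matrix.diagonal a') = Matrix.diagonal (dval a a') := by
  have hs : ∀ i, (sn i : K) * sn i = 1 := fun i => by fin_cases i <;> simp [sn]
  have h0 := h 0; have h1 := h 1; have h2 := h 2
  ext x y
  rcases x with r | i | i <;> rcases y with c | j | j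
  · simp only [blk, Matrix.fromBlocks_apply₁₁, Matrix.of_apply, lin, Matrix.mul_diagonal, Matrix.diagonal_mul, cz,
      Matrix.map_apply, Fin.sum_univ_three, Matrix.diagonal_apply, Sum.inl.injEq]
    fin_cases r <;> fin_cases c <;> simp [Ls, Bs, dval] <;>
      first | linear_combination h0 | linear_combination h1 | linear_combination 2 * h0 + (-2) * h1 | linear_combination h0 + h1 | linear_combination -2 * h0 + 2 * h1 | linear_combination h1 - h2 | linear_combination 2 * h0 - 2 * h1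
  all_goals simp [blk, dval, Matrix.diagonal_apply, eq_comm]
  all_goals split_ifs with e <;> simp_all

theorem rho_diag (a : Fin 3 → Kˣ) (ha : a 0 * a 1 * a 2 = 1) (A : SL(3, K))
    (hA : (A : Matrix (Fin 3) (Fin 3) K) = Matrix.diagonal fun i => (a i : K)) : rho A = G2.ok.hHom (cpar a) := by
  have hA' : ((A⁻¹ : SL(3, K)) : Matrix (Fin 3) (Fin 3) K) = Matrix.diagonal fun i => (((a i)⁻¹ : Kˣ) : K) := by
    have h2 : (A : Matrix (Fin 3) (Fin 3) K) * Matrix.diagonal (fun i => (((a i)⁻¹ : Kˣ) : K)) = 1 := by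
      rw [hA, Matrix.diagonal_mul_diagonal, ← Matrix.diagonal_one]; congr 1; funext i; simp
    have h3 := congrArg (((A⁻¹ : SL(3, K)) : Matrix (Fin 3) (Fin 3) K) * ·) h2
    rw [← Matrix.mul_assoc, ← Matrix.SpecialLinearGroup.coe_mul, inv_mul_cancel, Matrix.SpecialLinearGroup.coe_one,
      Matrix.one_mul, Matrix.mul_one] at h3
    exact h3.symm
  have e2 : (a 2 : K) = ((a 0 : K) * a 1)⁻¹ :=
    eq_inv_of_mul_eq_one_left (by
      have := congrArg Units.val ha
      push_cast at this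
      linear_combination this)
  apply Units.ext
  ext x y
  rw [rho_apply, hA, hA', blk_diag (fun i => (a i : K)) _ (fun i => (a i).mul_inv), G2.ok.coe_hHom, dM,
    Matrix.diagonal_apply, Matrix.diagonal_apply]
  by_cases hxy : x = y
  · subst hxy
    rw [if_pos rfl, if_pos rfl]
    have h0 := (a 0).ne_zero; have h1 := (a 1).ne_zero
    have e2' : (((a 2)⁻¹ : Kˣ) : K) = (a 0 : K) * a 1 := by rw [Units.val_inv_eq_inv_val, e2, inv_inv]
    rcases x with s | s
    · fin_cases s <;> rfl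
    · have hval : hchar G2.pk (cpar a) s.val =
          (a 0 : K) ^ G2.pk.A 0 s.val * ((a 0 : K) ^ 2 * a 1) ^ G2.pk.A 1 s.val := by
        rw [hchar, show (Finset.univ : Finset (Fin G2.pk.rank)) = {⟨0, by decide⟩, ⟨1, by decide⟩} from
          by decide +kernel, Finset.prod_pair (by decide)]
        simp [cpar]
      have hv := cart_vals ⟨s.val, Nat.lt_trans s.isLt (by decide)⟩ s.isLt
      simp only [Sum.elim_inr]
      rw [hval]
      fin_cases s <;> simp [List.cons.injEq] at hv <;>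
        simp [toJ, cj, code, dval, hv, e2, e2', zpow_neg, zpow_ofNat] <;> field_simp
  · rw [if_neg hxy, if_neg fun e => hxy (toJ_bij.1 e)]

theorem rho_mem (A : SL(3, K)) : rho A ∈ chevG2.group K := by
  suffices ∀ M : Matrix (Fin 3) (Fin 3) K, M.det = 1 → ∀ B : SL(3, K), (B : Matrix (Fin 3) (Fin 3) K) = M →
      rho B ∈ chevG2.group K from this _ A.2 A rfl
  intro M hM
  refine (Matrix.diagonal_transvection_induction
    (fun N : Matrix (Fin 3) (Fin 3) K => N.det = 1 ∧ ∀ B : SL(3, K), (B : Matrix (Fin 3) (Fin 3) K) = N →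
      rho B ∈ chevG2.group K) M ?_ ?_ ?_).2
  · intro d hd
    rw [hM] at hd
    refine ⟨hd, fun B hB => ?_⟩
    rw [Matrix.det_diagonal, Fin.prod_univ_three] at hd
    have hne : ∀ i, d i ≠ 0 := fun i e => by fin_cases i <;> simp_all
    rw [rho_diag (fun i => Units.mk0 (d i) (hne i)) (Units.ext (by simpa using hd)) B (by simpa using hB)]
    exact G2.ok.diagonal_le_group (G2.ok.mem_diagonal_iff.2 ⟨_, rfl⟩)
  · intro T
    refine ⟨T.det, fun B hB => ?_⟩
    rw [rho_transvection T.hij T.c B (by rw [hB]; rfl)]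
    exact G2.ok.mem_group_of_xG _ _
  · rintro A B ⟨hA, hA'⟩ ⟨hB, hB'⟩
    refine ⟨by rw [Matrix.det_mul, hA, hB, mul_one], fun C hC => ?_⟩
    obtain rfl : C = @HMul.hMul SL(3, K) SL(3, K) SL(3, K) _ ⟨A, hA⟩ ⟨B, hB⟩ := Subtype.ext hC
    erw [map_mul]
    exact mul_mem (hA' _ rfl) (hB' _ rfl)

/-- Injectivity is visible on the natural module. -/
theorem rho_injective : Function.Injective (rho (K := K)) := by
  intro A B e
  apply Subtype.ext
  ext i j
  obtain ⟨x, hx⟩ := toJ_bij.2 (.inr (.inl i))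
  obtain ⟨y, hy⟩ := toJ_bij.2 (.inr (.inl j))
  have h := congrArg (fun g : GL chevG2.Idx K => (g : Matrix chevG2.Idx chevG2.Idx K) x y) e
  rw [rho_apply, rho_apply, hx, hy] at h
  fin_cases i <;> fin_cases j <;> simpa [blk, sn] using h

end G2SL3

end Cfsg.Agent.Chev
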