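/-
An element which conjugates a sufficiently large set of torus elements into the torus is monomial.
-/
import Cfsg.Agent.Lib.Chev.G2SL3

set_option autoImplicit false
set_option maxHeartbeats 400000

namespace Cfsg.Agent.Chev

open Cfsg.Lie

namespace Ok

variable {D : ChevalleyDatum} {P : Pk} {F : Type*} [Field F] (h : Ok D P)
include h

/-- If `g` carries torus elements with no common fixed root to torus elements with the same property, then `g` is
monomial. -/
theorem monomial_of_conj (hC : P.ckComm = true) {ι : Type*} (c c' : ι → Fin P.rank → Fˣ)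
    (h1 : ∀ r < P.nroots, ∃ i, hchar P (c i) r ≠ 1) (h1' : ∀ r < P.nroots, ∃ i, hchar P (c' i) r ≠ 1)
    {g : GL D.Idx F} (hg : g ∈ D.group F) (hgc : ∀ i, g * h.hHom (c i) * g⁻¹ = h.hHom (c' i)) :
    g ∈ D.monomialSubgroup F := by
  have htd : ∀ e : Fin P.rank → Fˣ, h.hHom (F := F) e ∈ D.diagonalSubgroup F :=
    fun e => h.mem_diagonal_iff.2 ⟨e, rfl⟩
  have htn : ∀ (e : Fin P.rank → Fˣ) {v : GL D.Idx F}, v ∈ D.posUnipotent F →
      h.hHom e * v * (h.hHom e)⁻¹ ∈ D.posUnipotent F := fun e _ hv =>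
    (Subgroup.mem_normalizer_iff.1 (h.diagonal_normalizes (htd e)) _).1 hv
  have hfix : ∀ d : ι → Fin P.rank → Fˣ, (∀ r < P.nroots, ∃ i, hchar P (d i) r ≠ 1) →
      ∀ v ∈ D.posUnipotent F, (∀ i, h.hHom (d i) * v * (h.hHom (d i))⁻¹ = v) → v = 1 := by
    intro d hd v hv e
    obtain ⟨x, rfl⟩ := h.pos_normal_form hC hv
    refine List.prod_eq_one fun y hy => ?_
    obtain ⟨r, hr, rfl⟩ := List.mem_map.1 hy
    have hr' : r < P.nroots := (P.isPos_iff.1 (mem_posL.1 hr)).2
    obtain ⟨i, hi⟩ := hd r hr'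
    have e' : ((posL P).map fun r => h.xG r (hchar P (d i) r * x r)).prod =
        ((posL P).map fun r => h.xG r (x r)).prod := by
      rw [← e i, ← MulAut.conj_apply (h.hHom (d i)), map_list_prod, List.map_map]
      refine congrArg List.prod (List.map_congr_left fun r hr => ?_)
      exact (h.hHom_xG (d i) (P.isPos_iff.1 (mem_posL.1 hr)).2 (x r)).symm
    have hz := h.prod_unique (posL P) posL_sorted (fun r hr => mem_posL.1 hr) _ _ e'
    have : (hchar P (d i) r - 1) * x r = 0 := by linear_combination hz r hr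
    rw [(mul_eq_zero.1 this).resolve_left (sub_ne_zero.2 hi), h.xG_zero]
  obtain ⟨b, hb, l, hl, u, hu, rfl⟩ := h.bruhat_exists hC hg
  set n := h.nW (F := F) l
  have hn0 : ∀ i, n * h.hHom (c i) * n⁻¹ ∈ D.diagonalSubgroup F := fun i =>
    (Subgroup.mem_normalizer_iff.1 (h.nW_normalizer l hl) _).1 (htd (c i))
  have hu' : u ∈ D.posUnipotent F := h.negS_le_pos l hu
  have key : ∀ (i : ι), ∀ x ∈ h.genR (F := F) (negS P l),
      h.hHom (c i) * x * (h.hHom (c i))⁻¹ ∈ h.genR (negS P l) := by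
    intro i x hx
    induction hx using Subgroup.closure_induction with
    | mem x hx =>
      obtain ⟨r, s, hr, rfl⟩ := hx
      rw [h.hHom_xG (c i) (P.isPos_iff.1 hr.1).2]
      exact h.xG_mem_genR hr _
    | one => simpa using one_mem _
    | mul x y hx hy ihx ihy =>
      rw [show h.hHom (c i) * (x * y) * (h.hHom (c i))⁻¹ =
        (h.hHom (c i) * x * (h.hHom (c i))⁻¹) * (h.hHom (c i) * y * (h.hHom (c i))⁻¹) by group]
      exact mul_mem ihx ihy
    | inv x hx ih =>
      rw [show h.hHom (c i) * x⁻¹ * (h.hHom (c i))⁻¹ = (h.hHom (c i) * x * (h.hHom (c i))⁻¹)⁻¹ by group]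
      exact inv_mem ih
  have hstep : ∀ i, h.hHom (c i) * u * (h.hHom (c i))⁻¹ = u ∧
      b = h.hHom (c' i) * b * (n * h.hHom (c i) * n⁻¹)⁻¹ := by
    intro i
    set t := h.hHom (F := F) (c i)
    set t' := h.hHom (F := F) (c' i)
    have hb' : t' * b * (n * t * n⁻¹)⁻¹ ∈ D.borelSubgroup F :=
      mul_mem (mul_mem (Subgroup.mem_sup_right (htd _)) hb) (inv_mem (Subgroup.mem_sup_right (hn0 i)))
    have e0 : b * n * u * t = t' * (b * n * u) := mul_inv_eq_iff_eq_mul.1 (hgc i)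
    have e : b * (n * 1) * u = t' * b * (n * t * n⁻¹)⁻¹ * (n * 1) * (t * u * t⁻¹) := by
      rw [show t' * b * (n * t * n⁻¹)⁻¹ * (n * 1) * (t * u * t⁻¹) = t' * (b * n * u) * t⁻¹ by group, ← e0, mul_one,
        mul_inv_cancel_right]
    obtain ⟨eb, eu⟩ := h.bruhat_factor hl (one_mem _) hb hb' hu (key i u hu) e
    exact ⟨eu.symm, eb⟩
  have hu1 : u = 1 := hfix c h1 u hu' fun i => (hstep i).1
  subst hu1
  obtain ⟨v, hv, d, hd, rfl⟩ := h.mem_borel hb
  have hv1 : v = 1 := by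
    refine hfix c' h1' v hv fun i => ?_
    have eb := (hstep i).2
    set t := h.hHom (F := F) (c i)
    set t' := h.hHom (F := F) (c' i)
    have e2 : (t' * v * t'⁻¹)⁻¹ * v = t' * d * (n * t * n⁻¹)⁻¹ * d⁻¹ := by
      conv_lhs => arg 2; rw [show v = v * d * d⁻¹ by group, eb]
      group
    have h0 : (t' * v * t'⁻¹)⁻¹ * v ∈ D.posUnipotent F ⊓ D.diagonalSubgroup F :=
      Subgroup.mem_inf.2 ⟨mul_mem (inv_mem (htn _ hv)) hv,
        e2 ▸ mul_mem (mul_mem (mul_mem (htd _) hd) (inv_mem (hn0 i))) (inv_mem hd)⟩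
    rw [h.pos_inf_diagonal, Subgroup.mem_bot] at h0
    exact inv_mul_eq_one.1 h0
  subst hv1
  rw [one_mul, mul_one]
  refine mul_mem ?_ (h.nW_mem l hl)
  rw [h.monomial_eq]
  exact Subgroup.mem_sup_left hd

end Ok

end Cfsg.Agent.Chev
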