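/-
Fixed points of an endomorphism of a Chevalley group that permutes the root subgroups.
-/
import Cfsg.Agent.Lib.Chev.Bruhat
import Cfsg.Agent.Lib.Chev.Weyl

set_option autoImplicit false

namespace Cfsg.Agent.Chev

open Cfsg.Lie
open scoped Matrix

variable {D : ChevalleyDatum} {P : Pk}

/-- An endomorphism of the Chevalley group acting on root elements through permutations of roots and
nodes. -/
structure Twist (h : Ok D P) (F : Type*) [Field F] where
  /-- the map -/
  σ : GL D.Idx F → GL D.Idx F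
  map_mul' : ∀ a ∈ D.group F, ∀ b ∈ D.group F, σ (a * b) = σ a * σ b
  /-- the permutation of roots -/
  ρ : ℕ → ℕ
  /-- the permutation of nodes -/
  π : ℕ → ℕ
  ρ_lt : ∀ r < P.nroots, ρ r < P.nroots
  ρ_pos : ∀ r < P.nroots, P.isPos (ρ r) = P.isPos r
  ρ_inj : ∀ r < P.nroots, ∀ s < P.nroots, ρ r = ρ s → r = s
  π_lt : ∀ i < P.rank, π i < P.rank
  ρ_sim : ∀ i < P.rank, ρ (P.sim i) = P.sim (π i)
  /-- the maps of parameters -/
  f : ℕ → F →+ F
  f_inj : ∀ r < P.nroots, Function.Injective (f r)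
  σ_xG : ∀ r < P.nroots, ∀ t, σ (h.xG r t) = h.xG (ρ r) (f r t)
  σ_nG : ∀ i < P.rank, σ (h.nG i) = h.nG (π i)
  /-- the map of the torus parameters -/
  τ : (Fin P.rank → Fˣ) →* (Fin P.rank → Fˣ)
  σ_hHom : ∀ c, σ (h.hHom c) = h.hHom (τ c)

/-- Combinatorial conditions on a list of node orbits with their longest words. -/
def ckTw (P : Pk) (ρ π : ℕ → ℕ) (orbs : List (List ℕ × List ℕ)) : Bool :=
  ((List.range P.rank).all fun i => orbs.any fun o => o.1.any fun j => Nat.beq i j) &&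
  orbs.all fun o =>
    (o.2.all fun x => o.1.any fun j => Nat.beq x j) &&
    (o.1.all fun i => Nat.blt i P.rank && !P.isPos (wl P o.2 (P.sim i)) &&
      o.1.all fun j => (List.range 4).any fun k => Nat.beq (π^[k] i) j) &&
    P.allRoots.all fun r => Nat.beq (wl P o.2 (wl P o.2 r)) r && Nat.beq (wl P o.2 (ρ r)) (ρ (wl P o.2 r))

namespace Twist

variable {h : Ok D P} {F : Type*} [Field F] (T : Twist h F)

/-- The map as a homomorphism on the group. -/
def hom : ↥(D.group F) →* GL D.Idx F :=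
  MonoidHom.mk' (fun x => T.σ x) fun a b => T.map_mul' _ a.2 _ b.2

theorem hom_apply (x : ↥(D.group F)) : T.hom x = T.σ x := rfl

theorem map_one : T.σ 1 = 1 := T.hom.map_one

theorem map_inv {g : GL D.Idx F} (hg : g ∈ D.group F) : T.σ g⁻¹ = (T.σ g)⁻¹ :=
  T.hom.map_inv ⟨g, hg⟩

theorem mem_group {g : GL D.Idx F} (hg : g ∈ D.group F) : T.σ g ∈ D.group F := by
  have key : D.group F ≤ ((D.group F).comap T.hom).map (D.group F).subtype := by
    refine h.group_le fun r hr t => ⟨⟨h.xG r t, h.mem_group_of_xG r t⟩, ?_, rfl⟩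
    show T.σ _ ∈ D.group F
    rw [T.σ_xG r hr]
    exact h.mem_group_of_xG _ _
  obtain ⟨x, hx, rfl⟩ := key hg
  exact hx

theorem map_genR {S S' : ℕ → Prop} (hS : ∀ r, S r → r < P.nroots) (hSS : ∀ r, S r → S' (T.ρ r))
    {g : GL D.Idx F} (hg : g ∈ h.genR (F := F) S) : T.σ g ∈ h.genR S' := by
  have key : h.genR (F := F) S ≤ ((h.genR S').comap T.hom).map (D.group F).subtype := by
    refine h.genR_le fun r hr t => ⟨⟨h.xG r t, h.mem_group_of_xG r t⟩, ?_, rfl⟩
    show T.σ _ ∈ h.genR S'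
    rw [T.σ_xG r (hS r hr)]
    exact h.xG_mem_genR (hSS r hr) _
  obtain ⟨x, hx, rfl⟩ := key hg
  exact hx

theorem map_pos {g : GL D.Idx F} (hg : g ∈ D.posUnipotent F) : T.σ g ∈ D.posUnipotent F := by
  rw [h.posUnipotent_eq] at hg ⊢
  exact T.map_genR (fun r hr => (P.isPos_iff.1 hr).2)
    (fun r hr => (T.ρ_pos r (P.isPos_iff.1 hr).2).trans hr) hg

theorem map_diagonal {g : GL D.Idx F} (hg : g ∈ D.diagonalSubgroup F) :
    T.σ g ∈ D.diagonalSubgroup F := by
  obtain ⟨c, rfl⟩ := h.mem_diagonal_iff.1 hg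
  exact h.mem_diagonal_iff.2 ⟨_, (T.σ_hHom c).symm⟩

theorem map_borel {g : GL D.Idx F} (hg : g ∈ D.borelSubgroup F) : T.σ g ∈ D.borelSubgroup F := by
  obtain ⟨u, hu, d, hd, rfl⟩ := h.mem_borel hg
  rw [T.map_mul' _ (h.borel_le_group (Subgroup.mem_sup_left hu)) _ (h.diagonal_le_group hd)]
  exact mul_mem (Subgroup.mem_sup_left (T.map_pos hu)) (Subgroup.mem_sup_right (T.map_diagonal hd))

theorem wordOk_map {l : List ℕ} (hl : WordOk P l) : WordOk P (l.map T.π) := fun x hx => by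
  obtain ⟨i, hi, rfl⟩ := List.mem_map.1 hx
  exact T.π_lt i (hl i hi)

theorem map_nW : ∀ l, WordOk P l → T.σ (h.nW l) = h.nW (l.map T.π)
  | [], _ => T.map_one
  | i :: l, hl => by
    rw [h.nW_cons, List.map_cons, h.nW_cons, T.map_mul' _ (h.monomial_le_group (h.nG_mem hl.head)) _
      (h.monomial_le_group (h.nW_mem l hl.tail)), T.σ_nG i hl.head, map_nW l hl.tail]

theorem ρ_wl {l : List ℕ} (hl : WordOk P l) {r : ℕ} (hr : r < P.nroots) :
    wl P (l.map T.π) (T.ρ r) = T.ρ (wl P l r) := by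
  obtain ⟨e, he, hx⟩ := h.conj_nW (F := F) hl (one_mem _) hr
  obtain ⟨e', he', hy⟩ := h.conj_nW (F := F) (T.wordOk_map hl) (one_mem _) (T.ρ_lt r hr)
  have h1 := hx 1
  have h2 := hy (T.f r 1)
  have hn := h.monomial_le_group (h.nW_mem (F := F) l hl)
  simp only [mul_one] at h1 h2
  have h3 := congrArg T.σ h1
  rw [T.map_mul' _ (mul_mem hn (h.mem_group_of_xG _ _)) _ (inv_mem hn), T.map_mul' _ hn _
    (h.mem_group_of_xG _ _), T.map_inv hn, T.map_nW l hl, T.σ_xG r hr, h2,
    T.σ_xG _ (h.wl_lt l hl r hr)] at h3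
  refine h.xG_index_inj (h.wl_lt _ (T.wordOk_map hl) _ (T.ρ_lt r hr)) (T.ρ_lt _ (h.wl_lt l hl r hr))
    (mul_ne_zero he' ?_) h3
  intro h0
  exact one_ne_zero (T.f_inj r hr (h0.trans (_root_.map_zero _).symm))

theorem ρ_surj {s : ℕ} (hs : s < P.nroots) : ∃ r < P.nroots, T.ρ r = s := by
  let g : Fin P.nroots → Fin P.nroots := fun r => ⟨T.ρ r, T.ρ_lt r r.isLt⟩
  have hg : Function.Injective g := fun a b e => Fin.ext (T.ρ_inj a a.isLt b b.isLt (congrArg Fin.val e))
  obtain ⟨r, hr⟩ := Finite.surjective_of_injective hg ⟨s, hs⟩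
  exact ⟨r, r.isLt, congrArg Fin.val hr⟩

/-- The fixed subgroup. -/
def fixed : Subgroup (GL D.Idx F) := (T.hom.eqLocus (D.group F).subtype).map (D.group F).subtype

theorem mem_fixed {g : GL D.Idx F} : g ∈ T.fixed ↔ g ∈ D.group F ∧ T.σ g = g := by
  constructor
  · rintro ⟨x, hx, rfl⟩; exact ⟨x.2, hx⟩
  · rintro ⟨hg, e⟩; exact ⟨⟨g, hg⟩, e, rfl⟩

/-- The action of the word commutes with the permutation. -/
def Comm (l : List ℕ) : Prop := ∀ r < P.nroots, wl P l (T.ρ r) = T.ρ (wl P l r)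

theorem Comm.map_eq {l : List ℕ} (hl : WordOk P l) (hc : T.Comm l) {r : ℕ} (hr : r < P.nroots) :
    wl P (l.map T.π) r = wl P l r := by
  obtain ⟨s, hs, rfl⟩ := T.ρ_surj hr
  rw [T.ρ_wl hl hs, hc s hs]

theorem Comm.sim {l : List ℕ} (hl : WordOk P l) (hc : T.Comm l) {i : ℕ} (hi : i < P.rank) :
    P.isPos (wl P l (P.sim (T.π i))) = P.isPos (wl P l (P.sim i)) := by
  rw [← T.ρ_sim i hi, hc _ (h.sim_lt hi), T.ρ_pos _ (h.wl_lt l hl _ (h.sim_lt hi))]

theorem Comm.negS_ρ {l : List ℕ} (hl : WordOk P l) (hc : T.Comm l) {r : ℕ} (hr : negS P l r) :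
    negS P l (T.ρ r) := by
  have hr' := (P.isPos_iff.1 hr.1).2
  exact ⟨(T.ρ_pos r hr').trans hr.1, by rw [hc r hr', T.ρ_pos _ (h.wl_lt l hl r hr')]; exact hr.2⟩

/-- The data of the node orbits. -/
structure Orbits where
  /-- orbits with their longest words -/
  orbs : List (List ℕ × List ℕ)
  ck : ckTw P T.ρ T.π orbs = true

variable {T} (O : T.Orbits)

theorem Orbits.cover {i : ℕ} (hi : i < P.rank) : ∃ o ∈ O.orbs, i ∈ o.1 := by
  have := O.ck
  simp only [ckTw, Bool.and_eq_true, List.all_eq_true, List.mem_range, List.any_eq_true, nbeq,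
    decide_eq_true_eq] at this
  obtain ⟨o, ho, j, hj, rfl⟩ := this.1 i hi
  exact ⟨o, ho, hj⟩

theorem Orbits.spec {o : List ℕ × List ℕ} (ho : o ∈ O.orbs) :
    WordIn P o.1 o.2 ∧ (∀ i ∈ o.1, i < P.rank ∧ P.isPos (wl P o.2 (P.sim i)) = false ∧
      ∀ j ∈ o.1, ∃ k, T.π^[k] i = j) ∧
    (∀ r < P.nroots, wl P o.2 (wl P o.2 r) = r) ∧ T.Comm o.2 := by
  have := O.ck
  simp only [ckTw, Bool.and_eq_true, List.all_eq_true, List.mem_range, List.any_eq_true, nbeq,
    decide_eq_true_eq, Pk.mem_allRoots, Nat.blt_eq, Bool.not_eq_true'] at this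
  obtain ⟨⟨hw, hi⟩, hr⟩ := this.2 o ho
  refine ⟨⟨fun x hx => ?_, fun x hx => ?_⟩, fun i him => ⟨(hi i him).1.1, (hi i him).1.2, fun j hj => ?_⟩,
    fun r hrn => (hr r hrn).1, fun r hrn => (hr r hrn).2⟩
  · obtain ⟨j, hj, rfl⟩ := hw x hx; exact (hi _ hj).1.1
  · obtain ⟨j, hj, rfl⟩ := hw x hx; exact hj
  · obtain ⟨k, -, e⟩ := (hi i him).2 j hj; exact ⟨k, e⟩

end Twist

namespace Ok

variable (h : Ok D P)
include h

/-- Negativity on the fundamental roots of `J` gives negativity on all positive roots of `J`. -/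
theorem neg_of_simple {J l : List ℕ} (hl : WordOk P l)
    (hs : ∀ i ∈ J, i < P.rank → P.isPos (wl P l (P.sim i)) = false)
    {r : ℕ} (hrJ : inJ P J r = true) (hr : P.isPos r = true) : P.isPos (wl P l r) = false := by
  have hrn := (P.isPos_iff.1 hr).2
  rw [← Bool.not_eq_true]
  intro hp
  obtain ⟨m, hm, hpos⟩ := h.exists_pos_coord hp
  have h2 : P.rv (wl P l r) m ≤ 0 := by
    rw [h.rv_wl l hl r hrn m hm]
    refine Finset.sum_nonpos fun k hk => ?_
    have hk' := Finset.mem_range.1 hk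
    by_cases hkJ : k ∈ J
    · exact mul_nonpos_of_nonneg_of_nonpos ((h.rv_sign hrn hk').1 hr)
        ((h.rv_sign (h.wl_lt l hl _ (h.sim_lt hk')) hm).2 (hs k hkJ hk'))
    · rw [inJ_iff.1 hrJ k hk' hkJ, zero_mul]
  omega

/-- Roots changing sign under a word in `J` lie in `J`. -/
theorem inJ_of_flip {J l : List ℕ} (hl : WordIn P J l) {r : ℕ} (hr : r < P.nroots)
    (e : P.isPos (wl P l r) = !P.isPos r) : inJ P J r = true := by
  refine inJ_iff.2 fun m hm hmJ => ?_
  have h1 := h.wl_outside hl hr hm hmJ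
  have hs := h.rv_sign hr hm
  have hs' := h.rv_sign (h.wl_lt l hl.1 r hr) hm
  cases hp : P.isPos r <;> rw [hp] at e <;> simp at e
  · have := hs.2 hp; have := hs'.1 e; omega
  · have := hs.1 hp; have := hs'.2 e; omega

theorem isPos_ng {r : ℕ} (hr : r < P.nroots) : P.isPos (P.ng r) = !P.isPos r := by
  have := h.ng_pos_iff hr
  cases hp : P.isPos r <;> cases hq : P.isPos (P.ng r) <;> simp [hp, hq] at this ⊢

end Ok

namespace Twist

variable {h : Ok D P} {F : Type*} [Field F] {T : Twist h F} (O : T.Orbits)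

/-- The number of positive roots made negative. -/
noncomputable def cnt (P : Pk) (l : List ℕ) : ℕ := Set.ncard {r | negS P l r}

theorem negS_finite (l : List ℕ) : Set.Finite {r | negS P l r} :=
  (Set.finite_Iio P.nroots).subset fun _ hr => (P.isPos_iff.1 hr.1).2

/-- Peeling an orbit off a word. -/
theorem Orbits.negS_append {o : List ℕ × List ℕ} (ho : o ∈ O.orbs) {l : List ℕ} (hl : WordOk P l)
    (hpos : ∀ i ∈ o.1, P.isPos (wl P l (P.sim i)) = true) (r : ℕ) :
    negS P (l ++ o.2) r ↔ negS P o.2 r ∨ (P.isPos r = true ∧ negS P l (wl P o.2 r)) := by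
  obtain ⟨hw, -, -, -⟩ := O.spec ho
  unfold negS
  rw [wl_append]
  constructor
  · rintro ⟨hr, hn⟩
    cases hp : P.isPos (wl P o.2 r)
    · exact Or.inl ⟨hr, rfl⟩
    · exact Or.inr ⟨hr, rfl, hn⟩
  · rintro (⟨hr, hn⟩ | ⟨hr, -, hn⟩)
    · refine ⟨hr, ?_⟩
      have hrn := (P.isPos_iff.1 hr).2
      have hw' := h.wl_lt _ hw.1 r hrn
      have hJ : inJ P o.1 (P.ng (wl P o.2 r)) = true := by
        have h0 : inJ P o.1 (wl P o.2 r) = true := by
          rw [h.inJ_wl hw hrn]; exact h.inJ_of_flip hw hrn (by rw [hn, hr]; rfl)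
        exact inJ_iff.2 fun m hm hmJ => by rw [h.rv_ng hw' hm, inJ_iff.1 h0 m hm hmJ, neg_zero]
      have h1 := h.pos_of_simple hl (fun i hi _ => hpos i hi) hJ
        (by rw [h.isPos_ng hw', hn]; rfl)
      rw [h.wl_ng l hl _ hw', h.isPos_ng (h.wl_lt l hl _ hw')] at h1
      simpa using h1
    · exact ⟨hr, hn⟩

/-- Induction along the orbits for words commuting with the permutation. -/
theorem Orbits.comm_induction {Q : List ℕ → Prop}
    (h0 : ∀ l, WordOk P l → (∀ r < P.nroots, wl P l r = r) → Q l)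
    (hstep : ∀ o ∈ O.orbs, ∀ l l', WordOk P l → WordOk P l' → T.Comm l' →
      (∀ i ∈ o.1, P.isPos (wl P l' (P.sim i)) = true) →
      (∀ r < P.nroots, wl P l r = wl P (l' ++ o.2) r) → Q l' → Q l) :
    ∀ l, WordOk P l → T.Comm l → Q l := by
  suffices ∀ n l, WordOk P l → T.Comm l → cnt P l ≤ n → Q l from fun l hl hc => this _ l hl hc le_rfl
  intro n
  induction n using Nat.strong_induction_on with
  | _ n ih =>
    intro l hl hc hn
    by_cases hall : ∀ i < P.rank, P.isPos (wl P l (P.sim i)) = true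
    · exact h0 l hl fun r hr => h.wl_eq_id l.length l le_rfl hl hall r hr
    push_neg at hall
    obtain ⟨i, hi, hneg⟩ := hall
    obtain ⟨o, ho, hio⟩ := O.cover hi
    obtain ⟨hw, hJ, hinv, hwc⟩ := O.spec ho
    have hiter : ∀ k, T.π^[k] i < P.rank ∧ P.isPos (wl P l (P.sim (T.π^[k] i))) = false := by
      intro k
      induction k with
      | zero => exact ⟨hi, by simpa using hneg⟩
      | succ k ihk =>
        rw [Function.iterate_succ_apply']
        exact ⟨T.π_lt _ ihk.1, (Comm.sim T hl hc ihk.1).trans ihk.2⟩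
    have hnegJ : ∀ j ∈ o.1, P.isPos (wl P l (P.sim j)) = false := fun j hj => by
      obtain ⟨k, rfl⟩ := (hJ i hio).2.2 j hj
      exact (hiter k).2
    set l' := l ++ o.2 with hl'def
    have hl' : WordOk P l' := fun x hx => by
      rcases List.mem_append.1 hx with a | a
      exacts [hl x a, hw.1 x a]
    have hc' : T.Comm l' := by
      intro r hr
      rw [wl_append, wl_append, hwc r hr, hc _ (h.wl_lt _ hw.1 r hr)]
    have hspan : ∀ r < P.nroots, P.isPos r = true → P.isPos (wl P o.2 r) = false →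
        P.isPos (wl P l' r) = true := by
      intro r hr hp hn'
      have hwr := h.wl_lt _ hw.1 r hr
      have h0' : inJ P o.1 (wl P o.2 r) = true := by
        rw [h.inJ_wl hw hr]; exact h.inJ_of_flip hw hr (by rw [hn', hp]; rfl)
      have h1 := h.neg_of_simple (J := o.1) hl (fun j hj _ => hnegJ j hj) (r := P.ng (wl P o.2 r))
        (inJ_iff.2 fun m hm hmJ => by rw [h.rv_ng hwr hm, inJ_iff.1 h0' m hm hmJ, neg_zero])
        (by rw [h.isPos_ng hwr, hn']; rfl)
      rw [h.wl_ng l hl _ hwr, h.isPos_ng (h.wl_lt l hl _ hwr)] at h1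
      rw [hl'def, wl_append]
      simpa using h1
    refine hstep o ho l l' hl hl' hc' (fun j hj => hspan _ (h.sim_lt (hJ j hj).1) (h.sim_pos (hJ j hj).1)
      (hJ j hj).2.1) (fun r hr => ?_) (ih (cnt P l') ?_ l' hl' hc' le_rfl)
    · rw [hl'def, List.append_assoc, wl_append, wl_append, hinv r hr]
    refine lt_of_lt_of_le ?_ hn
    have himg : (fun r => wl P o.2 r) '' {r | negS P l' r} ⊂ {r | negS P l r} := by
      refine ⟨?_, fun hsub => ?_⟩
      · rintro _ ⟨r, ⟨hr, hn'⟩, rfl⟩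
        have hrn := (P.isPos_iff.1 hr).2
        refine ⟨?_, by rw [hl'def, wl_append] at hn'; exact hn'⟩
        by_contra hneg'
        rw [hspan r hrn hr (by simpa using hneg')] at hn'
        exact Bool.noConfusion hn'
      · have hmem : P.sim i ∈ {r | negS P l r} := ⟨h.sim_pos hi, hnegJ i hio⟩
        obtain ⟨r, hr, e⟩ := hsub hmem
        have hrn := (P.isPos_iff.1 hr.1).2
        have e2 : r = wl P o.2 (P.sim i) := by
          rw [← hinv r hrn]; exact congrArg (wl P o.2) e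
        have h1 := hr.1
        rw [e2, (hJ i hio).2.1] at h1
        exact Bool.noConfusion h1
    have := Set.ncard_lt_ncard himg (negS_finite l)
    rwa [Set.InjOn.ncard_image] at this
    intro a ha b hb e
    rw [← hinv a (P.isPos_iff.1 ha.1).2, ← hinv b (P.isPos_iff.1 hb.1).2]
    exact congrArg (wl P o.2) e

theorem cnt_congr {l l' : List ℕ} (e : ∀ r < P.nroots, wl P l r = wl P l' r) : cnt P l = cnt P l' := by
  unfold cnt
  congr 1
  ext r
  refine and_congr_right fun hr => ?_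
  rw [e r (P.isPos_iff.1 hr).2]

theorem Orbits.cnt_append {o : List ℕ × List ℕ} (ho : o ∈ O.orbs) {l : List ℕ} (hl : WordOk P l)
    (hpos : ∀ i ∈ o.1, P.isPos (wl P l (P.sim i)) = true) :
    cnt P (l ++ o.2) = cnt P o.2 + cnt P l := by
  obtain ⟨hw, -, hinv, -⟩ := O.spec ho
  have himg : (fun r => wl P o.2 r) '' {r | negS P l r} = {r | P.isPos r = true ∧ negS P l (wl P o.2 r)} := by
    ext r
    constructor
    · rintro ⟨s, hs, rfl⟩
      have hsn := (P.isPos_iff.1 hs.1).2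
      refine ⟨?_, by rw [hinv s hsn]; exact hs⟩
      by_contra hn
      have hspan := h.inJ_of_flip hw hsn (by rw [show P.isPos (wl P o.2 s) = false by simpa using hn, hs.1]; rfl)
      have := h.pos_of_simple hl (fun i hi _ => hpos i hi) hspan hs.1
      rw [hs.2] at this
      exact Bool.noConfusion this
    · rintro ⟨hr, hs⟩
      exact ⟨_, hs, hinv r (P.isPos_iff.1 hr).2⟩
  have hinj : Set.InjOn (fun r => wl P o.2 r) {r | negS P l r} := fun a ha b hb e => by
    rw [← hinv a (P.isPos_iff.1 ha.1).2, ← hinv b (P.isPos_iff.1 hb.1).2]; exact congrArg (wl P o.2) e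
  unfold cnt
  rw [show {r | negS P (l ++ o.2) r} = {r | negS P o.2 r} ∪ {r | P.isPos r = true ∧ negS P l (wl P o.2 r)}
    from Set.ext fun r => O.negS_append ho hl hpos r, Set.ncard_union_eq ?_ (negS_finite _) ?_, ← himg,
    hinj.ncard_image]
  · rw [Set.disjoint_left]
    rintro r hr ⟨-, hs⟩
    have h1 := hs.1
    rw [hr.2] at h1
    exact Bool.noConfusion h1
  · exact (Set.finite_Iio P.nroots).subset fun r hr => (P.isPos_iff.1 hr.1).2

end Twist

end Cfsg.Agent.Chev
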