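/-
The twisted group is the full fixed subgroup; normal form and order.
-/
import Cfsg.Agent.Lib.Chev.Twist
import Cfsg.Agent.Lib.Chev.Order

set_option autoImplicit false

namespace Cfsg.Agent.Chev

open Cfsg.Lie
open scoped Matrix

variable {D : ChevalleyDatum} {P : Pk} {h : Ok D P} {F : Type*} [Field F]

/-- A twisted group given by generators inside the fixed subgroup. -/
structure TwistGrp (T : Twist h F) where
  /-- the orbits -/
  O : T.Orbits
  /-- the group -/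
  G1 : Subgroup (GL D.Idx F)
  le_fixed : G1 ≤ T.fixed
  nW_mem : ∀ o ∈ O.orbs, h.nW o.2 ∈ G1
  root_mem : ∀ o ∈ O.orbs, h.genR (negS P o.2) ⊓ T.fixed ≤ G1
  diag_mem : D.diagonalSubgroup F ⊓ T.fixed ≤ G1

namespace TwistGrp

variable {T : Twist h F} (G : TwistGrp T)

theorem le_group : G.G1 ≤ D.group F := fun _ hg => (T.mem_fixed.1 (G.le_fixed hg)).1

theorem fix {g : GL D.Idx F} (hg : g ∈ G.G1) : T.σ g = g := (T.mem_fixed.1 (G.le_fixed hg)).2

/-- A fixed representative of a fixed Weyl element. -/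
theorem exists_rep {l : List ℕ} (hl : WordOk P l) (hc : T.Comm l) :
    ∃ n ∈ G.G1, ∃ d ∈ D.diagonalSubgroup F, n = h.nW l * d := by
  refine G.O.comm_induction (Q := fun l => ∃ n ∈ G.G1, ∃ d ∈ D.diagonalSubgroup F, n = h.nW l * d)
    (fun l hl htriv => ?_) (fun o ho l l' hl hl' hc' hpos e ih => ?_) l hl hc
  · exact ⟨1, one_mem _, (h.nW l)⁻¹, inv_mem (h.nW_mem_diagonal hl htriv), by rw [mul_inv_cancel]⟩
  · obtain ⟨n, hn, d, hd, rfl⟩ := ih
    obtain ⟨hw, -, -, -⟩ := G.O.spec ho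
    have hla : WordOk P (l' ++ o.2) := fun x hx => by
      rcases List.mem_append.1 hx with a | a
      exacts [hl' x a, hw.1 x a]
    refine ⟨_, mul_mem hn (G.nW_mem o ho), (h.nW l)⁻¹ * h.nW (l' ++ o.2) *
      ((h.nW o.2)⁻¹ * d * h.nW o.2), mul_mem (h.mem_diagonal_of_wl_eq hl hla e) ?_, ?_⟩
    · have := (Subgroup.mem_normalizer_iff.1 (inv_mem (h.nW_normalizer (F := F) o.2 hw.1)) d).1 hd
      simpa using this
    · rw [h.nW_append]; group

/-- The root part of the fixed group belonging to a word. -/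
def Uw (_G : TwistGrp T) (l : List ℕ) : Subgroup (GL D.Idx F) := h.genR (negS P l) ⊓ T.fixed

theorem Uw_congr {l l' : List ℕ} (e : ∀ r < P.nroots, wl P l r = wl P l' r) : G.Uw l = G.Uw l' := by
  unfold Uw
  rw [show negS P l = negS P l' from funext fun r => propext (and_congr_right fun hr => by
    rw [e r (P.isPos_iff.1 hr).2])]

theorem σ_negS {l : List ℕ} (hl : WordOk P l) (hc : T.Comm l) {g : GL D.Idx F}
    (hg : g ∈ h.genR (negS P l)) : T.σ g ∈ h.genR (negS P l) :=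
  T.map_genR (fun _ hr => (P.isPos_iff.1 hr.1).2) (fun _ hr => Twist.Comm.negS_ρ T hl hc hr) hg

theorem split (hC : P.ckComm = true) {o : List ℕ × List ℕ} (ho : o ∈ G.O.orbs) {l : List ℕ}
    (hl : WordOk P l) (hc : T.Comm l) (hpos : ∀ i ∈ o.1, P.isPos (wl P l (P.sim i)) = true) :
    ∃ Φ : G.Uw o.2 × G.Uw l ≃ G.Uw (l ++ o.2), ∀ p, (Φ p : GL D.Idx F) =
      (p.1 : GL D.Idx F) * ((h.nW o.2)⁻¹ * (p.2 : GL D.Idx F) * h.nW o.2) := by
  obtain ⟨hw, hJ, hinv, hwc⟩ := G.O.spec ho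
  have hla : WordOk P (l ++ o.2) := fun x hx => by
    rcases List.mem_append.1 hx with a | a
    exacts [hl x a, hw.1 x a]
  set n := h.nW (F := F) o.2
  have hn : n ∈ G.G1 := G.nW_mem o ho
  have hnf := G.le_fixed hn
  have hsub1 : ∀ a ∈ h.genR (F := F) (negS P o.2), a ∈ h.genR (negS P (l ++ o.2)) := fun a ha =>
    h.genR_mono (fun r hr => (G.O.negS_append ho hl hpos r).2 (Or.inl hr)) ha
  have hsub2 : ∀ x ∈ h.genR (F := F) (negS P l),
      n⁻¹ * x * n ∈ h.genR (fun r => negS P (l ++ o.2) r ∧ P.isPos (wl P o.2 r) = true) := by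
    have : h.genR (F := F) (negS P l) ≤
        (h.genR (fun r => negS P (l ++ o.2) r ∧ P.isPos (wl P o.2 r) = true)).comap
          (MulAut.conj n⁻¹).toMonoidHom := by
      refine h.genR_le fun s hs t => ?_
      have hsn := (P.isPos_iff.1 hs.1).2
      obtain ⟨e, he, hx⟩ := h.conj_nW hw.1 (one_mem (D.diagonalSubgroup F)) (h.wl_lt _ hw.1 s hsn)
      have h1 := hx (e⁻¹ * t)
      rw [hinv s hsn, mul_inv_cancel_left₀ he, mul_one (h.nW o.2)] at h1
      rw [Subgroup.mem_comap, MulEquiv.toMonoidHom_eq_coe, MonoidHom.coe_coe, MulAut.conj_apply, inv_inv,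
        show n⁻¹ * h.xG s t * n = h.xG (wl P o.2 s) (e⁻¹ * t) by rw [← h1]; simp only [n]; group]
      refine h.xG_mem_genR ⟨?_, by rw [hinv s hsn]; exact hs.1⟩ _
      refine (G.O.negS_append ho hl hpos _).2 (Or.inr ⟨?_, by rw [hinv s hsn]; exact hs⟩)
      by_contra hneg
      have hspan := h.inJ_of_flip hw hsn
        (by rw [show P.isPos (wl P o.2 s) = false by simpa using hneg, hs.1]; rfl)
      have := h.pos_of_simple hl (fun i hi _ => hpos i hi) hspan hs.1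
      rw [hs.2] at this
      exact Bool.noConfusion this
    intro x hx
    have h1 := this hx
    rwa [Subgroup.mem_comap, MulEquiv.toMonoidHom_eq_coe, MonoidHom.coe_coe, MulAut.conj_apply, inv_inv] at h1
  have hf : ∀ p : G.Uw o.2 × G.Uw l, (p.1 : GL D.Idx F) * (n⁻¹ * p.2 * n) ∈ G.Uw (l ++ o.2) := fun p =>
    Subgroup.mem_inf.2 ⟨mul_mem (hsub1 _ p.1.2.1) (h.genR_mono (fun _ hr => hr.1) (hsub2 _ p.2.2.1)),
      mul_mem p.1.2.2 (mul_mem (mul_mem (T.fixed.inv_mem hnf) p.2.2.2) hnf)⟩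
  have hconj : ∀ x : GL D.Idx F, x ∈ h.genR (negS P l) → n * (n⁻¹ * x * n) * n⁻¹ ∈ D.posUnipotent F :=
    fun x hx => by rw [show n * (n⁻¹ * x * n) * n⁻¹ = x by group]; exact h.negS_le_pos l hx
  have huniq : ∀ a a' b b' : GL D.Idx F, a ∈ h.genR (negS P o.2) → a' ∈ h.genR (negS P o.2) →
      n * b * n⁻¹ ∈ D.posUnipotent F → n * b' * n⁻¹ ∈ D.posUnipotent F → a * b = a' * b' → a = a' ∧ b = b' := by
    intro a a' b b' ha ha' hb hb' e
    have h1 := h.uminus_conj (F := F) hw.1 (one_mem _) (mul_mem (inv_mem ha') ha)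
    rw [mul_one (h.nW o.2)] at h1
    have e1 : a'⁻¹ * a = b' * b⁻¹ := by
      rw [eq_mul_inv_iff_mul_eq, mul_assoc, e, inv_mul_cancel_left]
    have h2 : n * (a'⁻¹ * a) * n⁻¹ ∈ D.borelSubgroup F := by
      rw [e1, show n * (b' * b⁻¹) * n⁻¹ = (n * b' * n⁻¹) * (n * b * n⁻¹)⁻¹ by group]
      exact Subgroup.mem_sup_left (mul_mem hb' (inv_mem hb))
    have h3 := Subgroup.mem_inf.2 ⟨h2, h1⟩
    rw [h.borel_inf_neg, Subgroup.mem_bot, conj_eq_one_iff] at h3
    refine ⟨(inv_mul_eq_one.1 h3).symm, ?_⟩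
    rw [h3] at e1
    exact (mul_inv_eq_one.1 e1.symm).symm
  let f : G.Uw o.2 × G.Uw l → G.Uw (l ++ o.2) := fun p => ⟨_, hf p⟩
  refine ⟨Equiv.ofBijective f ⟨?_, ?_⟩, fun p => rfl⟩
  · intro p p' e
    obtain ⟨h1, h2⟩ := huniq _ _ _ _ p.1.2.1 p'.1.2.1 (hconj _ p.2.2.1) (hconj _ p'.2.2.1)
      (congrArg Subtype.val e)
    exact Prod.ext (Subtype.ext h1) (Subtype.ext (mul_left_cancel (mul_right_cancel h2)))
  · rintro ⟨g, hg1, hg2⟩
    obtain ⟨a, ha, b, hb, rfl⟩ := h.split_pos hC (fun r => P.isPos (wl P o.2 r) = false)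
      (fun r => P.isPos (wl P o.2 r) = true) (fun r _ => by cases P.isPos (wl P o.2 r) <;> simp)
      (h.negS_le_pos _ hg1)
    have ha' : a ∈ h.genR (negS P o.2) := h.genR_mono (fun _ hr => hr) ha
    have hbx : n * b * n⁻¹ ∈ D.posUnipotent F := by
      have := h.uplus_conj (F := F) hw.1 (one_mem _) hb
      rwa [mul_one (h.nW o.2)] at this
    have hx : n * b * n⁻¹ ∈ h.genR (negS P l) := by
      obtain ⟨c, hc1, e, he, hce⟩ := h.split_pos hC (fun r => P.isPos (wl P l r) = true)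
        (fun r => P.isPos (wl P l r) = false) (fun r _ => by cases P.isPos (wl P l r) <;> simp) hbx
      have he' : e ∈ h.genR (negS P l) := h.genR_mono (fun _ hr => hr) he
      have hb' : b ∈ h.genR (negS P (l ++ o.2)) := by
        rw [show b = a⁻¹ * (a * b) by group]; exact mul_mem (inv_mem (hsub1 a ha')) hg1
      have h1 := h.uminus_conj (F := F) hla (one_mem _) hb'
      rw [mul_one (h.nW (l ++ o.2)), h.nW_append] at h1
      have h1' : h.nW l * (n * b * n⁻¹) * (h.nW l)⁻¹ ∈ D.negUnipotent F := by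
        convert h1 using 1; simp only [n]; group
      have h2 := h.uplus_conj (F := F) hl (one_mem _) hc1
      have h3 := h.uminus_conj (F := F) hl (one_mem _) he'
      rw [mul_one (h.nW l)] at h2 h3
      have h4 : h.nW l * c * (h.nW l)⁻¹ ∈ D.borelSubgroup F ⊓ D.negUnipotent F := by
        refine Subgroup.mem_inf.2 ⟨Subgroup.mem_sup_left h2, ?_⟩
        rw [show h.nW l * c * (h.nW l)⁻¹ =
          (h.nW l * (c * e) * (h.nW l)⁻¹) * (h.nW l * e * (h.nW l)⁻¹)⁻¹ by group, ← hce]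
        exact mul_mem h1' (inv_mem h3)
      rw [h.borel_inf_neg, Subgroup.mem_bot, conj_eq_one_iff] at h4
      rw [hce, h4, one_mul]
      exact he'
    obtain ⟨hab, hfix⟩ := T.mem_fixed.1 hg2
    have hag := h.borel_le_group (F := F) (Subgroup.mem_sup_left (h.negS_le_pos _ ha'))
    have hbg : b ∈ D.group F := by
      rw [show b = a⁻¹ * (a * b) by group]; exact mul_mem (inv_mem hag) hab
    rw [T.map_mul' _ hag _ hbg] at hfix
    have hσn := G.fix hn
    have hσb : n * T.σ b * n⁻¹ = T.σ (n * b * n⁻¹) := by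
      rw [T.map_mul' _ (mul_mem (G.le_group hn) hbg) _ (inv_mem (G.le_group hn)),
        T.map_mul' _ (G.le_group hn) _ hbg, T.map_inv (G.le_group hn), hσn]
    obtain ⟨ea, eb⟩ := huniq _ _ _ _ (σ_negS hw.1 hwc ha') ha' (hσb ▸ T.map_pos hbx) hbx hfix
    have hbfix : b ∈ T.fixed := T.mem_fixed.2 ⟨hbg, eb⟩
    exact ⟨⟨⟨a, ha', T.mem_fixed.2 ⟨hag, ea⟩⟩,
      ⟨n * b * n⁻¹, hx, mul_mem (mul_mem hnf hbfix) (T.fixed.inv_mem hnf)⟩⟩,
      Subtype.ext (show a * (n⁻¹ * (n * b * n⁻¹) * n) = a * b by group)⟩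

theorem Uw_bot {l : List ℕ} (htriv : ∀ r < P.nroots, wl P l r = r) : G.Uw l = ⊥ := by
  rw [eq_bot_iff]
  refine le_trans inf_le_left (h.genR_le fun r hr t => absurd hr.2 ?_)
  rw [htriv r (P.isPos_iff.1 hr.1).2, hr.1]
  simp

theorem Uw_le (hC : P.ckComm = true) {l : List ℕ} (hl : WordOk P l) (hc : T.Comm l) :
    G.Uw l ≤ G.G1 := by
  refine G.O.comm_induction (Q := fun l => G.Uw l ≤ G.G1) (fun l _ htriv => ?_)
    (fun o ho l l' hl hl' hc' hpos e ih => ?_) l hl hc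
  · rw [G.Uw_bot htriv]; exact bot_le
  · rw [G.Uw_congr e]
    intro g hg
    obtain ⟨Φ, hΦ⟩ := G.split hC ho hl' hc' hpos
    obtain ⟨p, hp⟩ := Φ.surjective ⟨g, hg⟩
    have := hΦ p
    rw [hp] at this
    simp only at this
    rw [this]
    exact mul_mem (G.root_mem o ho p.1.2)
      (mul_mem (mul_mem (inv_mem (G.nW_mem o ho)) (ih p.2.2)) (G.nW_mem o ho))

theorem card_Uw (hC : P.ckComm = true) {e N : ℕ}
    (hcard : ∀ o ∈ G.O.orbs, Nat.card (G.Uw o.2) ^ e = N ^ Twist.cnt P o.2)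
    {l : List ℕ} (hl : WordOk P l) (hc : T.Comm l) : Nat.card (G.Uw l) ^ e = N ^ Twist.cnt P l := by
  refine G.O.comm_induction (Q := fun l => Nat.card (G.Uw l) ^ e = N ^ Twist.cnt P l)
    (fun l _ htriv => ?_) (fun o ho l l' hl hl' hc' hpos e' ih => ?_) l hl hc
  · rw [G.Uw_bot htriv, Subgroup.card_bot, one_pow, Twist.cnt, Set.ncard_eq_zero (Twist.negS_finite l) |>.2,
      pow_zero]
    refine Set.eq_empty_iff_forall_notMem.2 fun r hr => ?_
    have := hr.2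
    rw [htriv r (P.isPos_iff.1 hr.1).2, hr.1] at this
    exact Bool.noConfusion this
  · obtain ⟨Φ, -⟩ := G.split hC ho hl' hc' hpos
    rw [G.Uw_congr e', ← Nat.card_congr Φ, Nat.card_prod, mul_pow, hcard o ho, ih, ← pow_add,
      Twist.cnt_congr e', G.O.cnt_append ho hl' hpos]

theorem exists_top : ∃ l, WordOk P l ∧ T.Comm l ∧ ∀ r, P.isPos r = true → P.isPos (wl P l r) = false := by
  obtain ⟨l, hl, htop⟩ := h.exists_longest
  refine ⟨l, hl, ?_, htop⟩
  have hm := T.wordOk_map hl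
  have hneg : ∀ r < P.nroots, P.isPos (wl P (l.map T.π) r) = !P.isPos r := by
    intro r hr
    obtain ⟨s, hs, rfl⟩ := T.ρ_surj hr
    rw [T.ρ_wl hl hs, T.ρ_pos _ (h.wl_lt l hl s hs), T.ρ_pos s hs]
    cases hp : P.isPos s
    · have h1 := htop (P.ng s) ((h.ng_pos_iff hs).2 hp)
      rw [h.wl_ng l hl s hs, h.isPos_ng (h.wl_lt l hl s hs)] at h1
      simpa using h1
    · rw [htop s hp]; rfl
  have hneg' : ∀ r < P.nroots, P.isPos (wl P l r) = !P.isPos r := by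
    intro r hr
    cases hp : P.isPos r
    · have h1 := htop (P.ng r) ((h.ng_pos_iff hr).2 hp)
      rw [h.wl_ng l hl r hr, h.isPos_ng (h.wl_lt l hl r hr)] at h1
      simpa using h1
    · rw [htop r hp]; rfl
  have hrev : WordOk P l.reverse := fun x hx => hl x (List.mem_reverse.1 hx)
  have hid := h.wl_eq_id (l.reverse ++ l.map T.π).length _ le_rfl (fun x hx => by
    rcases List.mem_append.1 hx with a | a; exacts [hrev x a, hm x a]) (fun i hi => by
      have hs := h.sim_lt hi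
      have h2 := h.wl_lt _ hm _ hs
      have h3 := h.wl_reverse' hl h2
      have h4 := hneg' _ (h.wl_lt _ hrev _ h2)
      rw [h3, hneg _ hs, h.sim_pos hi] at h4
      rw [wl_append]
      simpa using h4.symm)
  intro r hr
  have h1 := congrArg (wl P l) (hid _ (T.ρ_lt r hr))
  rw [wl_append, h.wl_reverse' hl (h.wl_lt _ hm _ (T.ρ_lt r hr)), T.ρ_wl hl hr] at h1
  exact h1.symm

theorem pos_fixed_le (hC : P.ckComm = true) : D.posUnipotent F ⊓ T.fixed ≤ G.G1 := by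
  obtain ⟨l, hl, hc, htop⟩ := exists_top (T := T)
  refine le_trans (le_of_eq ?_) (G.Uw_le hC hl hc)
  unfold Uw
  rw [h.posUnipotent_eq]
  congr 1
  exact le_antisymm (h.genR_mono fun r hr => ⟨hr, htop r hr⟩) (h.genR_mono fun r hr => hr.1)

theorem borel_fixed (hC : P.ckComm = true) {b : GL D.Idx F} (hb : b ∈ D.borelSubgroup F) (e : T.σ b = b) :
    ∃ v ∈ D.posUnipotent F ⊓ T.fixed, ∃ d ∈ D.diagonalSubgroup F ⊓ T.fixed, b = v * d := by
  obtain ⟨v, hv, d, hd, rfl⟩ := h.mem_borel hb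
  have hvg := h.borel_le_group (F := F) (Subgroup.mem_sup_left hv)
  have hdg := h.diagonal_le_group (F := F) hd
  rw [T.map_mul' _ hvg _ hdg] at e
  have e1 : (T.σ v)⁻¹ * v = T.σ d * d⁻¹ := by
    rw [eq_mul_inv_iff_mul_eq, mul_assoc, inv_mul_eq_iff_eq_mul]; exact e.symm
  have h2 : (T.σ v)⁻¹ * v ∈ D.posUnipotent F ⊓ D.diagonalSubgroup F :=
    Subgroup.mem_inf.2 ⟨mul_mem (inv_mem (T.map_pos hv)) hv,
      e1 ▸ mul_mem (T.map_diagonal hd) (inv_mem hd)⟩
  rw [h.pos_inf_diagonal, Subgroup.mem_bot] at h2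
  rw [h2] at e1
  exact ⟨v, ⟨hv, T.mem_fixed.2 ⟨hvg, inv_mul_eq_one.1 h2⟩⟩, d,
    ⟨hd, T.mem_fixed.2 ⟨hdg, mul_inv_eq_one.1 e1.symm⟩⟩, rfl⟩

theorem borel_fixed_le (hC : P.ckComm = true) : D.borelSubgroup F ⊓ T.fixed ≤ G.G1 := by
  rintro b ⟨hb, hb'⟩
  obtain ⟨v, hv, d, hd, rfl⟩ := borel_fixed hC hb (T.mem_fixed.1 hb').2
  exact mul_mem (G.pos_fixed_le hC hv) (G.diag_mem hd)

/-- The Bruhat form of a fixed element. -/
theorem decomp (hC : P.ckComm = true) {g : GL D.Idx F} (hg : g ∈ T.fixed) :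
    ∃ l, WordOk P l ∧ T.Comm l ∧ ∃ n ∈ G.G1, ∃ d ∈ D.diagonalSubgroup F, n = h.nW l * d ∧
      ∃ b ∈ D.borelSubgroup F ⊓ T.fixed, ∃ u ∈ G.Uw l, g = b * n * u := by
  obtain ⟨hgg, e⟩ := T.mem_fixed.1 hg
  obtain ⟨b, hb, l, hl, u, hu, rfl⟩ := h.bruhat_exists hC hgg
  have hbg := h.borel_le_group hb
  have hng := h.monomial_le_group (h.nW_mem (F := F) l hl)
  have hug := h.borel_le_group (F := F) (Subgroup.mem_sup_left (h.negS_le_pos l hu))
  rw [T.map_mul' _ (mul_mem hbg hng) _ hug, T.map_mul' _ hbg _ hng, T.map_nW l hl] at e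
  have huρ : T.σ u ∈ h.genR (negS P (l.map T.π)) :=
    T.map_genR (fun _ hr => (P.isPos_iff.1 hr.1).2)
      (fun r hr => by
        have hrn := (P.isPos_iff.1 hr.1).2
        exact ⟨(T.ρ_pos r hrn).trans hr.1, by rw [T.ρ_wl hl hrn, T.ρ_pos _ (h.wl_lt l hl r hrn)]; exact hr.2⟩) hu
  have hw := h.bruhat_unique hC (T.map_borel hb) hb (T.wordOk_map hl) hl (one_mem _) (one_mem _)
    (h.negS_le_pos _ huρ) (h.negS_le_pos l hu) (by simpa using e)
  have hc : T.Comm l := fun r hr => by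
    rw [← h.wl_eq_of_mem (T.wordOk_map hl) hl hw (T.ρ_lt r hr), T.ρ_wl hl hr]
  obtain ⟨n, hn, d, hd, en⟩ := G.exists_rep hl hc
  refine ⟨l, hl, hc, n, hn, d, hd, en, ?_⟩
  set b' := b * (h.nW l * d⁻¹ * (h.nW l)⁻¹)
  have hb' : b' ∈ D.borelSubgroup F :=
    mul_mem hb (Subgroup.mem_sup_right ((Subgroup.mem_normalizer_iff.1 (h.nW_normalizer l hl) _).1 (inv_mem hd)))
  have eq1 : b * h.nW l * u = b' * n * u := by simp only [b', en]; group
  have hng' := G.le_group hn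
  have e' : T.σ b' * (h.nW l * d) * T.σ u = b' * (h.nW l * d) * u := by
    have h1 := (T.mem_fixed.1 hg).2
    rw [eq1, T.map_mul' _ (mul_mem (h.borel_le_group hb') hng') _ hug,
      T.map_mul' _ (h.borel_le_group hb') _ hng', G.fix hn] at h1
    rwa [← en]
  obtain ⟨eb, eu⟩ := h.bruhat_factor hl hd (T.map_borel hb') hb' (σ_negS hl hc hu) hu e'
  exact ⟨b', ⟨hb', T.mem_fixed.2 ⟨h.borel_le_group hb', eb⟩⟩, u, ⟨hu, T.mem_fixed.2 ⟨hug, eu⟩⟩, eq1⟩

/-- The twisted group is the whole fixed subgroup. -/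
theorem eq_fixed (hC : P.ckComm = true) : G.G1 = T.fixed := by
  refine le_antisymm G.le_fixed fun g hg => ?_
  obtain ⟨l, hl, hc, n, hn, -, -, -, b, hb, u, hu, rfl⟩ := G.decomp hC hg
  exact mul_mem (mul_mem (G.borel_fixed_le hC hb) hn) (G.Uw_le hC hl hc hu)

/-- The elements of the fixed Weyl group. -/
noncomputable def W1 (T : Twist h F) : Finset (Fin P.nroots → Fin P.nroots) := by
  classical exact Finset.univ.filter fun f => ∃ l, WordOk P l ∧ T.Comm l ∧ act P l = f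

theorem mem_W1 {f : Fin P.nroots → Fin P.nroots} :
    f ∈ W1 T ↔ ∃ l, WordOk P l ∧ T.Comm l ∧ act P l = f := by simp [W1]

/-- The number of positive roots made negative by a permutation. -/
noncomputable def cntF (P : Pk) (f : Fin P.nroots → Fin P.nroots) : ℕ :=
  (Finset.univ.filter fun r : Fin P.nroots => P.isPos r.val = true ∧ P.isPos (f r).val = false).card

theorem cntF_act (h : Ok D P) {l : List ℕ} (hl : WordOk P l) : cntF P (act P l) = Twist.cnt P l := by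
  unfold cntF Twist.cnt
  rw [← Set.ncard_coe_finset]
  rw [show {r | negS P l r} = Fin.val '' ((Finset.univ.filter fun r : Fin P.nroots =>
    P.isPos r.val = true ∧ P.isPos (act P l r).val = false : Finset _) : Set (Fin P.nroots)) from ?_,
    Set.ncard_image_of_injective _ Fin.val_injective]
  ext r
  simp only [Finset.coe_filter, Finset.mem_univ, true_and, Set.mem_image, Set.mem_setOf_eq, h.act_val hl]
  constructor
  · intro hr; exact ⟨⟨r, (P.isPos_iff.1 hr.1).2⟩, hr, rfl⟩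
  · rintro ⟨s, hs, rfl⟩; exact hs

/-- The order of the twisted group. -/
theorem card_eq [Fintype F] (hC : P.ckComm = true) (g : ℕ → ℕ)
    (hg : ∀ l, WordOk P l → T.Comm l → Nat.card (G.Uw l) = g (Twist.cnt P l)) :
    Nat.card G.G1 = Nat.card ↥(D.posUnipotent F ⊓ T.fixed) * Nat.card ↥(D.diagonalSubgroup F ⊓ T.fixed) *
      ∑ f ∈ W1 T, g (cntF P f) := by
  classical
  have hsel : ∀ f ∈ W1 T, ∃ l, (WordOk P l ∧ T.Comm l) ∧ act P l = f := fun f hf => by
    obtain ⟨l, hl, hc, e⟩ := mem_W1.1 hf; exact ⟨l, ⟨hl, hc⟩, e⟩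
  choose! wd hwd using hsel
  have hrep : ∀ f ∈ W1 T, ∃ n, n ∈ G.G1 ∧ ∃ d ∈ D.diagonalSubgroup F, n = h.nW (wd f) * d := fun f hf => by
    obtain ⟨n, hn, hd⟩ := G.exists_rep (hwd f hf).1.1 (hwd f hf).1.2; exact ⟨n, hn, hd⟩
  choose! rep hrep using hrep
  let S := Σ f : W1 T, (↥(D.posUnipotent F ⊓ T.fixed) × ↥(D.diagonalSubgroup F ⊓ T.fixed)) × G.Uw (wd f.1)
  let Φ : S → G.G1 := fun x => ⟨x.2.1.1.1 * x.2.1.2.1 * rep x.1.1 * x.2.2.1,
    mul_mem (mul_mem (mul_mem (G.pos_fixed_le hC x.2.1.1.2) (G.diag_mem x.2.1.2.2)) (hrep _ x.1.2).1)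
      (G.Uw_le hC (hwd _ x.1.2).1.1 (hwd _ x.1.2).1.2 x.2.2.2)⟩
  have hΦ : Function.Bijective Φ := by
    constructor
    · rintro ⟨f, ⟨v, k⟩, u⟩ ⟨f', ⟨v', k'⟩, u'⟩ e
      have e' := congrArg Subtype.val e
      simp only [Φ] at e'
      obtain ⟨⟨hl, -⟩, hf⟩ := hwd _ f.2
      obtain ⟨⟨hl', -⟩, hf'⟩ := hwd _ f'.2
      obtain ⟨d, hd, en⟩ := (hrep _ f.2).2
      obtain ⟨d', hd', en'⟩ := (hrep _ f'.2).2
      have hb : v.1 * k.1 ∈ D.borelSubgroup F :=
        mul_mem (Subgroup.mem_sup_left v.2.1) (Subgroup.mem_sup_right k.2.1)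
      have hb' : v'.1 * k'.1 ∈ D.borelSubgroup F :=
        mul_mem (Subgroup.mem_sup_left v'.2.1) (Subgroup.mem_sup_right k'.2.1)
      rw [en, en'] at e'
      have h1 := h.bruhat_unique hC hb hb' hl hl' hd hd' (h.negS_le_pos _ u.2.1) (h.negS_le_pos _ u'.2.1) e'
      have hff : f = f' := Subtype.ext (by
        rw [← hf, ← hf', h.act_eq_iff hl hl']
        exact fun r hr => h.wl_eq_of_mem hl hl' h1 hr)
      subst hff
      have hdd : d = d' := mul_left_cancel (en.symm.trans en')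
      subst hdd
      obtain ⟨eb, eu⟩ := h.bruhat_factor hl hd hb hb' u.2.1 u'.2.1 e'
      have h2 : v'.1⁻¹ * v.1 = k'.1 * k.1⁻¹ := by
        rw [eq_mul_inv_iff_mul_eq, mul_assoc, eb, inv_mul_cancel_left]
      have h3 := Subgroup.mem_inf.2 ⟨(D.posUnipotent F).mul_mem ((D.posUnipotent F).inv_mem v'.2.1) v.2.1, h2 ▸ (D.diagonalSubgroup F).mul_mem k'.2.1 ((D.diagonalSubgroup F).inv_mem k.2.1)⟩
      rw [h.pos_inf_diagonal, Subgroup.mem_bot] at h3
      rw [h3] at h2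
      rw [Subtype.ext eu, show v = v' from Subtype.ext (inv_mul_eq_one.1 h3).symm,
        show k = k' from Subtype.ext (mul_inv_eq_one.1 h2.symm).symm]
    · rintro ⟨x, hx⟩
      obtain ⟨l, hl, hc, n, hn, d, hd, en, b, hb, u, hu, rfl⟩ := G.decomp hC (G.le_fixed hx)
      have hin : act P l ∈ W1 T := mem_W1.2 ⟨l, hl, hc, rfl⟩
      obtain ⟨⟨hl', -⟩, hf⟩ := hwd _ hin
      have heq := (h.act_eq_iff hl' hl).1 hf
      obtain ⟨hm, d', hd', em⟩ := hrep _ hin
      set n' := rep (act P l)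
      have hk : n * n'⁻¹ ∈ D.diagonalSubgroup F := by
        have h1 := mul_mem (mul_mem (h.mem_diagonal_of_wl_eq (F := F) hl' hl heq) hd) (inv_mem hd')
        have h2 := (Subgroup.mem_normalizer_iff.1 (h.nW_normalizer (F := F) _ hl') _).1 h1
        convert h2 using 1
        rw [en, em]
        group
      have hbk : b * (n * n'⁻¹) ∈ D.borelSubgroup F := mul_mem hb.1 (Subgroup.mem_sup_right hk)
      have hbkf : b * (n * n'⁻¹) ∈ T.fixed :=
        mul_mem hb.2 (mul_mem (G.le_fixed hn) (inv_mem (G.le_fixed hm)))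
      obtain ⟨v, hv, k, hk', ebk⟩ := borel_fixed hC hbk (T.mem_fixed.1 hbkf).2
      refine ⟨⟨⟨_, hin⟩, (⟨v, hv⟩, ⟨k, hk'⟩), ⟨u, G.Uw_congr heq ▸ hu⟩⟩, Subtype.ext ?_⟩
      show v * k * n' * u = b * n * u
      rw [← ebk]; group
  haveI : Finite (GL D.Idx F) := inferInstance
  rw [← Nat.card_eq_of_bijective Φ hΦ, Nat.card_sigma, Finset.mul_sum, ← Finset.sum_coe_sort (W1 T)]
  refine Finset.sum_congr rfl fun f _ => ?_
  obtain ⟨⟨hl, hc⟩, hf⟩ := hwd _ f.2
  rw [Nat.card_prod, Nat.card_prod, hg _ hl hc, ← cntF_act h hl, hf]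

end TwistGrp

end Cfsg.Agent.Chev
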