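/-
Enumeration of a fixed Weyl group by certified keys.
-/
import Cfsg.Agent.Lib.Chev.TwistGroup

set_option autoImplicit false

namespace Cfsg.Agent.Chev

open Cfsg.Lie

/-- Search trees of numbers. -/
inductive KTree where
  | leaf : KTree
  | node : KTree → ℕ → KTree → KTree

namespace KTree

/-- Membership test. -/
def mem (k : ℕ) : KTree → Bool
  | .leaf => false
  | .node l x r => bif Nat.beq k x then true else bif Nat.blt k x then l.mem k else r.mem k

/-- The entries in order. -/
def toList : KTree → List ℕ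
  | .leaf => []
  | .node l x r => l.toList ++ x :: r.toList

theorem mem_toList {k : ℕ} : ∀ {t : KTree}, t.mem k = true → k ∈ t.toList
  | .leaf, h => by simp [mem] at h
  | .node l x r, h => by
    simp only [mem] at h
    cases h1 : Nat.beq k x
    · rw [h1] at h
      simp only [cond_false] at h
      cases h2 : Nat.blt k x <;> rw [h2] at h <;> simp only [cond_false, cond_true] at h
      · simp [toList, mem_toList h]
      · simp [toList, mem_toList h]
    · simp [toList, Nat.eq_of_beq_eq_true h1]

/-- A list is strictly increasing. -/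
def incr : List ℕ → Bool
  | [] => true
  | [_] => true
  | a :: b :: l => Nat.blt a b && incr (b :: l)

theorem incr_pairwise : ∀ {l : List ℕ}, incr l = true → l.Pairwise (· < ·)
  | [], _ => List.Pairwise.nil
  | [a], _ => List.pairwise_singleton _ a
  | a :: b :: l, h => by
    simp only [incr, Bool.and_eq_true, Nat.blt_eq] at h
    have ih := incr_pairwise h.2
    refine List.pairwise_cons.2 ⟨fun x hx => ?_, ih⟩
    rcases List.mem_cons.1 hx with rfl | hx
    · exact h.1
    · exact lt_trans h.1 ((List.pairwise_cons.1 ih).1 x hx)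

end KTree

/-- The key of a word: its images of the fundamental roots in base 256. -/
def wkey (P : Pk) (l : List ℕ) : ℕ :=
  ((List.range P.rank).map fun i => wl P l (P.sim i)).foldr (fun x acc => x + 256 * acc) 0

/-- The word of a list of orbit numbers. -/
def orbWord (orbs : List (List ℕ × List ℕ)) (w : List ℕ) : List ℕ :=
  w.flatMap fun k => (orbs.getD k ([], [])).2

/-- The certificate: the keys of the words form the tree, which is closed under the generators. -/
def ckEnum (P : Pk) (orbs : List (List ℕ × List ℕ)) (L : List (List ℕ)) (t : KTree) : Bool :=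
  (L.map fun w => wkey P (orbWord orbs w)) == t.toList && KTree.incr t.toList && t.mem (wkey P []) &&
  (L.all fun w => orbs.all fun o => t.mem (wkey P (orbWord orbs w ++ o.2)))

/-- The number of positive roots made negative, computably. -/
def cntL (P : Pk) (l : List ℕ) : ℕ :=
  (P.allRoots.filter fun r => P.isPos r && !P.isPos (wl P l r)).length

theorem foldr_base_inj : ∀ {a b : List ℕ}, a.length = b.length → (∀ x ∈ a, x < 256) → (∀ x ∈ b, x < 256) →
    a.foldr (fun x acc => x + 256 * acc) 0 = b.foldr (fun x acc => x + 256 * acc) 0 → a = b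
  | [], [], _, _, _, _ => rfl
  | x :: a, y :: b, hl, ha, hb, e => by
    simp only [List.foldr_cons] at e
    have hx := ha x List.mem_cons_self
    have hy := hb y List.mem_cons_self
    have h1 : x = y := by omega
    subst h1
    rw [foldr_base_inj (Nat.succ_injective hl) (fun z hz => ha z (List.mem_cons_of_mem _ hz))
      (fun z hz => hb z (List.mem_cons_of_mem _ hz)) (by omega)]

namespace Ok

variable {D : ChevalleyDatum} {P : Pk} (h : Ok D P)
include h

theorem wkey_inj {l l' : List ℕ} (hl : WordOk P l) (hl' : WordOk P l') (e : wkey P l = wkey P l') :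
    ∀ r < P.nroots, wl P l r = wl P l' r := by
  have hlt : ∀ l, WordOk P l → ∀ x ∈ (List.range P.rank).map (fun i => wl P l (P.sim i)), x < 256 := by
    intro l hl x hx
    obtain ⟨i, hi, rfl⟩ := List.mem_map.1 hx
    exact lt_trans (h.wl_lt l hl _ (h.sim_lt (List.mem_range.1 hi))) h.n_lt
  have h1 := foldr_base_inj (by simp) (hlt l hl) (hlt l' hl') e
  intro r hr
  refine h.rv_inj (h.wl_lt l hl r hr) (h.wl_lt l' hl' r hr) fun m hm => ?_
  rw [h.rv_wl l hl r hr m hm, h.rv_wl l' hl' r hr m hm]
  refine Finset.sum_congr rfl fun k hk => ?_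
  rw [List.map_inj_left.1 h1 k (List.mem_range.2 (Finset.mem_range.1 hk))]

theorem wkey_congr {l l' : List ℕ} (e : ∀ r < P.nroots, wl P l r = wl P l' r) : wkey P l = wkey P l' := by
  unfold wkey
  rw [List.map_congr_left fun i hi => e _ (h.sim_lt (List.mem_range.1 hi))]

theorem cntL_eq (l : List ℕ) : cntL P l = Twist.cnt P l := by
  classical
  have hs : {r | negS P l r} = ↑((P.allRoots.filter fun r => P.isPos r && !P.isPos (wl P l r)).toFinset) := by
    ext r
    simp only [negS, Set.mem_setOf_eq, Finset.mem_coe, List.mem_toFinset, List.mem_filter, Pk.mem_allRoots,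
      Bool.and_eq_true, Bool.not_eq_true']
    exact ⟨fun hr => ⟨(P.isPos_iff.1 hr.1).2, hr⟩, fun hr => hr.2⟩
  rw [Twist.cnt, hs, Set.ncard_coe_finset, cntL, Pk.allRoots, List.toFinset_card_of_nodup (List.nodup_range.filter _)]

end Ok

namespace TwistGrp

variable {D : ChevalleyDatum} {P : Pk} {h : Ok D P} {F : Type*} [Field F] {T : Twist h F}

theorem sum_W1 (O : T.Orbits) {orbs : List (List ℕ × List ℕ)} (hO : O.orbs = orbs) {L : List (List ℕ)}
    {t : KTree} (hck : ckEnum P orbs L t = true) (g : ℕ → ℕ) :
    ∑ f ∈ W1 T, g (cntF P f) = (L.map fun w => g (cntL P (orbWord orbs w))).sum := by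
  classical
  simp only [ckEnum, Bool.and_eq_true, beq_iff_eq, List.all_eq_true] at hck
  obtain ⟨⟨⟨hkeys, hincr⟩, hid⟩, hclosed⟩ := hck
  subst hO
  have hcomm : ∀ w : List ℕ, WordOk P (orbWord O.orbs w) ∧ T.Comm (orbWord O.orbs w) := by
    intro w
    induction w with
    | nil => exact ⟨fun _ hx => absurd hx List.not_mem_nil, fun r _ => rfl⟩
    | cons k w ih =>
      have hk : WordOk P (O.orbs.getD k ([], [])).2 ∧ T.Comm (O.orbs.getD k ([], [])).2 := by
        by_cases hk : k < O.orbs.length
        · have hm : O.orbs.getD k ([], []) ∈ O.orbs := by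
            rw [List.getD_eq_getElem _ _ hk]; exact List.getElem_mem hk
          exact ⟨(O.spec hm).1.1, (O.spec hm).2.2.2⟩
        · rw [List.getD_eq_default _ _ (Nat.le_of_not_lt hk)]
          exact ⟨fun _ hx => absurd hx List.not_mem_nil, fun r _ => rfl⟩
      show WordOk P (_ ++ orbWord O.orbs w) ∧ T.Comm (_ ++ orbWord O.orbs w)
      refine ⟨fun x hx => ?_, fun r hr => ?_⟩
      · rcases List.mem_append.1 hx with a | a
        exacts [hk.1 x a, ih.1 x a]
      · rw [wl_append, wl_append, ih.2 r hr, hk.2 _ (h.wl_lt _ ih.1 r hr)]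
  have hmem : ∀ l, WordOk P l → T.Comm l → ∃ w ∈ L, ∀ r < P.nroots, wl P l r = wl P (orbWord O.orbs w) r := by
    have hfind : ∀ l, WordOk P l → t.mem (wkey P l) = true →
        ∃ w ∈ L, ∀ r < P.nroots, wl P l r = wl P (orbWord O.orbs w) r := by
      intro l hl hm
      have hm' := KTree.mem_toList hm
      rw [← hkeys] at hm'
      obtain ⟨w, hw, e⟩ := List.mem_map.1 hm'
      exact ⟨w, hw, h.wkey_inj hl (hcomm w).1 e.symm⟩
    intro l hl hc
    refine O.comm_induction (Q := fun l => ∃ w ∈ L, ∀ r < P.nroots, wl P l r = wl P (orbWord O.orbs w) r)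
      (fun l hl htriv => ?_) (fun o ho l l' hl hl' hc' hpos e ih => ?_) l hl hc
    · exact hfind l hl (by rwa [h.wkey_congr (l := l) (l' := []) htriv])
    · obtain ⟨w, hw, ew⟩ := ih
      refine hfind l hl ?_
      rw [h.wkey_congr (l' := orbWord O.orbs w ++ o.2) fun r hr => by
        rw [e r hr, wl_append, wl_append, ew _ (h.wl_lt _ (O.spec ho).1.1 r hr)]]
      exact hclosed w hw o ho
  have hnd : (L.map fun w => act P (orbWord O.orbs w)).Nodup := by
    have h1 : (L.map fun w => wkey P (orbWord O.orbs w)).Pairwise (· ≠ ·) := by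
      rw [hkeys]; exact (KTree.incr_pairwise hincr).imp fun hh => Nat.ne_of_lt hh
    rw [List.pairwise_map] at h1
    refine List.pairwise_map.2 (h1.imp fun {a b} hab e => hab ?_)
    exact h.wkey_congr ((h.act_eq_iff (hcomm a).1 (hcomm b).1).1 e)
  have hset : W1 T = (L.map fun w => act P (orbWord O.orbs w)).toFinset := by
    ext f
    rw [mem_W1, List.mem_toFinset, List.mem_map]
    constructor
    · rintro ⟨l, hl, hc, rfl⟩
      obtain ⟨w, hw, e⟩ := hmem l hl hc
      exact ⟨w, hw, ((h.act_eq_iff hl (hcomm w).1).2 e).symm⟩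
    · rintro ⟨w, -, rfl⟩
      exact ⟨_, (hcomm w).1, (hcomm w).2, rfl⟩
  rw [hset, List.sum_toFinset _ hnd, List.map_map]
  refine congrArg List.sum (List.map_congr_left fun w _ => ?_)
  show g (cntF P (act P (orbWord O.orbs w))) = _
  rw [cntF_act h (hcomm w).1, h.cntL_eq]

end TwistGrp

end Cfsg.Agent.Chev
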