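/-
Certified enumeration of the fixed Weyl group inside type D4 (generated).
-/
import Cfsg.Agent.Lib.Chev.TwistEnum
import Cfsg.Agent.Lib.Chev.Check.D4

set_option autoImplicit false
set_option maxRecDepth 20000

namespace Cfsg.Agent.Chev.D4

/-- The node orbits. -/
def orbsT : List (List ℕ × List ℕ) := [([1], [1]), ([0, 2, 3], [0, 2, 3])]

/-- Words (part). -/
def enumL0 : List (List ℕ) := [[0, 1, 0, 1], [1, 0, 1], [1, 0, 1, 0, 1], [0, 1], [0, 1, 0, 1, 0, 1], [1], [0, 1, 0, 1, 0], [], [1, 0, 1, 0], [0], [0, 1, 0], [1, 0]]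

/-- Words. -/
def enumL : List (List ℕ) := enumL0

/-- Keys. -/
def enumTr : KTree := (.node (.node (.node (.node .leaf 33756678 .leaf) 33756934 (.node .leaf 134680068 .leaf)) 134682372 (.node (.node .leaf 185207045 .leaf) 185210373 .leaf)) 202178834 (.node (.node (.node .leaf 202182162 .leaf) 252706835 .leaf) 252709139 (.node (.node .leaf 353632273 .leaf) 353632529 .leaf)))

theorem ckEnumT : ckEnum pk orbsT enumL enumTr = true := by decide +kernel

/-- The lengths. -/
theorem psumT : psum (enumL.map fun w => cntL pk (orbWord orbsT w)) =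
    [1, 1, 0, 1, 2, 1, 0, 1, 2, 1, 0, 1, 1] := by decide +kernel

end Cfsg.Agent.Chev.D4
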