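/-
`N/H` is the Coxeter group of the type.
-/
import Cfsg.Agent.Lib.Chev.Order
import Cfsg.Agent.S0320
import Cfsg.Agent.Lib.Chev.AllC

set_option autoImplicit false

namespace Cfsg.Agent.BN

open Cfsg.Agent

variable {G : Type*} [Group G] (P : Cfsg.BNPair G)

/-- The Coxeter system of a (B,N)-pair, for the matrix of orders of products of generators. -/
noncomputable def coxSystem : CoxeterSystem (S0320.cox P) (W P) := by
  have hf : (S0320.cox P).IsLiftable (g P) := fun s t => pow_orderOf_eq_one _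
  let φ := (S0320.cox P).toCoxeterSystem.lift ⟨g P, hf⟩
  have hφ : ∀ l, φ (S0320.cp P l) = wp P l := by
    intro l
    rw [S0320.cp, map_list_prod, List.map_map]
    unfold wp
    congr 1
    apply List.map_congr_left
    intro s _
    exact (S0320.cox P).toCoxeterSystem.lift_apply_simple hf s
  have hsurj : Function.Surjective φ := fun w => by
    obtain ⟨l, rfl⟩ := exists_word P w
    exact ⟨_, hφ l⟩
  have hinj : Function.Injective φ := by
    rw [injective_iff_map_eq_one]
    intro x hx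
    obtain ⟨l, rfl⟩ : ∃ l, S0320.cp P l = x := by
      refine (S0320.cox P).toCoxeterSystem.simple_induction_left
        (p := fun y => ∃ l, S0320.cp P l = y) x ⟨[], rfl⟩ ?_
      rintro w i ⟨l, rfl⟩
      exact ⟨i :: l, by simp [S0320.cp]⟩
    obtain ⟨l', hl', he, hc⟩ := S0320.cp_reduced P l
    rw [hφ, ← he] at hx
    rw [Reduced, hx, len_one, eq_comm, List.length_eq_zero_iff] at hl'
    subst hl'
    exact hc.symm
  exact ⟨(MulEquiv.ofBijective φ ⟨hinj, hsurj⟩).symm⟩

theorem coxSystem_simple (s : P.S) : (coxSystem P).simple s = g P s :=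
  (S0320.cox P).toCoxeterSystem.lift_apply_simple
    (show (S0320.cox P).IsLiftable (g P) from fun s t => pow_orderOf_eq_one _) s

end Cfsg.Agent.BN

namespace Cfsg.Agent.Chev

open Cfsg.Lie

/-- `k`-fold iterate of a word. -/
def wpow (P : Pk) (l : List ℕ) : ℕ → ℕ → ℕ
  | 0, r => r
  | k + 1, r => wl P l (wpow P l k r)

/-- A word has order exactly `m` on the roots. -/
def ckOrd (P : Pk) (l : List ℕ) (m : ℕ) : Bool :=
  Nat.blt 0 m && (l.all fun i => Nat.blt i P.rank) && (P.allRoots.all fun r => Nat.beq (wpow P l m r) r) &&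
    (List.range m).all fun k => Nat.beq k 0 || P.allRoots.any fun r => !Nat.beq (wpow P l k r) r

/-- The orders of the products of two fundamental reflections are given by a matrix. -/
def ckCox (P : Pk) {n : ℕ} (M : Matrix (Fin n) (Fin n) ℕ) : Bool :=
  Nat.beq n P.rank && (List.finRange n).all fun i => (List.finRange n).all fun j =>
    ckOrd P [i.val, j.val] (M i j)

theorem wpow_eq (P : Pk) (l : List ℕ) : ∀ k r, wpow P l k r = wl P (List.replicate k l).flatten r
  | 0, _ => rfl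
  | k + 1, r => by rw [wpow, wpow_eq P l k, List.replicate_succ, List.flatten_cons, wl_append]

namespace Ok

variable {D : ChevalleyDatum} {P : Pk} {F : Type*} [Field F] (h : Ok D P) (hC : P.ckComm = true)
include h

/-- The class of a word in the Weyl group of the (B,N)-pair. -/
def wcl {l : List ℕ} (hl : WordOk P l) : BN.W (h.bnPair (F := F) hC) :=
  BN.cl _ ⟨⟨h.nW l, h.monomial_le_group (h.nW_mem l hl)⟩, Subgroup.mem_subgroupOf.2 (h.nW_mem l hl)⟩

theorem wcl_mul {l l' : List ℕ} (hl : WordOk P l) (hl' : WordOk P l') (hll : WordOk P (l ++ l')) :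
    h.wcl (F := F) hC hl * h.wcl hC hl' = h.wcl hC hll := by
  rw [wcl, wcl, wcl, BN.cl, ← QuotientGroup.mk_mul]
  refine congrArg _ (Subtype.ext (Subtype.ext ?_))
  simp [h.nW_append]

theorem wcl_eq_iff {l l' : List ℕ} (hl : WordOk P l) (hl' : WordOk P l') :
    h.wcl (F := F) hC hl = h.wcl hC hl' ↔ ∀ r < P.nroots, wl P l r = wl P l' r := by
  rw [wcl, wcl, BN.cl_eq_iff]
  constructor
  · intro e r hr
    refine h.wl_eq_of_mem (F := F) hl hl' ?_ hr
    have e' : (h.nW (F := F) l)⁻¹ * h.nW l' ∈ D.borelSubgroup F := Subgroup.mem_subgroupOf.1 e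
    rw [← h.borel_inf_monomial]
    exact Subgroup.mem_inf.2 ⟨e', mul_mem (inv_mem (h.nW_mem l hl)) (h.nW_mem l' hl')⟩
  · intro e
    exact Subgroup.mem_subgroupOf.2 (Subgroup.mem_sup_right (h.mem_diagonal_of_wl_eq hl hl' e))

theorem wcl_nil : h.wcl (F := F) hC (l := []) (fun _ hx => absurd hx List.not_mem_nil) = 1 := rfl

theorem wordOk_flatten {l : List ℕ} (hl : WordOk P l) (k : ℕ) : WordOk P (List.replicate k l).flatten := by
  intro x hx
  obtain ⟨l', hl', hx'⟩ := List.mem_flatten.1 hx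
  exact hl x (List.eq_of_mem_replicate hl' ▸ hx')

theorem wcl_pow {l : List ℕ} (hl : WordOk P l) : ∀ k,
    h.wcl (F := F) hC hl ^ k = h.wcl hC (h.wordOk_flatten hl k)
  | 0 => by simp [wcl]; rfl
  | k + 1 => by
    rw [pow_succ', wcl_pow hl k, h.wcl_mul hC hl (h.wordOk_flatten hl k)]

theorem orderOf_wcl {l : List ℕ} (hl : WordOk P l) {m : ℕ} (hck : ckOrd P l m = true) :
    orderOf (h.wcl (F := F) hC hl) = m := by
  simp only [ckOrd, Bool.and_eq_true, Nat.blt_eq, List.all_eq_true, Pk.mem_allRoots, nbeq, decide_eq_true_eq,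
    List.mem_range, Bool.or_eq_true, List.any_eq_true, Bool.not_eq_true', decide_eq_false_iff_not] at hck
  obtain ⟨⟨⟨hm, -⟩, hfix⟩, hmove⟩ := hck
  rw [orderOf_eq_iff hm]
  refine ⟨?_, fun k hk hk0 e => ?_⟩
  · rw [h.wcl_pow hC hl]
    refine ((h.wcl_eq_iff hC _ (l' := []) (fun _ hx => absurd hx List.not_mem_nil)).2 fun r hr => ?_).trans
      (h.wcl_nil hC)
    rw [← wpow_eq]
    exact hfix r hr
  · rcases hmove k hk with e0 | ⟨r, hr, hne⟩
    · omega
    · rw [h.wcl_pow hC hl] at e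
      exact hne (by rw [wpow_eq]; exact (h.wcl_eq_iff hC _ _).1 (e.trans (h.wcl_nil hC).symm) r hr)

/-- The enumeration of the distinguished generators. -/
noncomputable def sEquiv : Fin P.rank ≃ (h.bnPair (F := F) hC).S :=
  Equiv.ofInjective h.sG fun i j e => h.sG_inj (by
    rw [show (h.sG (F := F) i)⁻¹ * h.sG j = 1 by rw [e]; exact inv_mul_cancel _]
    exact one_mem _)

theorem g_eq (i : Fin P.rank) : BN.g (h.bnPair (F := F) hC) (h.sEquiv hC i) =
    h.wcl hC (l := [i.val]) (fun x hx => by simp at hx; exact hx ▸ i.isLt) := by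
  unfold BN.g wcl
  exact congrArg _ (Subtype.ext (Subtype.ext (by show h.nG i.val = _; simp [nW])))

theorem cox_eq {n : ℕ} {M : CoxeterMatrix (Fin n)} (hck : ckCox P M.M = true) :
    ∃ e : Fin n ≃ Fin P.rank, (∀ i, (e i).val = i.val) ∧
      M = (S0320.cox (h.bnPair (F := F) hC)).reindex ((h.sEquiv (F := F) hC).symm.trans e.symm) := by
  simp only [ckCox, Bool.and_eq_true, nbeq, decide_eq_true_eq, List.all_eq_true] at hck
  obtain ⟨hn, hord⟩ := hck
  refine ⟨finCongr hn, fun _ => rfl, CoxeterMatrix.ext (Matrix.ext fun i j => ?_)⟩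
  have hl : WordOk P [i.val, j.val] := fun x hx => by
    simp at hx; rcases hx with rfl | rfl
    exacts [hn ▸ i.isLt, hn ▸ j.isLt]
  have := h.orderOf_wcl (F := F) hC hl (hord i (List.mem_finRange i) j (List.mem_finRange j))
  rw [← this]
  symm
  show orderOf _ = orderOf _
  congr 1
  show BN.g _ (h.sEquiv hC _) * BN.g _ (h.sEquiv hC _) = _
  rw [h.g_eq, h.g_eq]
  exact h.wcl_mul hC _ _ hl

theorem exists_hom {n : ℕ} {M : CoxeterMatrix (Fin n)} (hck : ckCox P M.M = true) :
    ∃ e : BN.W (h.bnPair (F := F) hC) ≃* M.Group, ∀ (i : Fin n) (hi : WordOk P [i.val]),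
      e (h.wcl hC hi) = M.simple i := by
  obtain ⟨ef, hef, rfl⟩ := h.cox_eq (F := F) hC hck
  set cs := (BN.coxSystem (h.bnPair (F := F) hC)).reindex ((h.sEquiv (F := F) hC).symm.trans ef.symm)
  refine ⟨cs.mulEquiv, fun i hi => ?_⟩
  have e1 : cs.simple i = h.wcl hC hi := by
    rw [CoxeterSystem.reindex_simple, Equiv.symm_trans_apply, Equiv.symm_symm, Equiv.symm_symm,
      BN.coxSystem_simple, h.g_eq]
    refine (h.wcl_eq_iff hC _ _).2 fun r _ => by rw [hef i]
  rw [← e1]
  exact cs.mulEquiv.apply_symm_apply _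

include hC in
theorem exists_phi {n : ℕ} {M : CoxeterMatrix (Fin n)} (hck : ckCox P M.M = true) :
    ∃ φ : ↥(D.monomialSubgroup F) →* M.Group, Function.Surjective φ ∧
      φ.ker = (D.diagonalSubgroup F).subgroupOf (D.monomialSubgroup F) ∧
      ∀ (i : Fin n) (g : ↥(D.monomialSubgroup F)),
        ((g : GL D.Idx F) : Matrix D.Idx D.Idx F) = D.nMat F (D.simple i) 1 → φ g = M.simple i := by
  set B := h.bnPair (F := F) hC
  obtain ⟨e, he⟩ := h.exists_hom (F := F) hC hck
  let ι : ↥(D.monomialSubgroup F) →* B.N := (Subgroup.subgroupOfEquivOfLe h.monomial_le_group).symm.toMonoidHom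
  refine ⟨e.toMonoidHom.comp ((QuotientGroup.mk' (BN.T B)).comp ι), ?_, ?_, fun i g hg => ?_⟩
  · exact e.surjective.comp ((QuotientGroup.mk'_surjective _).comp (MulEquiv.surjective _))
  · ext g
    rw [MonoidHom.mem_ker, MonoidHom.comp_apply, MonoidHom.comp_apply, MulEquiv.toMonoidHom_eq_coe,
      MonoidHom.coe_coe, MulEquiv.map_eq_one_iff, QuotientGroup.mk'_apply, BN.cl_eq_one_iff,
      Subgroup.mem_subgroupOf, ← h.borel_inf_monomial (F := F)]
    constructor
    · intro hb; exact Subgroup.mem_inf.2 ⟨Subgroup.mem_subgroupOf.1 hb, g.2⟩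
    · intro hb; exact Subgroup.mem_subgroupOf.2 (Subgroup.mem_inf.1 hb).1
  · have hn : n = P.rank := by
      simp only [ckCox, Bool.and_eq_true, nbeq, decide_eq_true_eq] at hck; exact hck.1
    have hi : i.val < P.rank := hn ▸ i.isLt
    rw [h.simple_eq hi, ← h.coe_nt (h.sim_lt hi)] at hg
    have hgi : (g : GL D.Idx F) = h.nW [i.val] := by
      rw [Units.ext hg]; simp [nW, nG]
    rw [← he i fun x hx => by simp at hx; exact hx ▸ hi]
    show e _ = _
    exact congrArg e (congrArg _ (Subtype.ext (Subtype.ext hgi)))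

theorem card_W {J : List ℕ} (hJ : ∀ i < P.rank, i ∈ J) :
    Nat.card (BN.W (h.bnPair (F := F) hC)) = (WJ P J).card := by
  classical
  have hsel : ∀ f ∈ WJ P J, ∃ l, WordOk P l ∧ act P l = f := fun f hf => by
    obtain ⟨l, hl, e⟩ := h.mem_WJ.1 hf
    exact ⟨l, hl.1, e⟩
  choose! wd hwd using hsel
  rw [← Nat.card_eq_finsetCard]
  refine (Nat.card_eq_of_bijective (fun f : WJ P J => h.wcl (F := F) hC (hwd f.1 f.2).1) ⟨?_, ?_⟩).symm
  · intro f g e
    rw [h.wcl_eq_iff hC, ← h.act_eq_iff (hwd f.1 f.2).1 (hwd g.1 g.2).1, (hwd f.1 f.2).2, (hwd g.1 g.2).2] at e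
    exact Subtype.ext e
  · intro w
    obtain ⟨⟨⟨x, hx⟩, hn⟩, rfl⟩ := QuotientGroup.mk_surjective w
    obtain ⟨l, hl, d, hd, e⟩ := h.exists_word_of_mem (Subgroup.mem_subgroupOf.1 hn)
    have hin : act P l ∈ WJ P J := h.mem_WJ.2 ⟨l, ⟨hl, fun i hi => hJ i (hl i hi)⟩, rfl⟩
    refine ⟨⟨_, hin⟩, ?_⟩
    refine ((h.wcl_eq_iff hC (hwd _ hin).1 hl).2 ((h.act_eq_iff (hwd _ hin).1 hl).1 (hwd _ hin).2)).trans ?_
    refine (BN.cl_eq_iff _ _ _).2 (Subgroup.mem_subgroupOf.2 ?_)
    show (h.nW l)⁻¹ * x ∈ D.borelSubgroup F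
    rw [show x = h.nW l * d from e, inv_mul_cancel_left]
    exact Subgroup.mem_sup_right hd

include hC in
theorem card_coxeter {n : ℕ} {M : CoxeterMatrix (Fin n)} (hck : ckCox P M.M = true)
    {J : List ℕ} (hJ : ∀ i < P.rank, i ∈ J) (hO : P.ckOrb J = true) {ds : List ℕ}
    (hp : P.poinP J = pgeom ds) : Nat.card M.Group = ds.prod := by
  obtain ⟨e, -⟩ := h.exists_hom (F := ℚ) hC hck
  rw [← Nat.card_congr e.toEquiv, h.card_W hC hJ]
  have h1 := h.poin_eq J hO 1
  simp only [poin, one_pow, Finset.sum_const, smul_eq_mul, mul_one, hp] at h1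
  rw [h1, pgeom]
  clear h1 hp
  induction ds with
  | nil => rfl
  | cons d ds ih => simp [pev_pmul, pev_replicate, ih]

theorem wcl_range : ∀ (l : List ℕ) (hl : WordOk P l) {n : ℕ} (M : CoxeterMatrix (Fin n))
    (e : BN.W (h.bnPair (F := F) hC) ≃* M.Group) (L : List (Fin n)),
    (∀ (i : Fin n) (hi : WordOk P [i.val]), e (h.wcl hC hi) = M.simple i) → l = L.map Fin.val →
    e (h.wcl hC hl) = (L.map M.simple).prod := by
  intro l hl n M e L he
  induction L generalizing l with
  | nil => intro hl'; subst hl'; exact map_one e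
  | cons i L ih =>
    intro hl'
    subst hl'
    have h1 : WordOk P [i.val] := fun x hx => by simp at hx; exact hx ▸ hl.head
    show e _ = M.simple i * (L.map M.simple).prod
    rw [← he i h1, ← ih _ hl.tail rfl, ← map_mul]
    exact congrArg e (h.wcl_mul hC h1 hl.tail hl).symm

include hC in
theorem coxeter_element {n : ℕ} {M : CoxeterMatrix (Fin n)} (hck : ckCox P M.M = true) {m : ℕ}
    (hm : ckOrd P ((List.finRange n).map Fin.val) m = true) :
    orderOf ((List.finRange n).map M.simple).prod = m := by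
  obtain ⟨e, he⟩ := h.exists_hom (F := ℚ) hC hck
  have hl : WordOk P ((List.finRange n).map Fin.val) := fun x hx => by
    simp only [ckOrd, Bool.and_eq_true, List.all_eq_true, Nat.blt_eq] at hm
    exact hm.1.1.2 x hx
  rw [← h.wcl_range hC _ hl M e _ he rfl, MulEquiv.orderOf_eq]
  exact h.orderOf_wcl hC hl hm

end Ok

end Cfsg.Agent.Chev
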