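/-
Symmetries of the Dynkin diagram acting on the tabulated Lie algebras.
-/
import Cfsg.Agent.Lib.Chev.Unipotent
import Cfsg.Agent.Lib.Chev.Check.D4
import Cfsg.Agent.Lib.Chev.Check.E6

set_option autoImplicit false

namespace Cfsg.Agent.Chev

open Cfsg.Lie
open scoped Matrix

/-- Data of a diagram symmetry on roots, nodes and signs. -/
structure Gph where
  /-- images of the roots -/
  rho : List ℕ
  /-- preimages of the roots -/
  rhoInv : List ℕ
  /-- images of the nodes -/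
  pi : List ℕ
  /-- preimages of the nodes -/
  piInv : List ℕ
  /-- the roots whose sign is negative -/
  negs : List ℕ

namespace Gph

variable (g : Gph)

/-- Image of a root. -/
def rr (r : ℕ) : ℕ := g.rho.getD r r

/-- Preimage of a root. -/
def ri (r : ℕ) : ℕ := g.rhoInv.getD r r

/-- Image of a node. -/
def pp (i : ℕ) : ℕ := g.pi.getD i i

/-- Preimage of a node. -/
def pn (i : ℕ) : ℕ := g.piInv.getD i i

/-- The sign at a root. -/
def eps (r : ℕ) : ℤ := bif g.negs.any (Nat.beq r) then -1 else 1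

/-- Column `c` of the induced map of the Lie algebra. -/
def col (P : Pk) (c : ℕ) : V :=
  bif Nat.blt c P.nroots then [(g.rr c, g.eps c)] else [(P.nroots + g.pp (c - P.nroots), 1)]

/-- Column `c` of the inverse map. -/
def colInv (P : Pk) (c : ℕ) : V :=
  bif Nat.blt c P.nroots then [(g.ri c, g.eps (g.ri c))] else [(P.nroots + g.pn (c - P.nroots), 1)]

/-- Nodes. -/
def ckNodes (P : Pk) : Bool :=
  (List.range P.rank).all fun i => Nat.blt (g.pp i) P.rank && Nat.blt (g.pn i) P.rank &&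
    Nat.beq (g.pn (g.pp i)) i && Nat.beq (g.pp (g.pn i)) i &&
    Nat.beq (g.rr (P.sim i)) (P.sim (g.pp i)) &&
    decide (g.eps (P.sim i) = 1) && decide (g.eps (P.ng (P.sim i)) = 1)

/-- Roots. -/
def ckRootsG (P : Pk) : Bool :=
  P.allRoots.all fun r => Nat.blt (g.rr r) P.nroots && Nat.blt (g.ri r) P.nroots &&
    Nat.beq (g.rr (g.ri r)) r && Nat.beq (g.ri (g.rr r)) r &&
    Nat.beq (g.rr (P.ng r)) (P.ng (g.rr r)) && (P.isPos (g.rr r) == P.isPos r) &&
    (List.range P.rank).all fun i => decide (P.A (g.pp i) (g.rr r) = P.A i r) &&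
      decide (P.co (g.rr r) (g.pp i) = P.co r i) && decide (P.rv (g.rr r) (g.pp i) = P.rv r i)

/-- The map commutes with the root vectors. -/
def ckOps (P : Pk) : Bool :=
  P.allRoots.all fun r => P.allCodes.all fun c =>
    veq (app (g.col P) (P.colL 1 r c)) (scl (g.eps r) (app (P.colL 1 (g.rr r)) (g.col P c)))

/-- All checks. -/
def ckG (P : Pk) : Bool := g.ckNodes P && g.ckRootsG P && g.ckOps P

end Gph

/-- Graph symmetry data E6. -/
def gE6 : Gph where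
  rho := [0, 1, 2, 5, 16, 3, 6, 17, 8, 19, 22, 11, 26, 30, 33, 35, 4, 7, 18, 9, 20, 23, 10, 21, 24, 25, 12, 27, 31, 34, 13, 28, 32, 14, 29, 15, 56, 42, 57, 39, 43, 58, 37, 40, 44, 59, 46, 47, 50, 61, 48, 51, 62, 53, 64, 67, 36, 38, 41, 45, 60, 49, 52, 63, 54, 65, 68, 55, 66, 69, 70, 71]
  rhoInv := [0, 1, 2, 5, 16, 3, 6, 17, 8, 19, 22, 11, 26, 30, 33, 35, 4, 7, 18, 9, 20, 23, 10, 21, 24, 25, 12, 27, 31, 34, 13, 28, 32, 14, 29, 15, 56, 42, 57, 39, 43, 58, 37, 40, 44, 59, 46, 47, 50, 61, 48, 51, 62, 53, 64, 67, 36, 38, 41, 45, 60, 49, 52, 63, 54, 65, 68, 55, 66, 69, 70, 71]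
  pi := [5, 1, 4, 3, 2, 0]
  piInv := [5, 1, 4, 3, 2, 0]
  negs := [4, 7, 9, 10, 12, 14, 16, 17, 19, 22, 26, 28, 31, 33, 38, 40, 43, 45, 49, 52, 54, 55, 57, 59, 61, 62, 64, 67]

/-- Graph symmetry data D4a. -/
def gD4a : Gph where
  rho := [0, 1, 6, 2, 7, 10, 3, 8, 4, 9, 11, 5, 18, 12, 14, 19, 15, 20, 13, 16, 21, 17, 22, 23]
  rhoInv := [0, 1, 3, 6, 8, 11, 2, 4, 7, 9, 5, 10, 13, 18, 14, 16, 19, 21, 12, 15, 17, 20, 22, 23]
  pi := [2, 1, 3, 0]
  piInv := [3, 1, 0, 2]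
  negs := [2, 4, 6, 8, 15, 17, 19, 21]

/-- Graph symmetry data D4b. -/
def gD4b : Gph where
  rho := [0, 1, 3, 6, 8, 11, 2, 4, 7, 9, 5, 10, 13, 18, 14, 16, 19, 21, 12, 15, 17, 20, 22, 23]
  rhoInv := [0, 1, 6, 2, 7, 10, 3, 8, 4, 9, 11, 5, 18, 12, 14, 19, 15, 20, 13, 16, 21, 17, 22, 23]
  pi := [3, 1, 0, 2]
  piInv := [2, 1, 3, 0]
  negs := [3, 4, 6, 7, 16, 17, 19, 20]

/-- Graph symmetry data D4s. -/
def gD4s : Gph where
  rho := [0, 1, 2, 6, 7, 10, 3, 4, 8, 9, 5, 11, 12, 18, 14, 15, 19, 20, 13, 16, 17, 21, 22, 23]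
  rhoInv := [0, 1, 2, 6, 7, 10, 3, 4, 8, 9, 5, 11, 12, 18, 14, 15, 19, 20, 13, 16, 17, 21, 22, 23]
  pi := [2, 1, 0, 3]
  piInv := [2, 1, 0, 3]
  negs := [3, 4, 6, 7, 16, 17, 19, 20]

theorem ckG_E6 : gE6.ckG E6.pk = true := by decide +kernel
theorem ckG_D4a : gD4a.ckG D4.pk = true := by decide +kernel
theorem ckG_D4b : gD4b.ckG D4.pk = true := by decide +kernel
theorem ckG_D4s : gD4s.ckG D4.pk = true := by decide +kernel

variable {D : ChevalleyDatum} {P : Pk} {F : Type*} [Field F] {g : Gph}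

namespace Ok

variable (h : Ok D P) (hg : g.ckG P = true)
include h hg

theorem gnode {i : ℕ} (hi : i < P.rank) :
    g.pp i < P.rank ∧ g.pn i < P.rank ∧ g.pn (g.pp i) = i ∧ g.pp (g.pn i) = i ∧
      g.rr (P.sim i) = P.sim (g.pp i) ∧ g.eps (P.sim i) = 1 ∧ g.eps (P.ng (P.sim i)) = 1 := by
  simp only [Gph.ckG, Gph.ckNodes, Bool.and_eq_true, List.all_eq_true, List.mem_range, nbeq,
    decide_eq_true_eq, Nat.blt_eq] at hg
  obtain ⟨⟨⟨⟨⟨⟨a, b⟩, c⟩, d⟩, e⟩, f⟩, k⟩ := hg.1.1 i hi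
  exact ⟨a, b, c, d, e, f, k⟩

theorem groot {r : ℕ} (hr : r < P.nroots) :
    g.rr r < P.nroots ∧ g.ri r < P.nroots ∧ g.rr (g.ri r) = r ∧ g.ri (g.rr r) = r ∧
      g.rr (P.ng r) = P.ng (g.rr r) ∧ P.isPos (g.rr r) = P.isPos r ∧
      ∀ i < P.rank, P.A (g.pp i) (g.rr r) = P.A i r ∧ P.co (g.rr r) (g.pp i) = P.co r i ∧
        P.rv (g.rr r) (g.pp i) = P.rv r i := by
  simp only [Gph.ckG, Gph.ckRootsG, Bool.and_eq_true, List.all_eq_true, List.mem_range, nbeq,
    decide_eq_true_eq, Nat.blt_eq, Pk.mem_allRoots, beq_iff_eq] at hg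
  obtain ⟨⟨⟨⟨⟨⟨a, b⟩, c⟩, d⟩, e⟩, f⟩, k⟩ := hg.1.2 r hr
  exact ⟨a, b, c, d, e, f, fun i hi => ⟨(k i hi).1.1, (k i hi).1.2, (k i hi).2⟩⟩

omit h hg in
theorem geps_sq (r : ℕ) : g.eps r * g.eps r = 1 := by
  unfold Gph.eps
  cases g.negs.any (Nat.beq r) <;> rfl

theorem valid_gcol {c : ℕ} (hc : c < P.dim) : Valid P (g.col P c) := by
  unfold Gph.col
  by_cases hn : c < P.nroots
  · have := (h.groot hg hn).1
    simp [blt_t hn, Valid, Pk.dim]; omega
  · have := (h.gnode hg (i := c - P.nroots) (by simp [Pk.dim] at hc; omega)).1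
    simp [blt_f hn, Valid, Pk.dim]; omega

theorem valid_gcolInv {c : ℕ} (hc : c < P.dim) : Valid P (g.colInv P c) := by
  unfold Gph.colInv
  by_cases hn : c < P.nroots
  · have := (h.groot hg hn).2.1
    simp [blt_t hn, Valid, Pk.dim]; omega
  · have := (h.gnode hg (i := c - P.nroots) (by simp [Pk.dim] at hc; omega)).2.1
    simp [blt_f hn, Valid, Pk.dim]; omega

theorem gcol_mul :
    opM D P (g.col P) * opM D P (g.colInv P) = 1 ∧ opM D P (g.colInv P) * opM D P (g.col P) = 1 := by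
  have one : opM D P (fun c => [(c, (1 : ℤ))]) = 1 := by rw [← h.Ek_zero 0]; rfl
  rw [h.opM_mul _ _ fun c hc => h.valid_gcolInv hg hc, h.opM_mul _ _ fun c hc => h.valid_gcol hg hc, ← one]
  constructor <;> refine h.opM_ext fun c hc k _ => ?_ <;> unfold Gph.col Gph.colInv <;>
    by_cases hn : c < P.nroots
  · obtain ⟨-, h1, h2, -⟩ := h.groot hg hn
    simp [blt_t hn, app_cons, app_nil, blt_t h1, scl, h2, geps_sq]
  · have hi : c - P.nroots < P.rank := by simp [Pk.dim] at hc; omega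
    obtain ⟨-, h1, -, h2, -⟩ := h.gnode hg hi
    simp [blt_f hn, app_cons, app_nil, scl, h2,
      blt_f (show ¬ P.nroots + g.pn (c - P.nroots) < P.nroots by omega), blt_f (show ¬ P.nroots + g.pp (c - P.nroots) < P.nroots by omega),
      show P.nroots + (c - P.nroots) = c by omega]
  · obtain ⟨h1, -, -, h2, -⟩ := h.groot hg hn
    simp [blt_t hn, app_cons, app_nil, blt_t h1, scl, h2, geps_sq]
  · have hi : c - P.nroots < P.rank := by simp [Pk.dim] at hc; omega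
    obtain ⟨h1, -, h2, -⟩ := h.gnode hg hi
    simp [blt_f hn, app_cons, app_nil, scl, h2,
      blt_f (show ¬ P.nroots + g.pn (c - P.nroots) < P.nroots by omega), blt_f (show ¬ P.nroots + g.pp (c - P.nroots) < P.nroots by omega),
      show P.nroots + (c - P.nroots) = c by omega]

theorem gEk_one {r : ℕ} (hr : r < P.nroots) :
    opM D P (g.col P) * Ek D P 1 r = g.eps r • (Ek D P 1 (g.rr r) * opM D P (g.col P)) := by
  rw [Ek, Ek, h.opM_mul _ _ fun c hc => h.valid_colL hr hc,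
    h.opM_mul _ _ fun c hc => h.valid_gcol hg hc]
  ext row col
  rw [Matrix.smul_apply, opM_apply, opM_apply, smul_eq_mul, ← cf_scl]
  simp only [Gph.ckG, Gph.ckOps, Bool.and_eq_true, List.all_eq_true, Pk.mem_allRoots, Pk.mem_allCodes] at hg
  exact veq_cf (hg.2 r hr _ (h.code_lt col)) _

theorem gEk {r : ℕ} (hr : r < P.nroots) (k : ℕ) :
    opM D P (g.col P) * Ek D P k r = (g.eps r ^ k) • (Ek D P k (g.rr r) * opM D P (g.col P)) := by
  induction k with
  | zero => simp [h.Ek_zero]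
  | succ k ih =>
    apply smul_right_injective (Matrix D.Idx D.Idx ℤ) (show ((k : ℤ) + 1) ≠ 0 by omega)
    show ((k : ℤ) + 1) • _ = ((k : ℤ) + 1) • _
    rw [← mul_smul_comm, ← h.Ek_succ hr, ← mul_assoc, h.gEk_one hg hr, smul_mul_assoc, mul_assoc,
      ih, mul_smul_comm, smul_smul, ← mul_assoc, h.Ek_succ (h.groot hg hr).1, smul_mul_assoc, smul_smul,
      smul_smul, pow_succ]
    congr 1; ring

/-- The map of the Lie algebra attached to a diagram symmetry. -/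
def gT : GL D.Idx F where
  val := cM D F (opM D P (g.col P))
  inv := cM D F (opM D P (g.colInv P))
  val_inv := by rw [← map_mul, (h.gcol_mul hg).1, map_one]
  inv_val := by rw [← map_mul, (h.gcol_mul hg).2, map_one]

theorem gT_xG {r : ℕ} (hr : r < P.nroots) (t : F) :
    h.gT hg * h.xG r t * (h.gT hg)⁻¹ = h.xG (g.rr r) ((g.eps r : F) * t) := by
  rw [mul_inv_eq_iff_eq_mul]
  apply Units.ext
  rw [Units.val_mul, Units.val_mul, h.coe_xG' hr, h.coe_xG' (h.groot hg hr).1]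
  show cM D F (opM D P (g.col P)) * _ = _ * cM D F (opM D P (g.col P))
  simp only [X, Finset.mul_sum, Finset.sum_mul, mul_smul_comm, smul_mul_assoc, ← map_mul,
    h.gEk hg hr, cM_smul, smul_smul, Int.cast_pow]
  exact Finset.sum_congr rfl fun k _ => by rw [mul_pow, mul_comm]

theorem gT_xG_inv {r : ℕ} (hr : r < P.nroots) (t : F) :
    (h.gT hg)⁻¹ * h.xG r t * h.gT hg = h.xG (g.ri r) ((g.eps (g.ri r) : F) * t) := by
  obtain ⟨-, h1, h2, -⟩ := h.groot hg hr
  have e := h.gT_xG hg h1 ((g.eps (g.ri r) : F) * t)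
  rw [h2, ← mul_assoc, ← Int.cast_mul, geps_sq, Int.cast_one, one_mul] at e
  rw [← e]
  group

theorem gT_normalizes : h.gT (F := F) hg ∈ Subgroup.normalizer (D.group F : Set (GL D.Idx F)) := by
  have h1 : D.group F ≤ (D.group F).comap (MulAut.conj (h.gT hg)).toMonoidHom := by
    refine h.group_le fun r hr t => ?_
    rw [Subgroup.mem_comap, MulEquiv.toMonoidHom_eq_coe, MonoidHom.coe_coe, MulAut.conj_apply,
      h.gT_xG hg hr]
    exact h.mem_group_of_xG _ _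
  have h2 : D.group F ≤ (D.group F).comap (MulAut.conj (h.gT hg)⁻¹).toMonoidHom := by
    refine h.group_le fun r hr t => ?_
    rw [Subgroup.mem_comap, MulEquiv.toMonoidHom_eq_coe, MonoidHom.coe_coe, MulAut.conj_apply,
      inv_inv, h.gT_xG_inv hg hr]
    exact h.mem_group_of_xG _ _
  refine Subgroup.mem_normalizer_iff.2 fun x => ⟨fun hx => ?_, fun hx => ?_⟩
  · simpa using h1 hx
  · simpa [mul_assoc] using h2 hx

/-- The graph automorphism of the Chevalley group. -/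
def gAut : MulAut ↥(D.group F) where
  toFun x := ⟨h.gT hg * (x : GL D.Idx F) * (h.gT hg)⁻¹, (Subgroup.mem_normalizer_iff.1 (h.gT_normalizes hg) _).1 x.2⟩
  invFun x := ⟨(h.gT hg)⁻¹ * (x : GL D.Idx F) * h.gT hg,
    (Subgroup.mem_normalizer_iff.1 (h.gT_normalizes hg) _).2 (by simp [mul_assoc])⟩
  left_inv x := by ext1; simp [mul_assoc]
  right_inv x := by ext1; simp [mul_assoc]
  map_mul' x y := by ext1; simp [mul_assoc]

theorem coe_gAut (x : ↥(D.group F)) :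
    (h.gAut hg x : GL D.Idx F) = h.gT hg * (x : GL D.Idx F) * (h.gT hg)⁻¹ := rfl

theorem gAut_spec (x : ↥(D.group F)) {i : ℕ} (hi : i < D.rank) (t : F) :
    (((x : GL D.Idx F) : Matrix D.Idx D.Idx F) = D.x F (D.simple i) t →
      ((h.gAut hg x : GL D.Idx F) : Matrix D.Idx D.Idx F) = D.x F (D.simple (g.pp i)) t) ∧
    (((x : GL D.Idx F) : Matrix D.Idx D.Idx F) = D.x F (D.neg (D.simple i)) t →
      ((h.gAut hg x : GL D.Idx F) : Matrix D.Idx D.Idx F) = D.x F (D.neg (D.simple (g.pp i))) t) := by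
  rw [h.rank] at hi
  obtain ⟨h1, -, -, -, h2, h3, h4⟩ := h.gnode hg hi
  rw [h.simple_eq hi, h.simple_eq h1, h.neg_eq (h.sim_lt hi), h.neg_eq (h.sim_lt h1)]
  constructor <;> intro e <;> rw [h.coe_gAut, h.eq_xG_iff.1 e]
  · rw [h.gT_xG hg (h.sim_lt hi), h2, h3, Int.cast_one, one_mul, h.coe_xG]
  · rw [h.gT_xG hg (ng_lt (h.sim_lt hi)), (h.groot hg (h.sim_lt hi)).2.2.2.2.1, h2, h4, Int.cast_one,
      one_mul, h.coe_xG]

end Ok

end Cfsg.Agent.Chev
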