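/-
Perfectness, trivial core and simplicity of the Chevalley groups.
-/
import Cfsg.Agent.Lib.Chev.BN
import Cfsg.Agent.Lib.Chev.AllC
import Cfsg.Agent.S0319

set_option autoImplicit false

namespace Cfsg.Agent.Chev

open Cfsg.Lie
open scoped Matrix commutatorElement

namespace Pk

variable (Q : Pk)

/-- `x` is a sum of two roots with a one-term commutator. -/
def good1 (x : ℕ) : Bool :=
  Q.allRoots.any fun r => (Q.keys r).any fun s =>
    Nat.beq (Q.tgt r s 0) x &&
      match Q.cterms r s with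
      | [c] => Nat.beq c.1 x && (c.2.1 == 1 || c.2.1 == -1) && Nat.beq c.2.2.2 1
      | _ => false

/-- Some coroot pairs oddly with `x`. -/
def odd1 (x : ℕ) : Bool := (List.range Q.rank).any fun j => Nat.beq ((Q.A j x).natAbs % 2) 1

/-- `x` lies in a two-term commutator whose other root satisfies `S`. -/
def good2 (S : ℕ → Bool) (x : ℕ) : Bool :=
  Q.allRoots.any fun r => (Q.keys r).any fun s =>
    match Q.cterms r s with
    | [c, d] => (Nat.beq c.1 x && (c.2.1 == 1 || c.2.1 == -1) && Nat.beq c.2.2.2 1 && S d.1) ||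
        (Nat.beq d.1 x && (d.2.1 == 1 || d.2.1 == -1) && Nat.beq d.2.2.2 1 && S c.1)
    | _ => false

/-- Every fundamental root group is in the derived group, over any field. -/
def ckPerfAll : Bool :=
  (List.range Q.rank).all fun i => Q.good1 (Q.sim i) || Q.good2 Q.good1 (Q.sim i)

/-- Every fundamental root group is in the derived group, over a field with at least three elements. -/
def ckPerfOdd : Bool :=
  (List.range Q.rank).all fun i => Q.odd1 (Q.sim i) || Q.good2 Q.odd1 (Q.sim i)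

end Pk

variable {D : ChevalleyDatum} {P : Pk} {F : Type*} [Field F]

namespace Ok

variable (h : Ok D P)
include h

theorem cword_prod {r s : ℕ} (hr : r < P.nroots) (hs : s < P.nroots) (t u : F) :
    (((P.cword r s).map fun g => h.xG g.1 ((g.2.1 : F) * t ^ g.2.2.1 * u ^ g.2.2.2)).prod : GL D.Idx F).val =
      monWord D P t u (P.cword r s) := by
  rw [monWord]
  have hlt : ∀ g ∈ P.cword r s, g.1 < P.nroots := by
    intro g hg
    simp only [Pk.cword, List.mem_map] at hg
    obtain ⟨c, hc', rfl⟩ := hg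
    exact h.cterms_lt hr hs c hc'
  generalize P.cword r s = L at hlt ⊢
  induction L with
  | nil => simp
  | cons g L ih =>
    simp only [List.map_cons, List.prod_cons, Units.val_mul]
    rw [h.coe_xG' (hlt g List.mem_cons_self), ih fun x hx => hlt x (List.mem_cons_of_mem _ hx)]

theorem comm_word (hC : P.ckComm = true) {r s : ℕ} (hr : r < P.nroots) (hs : s ∈ P.keys r) (t u : F) :
    ((P.cword r s).map fun g => h.xG g.1 ((g.2.1 : F) * t ^ g.2.2.1 * u ^ g.2.2.2)).prod =
      ⁅(h.xG s u)⁻¹, (h.xG r t)⁻¹⁆ := by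
  obtain ⟨hsn, -⟩ := (h.mem_keys hr).1 hs
  obtain ⟨h1, h2, -, -⟩ := h.range_spec hr hs
  have e : h.xG s u * h.xG r t = h.xG r t * h.xG s u *
      ((P.cword r s).map fun g => h.xG g.1 ((g.2.1 : F) * t ^ g.2.2.1 * u ^ g.2.2.2)).prod := by
    apply Units.ext
    simp only [Units.val_mul, h.coe_xG' hr, h.coe_xG' hsn, h.cword_prod hr hsn]
    exact h.comm_formula hC hr hsn h1 h2 t u
  rw [commutatorElement_def, inv_inv, inv_inv]
  rw [mul_assoc _ (h.xG s u), e]
  group

theorem mem_derived_of_word (hC : P.ckComm = true) {r s : ℕ} (hr : r < P.nroots) (hs : s ∈ P.keys r)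
    (t u : F) :
    ((P.cword r s).map fun g => h.xG g.1 ((g.2.1 : F) * t ^ g.2.2.1 * u ^ g.2.2.2)).prod ∈
      ⁅D.group F, D.group F⁆ := by
  rw [h.comm_word hC hr hs]
  exact Subgroup.commutator_mem_commutator (inv_mem (h.mem_group_of_xG _ _)) (inv_mem (h.mem_group_of_xG _ _))

theorem good1_mem (hC : P.ckComm = true) {x : ℕ} (hx : P.good1 x = true) (t : F) :
    h.xG x t ∈ ⁅D.group F, D.group F⁆ := by
  simp only [Pk.good1, List.any_eq_true, Pk.mem_allRoots, Bool.and_eq_true] at hx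
  obtain ⟨r, hr, s, hs, -, hm⟩ := hx
  split at hm
  · rename_i c hc
    simp only [Bool.and_eq_true, Bool.or_eq_true, beq_iff_eq, nbeq, decide_eq_true_eq] at hm
    obtain ⟨⟨rfl, hcc⟩, hj⟩ := hm
    have := h.mem_derived_of_word hC hr hs (1 : F) (((c.2.1 * (-1) ^ c.2.2.1 : ℤ) : F) * t)
    simp only [Pk.cword, hc, List.map_cons, List.map_nil, List.prod_cons, List.prod_nil, mul_one, hj,
      pow_one, one_pow] at this
    convert this using 2
    rw [← mul_assoc, ← Int.cast_mul,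
      show c.2.1 * (-1) ^ c.2.2.1 * (c.2.1 * (-1) ^ c.2.2.1) = 1 from ?_]
    · simp
    · rw [mul_mul_mul_comm, ← mul_pow]; rcases hcc with e | e <;> rw [e] <;> simp
  · exact absurd hm (by simp)

theorem good2_mem (hC : P.ckComm = true) {S : ℕ → Bool}
    (hS : ∀ y, y < P.nroots → S y = true → ∀ v : F, h.xG y v ∈ ⁅D.group F, D.group F⁆)
    {x : ℕ} (hx : P.good2 S x = true) (t : F) : h.xG x t ∈ ⁅D.group F, D.group F⁆ := by
  simp only [Pk.good2, List.any_eq_true, Pk.mem_allRoots] at hx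
  obtain ⟨r, hr, s, hs, hm⟩ := hx
  have hsn := ((h.mem_keys hr).1 hs).1
  split at hm
  · rename_i c d hcd
    have hlt := fun e he => h.cterms_lt hr hsn e (hcd ▸ he)
    simp only [Bool.and_eq_true, Bool.or_eq_true, beq_iff_eq, nbeq, decide_eq_true_eq] at hm
    have sq : ∀ e : ℕ × ℤ × ℕ × ℕ, e.2.1 = 1 ∨ e.2.1 = -1 →
        ((e.2.1 * (-1) ^ e.2.2.1 : ℤ) : F) * (((e.2.1 * (-1) ^ e.2.2.1 : ℤ) : F) * t) = t := by
      intro e he
      rw [← mul_assoc, ← Int.cast_mul,
        show e.2.1 * (-1) ^ e.2.2.1 * (e.2.1 * (-1) ^ e.2.2.1) = 1 from ?_]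
      · simp
      · rw [mul_mul_mul_comm, ← mul_pow]; rcases he with e' | e' <;> rw [e'] <;> simp
    rcases hm with ⟨⟨⟨rfl, hcc⟩, hj⟩, hd⟩ | ⟨⟨⟨rfl, hcc⟩, hj⟩, hd⟩
    · have := h.mem_derived_of_word hC hr hs (1 : F) (((c.2.1 * (-1) ^ c.2.2.1 : ℤ) : F) * t)
      simp only [Pk.cword, hcd, List.map_cons, List.map_nil, List.prod_cons, List.prod_nil, mul_one, hj,
        pow_one, one_pow, sq c hcc] at this
      exact (Subgroup.mul_mem_cancel_right _ (hS _ (hlt d (by simp)) hd _)).1 this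
    · have := h.mem_derived_of_word hC hr hs (1 : F) (((d.2.1 * (-1) ^ d.2.2.1 : ℤ) : F) * t)
      simp only [Pk.cword, hcd, List.map_cons, List.map_nil, List.prod_cons, List.prod_nil, mul_one, hj,
        pow_one, one_pow, sq d hcc] at this
      exact (Subgroup.mul_mem_cancel_left _ (hS _ (hlt c (by simp)) hd _)).1 this
  · exact absurd hm (by simp)

theorem torus_mem {x : ℕ} (hx : x < P.nroots) {c : Fin P.rank → Fˣ} (hc : hchar P c x ≠ 1) (t : F) :
    h.xG x t ∈ ⁅D.group F, D.group F⁆ := by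
  have hne : hchar P c x - 1 ≠ 0 := sub_ne_zero.2 hc
  have key := Subgroup.commutator_mem_commutator
    (h.diagonal_le_group (h.mem_diagonal_iff.2 ⟨c, rfl⟩) : h.hHom (F := F) c ∈ D.group F)
    (h.mem_group_of_xG x (t / (hchar P c x - 1)))
  rw [commutatorElement_def, h.hHom_xG c hx, h.xG_inv, h.xG_add] at key
  convert key using 2
  field_simp
  ring

theorem odd1_mem (h3 : ∃ a : F, a ≠ 0 ∧ a ≠ 1) {x : ℕ} (hxn : x < P.nroots) (hx : P.odd1 x = true) (t : F) :
    h.xG x t ∈ ⁅D.group F, D.group F⁆ := by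
  simp only [Pk.odd1, List.any_eq_true, List.mem_range, nbeq, decide_eq_true_eq] at hx
  obtain ⟨j, hj, hodd⟩ := hx
  by_cases h11 : (-1 : F) = 1
  · obtain ⟨a, ha0, ha1⟩ := h3
    obtain ⟨c, hc⟩ := h.mem_diagonal_iff.1 (h.ht_mem hxn ha0)
    refine h.torus_mem hxn (c := c) ?_ t
    have e := h.hHom_xG c hxn (1 : F)
    rw [hc, h.ht_eq hxn ha0, h.dG_xG _ hxn] at e
    have hr := h.roots
    simp only [Pk.ckRoots, List.all_eq_true, Pk.mem_allRoots, Bool.and_eq_true, decide_eq_true_eq] at hr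
    rw [(hr x hxn).1.2] at e
    intro e1
    rw [e1] at e
    have e3 := h.xG_inj_param hxn e
    norm_cast at e3
    simp only [zpow_ofNat, mul_one] at e3
    have e4 : (a - 1) * (a + 1) = 0 := by linear_combination e3
    rcases mul_eq_zero.1 e4 with e5 | e5
    · exact ha1 (sub_eq_zero.1 e5)
    · exact ha1 ((eq_neg_of_add_eq_zero_left e5).trans h11)
  · refine h.torus_mem hxn (c := Pi.mulSingle ⟨j, hj⟩ (-1)) ?_ t
    rw [hchar, Finset.prod_eq_single ⟨j, hj⟩]
    · rw [Pi.mulSingle_eq_same, Units.val_neg, Units.val_one, neg_one_zpow_natAbs]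
      rw [(Nat.odd_iff.2 hodd).neg_one_pow]
      exact h11
    · intro k _ hk; simp [Pi.mulSingle_eq_of_ne hk]
    · simp

theorem derived_eq (hsim : ∀ i < P.rank, ∀ t : F, h.xG (P.sim i) t ∈ ⁅D.group F, D.group F⁆) :
    ⁅D.group F, D.group F⁆ = D.group F := by
  refine le_antisymm ((Subgroup.commutator_le).2 fun a ha b hb => ?_) (h.group_le fun r hr => ?_)
  · rw [commutatorElement_def]
    exact mul_mem (mul_mem (mul_mem ha hb) (inv_mem ha)) (inv_mem hb)
  refine h.root_induction (Q := fun r => ∀ t : F, h.xG r t ∈ _) hsim (fun i hi r hr hm t => ?_) r hr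
  have hsq : (P.eta i r : F) * P.eta i r = 1 := by rw [← Int.cast_mul, eta_sq, Int.cast_one]
  have e := h.nG_xG hi hr ((P.eta i r : F) * t)
  rw [← mul_assoc, hsq, one_mul] at e
  rw [← e]
  have hg := h.monomial_le_group (h.nG_mem (F := F) hi)
  have key : D.group F ≤ Subgroup.normalizer ((⁅D.group F, D.group F⁆ : Subgroup (GL D.Idx F)) : Set (GL D.Idx F)) := by
    intro g hg
    rw [Subgroup.mem_normalizer_iff]
    intro x
    have conj : ∀ g ∈ D.group F, ∀ x ∈ ⁅D.group F, D.group F⁆, g * x * g⁻¹ ∈ ⁅D.group F, D.group F⁆ := by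
      intro g hg x hx
      rw [show g * x * g⁻¹ = ⁅g, x⁆ * x by simp [commutatorElement_def]]
      have hxG : x ∈ D.group F := (Subgroup.commutator_le.2 fun a ha b hb => by
        rw [commutatorElement_def]
        exact mul_mem (mul_mem (mul_mem ha hb) (inv_mem ha)) (inv_mem hb) :
        ⁅D.group F, D.group F⁆ ≤ D.group F) hx
      exact mul_mem (Subgroup.commutator_mem_commutator hg hxG) hx
    refine ⟨conj g hg x, fun hgx => ?_⟩
    have := conj _ (inv_mem hg) _ hgx
    simpa [mul_assoc] using this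
  exact (Subgroup.mem_normalizer_iff.1 (key hg) _).1 (hm _)

theorem perfect_all (hC : P.ckComm = true) (hck : P.ckPerfAll = true) :
    ⁅D.group F, D.group F⁆ = D.group F := by
  refine h.derived_eq fun i hi t => ?_
  simp only [Pk.ckPerfAll, List.all_eq_true, List.mem_range, Bool.or_eq_true] at hck
  rcases hck i hi with e | e
  · exact h.good1_mem hC e t
  · exact h.good2_mem hC (fun y _ hy v => h.good1_mem hC hy v) e t

theorem perfect_odd (hC : P.ckComm = true) (hck : P.ckPerfOdd = true) (h3 : ∃ a : F, a ≠ 0 ∧ a ≠ 1) :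
    ⁅D.group F, D.group F⁆ = D.group F := by
  refine h.derived_eq fun i hi t => ?_
  simp only [Pk.ckPerfOdd, List.all_eq_true, List.mem_range, Bool.or_eq_true] at hck
  rcases hck i hi with e | e
  · exact h.odd1_mem h3 (h.sim_lt hi) e t
  · exact h.good2_mem hC (fun y hyn hy v => h.odd1_mem h3 hyn hy v) e t

theorem commutator_top (e : ⁅D.group F, D.group F⁆ = D.group F) : commutator (D.group F) = ⊤ := by
  apply Subgroup.map_injective (D.group F).subtype_injective
  rw [commutator_def, Subgroup.map_commutator, ← MonoidHom.range_eq_map, Subgroup.range_subtype, e]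

theorem core_bot : ((D.borelSubgroup F).subgroupOf (D.group F)).normalCore = ⊥ := by
  rw [eq_bot_iff]
  intro g hg
  set C := ((D.borelSubgroup F).subgroupOf (D.group F)).normalCore
  obtain ⟨n, hn, hflip⟩ := h.exists_flip (F := F)
  have hH : ∀ x ∈ C, (x : GL D.Idx F) ∈ D.diagonalSubgroup F := by
    intro x hx
    have h1 : (x : GL D.Idx F) ∈ D.borelSubgroup F := Subgroup.mem_subgroupOf.1 (Subgroup.normalCore_le _ hx)
    rw [← h.borel_inf_neg_diag]
    refine Subgroup.mem_inf.2 ⟨h1, ?_⟩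
    have hconj := (Subgroup.normalCore_normal _).conj_mem x hx ⟨n, h.monomial_le_group hn⟩⁻¹
    have h2 : n⁻¹ * (x : GL D.Idx F) * n ∈ D.borelSubgroup F := by
      simpa using Subgroup.mem_subgroupOf.1 (Subgroup.normalCore_le _ hconj)
    obtain ⟨u, hu, d, hd, e⟩ := h.mem_borel h2
    have e2 : (x : GL D.Idx F) = n * u * n⁻¹ * (n * d * n⁻¹) := by
      rw [show n * u * n⁻¹ * (n * d * n⁻¹) = n * (u * d) * n⁻¹ by group, ← e]; group
    rw [e2]
    refine mul_mem (Subgroup.mem_sup_left (hflip ▸ ⟨u, hu, rfl⟩))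
      (Subgroup.mem_sup_right ((Subgroup.mem_normalizer_iff.1 (h.monomial_normalizes hn) d).1 hd))
  obtain ⟨c, hc⟩ := h.mem_diagonal_iff.1 (hH g hg)
  have hone : ∀ r < P.nroots, hchar P c r = (1 : F) := by
    intro r hr
    have hx : (⟨h.xG r 1, h.mem_group_of_xG r 1⟩ : D.group F) ∈ (⊤ : Subgroup _) := trivial
    have h1 := (Subgroup.normalCore_normal _).conj_mem g⁻¹ (inv_mem hg) ⟨h.xG r 1, h.mem_group_of_xG r 1⟩
    have h2 := hH _ (mul_mem hg h1)
    simp only [Subgroup.coe_mul, Subgroup.coe_inv] at h2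
    rw [← hc, ← mul_assoc, ← mul_assoc, h.hHom_xG c hr, h.xG_inv, h.xG_add] at h2
    have e1 : h.xG r (hchar P c r * 1 + -1) = 1 := by
      cases hp : P.isPos r
      · exact h.tri_diag_eq_one h2 (h.tri_of_neg (h.xG_mem_neg hr hp _))
      · exact h.tri_diag_eq_one h2 (h.tri_of_pos (h.xG_mem_pos hp _))
    rw [← h.xG_zero r] at e1
    have := h.xG_inj_param hr e1
    linear_combination this
  rw [Subgroup.mem_bot]
  refine Subtype.ext ?_
  rw [← hc, OneMemClass.coe_one]
  apply Units.ext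
  rw [h.coe_hHom, Units.val_one, dM, ← Matrix.diagonal_one]
  congr 1
  funext x
  rcases x with i | s
  · rfl
  · exact hone s.val (h.slt s)

theorem irreducible (hC : P.ckComm = true) (hcon : P.ckConn = true) :
    (h.bnPair (F := F) hC).Irreducible := by
  intro J hJ hJne hJc
  by_contra hall
  push_neg at hall
  let T : ℕ → Prop := fun i => ∃ hi : i < P.rank, h.sG (F := F) ⟨i, hi⟩ ∈ J
  have hzero : ∀ i j, i < P.rank → j < P.rank → T i → ¬ T j →
      P.A i (P.sim j) = 0 ∧ P.A j (P.sim i) = 0 := by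
    rintro i j hi hj ⟨_, hiJ⟩ hjJ
    have hm : h.sG (F := F) ⟨j, hj⟩ ∈ (h.bnPair (F := F) hC).S \ J := ⟨⟨_, rfl⟩, fun e => hjJ ⟨hj, e⟩⟩
    have hB := Subgroup.mem_subgroupOf.1 (hall _ hiJ _ hm)
    have hd : h.nG (F := F) i * h.nG j * (h.nG i)⁻¹ * (h.nG j)⁻¹ ∈ D.diagonalSubgroup F := by
      rw [← h.borel_inf_monomial]
      exact Subgroup.mem_inf.2 ⟨by simpa [sG] using hB, mul_mem (mul_mem (mul_mem (h.nG_mem hi) (h.nG_mem hj))
        (inv_mem (h.nG_mem hi))) (inv_mem (h.nG_mem hj))⟩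
    have hij : i ≠ j := fun e => hjJ (e ▸ ⟨hi, hiJ⟩)
    exact ⟨h.commute_A hi hj hij (h.comm_w hi hj hd),
      h.commute_A hj hi (Ne.symm hij) fun r hr => (h.comm_w hi hj hd r hr).symm⟩
  have hreach : ∀ k i, i ∈ P.reach k → i < P.rank ∧ (T i ↔ T 0) := by
    intro k
    induction k with
    | zero =>
      intro i hi
      simp only [Pk.reach, List.mem_singleton] at hi
      subst hi
      exact ⟨by have := h.two_le_rank; omega, Iff.rfl⟩
    | succ k ih =>
      intro i hi
      simp only [Pk.reach, List.mem_filter, List.mem_range, List.any_eq_true, Bool.or_eq_true, nbeq,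
        decide_eq_true_eq, Bool.not_eq_true', beq_eq_false_iff_ne] at hi
      obtain ⟨hi, j, hj, e⟩ := hi
      obtain ⟨hjr, hjT⟩ := ih j hj
      refine ⟨hi, ?_⟩
      rcases e with rfl | e
      · exact hjT
      · rw [← hjT]
        constructor <;> intro ht <;> by_contra hn
        · exact e (hzero i j hi hjr ht hn).1
        · exact e (hzero j i hjr hi ht hn).2
  simp only [Pk.ckConn, List.all_eq_true, List.mem_range, List.any_eq_true, nbeq, decide_eq_true_eq] at hcon
  have hall' : ∀ i < P.rank, (T i ↔ T 0) := by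
    intro i hi
    obtain ⟨j, hj, rfl⟩ := hcon i hi
    exact (hreach _ _ hj).2
  obtain ⟨_, hmem⟩ := hJne
  obtain ⟨a, rfl⟩ := hJ hmem
  obtain ⟨_, ⟨b, rfl⟩, hb⟩ := hJc
  obtain ⟨_, hb'⟩ := (hall' b b.isLt).2 ((hall' a a.isLt).1 ⟨a.isLt, hmem⟩)
  exact hb hb'

theorem simple (hC : P.ckComm = true) (hcon : P.ckConn = true)
    (hperf : ⁅D.group F, D.group F⁆ = D.group F) :
    IsSimpleGroup (D.group F) ∧ ¬ IsMulCommutative (D.group F) := by
  haveI : Nontrivial (D.group F) := by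
    refine ⟨⟨⟨h.xG (P.sim 0) 1, h.mem_group_of_xG _ _⟩, 1, fun e => ?_⟩⟩
    have h0 : 0 < P.rank := by have := h.two_le_rank; omega
    exact one_ne_zero (h.xG_pos_eq_one (h.sim_pos h0) (congrArg Subtype.val e))
  haveI := h.borel_solvable (F := F) hC
  refine ⟨Cfsg.Agent.S0319.result (h.bnPair (F := F) hC) (h.irreducible hC hcon) ?_
    (h.commutator_top hperf) h.core_bot, fun hcomm => ?_⟩
  · exact Group.isSolvable_of_isSolvable_injective
      (f := (Subgroup.subgroupOfEquivOfLe h.borel_le_group).toMonoidHom) (MulEquiv.injective _)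
  · have : ⁅D.group F, D.group F⁆ ≤ ⊥ := by
      rw [Subgroup.commutator_le]
      intro a ha b hb
      rw [Subgroup.mem_bot, commutatorElement_eq_one_iff_mul_comm]
      exact congrArg Subtype.val (hcomm.is_comm.comm (⟨a, ha⟩ : D.group F) ⟨b, hb⟩)
    rw [hperf] at this
    obtain ⟨x, y, hxy⟩ := exists_pair_ne (D.group F)
    exact hxy (Subtype.ext ((Subgroup.mem_bot.1 (this x.2)).trans (Subgroup.mem_bot.1 (this y.2)).symm))

end Ok

end Cfsg.Agent.Chev

namespace Cfsg.Agent.Chev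

open Cfsg.Lie

variable {D : ChevalleyDatum} {P : Pk} {F : Type*} [Field F]

/-- `B ∪ B n B` is a subgroup. -/
theorem Ok.rank_one_parabolic (h : Ok D P) (hC : P.ckComm = true) {i : ℕ} (hi : i < P.rank) :
    ∃ M : Subgroup (GL D.Idx F), (M : Set (GL D.Idx F)) = (D.borelSubgroup F : Set (GL D.Idx F)) ∪
      DoubleCoset.doubleCoset (h.nG i) (D.borelSubgroup F : Set (GL D.Idx F)) (D.borelSubgroup F) := by
  set B := D.borelSubgroup F
  have hsq : h.nG i * h.nG i ∈ B := Subgroup.mem_sup_right (h.nG_sq hi)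
  refine ⟨{
    carrier := (B : Set (GL D.Idx F)) ∪ DoubleCoset.doubleCoset (h.nG i) (B : Set (GL D.Idx F)) B
    one_mem' := Or.inl B.one_mem
    mul_mem' := ?_
    inv_mem' := ?_ }, rfl⟩
  · rintro x y (hx | hx) (hy | hy)
    · exact Or.inl (B.mul_mem hx hy)
    · obtain ⟨b, hb, b', hb', rfl⟩ := DoubleCoset.mem_doubleCoset.1 hy
      exact Or.inr (DoubleCoset.mem_doubleCoset.2 ⟨x * b, B.mul_mem hx hb, b', hb', by group⟩)
    · obtain ⟨b, hb, b', hb', rfl⟩ := DoubleCoset.mem_doubleCoset.1 hx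
      exact Or.inr (DoubleCoset.mem_doubleCoset.2 ⟨b, hb, b' * y, B.mul_mem hb' hy, by group⟩)
    · obtain ⟨a, ha, b, hb, rfl⟩ := DoubleCoset.mem_doubleCoset.1 hx
      obtain ⟨c, hc, d, hd, rfl⟩ := DoubleCoset.mem_doubleCoset.1 hy
      obtain ⟨b₁, h1, b₂, h2, e | e⟩ := h.bruhat_step hC hi (h.nG_mem hi) (B.mul_mem hb hc)
      · refine Or.inl ?_
        rw [show a * h.nG i * b * (c * h.nG i * d) = a * (h.nG i * (b * c) * h.nG i) * d by group, e]
        exact B.mul_mem (B.mul_mem ha (B.mul_mem (B.mul_mem h1 hsq) h2)) hd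
      · refine Or.inr (DoubleCoset.mem_doubleCoset.2 ⟨a * b₁, B.mul_mem ha h1, b₂ * d, B.mul_mem h2 hd, ?_⟩)
        rw [show a * h.nG i * b * (c * h.nG i * d) = a * (h.nG i * (b * c) * h.nG i) * d by group, e]
        group
  · rintro x (hx | hx)
    · exact Or.inl (B.inv_mem hx)
    · obtain ⟨a, ha, b, hb, rfl⟩ := DoubleCoset.mem_doubleCoset.1 hx
      refine Or.inr (DoubleCoset.mem_doubleCoset.2
        ⟨b⁻¹ * (h.nG i * h.nG i)⁻¹, B.mul_mem (B.inv_mem hb) (B.inv_mem hsq), a⁻¹, B.inv_mem ha, ?_⟩)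
      group

end Cfsg.Agent.Chev
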