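/-
The (B,N)-pair of a twisted group, and simplicity.
-/
import Cfsg.Agent.Lib.Chev.TwistGroup
import Cfsg.Agent.Lib.Chev.Simple

set_option autoImplicit false

namespace Cfsg.Agent.Chev

open Cfsg.Lie
open scoped Matrix

variable {D : ChevalleyDatum} {P : Pk} {h : Ok D P} {F : Type*} [Field F]

theorem Ok.mem_closure_parabolic (h : Ok D P) (hC : P.ckComm = true) {J : List ℕ} {x : GL D.Idx F}
    (hx : x ∈ D.borelSubgroup F ⊔ Subgroup.closure ((fun i => h.nG i) '' {i | i ∈ J ∧ i < P.rank})) :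
    ∃ b ∈ D.borelSubgroup F, ∃ l, WordIn P J l ∧ ∃ b' ∈ D.borelSubgroup F, x = b * h.nW l * b' := by
  set B := D.borelSubgroup F
  let Q : GL D.Idx F → Prop := fun x => ∃ b ∈ B, ∃ l, WordIn P J l ∧ ∃ b' ∈ B, x = b * h.nW l * b'
  have hB : ∀ g ∈ B, ∀ y, Q y → Q (g * y) := by
    rintro g hg _ ⟨b, hb, l, hl, b', hb', rfl⟩
    exact ⟨g * b, mul_mem hg hb, l, hl, b', hb', by group⟩
  have hn : ∀ i, i ∈ J → i < P.rank → ∀ y, Q y → Q (h.nG i * y) := by
    rintro i hiJ hi _ ⟨b, hb, l, hl, b', hb', rfl⟩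
    obtain ⟨b₁, h1, b₂, h2, e | e⟩ := h.bruhat_step hC hi (h.nW_mem (F := F) l hl.1) hb
    · refine ⟨b₁, h1, i :: l, ⟨List.forall_mem_cons.2 ⟨hi, hl.1⟩, List.forall_mem_cons.2 ⟨hiJ, hl.2⟩⟩,
        b₂ * b', mul_mem h2 hb', ?_⟩
      rw [h.nW_cons, show h.nG i * (b * h.nW l * b') = h.nG i * b * h.nW l * b' by group, e]; group
    · refine ⟨b₁, h1, l, hl, b₂ * b', mul_mem h2 hb', ?_⟩
      rw [show h.nG i * (b * h.nW l * b') = h.nG i * b * h.nW l * b' by group, e]; group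
  rw [← Subgroup.closure_eq B, ← Subgroup.closure_union] at hx
  have key : ∀ y, Q y → Q (x * y) := by
    induction hx using Subgroup.closure_induction'' with
    | mem g hg =>
      rcases hg with hg | ⟨i, ⟨hiJ, hi⟩, rfl⟩
      exacts [hB g hg, hn i hiJ hi]
    | inv_mem g hg =>
      rcases hg with hg | ⟨i, ⟨hiJ, hi⟩, rfl⟩
      · exact hB _ (inv_mem hg)
      · intro y hy
        have h2 : (h.nG (F := F) i * h.nG i)⁻¹ ∈ B := inv_mem (Subgroup.mem_sup_right (h.nG_sq hi))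
        rw [show (h.nG i)⁻¹ * y = h.nG i * ((h.nG i * h.nG i)⁻¹ * y) by group]
        exact hn i hiJ hi _ (hB _ h2 _ hy)
    | one => intro y hy; rwa [one_mul]
    | mul a b _ _ ha hb => intro y hy; rw [mul_assoc]; exact ha _ (hb y hy)
  simpa using key 1 ⟨1, one_mem _, [], ⟨fun _ hx => absurd hx List.not_mem_nil,
    fun _ hx => absurd hx List.not_mem_nil⟩, 1, one_mem _, by rw [h.nW_nil, mul_one, mul_one]⟩

namespace TwistGrp

variable {T : Twist h F} (G : TwistGrp T)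

theorem monomial_comm {n : GL D.Idx F} (hn : n ∈ D.monomialSubgroup F ⊓ G.G1) :
    ∃ l, WordOk P l ∧ T.Comm l ∧ ∃ d ∈ D.diagonalSubgroup F, n = h.nW l * d := by
  obtain ⟨l, hl, d, hd, rfl⟩ := h.exists_word_of_mem hn.1
  refine ⟨l, hl, fun r hr => ?_, d, hd, rfl⟩
  have e := G.fix hn.2
  rw [T.map_mul' _ (h.monomial_le_group (h.nW_mem l hl)) _ (h.diagonal_le_group hd), T.map_nW l hl] at e
  have h1 : (h.nW (F := F) (l.map T.π))⁻¹ * h.nW l ∈ D.diagonalSubgroup F := by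
    rw [show (h.nW (F := F) (l.map T.π))⁻¹ * h.nW l = T.σ d * d⁻¹ by
      rw [eq_mul_inv_iff_mul_eq, mul_assoc, ← e, inv_mul_cancel_left]]
    exact mul_mem (T.map_diagonal hd) (inv_mem hd)
  rw [← h.wl_eq_of_mem (T.wordOk_map hl) hl h1 (T.ρ_lt r hr), T.ρ_wl hl hr]

/-- The generators of the fixed monomial group. -/
def gens : Set (GL D.Idx F) := {x | ∃ o ∈ G.O.orbs, x = h.nW o.2}

theorem monomial_gen {n : GL D.Idx F} (hn : n ∈ D.monomialSubgroup F ⊓ G.G1) :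
    n ∈ Subgroup.closure G.gens ⊔ (D.diagonalSubgroup F ⊓ G.G1) := by
  obtain ⟨l, hl, hc, d, hd, rfl⟩ := G.monomial_comm hn
  have key : ∃ m ∈ Subgroup.closure G.gens, ∃ k ∈ D.diagonalSubgroup F, m = h.nW l * k := by
    refine G.O.comm_induction (Q := fun l => ∃ m ∈ Subgroup.closure G.gens, ∃ k ∈ D.diagonalSubgroup F,
      m = h.nW l * k) (fun l hl htriv => ?_) (fun o ho l l' hl hl' hc' hpos e ih => ?_) l hl hc
    · exact ⟨1, one_mem _, (h.nW l)⁻¹, inv_mem (h.nW_mem_diagonal hl htriv), by rw [mul_inv_cancel]⟩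
    · obtain ⟨m, hm, k, hk, rfl⟩ := ih
      obtain ⟨hw, -, -, -⟩ := G.O.spec ho
      have hla : WordOk P (l' ++ o.2) := fun x hx => by
        rcases List.mem_append.1 hx with a | a
        exacts [hl' x a, hw.1 x a]
      refine ⟨_, mul_mem hm (Subgroup.subset_closure ⟨o, ho, rfl⟩), (h.nW l)⁻¹ * h.nW (l' ++ o.2) *
        ((h.nW o.2)⁻¹ * k * h.nW o.2), mul_mem (h.mem_diagonal_of_wl_eq hl hla e) ?_, ?_⟩
      · have := (Subgroup.mem_normalizer_iff.1 (inv_mem (h.nW_normalizer (F := F) o.2 hw.1)) k).1 hk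
        simpa using this
      · rw [h.nW_append]; group
  obtain ⟨m, hm, k, hk, em⟩ := key
  have hmG : m ∈ G.G1 := (Subgroup.closure_le G.G1).2 (by rintro _ ⟨o, ho, rfl⟩; exact G.nW_mem o ho) hm
  rw [show h.nW l * d = m * (k⁻¹ * d) by rw [em]; group]
  refine mul_mem (Subgroup.mem_sup_left hm) (Subgroup.mem_sup_right ⟨(D.diagonalSubgroup F).mul_mem ((D.diagonalSubgroup F).inv_mem hk) hd, ?_⟩)
  rw [show k⁻¹ * d = m⁻¹ * (h.nW l * d) by rw [em]; group]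
  exact G.G1.mul_mem (G.G1.inv_mem hmG) hn.2

theorem nW_monomial {o : List ℕ × List ℕ} (ho : o ∈ G.O.orbs) : h.nW o.2 ∈ D.monomialSubgroup F ⊓ G.G1 :=
  ⟨h.nW_mem _ (G.O.spec ho).1.1, G.nW_mem o ho⟩

theorem sq_diag {o : List ℕ × List ℕ} (ho : o ∈ G.O.orbs) :
    h.nW (F := F) o.2 * h.nW o.2 ∈ D.diagonalSubgroup F := by
  obtain ⟨hw, -, hinv, -⟩ := G.O.spec ho
  rw [← h.nW_append]
  exact h.nW_mem_diagonal (fun x hx => by rcases List.mem_append.1 hx with a | a <;> exact hw.1 x a)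
    fun r hr => by rw [wl_append, hinv r hr]

/-- A fixed element of the parabolic group of one orbit lies in two cells. -/
theorem orbit_cell (hC : P.ckComm = true) {o : List ℕ × List ℕ} (ho : o ∈ G.O.orbs) {y : GL D.Idx F}
    (hy : y ∈ D.borelSubgroup F ⊔ Subgroup.closure ((fun i => h.nG i) '' {i | i ∈ o.1 ∧ i < P.rank}))
    (hy1 : y ∈ G.G1) :
    y ∈ D.borelSubgroup F ⊓ G.G1 ∨
      ∃ b ∈ D.borelSubgroup F ⊓ G.G1, ∃ k ∈ D.diagonalSubgroup F ⊓ G.G1, ∃ u ∈ G.Uw o.2,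
        y = b * h.nW o.2 * k * u := by
  obtain ⟨hw, hJ, hinv, hwc⟩ := G.O.spec ho
  obtain ⟨b₀, hb₀, l₀, hl₀, b₀', hb₀', e₀⟩ := h.mem_closure_parabolic hC hy
  obtain ⟨l, hl, hc, n, hn, d, hd, en, b, hb, u, hu, e⟩ := G.decomp hC (G.le_fixed hy1)
  have hb' : b ∈ D.borelSubgroup F ⊓ G.G1 := ⟨hb.1, G.eq_fixed hC ▸ hb.2⟩
  have hu1 := G.Uw_le hC hl hc hu
  obtain ⟨v, hv, k, hk, rfl⟩ := h.mem_borel hb₀'
  have hv' : k⁻¹ * v * k ∈ D.posUnipotent F := by
    simpa using (Subgroup.mem_normalizer_iff.1 (h.diagonal_normalizes (inv_mem hk)) v).1 hv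
  have ew := h.bruhat_unique hC hb.1 hb₀ hl hl₀.1 hd hk (h.negS_le_pos _ hu.1) hv'
    (by rw [← en, ← e, e₀]; group)
  have heq : ∀ r < P.nroots, wl P l r = wl P l₀ r := fun r hr => h.wl_eq_of_mem hl hl₀.1 ew hr
  have hout : ∀ i < P.rank, i ∉ o.1 → P.isPos (wl P l (P.sim i)) = true := fun i hi hiJ => by
    rw [heq _ (h.sim_lt hi)]
    refine h.pos_of_rv (h.wl_lt _ hl₀.1 _ (h.sim_lt hi)) hi ?_
    rw [h.wl_outside hl₀ (h.sim_lt hi) hi hiJ, h.rv_sim hi hi, if_pos rfl]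
    omega
  by_cases hall : ∀ i ∈ o.1, P.isPos (wl P l (P.sim i)) = true
  · left
    have htriv := h.wl_eq_id l.length l le_rfl hl fun i hi => by
      by_cases hiJ : i ∈ o.1
      exacts [hall i hiJ, hout i hi hiJ]
    refine ⟨?_, hy1⟩
    rw [e, en]
    exact mul_mem (mul_mem hb.1 (Subgroup.mem_sup_right (mul_mem (h.nW_mem_diagonal hl htriv) hd)))
      (Subgroup.mem_sup_left (h.negS_le_pos _ hu.1))
  · right
    push_neg at hall
    obtain ⟨i, hiJ, hneg⟩ := hall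
    have hi := (hJ i hiJ).1
    have hiter : ∀ m, T.π^[m] i < P.rank ∧ P.isPos (wl P l (P.sim (T.π^[m] i))) = false := by
      intro m
      induction m with
      | zero => exact ⟨hi, by simpa using hneg⟩
      | succ m ihm =>
        rw [Function.iterate_succ_apply']
        exact ⟨T.π_lt _ ihm.1, (Twist.Comm.sim T hl hc ihm.1).trans ihm.2⟩
    have hnegJ : ∀ j ∈ o.1, P.isPos (wl P l (P.sim j)) = false := fun j hj => by
      obtain ⟨m, rfl⟩ := (hJ i hiJ).2.2 j hj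
      exact (hiter m).2
    have hla : WordOk P (l ++ o.2) := fun x hx => by
      rcases List.mem_append.1 hx with a | a
      exacts [hl x a, hw.1 x a]
    have hid := h.wl_eq_id (l ++ o.2).length _ le_rfl hla fun m hm => by
      rw [wl_append]
      have hs := h.sim_lt hm
      have hws := h.wl_lt _ hw.1 _ hs
      by_cases hmJ : m ∈ o.1
      · have h0 : inJ P o.1 (wl P o.2 (P.sim m)) = true := by
          rw [h.inJ_wl hw hs]; exact h.inJ_of_flip hw hs (by rw [(hJ m hmJ).2.1, h.sim_pos hm]; rfl)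
        have h1 := h.neg_of_simple (J := o.1) hl (fun j hj _ => hnegJ j hj) (r := P.ng (wl P o.2 (P.sim m)))
          (inJ_iff.2 fun q hq hqJ => by rw [h.rv_ng hws hq, inJ_iff.1 h0 q hq hqJ, neg_zero])
          (by rw [h.isPos_ng hws, (hJ m hmJ).2.1]; rfl)
        rw [h.wl_ng l hl _ hws, h.isPos_ng (h.wl_lt l hl _ hws)] at h1
        simpa using h1
      · rw [heq _ hws]
        refine h.pos_of_rv (h.wl_lt _ hl₀.1 _ hws) hm ?_
        rw [h.wl_outside hl₀ hws hm hmJ, h.wl_outside hw hs hm hmJ, h.rv_sim hm hm, if_pos rfl]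
        omega
    have hlw : ∀ r < P.nroots, wl P o.2 r = wl P l r := fun r hr => by
      have h1 := hid _ (h.wl_lt _ hw.1 r hr)
      rw [wl_append, hinv r hr] at h1
      exact h1.symm
    have hk' : (h.nW o.2)⁻¹ * n ∈ D.diagonalSubgroup F := by
      rw [en, ← mul_assoc]
      exact mul_mem (h.mem_diagonal_of_wl_eq hw.1 hl hlw) hd
    refine ⟨b, hb', _, ⟨hk', G.G1.mul_mem (G.G1.inv_mem (G.nW_mem o ho)) hn⟩, u,
      G.Uw_congr hlw ▸ hu, ?_⟩
    rw [e]; group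

theorem split_fixed (hC : P.ckComm = true) {o : List ℕ × List ℕ} (ho : o ∈ G.O.orbs) {v : GL D.Idx F}
    (hv : v ∈ D.posUnipotent F ⊓ T.fixed) :
    ∃ c ∈ D.posUnipotent F ⊓ T.fixed, h.nW o.2 * c * (h.nW o.2)⁻¹ ∈ D.posUnipotent F ⊓ T.fixed ∧
      ∃ a ∈ G.Uw o.2, v = c * a := by
  obtain ⟨hw, -, -, hwc⟩ := G.O.spec ho
  obtain ⟨c, hc, a, ha, rfl⟩ := h.split_pos hC (fun r => P.isPos (wl P o.2 r) = true)
    (fun r => P.isPos (wl P o.2 r) = false) (fun r _ => by cases P.isPos (wl P o.2 r) <;> simp) hv.1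
  have ha' : a ∈ h.genR (negS P o.2) := h.genR_mono (fun _ hr => hr) ha
  have hcU : c ∈ D.posUnipotent F := h.genR_le (fun _ hr t => h.xG_mem_pos hr.1 t) hc
  have hag := h.borel_le_group (F := F) (Subgroup.mem_sup_left (h.negS_le_pos _ ha'))
  have hcg := h.borel_le_group (F := F) (Subgroup.mem_sup_left hcU)
  obtain ⟨hvg, e⟩ := T.mem_fixed.1 hv.2
  rw [T.map_mul' _ hcg _ hag] at e
  set n := h.nW (F := F) o.2
  have hn := G.nW_mem o ho
  have hcx : n * c * n⁻¹ ∈ D.posUnipotent F := by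
    have := h.uplus_conj (F := F) hw.1 (one_mem _) hc
    rwa [mul_one (h.nW o.2)] at this
  have hσc : n * T.σ c * n⁻¹ ∈ D.posUnipotent F := by
    have h1 := T.map_pos hcx
    rw [T.map_mul' _ (mul_mem (G.le_group hn) hcg) _ (inv_mem (G.le_group hn)),
      T.map_mul' _ (G.le_group hn) _ hcg, T.map_inv (G.le_group hn), G.fix hn] at h1
    exact h1
  have ha1 : T.σ a ∈ h.genR (negS P o.2) := σ_negS hw.1 hwc ha'
  have e1 : (T.σ c)⁻¹ * c = T.σ a * a⁻¹ := by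
    rw [eq_mul_inv_iff_mul_eq, mul_assoc, ← e, inv_mul_cancel_left]
  have h1 := h.uminus_conj (F := F) hw.1 (one_mem _) (mul_mem ha1 (inv_mem ha'))
  rw [mul_one (h.nW o.2), ← e1] at h1
  have h2 : n * ((T.σ c)⁻¹ * c) * n⁻¹ ∈ D.borelSubgroup F := by
    rw [show n * ((T.σ c)⁻¹ * c) * n⁻¹ = (n * T.σ c * n⁻¹)⁻¹ * (n * c * n⁻¹) by group]
    exact Subgroup.mem_sup_left (mul_mem (inv_mem hσc) hcx)
  have h3 := Subgroup.mem_inf.2 ⟨h2, h1⟩
  rw [h.borel_inf_neg, Subgroup.mem_bot, conj_eq_one_iff] at h3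
  have hcf : c ∈ T.fixed := T.mem_fixed.2 ⟨hcg, inv_mul_eq_one.1 h3⟩
  rw [h3] at e1
  exact ⟨c, ⟨hcU, hcf⟩, ⟨hcx, T.fixed.mul_mem (T.fixed.mul_mem (G.le_fixed hn) hcf)
    (T.fixed.inv_mem (G.le_fixed hn))⟩, a, ⟨ha', T.mem_fixed.2 ⟨hag, mul_inv_eq_one.1 e1.symm⟩⟩, rfl⟩

theorem step (hC : P.ckComm = true) {o : List ℕ × List ℕ} (ho : o ∈ G.O.orbs) {n b : GL D.Idx F}
    (hn : n ∈ D.monomialSubgroup F ⊓ G.G1) (hb : b ∈ D.borelSubgroup F ⊓ G.G1) :
    ∃ b₁ ∈ D.borelSubgroup F ⊓ G.G1, ∃ b₂ ∈ D.borelSubgroup F ⊓ G.G1,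
      h.nW o.2 * b * n = b₁ * (h.nW o.2 * n) * b₂ ∨ h.nW o.2 * b * n = b₁ * n * b₂ := by
  obtain ⟨hw, hJ, hinv, hwc⟩ := G.O.spec ho
  set s := h.nW (F := F) o.2
  have hs : s ∈ G.G1 := G.nW_mem o ho
  obtain ⟨v, hv, d, hd, rfl⟩ := borel_fixed hC hb.1 (G.fix hb.2)
  obtain ⟨c, hc, hscs, a, ha, rfl⟩ := G.split_fixed hC ho hv
  have hd1 : d ∈ G.G1 := G.diag_mem hd
  have norm : ∀ k : GL D.Idx F, k ∈ D.diagonalSubgroup F → ∀ m : GL D.Idx F, m ∈ D.monomialSubgroup F →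
      m * k * m⁻¹ ∈ D.diagonalSubgroup F := fun k hk m hm =>
    (Subgroup.mem_normalizer_iff.1 (h.monomial_normalizes hm) k).1 hk
  have hsm := (G.nW_monomial ho).1
  -- the part moved to the left
  have hleft : s * c * s⁻¹ * (s * d * s⁻¹) ∈ D.borelSubgroup F ⊓ G.G1 :=
    ⟨mul_mem (Subgroup.mem_sup_left hscs.1) (Subgroup.mem_sup_right (norm d hd.1 s hsm)),
      G.G1.mul_mem (G.eq_fixed hC ▸ hscs.2) (G.G1.mul_mem (G.G1.mul_mem hs hd1) (G.G1.inv_mem hs))⟩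
  set a' := d⁻¹ * a * d
  have ha1 : a ∈ G.G1 := G.root_mem o ho ha
  have ha' : a' ∈ h.genR (negS P o.2) := by
    obtain ⟨c', hc'⟩ := h.mem_diagonal_iff.1 hd.1
    have hle : h.genR (F := F) (negS P o.2) ≤ (h.genR (negS P o.2)).comap (MulAut.conj d⁻¹).toMonoidHom := by
      refine h.genR_le fun r hr t => ?_
      have e := h.hHom_xG (F := F) c'⁻¹ (P.isPos_iff.1 hr.1).2 t
      rw [map_inv, hc'] at e
      rw [Subgroup.mem_comap, MulEquiv.toMonoidHom_eq_coe, MonoidHom.coe_coe, MulAut.conj_apply, e]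
      exact h.xG_mem_genR hr _
    have h1 := hle ha.1
    rwa [Subgroup.mem_comap, MulEquiv.toMonoidHom_eq_coe, MonoidHom.coe_coe, MulAut.conj_apply, inv_inv] at h1
  have ha'1 : a' ∈ G.G1 := G.G1.mul_mem (G.G1.mul_mem (G.G1.inv_mem hd1) ha1) hd1
  have hrw : s * (c * a * d) * n = (s * c * s⁻¹ * (s * d * s⁻¹)) * (s * a' * n) := by simp only [a']; group
  -- positivity below `n⁻¹`
  have hmove : ∀ m : GL D.Idx F, m ∈ D.monomialSubgroup F ⊓ G.G1 → ∀ l, WordOk P l →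
      (∃ k ∈ D.diagonalSubgroup F, m⁻¹ = h.nW l * k) → (∀ i ∈ o.1, P.isPos (wl P l (P.sim i)) = true) →
      ∀ u ∈ h.genR (F := F) (negS P o.2), u ∈ G.G1 → m⁻¹ * u * m ∈ D.borelSubgroup F ⊓ G.G1 := by
    rintro m hm l hl ⟨k, hk, em⟩ hpos u hu hu1
    refine ⟨Subgroup.mem_sup_left ?_, G.G1.mul_mem (G.G1.mul_mem (G.G1.inv_mem hm.2) hu1) hm.2⟩
    rw [show m⁻¹ * u * m = h.nW l * k * u * (h.nW l * k)⁻¹ by rw [← em]; group]
    refine h.uplus_conj hl hk (h.genR_mono (fun r hr => ⟨hr.1, ?_⟩) hu)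
    exact h.pos_of_simple hl (fun i hi _ => hpos i hi)
      (h.inJ_of_flip hw (P.isPos_iff.1 hr.1).2 (by rw [hr.2, hr.1]; rfl)) hr.1
  have hninv : n⁻¹ ∈ D.monomialSubgroup F ⊓ G.G1 := inv_mem hn
  obtain ⟨l, hl, hcl, k, hk, enl⟩ := G.monomial_comm hninv
  by_cases hall : ∀ i ∈ o.1, P.isPos (wl P l (P.sim i)) = true
  · refine ⟨_, hleft, n⁻¹ * a' * n, hmove n hn l hl ⟨k, hk, enl⟩ hall a' ha' ha'1, Or.inl ?_⟩
    rw [hrw]; group
  push_neg at hall
  obtain ⟨i, hiJ, hneg⟩ := hall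
  have hi := (hJ i hiJ).1
  have hiter : ∀ m, T.π^[m] i < P.rank ∧ P.isPos (wl P l (P.sim (T.π^[m] i))) = false := by
    intro m
    induction m with
    | zero => exact ⟨hi, by simpa using hneg⟩
    | succ m ihm =>
      rw [Function.iterate_succ_apply']
      exact ⟨T.π_lt _ ihm.1, (Twist.Comm.sim T hl hcl ihm.1).trans ihm.2⟩
  set n' := s⁻¹ * n
  have hn' : n' ∈ D.monomialSubgroup F ⊓ G.G1 := mul_mem (inv_mem (G.nW_monomial ho)) hn
  have hla : WordOk P (l ++ o.2) := fun x hx => by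
    rcases List.mem_append.1 hx with a | a
    exacts [hl x a, hw.1 x a]
  have hpos' : ∀ j ∈ o.1, P.isPos (wl P (l ++ o.2) (P.sim j)) = true := by
    intro j hj
    have hjn := h.sim_lt (hJ j hj).1
    have hws := h.wl_lt _ hw.1 _ hjn
    have h0 : inJ P o.1 (wl P o.2 (P.sim j)) = true := by
      rw [h.inJ_wl hw hjn]; exact h.inJ_of_flip hw hjn (by rw [(hJ j hj).2.1, h.sim_pos (hJ j hj).1]; rfl)
    have h1 := h.neg_of_simple (J := o.1) hl
      (fun q hq _ => by obtain ⟨m, rfl⟩ := (hJ i hiJ).2.2 q hq; exact (hiter m).2)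
      (r := P.ng (wl P o.2 (P.sim j)))
      (inJ_iff.2 fun q hq hqJ => by rw [h.rv_ng hws hq, inJ_iff.1 h0 q hq hqJ, neg_zero])
      (by rw [h.isPos_ng hws, (hJ j hj).2.1]; rfl)
    rw [h.wl_ng l hl _ hws, h.isPos_ng (h.wl_lt l hl _ hws)] at h1
    rw [wl_append]
    simpa using h1
  have hn'inv : ∃ k' ∈ D.diagonalSubgroup F, n'⁻¹ = h.nW (l ++ o.2) * k' := by
    refine ⟨s⁻¹ * k * s, by simpa using norm k hk s⁻¹ (inv_mem hsm), ?_⟩
    simp only [n', mul_inv_rev, inv_inv, enl, h.nW_append, s]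
    group
  set y := s * a' * s
  have hy : y ∈ D.borelSubgroup F ⊔ Subgroup.closure ((fun i => h.nG i) '' {i | i ∈ o.1 ∧ i < P.rank}) := by
    have hsC : s ∈ Subgroup.closure ((fun i => h.nG (F := F) i) '' {i | i ∈ o.1 ∧ i < P.rank}) := by
      refine list_prod_mem fun x hx => ?_
      obtain ⟨q, hq, rfl⟩ := List.mem_map.1 hx
      exact Subgroup.subset_closure ⟨q, ⟨hw.2 q hq, hw.1 q hq⟩, rfl⟩
    exact mul_mem (mul_mem (Subgroup.mem_sup_right hsC)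
      (Subgroup.mem_sup_left (Subgroup.mem_sup_left (h.negS_le_pos _ ha')))) (Subgroup.mem_sup_right hsC)
  have hy1 : y ∈ G.G1 := G.G1.mul_mem (G.G1.mul_mem hs ha'1) hs
  have hrw2 : s * a' * n = y * n' := by simp only [y, n']; group
  rcases G.orbit_cell hC ho hy hy1 with hyB | ⟨b', hb', k', hk', u, hu, ey⟩
  · -- `y` in the Borel group
    have hsq : s * s ∈ D.diagonalSubgroup F ⊓ G.G1 := ⟨G.sq_diag ho, G.G1.mul_mem hs hs⟩
    refine ⟨_, mul_mem (mul_mem hleft hyB) (inv_mem (⟨Subgroup.mem_sup_right hsq.1, hsq.2⟩ :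
      s * s ∈ D.borelSubgroup F ⊓ G.G1)), 1, one_mem _, Or.inl ?_⟩
    rw [hrw, hrw2]; simp only [n']; group
  · refine ⟨_, mul_mem hleft hb', n'⁻¹ * k' * n' * (n'⁻¹ * u * n'), mul_mem ?_
      (hmove n' hn' _ hla hn'inv hpos' u hu.1 (G.root_mem o ho hu)), Or.inr ?_⟩
    · exact ⟨Subgroup.mem_sup_right (by simpa using norm k' hk'.1 n'⁻¹ (inv_mem hn'.1)),
        G.G1.mul_mem (G.G1.mul_mem (G.G1.inv_mem hn'.2) hk'.2) hn'.2⟩
    · rw [hrw, hrw2, ey]; simp only [n', s]; group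

theorem borel_sup_monomial (hC : P.ckComm = true) :
    (D.borelSubgroup F ⊓ G.G1) ⊔ (D.monomialSubgroup F ⊓ G.G1) = G.G1 := by
  refine le_antisymm (sup_le inf_le_right inf_le_right) fun g hg => ?_
  obtain ⟨l, hl, hc, n, hn, d, hd, en, b, hb, u, hu, rfl⟩ := G.decomp hC (G.le_fixed hg)
  refine mul_mem (mul_mem (Subgroup.mem_sup_left ⟨hb.1, G.borel_fixed_le hC hb⟩)
    (Subgroup.mem_sup_right ⟨en ▸ h.nW_mul_mem hl hd, hn⟩))
    (Subgroup.mem_sup_left ⟨Subgroup.mem_sup_left (h.negS_le_pos _ hu.1), G.Uw_le hC hl hc hu⟩)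

/-- The extra conditions for the (B,N)-pair. -/
structure Proper : Prop where
  disj : ∀ o ∈ G.O.orbs, ∀ o' ∈ G.O.orbs, ∀ j, j ∈ o.1 → j ∈ o'.1 → o = o'
  ne_nil : ∀ o ∈ G.O.orbs, o.1 ≠ []
  ne_bot : ∀ o ∈ G.O.orbs, G.Uw o.2 ≠ ⊥

theorem nW_inj (hp : G.Proper) {o o' : List ℕ × List ℕ} (ho : o ∈ G.O.orbs) (ho' : o' ∈ G.O.orbs)
    (e : (h.nW (F := F) o.2)⁻¹ * h.nW o'.2 ∈ D.diagonalSubgroup F) : o = o' := by
  obtain ⟨hw, -, -, -⟩ := G.O.spec ho
  obtain ⟨hw', hJ', -, -⟩ := G.O.spec ho'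
  obtain ⟨j, J, ej⟩ := List.exists_cons_of_ne_nil (hp.ne_nil o' ho')
  have hj : j ∈ o'.1 := by rw [ej]; exact List.mem_cons_self
  have hjn := (hJ' j hj).1
  have h1 := (hJ' j hj).2.1
  rw [← h.wl_eq_of_mem hw.1 hw'.1 e (h.sim_lt hjn)] at h1
  have h2 := h.inJ_of_flip hw (h.sim_lt hjn) (by rw [h1, h.sim_pos hjn]; rfl)
  refine hp.disj o ho o' ho' j ?_ hj
  by_contra hjJ
  have h3 := inJ_iff.1 h2 j hjn hjJ
  rw [h.rv_sim hjn hjn, if_pos rfl] at h3
  omega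

/-- The (B,N)-pair of the twisted group. -/
def bnPair (hC : P.ckComm = true) (hp : G.Proper) : Cfsg.BNPair ↥G.G1 where
  B := (D.borelSubgroup F ⊓ G.G1).subgroupOf G.G1
  N := (D.monomialSubgroup F ⊓ G.G1).subgroupOf G.G1
  S := {x | (x : GL D.Idx F) ∈ G.gens}
  sup_eq_top := by
    rw [← Subgroup.subgroupOf_sup inf_le_right inf_le_right, G.borel_sup_monomial hC]
    simp
  conj_mem n hn t ht := by
    rw [Subgroup.mem_inf, Subgroup.mem_subgroupOf, Subgroup.mem_subgroupOf] at ht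
    rw [Subgroup.mem_subgroupOf] at hn ⊢
    have : t.val ∈ D.diagonalSubgroup F := h.borel_inf_monomial (F := F) ▸ Subgroup.mem_inf.2 ⟨ht.1.1, ht.2.1⟩
    exact ⟨Subgroup.mem_sup_right ((Subgroup.mem_normalizer_iff.1 (h.monomial_normalizes hn.1) _).1 this),
      (n * t * n⁻¹).2⟩
  subset := by
    rintro x ⟨o, ho, e⟩
    exact Subgroup.mem_subgroupOf.2 (e ▸ G.nW_monomial ho)
  sq_mem := by
    rintro x ⟨o, ho, e⟩
    refine Subgroup.mem_subgroupOf.2 ⟨Subgroup.mem_sup_right ?_, (x * x).2⟩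
    rw [Subgroup.coe_mul, e]
    exact G.sq_diag ho
  inj := by
    rintro x ⟨o, ho, e⟩ x' ⟨o', ho', e'⟩ hm
    have h1 := (Subgroup.mem_subgroupOf.1 hm).1
    rw [Subgroup.coe_mul, Subgroup.coe_inv, e, e'] at h1
    have h2 : (h.nW (F := F) o.2)⁻¹ * h.nW o'.2 ∈ D.borelSubgroup F ⊓ D.monomialSubgroup F :=
      ⟨h1, (D.monomialSubgroup F).mul_mem ((D.monomialSubgroup F).inv_mem (G.nW_monomial ho).1) (G.nW_monomial ho').1⟩
    rw [h.borel_inf_monomial] at h2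
    obtain rfl := G.nW_inj hp ho ho' h2
    exact Subtype.ext (e.trans e'.symm)
  closure_sup := by
    refine le_antisymm (sup_le ((Subgroup.closure_le _).2 ?_) inf_le_right) fun n hn => ?_
    · rintro x ⟨o, ho, e⟩
      exact Subgroup.mem_subgroupOf.2 (e ▸ G.nW_monomial ho)
    · have h1 := G.monomial_gen (Subgroup.mem_subgroupOf.1 hn)
      have hle : Subgroup.closure G.gens ⊔ (D.diagonalSubgroup F ⊓ G.G1) ≤
          Subgroup.map G.G1.subtype (Subgroup.closure {x : ↥G.G1 | (x : GL D.Idx F) ∈ G.gens} ⊔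
            ((D.borelSubgroup F ⊓ G.G1).subgroupOf G.G1 ⊓ (D.monomialSubgroup F ⊓ G.G1).subgroupOf G.G1)) := by
        refine sup_le ((Subgroup.closure_le _).2 ?_) fun d hd => ?_
        · rintro _ ⟨o, ho, rfl⟩
          exact ⟨⟨_, G.nW_mem o ho⟩, Subgroup.mem_sup_left (Subgroup.subset_closure ⟨o, ho, rfl⟩), rfl⟩
        · refine ⟨⟨d, hd.2⟩, Subgroup.mem_sup_right ⟨Subgroup.mem_subgroupOf.2
            ⟨Subgroup.mem_sup_right hd.1, hd.2⟩, Subgroup.mem_subgroupOf.2 ⟨?_, hd.2⟩⟩, rfl⟩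
          rw [h.monomial_eq]
          exact Subgroup.mem_sup_left hd.1
      obtain ⟨m, hm, e⟩ := hle h1
      rwa [← Subtype.ext e]
  mul_mem_union := by
    rintro x ⟨o, ho, e⟩ n hn b hb
    obtain ⟨b₁, h1, b₂, h2, e1 | e1⟩ := G.step hC ho (Subgroup.mem_subgroupOf.1 hn) (Subgroup.mem_subgroupOf.1 hb)
    · left
      rw [DoubleCoset.mem_doubleCoset]
      exact ⟨⟨b₁, h1.2⟩, Subgroup.mem_subgroupOf.2 h1, ⟨b₂, h2.2⟩, Subgroup.mem_subgroupOf.2 h2,
        Subtype.ext (by simpa [e] using e1)⟩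
    · right
      rw [DoubleCoset.mem_doubleCoset]
      exact ⟨⟨b₁, h1.2⟩, Subgroup.mem_subgroupOf.2 h1, ⟨b₂, h2.2⟩, Subgroup.mem_subgroupOf.2 h2,
        Subtype.ext (by simpa [e] using e1)⟩
  conj_ne := by
    rintro x ⟨o, ho, e⟩ heq
    obtain ⟨a, ha, hane⟩ := Subgroup.nontrivial_iff_exists_ne_one _ |>.1
      ((Subgroup.nontrivial_iff_ne_bot _).2 (hp.ne_bot o ho))
    have haG : a ∈ G.G1 := G.root_mem o ho ha
    have hmem : (⟨a, haG⟩ : ↥G.G1) ∈ (D.borelSubgroup F ⊓ G.G1).subgroupOf G.G1 :=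
      Subgroup.mem_subgroupOf.2 ⟨Subgroup.mem_sup_left (h.negS_le_pos _ ha.1), haG⟩
    have h1 : x * ⟨a, haG⟩ * x ∈ ((D.borelSubgroup F ⊓ G.G1).subgroupOf G.G1 : Set ↥G.G1) :=
      heq ▸ ⟨_, hmem, rfl⟩
    have h2 := (Subgroup.mem_subgroupOf.1 h1).1
    rw [Subgroup.coe_mul, Subgroup.coe_mul, e] at h2
    have h3 := h.uminus_conj (F := F) (G.O.spec ho).1.1 (one_mem _) ha.1
    rw [mul_one (h.nW o.2)] at h3
    have h4 : h.nW o.2 * a * (h.nW o.2)⁻¹ ∈ D.borelSubgroup F ⊓ D.negUnipotent F := by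
      refine ⟨?_, h3⟩
      rw [show h.nW o.2 * a * (h.nW o.2)⁻¹ = h.nW o.2 * a * h.nW o.2 * (h.nW o.2 * h.nW o.2)⁻¹ by group]
      exact (D.borelSubgroup F).mul_mem h2 (Subgroup.mem_sup_right ((D.diagonalSubgroup F).inv_mem (G.sq_diag ho)))
    rw [h.borel_inf_neg, Subgroup.mem_bot, conj_eq_one_iff] at h4
    exact hane h4

/-- The normal core of the fixed Borel group is trivial. -/
theorem core_bot (hC : P.ckComm = true)
    (hcoord : ∀ i < P.rank, ∃ (L : List ℕ) (t : ℕ → F), L.Pairwise (· < ·) ∧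
      (∀ r ∈ L, P.isPos r = true) ∧ P.sim i ∈ L ∧ t (P.sim i) ≠ 0 ∧
      (L.map fun r => h.xG r (t r)).prod ∈ T.fixed) :
    ((D.borelSubgroup F ⊓ G.G1).subgroupOf G.G1).normalCore = ⊥ := by
  rw [eq_bot_iff]
  intro g hg
  set C := ((D.borelSubgroup F ⊓ G.G1).subgroupOf G.G1).normalCore
  obtain ⟨l, hl, hc, htop⟩ := exists_top (T := T)
  obtain ⟨n, hn, d₀, hd₀, en⟩ := G.exists_rep hl hc
  have hnm : n ∈ D.monomialSubgroup F := en ▸ h.nW_mul_mem hl hd₀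
  have hH : ∀ x ∈ C, (x : GL D.Idx F) ∈ D.diagonalSubgroup F := by
    intro x hx
    have h1 : (x : GL D.Idx F) ∈ D.borelSubgroup F := (Subgroup.mem_subgroupOf.1 (Subgroup.normalCore_le _ hx)).1
    rw [← h.borel_inf_neg_diag]
    refine Subgroup.mem_inf.2 ⟨h1, ?_⟩
    have hconj := (Subgroup.normalCore_normal _).conj_mem x hx ⟨n, hn⟩⁻¹
    have h2 : n⁻¹ * (x : GL D.Idx F) * n ∈ D.borelSubgroup F := by
      simpa using (Subgroup.mem_subgroupOf.1 (Subgroup.normalCore_le _ hconj)).1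
    obtain ⟨u, hu, d, hd, e⟩ := h.mem_borel h2
    rw [show (x : GL D.Idx F) = n * u * n⁻¹ * (n * d * n⁻¹) by
      rw [show n * u * n⁻¹ * (n * d * n⁻¹) = n * (u * d) * n⁻¹ by group, ← e]; group]
    refine mul_mem (Subgroup.mem_sup_left ?_)
      (Subgroup.mem_sup_right ((Subgroup.mem_normalizer_iff.1 (h.monomial_normalizes hnm) d).1 hd))
    rw [en]
    refine h.uminus_conj hl hd₀ ?_
    rw [h.posUnipotent_eq] at hu
    exact h.genR_mono (fun r hr => ⟨hr, htop r hr⟩) hu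
  obtain ⟨c, hc'⟩ := h.mem_diagonal_iff.1 (hH g hg)
  have hone : ∀ i < P.rank, hchar P c (P.sim i) = (1 : F) := by
    intro i hi
    obtain ⟨L, t, hs, hp, him, hne, hfix⟩ := hcoord i hi
    set u := (L.map fun r => h.xG r (t r)).prod
    have huU : u ∈ D.posUnipotent F := list_prod_mem fun x hx => by
      obtain ⟨r, hr, rfl⟩ := List.mem_map.1 hx; exact h.xG_mem_pos (hp r hr) _
    have hu1 : u ∈ G.G1 := G.pos_fixed_le hC ⟨huU, hfix⟩
    have h1 := (Subgroup.normalCore_normal _).conj_mem g⁻¹ (inv_mem hg) ⟨u, hu1⟩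
    have h2 := hH _ (mul_mem hg h1)
    simp only [Subgroup.coe_mul, Subgroup.coe_inv] at h2
    rw [← hc', ← mul_assoc, ← mul_assoc] at h2
    have e1 : h.hHom c * u * (h.hHom c)⁻¹ = (L.map fun r => h.xG r (hchar P c r * t r)).prod := by
      rw [← MulAut.conj_apply, map_list_prod, List.map_map]
      refine congrArg List.prod (List.map_congr_left fun r hr => ?_)
      exact h.hHom_xG c (P.isPos_iff.1 (hp r hr)).2 _
    have hv : h.hHom c * u * (h.hHom c)⁻¹ ∈ D.posUnipotent F :=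
      e1 ▸ list_prod_mem fun x hx => by
        obtain ⟨r, hr, rfl⟩ := List.mem_map.1 hx; exact h.xG_mem_pos (hp r hr) _
    have h3 : h.hHom c * u * (h.hHom c)⁻¹ * u⁻¹ ∈ D.posUnipotent F ⊓ D.diagonalSubgroup F :=
      ⟨(D.posUnipotent F).mul_mem hv ((D.posUnipotent F).inv_mem huU), h2⟩
    rw [h.pos_inf_diagonal, Subgroup.mem_bot, mul_inv_eq_one, e1] at h3
    have h4 := h.prod_unique L hs hp _ _ h3 _ him
    exact mul_right_cancel₀ hne (h4.trans (one_mul _).symm)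
  rw [Subgroup.mem_bot]
  refine Subtype.ext ?_
  rw [← hc', OneMemClass.coe_one]
  apply Units.ext
  rw [h.coe_hHom, Units.val_one, dM, ← Matrix.diagonal_one]
  congr 1
  funext x
  rcases x with i | s
  · rfl
  · show hchar P c s.val = 1
    have hs := h.slt s
    refine h.root_induction (Q := fun r => hchar P c r = (1 : F)) ?_ ?_ s.val hs
    · exact hone
    · intro i hi r hr hQ
      have e : hchar P c (P.w i r) = hchar P c r * (hchar P c (P.sim i)) ^ (-P.A i r) := by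
        simp only [hchar, ← Finset.prod_zpow, ← Finset.prod_mul_distrib]
        refine Finset.prod_congr rfl fun j _ => ?_
        rw [h.A_w hi j.isLt hr, ← zpow_mul, ← zpow_add₀ (Units.ne_zero _)]
        congr 1; ring
      rw [e, hQ, hone i hi, one_zpow, mul_one]

/-- The group is simple once perfect and irreducible. -/
theorem simple (hC : P.ckComm = true) (hp : G.Proper)
    (hperf : commutator ↥G.G1 = ⊤) (hirr : (G.bnPair hC hp).Irreducible)
    (hcore : ((D.borelSubgroup F ⊓ G.G1).subgroupOf G.G1).normalCore = ⊥) (hne : G.G1 ≠ ⊥) :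
    IsSimpleGroup ↥G.G1 ∧ ¬ IsMulCommutative ↥G.G1 := by
  haveI : Nontrivial ↥G.G1 := (Subgroup.nontrivial_iff_ne_bot _).2 hne
  haveI := h.borel_solvable (F := F) hC
  refine ⟨Cfsg.Agent.S0319.result (G.bnPair hC hp) hirr ?_ hperf hcore, fun hcomm => ?_⟩
  · have hl : D.borelSubgroup F ⊓ G.G1 ≤ D.borelSubgroup F := inf_le_left
    have hr : D.borelSubgroup F ⊓ G.G1 ≤ G.G1 := inf_le_right
    exact Group.isSolvable_of_isSolvable_injective
      (f := (Subgroup.inclusion hl).comp (Subgroup.subgroupOfEquivOfLe hr).toMonoidHom)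
      ((Subgroup.inclusion_injective hl).comp (Subgroup.subgroupOfEquivOfLe hr).injective)
  · have : commutator ↥G.G1 ≤ ⊥ := by
      rw [commutator_def, Subgroup.commutator_le]
      intro a _ b _
      rw [Subgroup.mem_bot, commutatorElement_eq_one_iff_mul_comm]
      exact hcomm.is_comm.comm a b
    rw [hperf] at this
    exact (bot_ne_top : (⊥ : Subgroup ↥G.G1) ≠ ⊤) (le_antisymm bot_le this)

end TwistGrp

end Cfsg.Agent.Chev
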