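/-
The twist by a diagram symmetry composed with a field endomorphism.
-/
import Cfsg.Agent.Lib.Chev.Graph
import Cfsg.Agent.Lib.Chev.FieldAut
import Cfsg.Agent.Lib.Chev.TwistBN
import Cfsg.Agent.Lib.Chev.TwistEnum

set_option autoImplicit false

namespace Cfsg.Agent.Chev

open Cfsg.Lie
open scoped Matrix

/-- Two roots with commuting root groups. -/
def ckOrth (P : Pk) (a b : ℕ) : Bool :=
  Nat.blt a P.nroots && Nat.blt b P.nroots && !Nat.beq a b && !Nat.beq a (P.ng b) &&
    Nat.beq (P.len a b) 0 && Nat.beq (P.len b a) 0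

/-- A root fixed with positive sign. -/
def ck1 (P : Pk) (g : Gph) (a : ℕ) : Bool :=
  Nat.blt a P.nroots && Nat.beq (g.rr a) a && decide (g.eps a = 1)

/-- Two roots exchanged with positive signs. -/
def ck2 (P : Pk) (g : Gph) (a b : ℕ) : Bool :=
  ckOrth P a b && Nat.beq (g.rr a) b && Nat.beq (g.rr b) a && decide (g.eps a = 1) && decide (g.eps b = 1)

/-- Three roots permuted cyclically with positive signs. -/
def ck3 (P : Pk) (g : Gph) (a b c : ℕ) : Bool :=
  ckOrth P a b && ckOrth P b c && ckOrth P a c && Nat.beq (g.rr a) b && Nat.beq (g.rr b) c &&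
    Nat.beq (g.rr c) a && decide (g.eps a = 1) && decide (g.eps b = 1) && decide (g.eps c = 1)

/-- The roots made negative by a word form a given list. -/
def ckNeg (P : Pk) (l L : List ℕ) : Bool :=
  P.allRoots.all fun r => (P.isPos r && !P.isPos (wl P l r)) == L.any (Nat.beq r)

variable {D : ChevalleyDatum} {P : Pk} {F : Type*} [Field F]

namespace Ok

variable (h : Ok D P)
include h

theorem commute_xG (hC : P.ckComm = true) {r s : ℕ} (ho : ckOrth P r s = true) (t u : F) :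
    Commute (h.xG r t) (h.xG s u) := by
  simp only [ckOrth, Bool.and_eq_true, Nat.blt_eq, Bool.not_eq_true', nbeq, decide_eq_true_eq,
    decide_eq_false_iff_not] at ho
  obtain ⟨⟨⟨⟨⟨hr, hs⟩, hne⟩, hne'⟩, l1⟩, l2⟩ := ho
  have hsn : s ≠ P.ng r := fun e => hne' (by rw [e, ng_ng hr])
  have h0 : P.cterms r s = [] := List.eq_nil_iff_forall_not_mem.2 fun c hc =>
    h.cterms_ind (fun _ => False) hr hs (by simp [l1]) (by simp [l2]) (fun _ _ hf => hf.elim)
      (fun _ _ hf => hf.elim) c hc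
  apply Units.ext
  simp only [Units.val_mul, h.coe_xG' hr, h.coe_xG' hs]
  rw [h.comm_formula hC hr hs (Ne.symm hne) hsn t u, Pk.cword, h0]
  simp [monWord]

theorem negS_eq {l L : List ℕ} (hck : ckNeg P l L = true) (hL : ∀ r ∈ L, r < P.nroots) :
    negS P l = (· ∈ L) := by
  funext r
  simp only [ckNeg, List.all_eq_true, Pk.mem_allRoots, beq_iff_eq] at hck
  refine propext ⟨fun hr => ?_, fun hr => ?_⟩
  · have := hck r (P.isPos_iff.1 hr.1).2
    rw [hr.1, hr.2] at this
    simp only [Bool.not_false, Bool.and_self, nbeq, Bool.true_eq, List.any_eq_true, decide_eq_true_eq] at this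
    obtain ⟨x, hx, rfl⟩ := this
    exact hx
  · have h1 := hck r (hL r hr)
    have h2 : L.any (Nat.beq r) = true := List.any_eq_true.2 ⟨r, hr, by simp [nbeq]⟩
    rw [h2, Bool.and_eq_true, Bool.not_eq_true'] at h1
    exact h1

theorem cnt_eq {l L : List ℕ} (hck : ckNeg P l L = true) (hL : ∀ r ∈ L, r < P.nroots) (hnd : L.Nodup) :
    Twist.cnt P l = L.length := by
  classical
  rw [Twist.cnt, h.negS_eq hck hL, show {r | r ∈ L} = ↑L.toFinset by ext; simp, Set.ncard_coe_finset,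
    List.toFinset_card_of_nodup hnd]

theorem ht_eq_nt {r : ℕ} (t : F) : h.ht r t = h.nt r t * h.nt r (-1) := rfl

theorem mem_pair {a b : ℕ} (hC : P.ckComm = true) (ho : ckOrth P a b = true) {g : GL D.Idx F}
    (hg : g ∈ h.genR (fun r => r ∈ ([a, b] : List ℕ))) : ∃ t u : F, g = h.xG a t * h.xG b u := by
  induction hg using Subgroup.closure_induction'' with
  | one => exact ⟨0, 0, by rw [h.xG_zero, h.xG_zero, mul_one]⟩
  | mem x hx =>
    obtain ⟨r, t, hr, rfl⟩ := hx
    rcases List.mem_pair.1 hr with rfl | rfl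
    · exact ⟨t, 0, by rw [h.xG_zero, mul_one]⟩
    · exact ⟨0, t, by rw [h.xG_zero, one_mul]⟩
  | inv_mem x hx =>
    obtain ⟨r, t, hr, rfl⟩ := hx
    rcases List.mem_pair.1 hr with rfl | rfl
    · exact ⟨-t, 0, by rw [h.xG_zero, mul_one, h.xG_inv]⟩
    · exact ⟨0, -t, by rw [h.xG_zero, one_mul, h.xG_inv]⟩
  | mul x y _ _ ihx ihy =>
    obtain ⟨t, u, rfl⟩ := ihx
    obtain ⟨t', u', rfl⟩ := ihy
    exact ⟨t + t', u + u', by rw [(h.commute_xG hC ho t' u).symm.mul_mul_mul_comm, h.xG_add, h.xG_add]⟩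

theorem mem_triple {a b c : ℕ} (hC : P.ckComm = true) (hab : ckOrth P a b = true) (hbc : ckOrth P b c = true)
    (hac : ckOrth P a c = true) {g : GL D.Idx F} (hg : g ∈ h.genR (fun r => r ∈ ([a, b, c] : List ℕ))) :
    ∃ t u v : F, g = h.xG a t * h.xG b u * h.xG c v := by
  induction hg using Subgroup.closure_induction'' with
  | one => exact ⟨0, 0, 0, by simp [h.xG_zero]⟩
  | mem x hx =>
    obtain ⟨r, t, hr, rfl⟩ := hx
    simp only [List.mem_cons, List.not_mem_nil, or_false] at hr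
    rcases hr with rfl | rfl | rfl
    · exact ⟨t, 0, 0, by simp [h.xG_zero]⟩
    · exact ⟨0, t, 0, by simp [h.xG_zero]⟩
    · exact ⟨0, 0, t, by simp [h.xG_zero]⟩
  | inv_mem x hx =>
    obtain ⟨r, t, hr, rfl⟩ := hx
    simp only [List.mem_cons, List.not_mem_nil, or_false] at hr
    rcases hr with rfl | rfl | rfl
    · exact ⟨-t, 0, 0, by simp [h.xG_zero, h.xG_inv]⟩
    · exact ⟨0, -t, 0, by simp [h.xG_zero, h.xG_inv]⟩
    · exact ⟨0, 0, -t, by simp [h.xG_zero, h.xG_inv]⟩
  | mul x y _ _ ihx ihy =>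
    obtain ⟨t, u, v, rfl⟩ := ihx
    obtain ⟨t', u', v', rfl⟩ := ihy
    refine ⟨t + t', u + u', v + v', ?_⟩
    have c1 : Commute (h.xG c v) (h.xG a t' * h.xG b u') :=
      ((h.commute_xG hC hac t' v).symm).mul_right ((h.commute_xG hC hbc u' v).symm)
    rw [← h.xG_add a, ← h.xG_add b, ← h.xG_add c]
    calc h.xG a t * h.xG b u * h.xG c v * (h.xG a t' * h.xG b u' * h.xG c v')
        = h.xG a t * h.xG b u * (h.xG c v * (h.xG a t' * h.xG b u')) * h.xG c v' := by group
      _ = h.xG a t * (h.xG b u * h.xG a t') * h.xG b u' * (h.xG c v * h.xG c v') := by rw [c1.eq]; group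
      _ = _ := by rw [(h.commute_xG hC hab t' u).symm.eq]; group

end Ok

variable {h : Ok D P} {g : Gph}

/-- The twist by a symmetry and a field endomorphism. -/
noncomputable def stdTwist (h : Ok D P) (hg : g.ckG P = true) (φ : F →+* F) : Twist h F where
  σ x := h.gT hg * gmap D φ x * (h.gT hg)⁻¹
  map_mul' a _ b _ := by simp [mul_assoc]
  ρ := g.rr
  π := g.pp
  ρ_lt r hr := (h.groot hg hr).1
  ρ_pos r hr := (h.groot hg hr).2.2.2.2.2.1
  ρ_inj r hr s hs e := by rw [← (h.groot hg hr).2.2.2.1, e, (h.groot hg hs).2.2.2.1]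
  π_lt i hi := (h.gnode hg hi).1
  ρ_sim i hi := (h.gnode hg hi).2.2.2.2.1
  f r :=
    { toFun := fun t => (g.eps r : F) * φ t
      map_zero' := by simp
      map_add' := fun a b => by simp [mul_add] }
  f_inj r _ := by
    intro a b e
    have hsq : ((g.eps r : F)) * (g.eps r : F) = 1 := by rw [← Int.cast_mul, Ok.geps_sq, Int.cast_one]
    exact φ.injective (mul_left_cancel₀ (left_ne_zero_of_mul_eq_one hsq) e)
  σ_xG r hr t := by
    show h.gT hg * gmap D φ (h.xG r t) * (h.gT hg)⁻¹ = _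
    rw [h.gmap_xG φ hr, h.gT_xG hg hr]
    rfl
  σ_nG i hi := by
    show h.gT hg * gmap D φ (h.nG i) * (h.gT hg)⁻¹ = _
    obtain ⟨h1, -, -, -, h2, h3, h4⟩ := h.gnode hg hi
    rw [h.gmap_nG φ hi, Ok.nG, Ok.nG, Ok.nt, Ok.nt, inv_one]
    have hs := h.sim_lt hi
    have hc : ∀ (q x y z : GL D.Idx F), q * (x * y * z) * q⁻¹ = (q * x * q⁻¹) * (q * y * q⁻¹) * (q * z * q⁻¹) := by
      intros; group
    rw [hc, h.gT_xG hg hs, h.gT_xG hg (Ok.ng_lt hs), (h.groot hg hs).2.2.2.2.1, h2, h3, h4, Int.cast_one,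
      one_mul, one_mul]
  τ :=
    { toFun := fun c j => Units.map φ.toMonoidHom (c ⟨g.pn j, (h.gnode hg j.isLt).2.1⟩)
      map_one' := by funext j; simp
      map_mul' := fun c d => by funext j; simp }
  σ_hHom c := by
    show h.gT hg * gmap D φ (h.hHom c) * (h.gT hg)⁻¹ = _
    let T' : (Fin P.rank → Fˣ) →* (Fin P.rank → Fˣ) :=
      { toFun := fun c j => Units.map φ.toMonoidHom (c ⟨g.pn j, (h.gnode hg j.isLt).2.1⟩)
        map_one' := by funext j; simp
        map_mul' := fun c d => by funext j; simp }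
    show h.gT hg * gmap D φ (h.hHom c) * (h.gT hg)⁻¹ = h.hHom (T' c)
    have key : ((MulAut.conj (h.gT hg)).toMonoidHom.comp ((gmap D φ).comp h.hHom)) =
        (h.hHom (F := F)).comp T' := by
      refine MonoidHom.pi_ext fun i t => ?_
      simp only [MonoidHom.comp_apply, MulEquiv.toMonoidHom_eq_coe, MonoidHom.coe_coe, MulAut.conj_apply]
      obtain ⟨h1, -, hpn, -, h2, h3, h4⟩ := h.gnode hg i.isLt
      have hs := h.sim_lt i.isLt
      have e1 : T' (Pi.mulSingle i t) = Pi.mulSingle ⟨g.pp i, h1⟩ (Units.map φ.toMonoidHom t) := by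
        funext j
        show Units.map φ.toMonoidHom (Pi.mulSingle (M := fun _ => Fˣ) i t _) = _
        by_cases ej : j = ⟨g.pp i, h1⟩
        · subst ej
          rw [show (⟨g.pn (g.pp i.val), _⟩ : Fin P.rank) = i from Fin.ext hpn, Pi.mulSingle_eq_same,
            Pi.mulSingle_eq_same]
        · rw [Pi.mulSingle_eq_of_ne, Pi.mulSingle_eq_of_ne ej, map_one]
          intro e
          exact ej (Fin.ext ((h.gnode hg j.isLt).2.2.2.1.symm.trans (congrArg g.pp (congrArg Fin.val e))))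
      rw [e1, h.hHom_single, h.hHom_single, Ok.ht, Ok.ht, map_mul, h.gmap_nt φ hs, h.gmap_nt φ hs, map_neg,
        map_one φ]
      have hn : ∀ u : F, h.gT hg * h.nt (P.sim i) u * (h.gT hg)⁻¹ = h.nt (P.sim (g.pp i)) u := by
        intro u
        have hc : ∀ (q x y z : GL D.Idx F),
            q * (x * y * z) * q⁻¹ = (q * x * q⁻¹) * (q * y * q⁻¹) * (q * z * q⁻¹) := by
          intros; group
        rw [Ok.nt, hc, h.gT_xG hg hs, h.gT_xG hg (Ok.ng_lt hs), (h.groot hg hs).2.2.2.2.1, h2, h3, h4,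
          Int.cast_one, one_mul, one_mul, Ok.nt]
      rw [show ∀ (q x y : GL D.Idx F), q * (x * y) * q⁻¹ = (q * x * q⁻¹) * (q * y * q⁻¹) by
        intros; group, hn, hn]
      rfl
    exact DFunLike.congr_fun key c

namespace Std

variable (hg : g.ckG P = true) (φ : F →+* F)

theorem σ_xG' {r : ℕ} (hr : r < P.nroots) (e : g.eps r = 1) (t : F) :
    (stdTwist h hg φ).σ (h.xG r t) = h.xG (g.rr r) (φ t) := by
  rw [(stdTwist h hg φ).σ_xG r hr t]
  show h.xG (g.rr r) ((g.eps r : F) * φ t) = _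
  rw [e, Int.cast_one, one_mul]

theorem xG_fixed {a : ℕ} (hck : ck1 P g a = true) {t : F} (ht : φ t = t) :
    h.xG a t ∈ (stdTwist h hg φ).fixed := by
  simp only [ck1, Bool.and_eq_true, Nat.blt_eq, nbeq, decide_eq_true_eq] at hck
  refine (stdTwist h hg φ).mem_fixed.2 ⟨h.mem_group_of_xG _ _, ?_⟩
  rw [σ_xG' hg φ hck.1.1 hck.2, hck.1.2, ht]

theorem pair_fixed (hC : P.ckComm = true) {a b : ℕ} (hck : ck2 P g a b = true) {t : F} (ht : φ (φ t) = t) :
    h.xG a t * h.xG b (φ t) ∈ (stdTwist h hg φ).fixed := by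
  simp only [ck2, Bool.and_eq_true, nbeq, decide_eq_true_eq] at hck
  obtain ⟨⟨⟨⟨ho, e1⟩, e2⟩, s1⟩, s2⟩ := hck
  have hab := ho
  simp only [ckOrth, Bool.and_eq_true, Nat.blt_eq] at hab
  refine (stdTwist h hg φ).mem_fixed.2 ⟨mul_mem (h.mem_group_of_xG _ _) (h.mem_group_of_xG _ _), ?_⟩
  rw [(stdTwist h hg φ).map_mul' _ (h.mem_group_of_xG _ _) _ (h.mem_group_of_xG _ _),
    σ_xG' hg φ hab.1.1.1.1.1 s1, σ_xG' hg φ hab.1.1.1.1.2 s2, e1, e2, ht]
  exact ((h.commute_xG hC ho _ _).eq).symm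

theorem triple_fixed (hC : P.ckComm = true) {a b c : ℕ} (hck : ck3 P g a b c = true) {t : F}
    (ht : φ (φ (φ t)) = t) :
    h.xG a t * h.xG b (φ t) * h.xG c (φ (φ t)) ∈ (stdTwist h hg φ).fixed := by
  simp only [ck3, Bool.and_eq_true, nbeq, decide_eq_true_eq] at hck
  obtain ⟨⟨⟨⟨⟨⟨⟨⟨hab, hbc⟩, hac⟩, e1⟩, e2⟩, e3⟩, s1⟩, s2⟩, s3⟩ := hck
  have h1 := hab; have h2 := hbc
  simp only [ckOrth, Bool.and_eq_true, Nat.blt_eq] at h1 h2
  refine (stdTwist h hg φ).mem_fixed.2
    ⟨mul_mem (mul_mem (h.mem_group_of_xG _ _) (h.mem_group_of_xG _ _)) (h.mem_group_of_xG _ _), ?_⟩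
  rw [(stdTwist h hg φ).map_mul' _ (mul_mem (h.mem_group_of_xG _ _) (h.mem_group_of_xG _ _)) _
    (h.mem_group_of_xG _ _), (stdTwist h hg φ).map_mul' _ (h.mem_group_of_xG _ _) _ (h.mem_group_of_xG _ _),
    σ_xG' hg φ h1.1.1.1.1.1 s1, σ_xG' hg φ h1.1.1.1.1.2 s2, σ_xG' hg φ h2.1.1.1.1.2 s3, e1, e2, e3, ht]
  exact (((h.commute_xG hC hab t (φ t)).symm.mul_left ((h.commute_xG hC hac t (φ (φ t))).symm)).eq).trans
    (mul_assoc _ _ _).symm

theorem fixed_single {a : ℕ} (hp : P.isPos a = true) (hck : ck1 P g a = true) {x : GL D.Idx F}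
    (hx : x ∈ h.genR (fun r => r ∈ ([a] : List ℕ)) ⊓ (stdTwist h hg φ).fixed) :
    ∃ t, φ t = t ∧ x = h.xG a t := by
  obtain ⟨hx, hf⟩ := hx
  simp only [ck1, Bool.and_eq_true, Nat.blt_eq, nbeq, decide_eq_true_eq] at hck
  have h1 : h.genR (F := F) (fun r => r ∈ ([a] : List ℕ)) ≤ D.rootSubgroup F a :=
    h.genR_le fun r hr t => by rw [List.mem_singleton] at hr; exact hr ▸ h.mem_rootSubgroup t
  have h2 := h1 hx
  rw [← SetLike.mem_coe, h.rootSubgroup_eq] at h2
  obtain ⟨t, rfl⟩ := h2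
  refine ⟨t, ?_, rfl⟩
  have e := ((stdTwist h hg φ).mem_fixed.1 hf).2
  rw [σ_xG' hg φ hck.1.1 hck.2, hck.1.2] at e
  exact h.xG_inj_param hck.1.1 e

theorem pair_unique {a b : ℕ} (hC : P.ckComm = true) (ha : P.isPos a = true) (hb : P.isPos b = true)
    (ho : ckOrth P a b = true) {t u t' u' : F} (e : h.xG a t * h.xG b u = h.xG a t' * h.xG b u') :
    t = t' ∧ u = u' := by
  have hne : a ≠ b := by
    simp only [ckOrth, Bool.and_eq_true, Bool.not_eq_true', nbeq, decide_eq_false_iff_not] at ho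
    exact ho.1.1.1.2
  rcases lt_or_gt_of_ne hne with hlt | hlt
  · have hu := h.prod_unique [a, b] (List.pairwise_pair.2 hlt) (fun r hr => by
      rcases List.mem_pair.1 hr with rfl | rfl <;> assumption)
      (fun r => if r = a then t else u) (fun r => if r = a then t' else u')
      (by simpa [hne.symm] using e)
    exact ⟨by simpa using hu a (by simp), by simpa [hne.symm] using hu b (by simp)⟩
  · rw [(h.commute_xG hC ho t u).eq, (h.commute_xG hC ho t' u').eq] at e
    have hu := h.prod_unique [b, a] (List.pairwise_pair.2 hlt) (fun r hr => by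
      rcases List.mem_pair.1 hr with rfl | rfl <;> assumption)
      (fun r => if r = a then t else u) (fun r => if r = a then t' else u')
      (by simpa [hne.symm] using e)
    exact ⟨by simpa using hu a (by simp), by simpa [hne.symm] using hu b (by simp)⟩

theorem fixed_pair (hC : P.ckComm = true) {a b : ℕ} (ha : P.isPos a = true) (hb : P.isPos b = true)
    (hck : ck2 P g a b = true) {x : GL D.Idx F}
    (hx : x ∈ h.genR (fun r => r ∈ ([a, b] : List ℕ)) ⊓ (stdTwist h hg φ).fixed) :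
    ∃ t, x = h.xG a t * h.xG b (φ t) := by
  simp only [ck2, Bool.and_eq_true, nbeq, decide_eq_true_eq] at hck
  obtain ⟨⟨⟨⟨ho, e1⟩, e2⟩, s1⟩, s2⟩ := hck
  obtain ⟨t, u, rfl⟩ := h.mem_pair hC ho hx.1
  refine ⟨t, ?_⟩
  have e := ((stdTwist h hg φ).mem_fixed.1 hx.2).2
  rw [(stdTwist h hg φ).map_mul' _ (h.mem_group_of_xG _ _) _ (h.mem_group_of_xG _ _),
    σ_xG' hg φ (P.isPos_iff.1 ha).2 s1, σ_xG' hg φ (P.isPos_iff.1 hb).2 s2, e1, e2,
    ((h.commute_xG hC ho (φ u) (φ t)).eq).symm] at e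
  rw [(pair_unique hC ha hb ho e).2]

theorem triple_unique {a b c : ℕ} (hC : P.ckComm = true) (ha : P.isPos a = true) (hb : P.isPos b = true)
    (hc : P.isPos c = true) (hab : ckOrth P a b = true) (hbc : ckOrth P b c = true) (hac : ckOrth P a c = true)
    {t u v t' u' v' : F} (e : h.xG a t * h.xG b u * h.xG c v = h.xG a t' * h.xG b u' * h.xG c v') :
    t = t' ∧ u = u' ∧ v = v' := by
  classical
  set L := ([a, b, c] : List ℕ).mergeSort (· ≤ ·)
  have hperm : L.Perm [a, b, c] := List.mergeSort_perm _ _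
  have hne : ([a, b, c] : List ℕ).Nodup := by
    simp only [ckOrth, Bool.and_eq_true, Bool.not_eq_true', nbeq, decide_eq_false_iff_not] at hab hbc hac
    simp [hab.1.1.1.2, hbc.1.1.1.2, hac.1.1.1.2]
  have hs : L.Pairwise (· < ·) := by
    have h1 : L.Pairwise (· ≤ ·) := (List.pairwise_mergeSort (le := fun x y : ℕ => decide (x ≤ y))
      (fun x y z => by simp; omega) (fun x y => by simp; omega) _).imp (by simp)
    exact (h1.and (hperm.nodup_iff.2 hne)).imp fun ⟨p, q⟩ => lt_of_le_of_ne p q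
  let F1 : F → F → F → ℕ → F := fun x y z r => if r = a then x else if r = b then y else z
  have hba : b ≠ a := fun e => by simp [e] at hne
  have hca : c ≠ a := fun e => by simp [e] at hne
  have hcb : c ≠ b := fun e => by simp [e] at hne
  have key : ∀ x y z : F, (L.map fun r => h.xG r (F1 x y z r)).prod = h.xG a x * h.xG b y * h.xG c z := by
    intro x y z
    rw [(hperm.map _).prod_eq' ?_]
    · simp [F1, hba, hca, hcb, mul_assoc]
    · rw [List.pairwise_map]
      have hall : ([a, b, c] : List ℕ).Pairwise fun p q => Commute (h.xG p (F1 x y z p)) (h.xG q (F1 x y z q)) := by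
        simp [h.commute_xG hC hab, h.commute_xG hC hbc, h.commute_xG hC hac]
      exact (hperm.symm.pairwise_iff (fun {p q} (hh : Commute _ _) => hh.symm)).1 hall
  have hu := h.prod_unique L hs (fun r hr => by
      have := hperm.mem_iff.1 hr
      simp only [List.mem_cons, List.not_mem_nil, or_false] at this
      rcases this with rfl | rfl | rfl <;> assumption)
    (F1 t u v) (F1 t' u' v') (by rw [key, key, e])
  refine ⟨?_, ?_, ?_⟩
  · simpa [F1] using hu a (hperm.mem_iff.2 (by simp))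
  · simpa [F1, hba] using hu b (hperm.mem_iff.2 (by simp))
  · simpa [F1, hca, hcb] using hu c (hperm.mem_iff.2 (by simp))

theorem fixed_triple (hC : P.ckComm = true) {a b c : ℕ} (ha : P.isPos a = true) (hb : P.isPos b = true)
    (hc : P.isPos c = true) (hck : ck3 P g a b c = true) {x : GL D.Idx F}
    (hx : x ∈ h.genR (fun r => r ∈ ([a, b, c] : List ℕ)) ⊓ (stdTwist h hg φ).fixed) :
    ∃ t, x = h.xG a t * h.xG b (φ t) * h.xG c (φ (φ t)) := by
  simp only [ck3, Bool.and_eq_true, nbeq, decide_eq_true_eq] at hck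
  obtain ⟨⟨⟨⟨⟨⟨⟨⟨hab, hbc⟩, hac⟩, e1⟩, e2⟩, e3⟩, s1⟩, s2⟩, s3⟩ := hck
  obtain ⟨t, u, v, rfl⟩ := h.mem_triple hC hab hbc hac hx.1
  refine ⟨t, ?_⟩
  have e := ((stdTwist h hg φ).mem_fixed.1 hx.2).2
  rw [(stdTwist h hg φ).map_mul' _ (mul_mem (h.mem_group_of_xG _ _) (h.mem_group_of_xG _ _)) _
      (h.mem_group_of_xG _ _), (stdTwist h hg φ).map_mul' _ (h.mem_group_of_xG _ _) _ (h.mem_group_of_xG _ _),
    σ_xG' hg φ (P.isPos_iff.1 ha).2 s1, σ_xG' hg φ (P.isPos_iff.1 hb).2 s2,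
    σ_xG' hg φ (P.isPos_iff.1 hc).2 s3, e1, e2, e3,
    ((h.commute_xG hC hab (φ v) (φ t)).symm.mul_left ((h.commute_xG hC hac (φ v) (φ u)).symm)).eq,
    ← mul_assoc] at e
  obtain ⟨-, hu, hv⟩ := triple_unique hC ha hb hc hab hbc hac e
  rw [← hv, ← hu]

/-- Lifting fixed elements of the diagonal group. -/
theorem diag_lift {e n : ℕ} (hco : Nat.Coprime e n)
    (hker : ∀ c, h.hHom (F := F) c = 1 → c ^ e = 1)
    (hτ : ∀ c, ((stdTwist h hg φ).τ)^[n] c = c) {d : GL D.Idx F}
    (hd : d ∈ D.diagonalSubgroup F) (hf : d ∈ (stdTwist h hg φ).fixed) :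
    ∃ c, (stdTwist h hg φ).τ c = c ∧ h.hHom c = d := by
  set τ := (stdTwist h hg φ).τ
  obtain ⟨c, rfl⟩ := h.mem_diagonal_iff.1 hd
  have e0 : h.hHom (τ c) = h.hHom c := by
    rw [← (stdTwist h hg φ).σ_hHom]; exact ((stdTwist h hg φ).mem_fixed.1 hf).2
  -- the `e`-th power
  have h1 : τ (c ^ e) = c ^ e := by
    have hz : h.hHom (F := F) (τ c * c⁻¹) = 1 := by rw [map_mul, map_inv, e0, mul_inv_cancel]
    have h2 := hker _ hz
    rw [mul_pow, inv_pow, mul_inv_eq_one] at h2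
    rw [map_pow, h2]
  -- the norm
  have hi : ∀ i, h.hHom (τ^[i] c) = h.hHom c := by
    intro i
    induction i with
    | zero => rfl
    | succ i ih =>
      rw [Function.iterate_succ_apply', ← (stdTwist h hg φ).σ_hHom, ih]
      exact ((stdTwist h hg φ).mem_fixed.1 hf).2
  set m := ∏ i ∈ Finset.range n, τ^[i] c with hm
  have h2 : τ m = m := by
    have e1 : τ m = ∏ i ∈ Finset.range n, τ^[i + 1] c := by
      rw [hm, map_prod]
      exact Finset.prod_congr rfl fun i _ => (Function.iterate_succ_apply' _ _ _).symm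
    rw [e1]
    have e2 := Finset.prod_range_succ' (fun i => τ^[i] c) n
    rw [Finset.prod_range_succ (fun i => τ^[i] c) n, hτ c] at e2
    exact (mul_right_cancel e2).symm
  have h3 : h.hHom m = h.hHom c ^ n := by
    have e2 : ∀ N, h.hHom (∏ i ∈ Finset.range N, τ^[i] c) = h.hHom c ^ N := by
      intro N
      induction N with
      | zero => simp
      | succ N ih => rw [Finset.prod_range_succ, map_mul, ih, hi, pow_succ]
    exact e2 n
  obtain ⟨a, b, hab⟩ : ∃ a b : ℤ, (e : ℤ) * a + (n : ℤ) * b = 1 :=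
    ⟨Int.gcdA e n, Int.gcdB e n, by rw [← Int.gcd_eq_gcd_ab]; simp [Int.gcd_natCast_natCast, hco.gcd_eq_one]⟩
  refine ⟨(c ^ e) ^ a * m ^ b, by rw [map_mul, map_zpow, map_zpow, h1, h2], ?_⟩
  rw [map_mul, map_zpow, map_zpow, map_pow, h3, ← zpow_natCast (h.hHom c) e, ← zpow_natCast (h.hHom c) n,
    ← zpow_mul, ← zpow_mul, ← zpow_add, hab, zpow_one]

theorem fixed_field_card [Fintype F] {q k : ℕ} (hq : 2 ≤ q) (hk : 1 ≤ k) (hF : Fintype.card F = q ^ k) :
    Nat.card {t : F // t ^ q = t} = q ∧ Nat.card {t : Fˣ // t ^ (q - 1) = 1} = q - 1 := by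
  classical
  have h1 : Nat.card {t : Fˣ // t ^ (q - 1) = 1} = q - 1 := by
    refine (Nat.card_congr (Equiv.subtypeEquivRight fun t : Fˣ =>
      (MonoidHom.mem_ker (f := (powMonoidHom (q - 1) : Fˣ →* Fˣ)) (x := t)).symm)).trans ?_
    rw [IsCyclic.card_powMonoidHom_ker, Nat.card_eq_fintype_card, Fintype.card_units, hF]
    exact Nat.gcd_eq_right (by simpa using Nat.sub_dvd_pow_sub_pow q 1 k)
  refine ⟨?_, h1⟩
  have e : {t : F // t ^ q = t} ≃ Option {t : Fˣ // t ^ (q - 1) = 1} :=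
    { toFun := fun t => if h0 : t.1 = 0 then none else some ⟨Units.mk0 t.1 h0, Units.ext (by
        have := (pow_sub_one_mul (show q ≠ 0 by omega) t.1).trans t.2
        simpa using (mul_eq_right₀ h0).1 this)⟩
      invFun := fun o => o.elim ⟨0, zero_pow (by omega)⟩ fun t => ⟨(t.1 : F), by
        have := congrArg Units.val t.2
        push_cast at this
        rw [← pow_sub_one_mul (show q ≠ 0 by omega) (t.1 : F), this, one_mul]⟩
      left_inv := fun t => by
        by_cases h0 : t.1 = 0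
        · exact Subtype.ext (by simp [h0])
        · exact Subtype.ext (by simp [h0])
      right_inv := fun o => by
        rcases o with _ | t
        · simp
        · simp }
  rw [Nat.card_congr e, Nat.card_eq_fintype_card, Fintype.card_option, ← Nat.card_eq_fintype_card, h1]
  omega

theorem exists_frob [Fintype F] {q k : ℕ} (hq : IsPrimePow q) (hk : 1 ≤ k) (hF : Fintype.card F = q ^ k) :
    ∃ φ : F →+* F, ∀ t, φ t = t ^ q := by
  obtain ⟨p, n, hp, hn, rfl⟩ := hq
  have hp' : p.Prime := hp.nat_prime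
  haveI := Fact.mk hp'
  haveI : CharP F p := by
    refine charP_of_card_eq_prime_pow (f := n * k) ?_
    rw [hF, ← pow_mul]
  exact ⟨iterateFrobenius F p n, fun t => iterateFrobenius_def p n t⟩

end Std

end Cfsg.Agent.Chev
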