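/-
Tori, perfectness, irreducibility and Coxeter groups of twisted groups.
-/
import Cfsg.Agent.Lib.Chev.TwistStd
import Cfsg.Agent.Lib.Chev.Coxeter

set_option autoImplicit false

namespace Cfsg.Agent.Chev

open Cfsg.Lie
open scoped Matrix commutatorElement

variable {D : ChevalleyDatum} {P : Pk} {F : Type*} [Field F]

namespace Ok

variable (h : Ok D P)
include h

/-- The equations of the kernel of `hHom`. -/
theorem hHom_eq_one {c : Fin P.rank → Fˣ} (e : h.hHom c = 1) (k : ℕ) (hk : k < P.rank) :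
    ∏ i : Fin P.rank, c i ^ P.A i (P.sim k) = 1 := by
  apply Units.ext
  have hs := h.sim_lt hk
  have e1 := congrArg (fun g : GL D.Idx F => g.val (h.rootIdx _ hs) (h.rootIdx _ hs)) e
  simp only [h.coe_hHom, Units.val_one, Matrix.one_apply_eq] at e1
  rw [Units.coe_prod, Units.val_one, ← e1]
  simp [dM, rootIdx, hchar, Units.val_zpow_eq_zpow_val]

theorem hHom_eq_one_of {c : Fin P.rank → Fˣ}
    (e : ∀ k < P.rank, ∏ i : Fin P.rank, c i ^ P.A i (P.sim k) = 1) : h.hHom c = 1 := by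
  apply Units.ext
  rw [h.coe_hHom, Units.val_one, dM, ← Matrix.diagonal_one]
  congr 1
  funext x
  rcases x with i | s
  · rfl
  have hone : ∀ i < P.rank, hchar P c (P.sim i) = (1 : F) := fun i hi => by
    have := congrArg Units.val (e i hi)
    rw [Units.coe_prod, Units.val_one] at this
    simpa [hchar, Units.val_zpow_eq_zpow_val] using this
  show hchar P c s.val = 1
  refine h.root_induction (Q := fun r => hchar P c r = (1 : F)) hone ?_ s.val (h.slt s)
  intro i hi r hr hQ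
  have e1 : hchar P c (P.w i r) = hchar P c r * (hchar P c (P.sim i)) ^ (-P.A i r) := by
    simp only [hchar, ← Finset.prod_zpow, ← Finset.prod_mul_distrib]
    refine Finset.prod_congr rfl fun j _ => ?_
    rw [h.A_w hi j.isLt hr, ← zpow_mul, ← zpow_add₀ (Units.ne_zero _)]
    congr 1; ring
  rw [e1, hQ, hone i hi, one_zpow, mul_one]

theorem nt_orth (hC : P.ckComm = true) {a b : ℕ} (hab : ckOrth P a b = true)
    (hna : ckOrth P (P.ng a) b = true) (hnb : ckOrth P a (P.ng b) = true) (t u : F) :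
    h.nt a t * h.nt b u = (h.xG a t * h.xG b u) * (h.xG (P.ng a) (-t⁻¹) * h.xG (P.ng b) (-u⁻¹)) *
      (h.xG a t * h.xG b u) := by
  have c1 : Commute (h.xG b u) (h.xG (P.ng a) (-t⁻¹)) := (h.commute_xG hC hna _ _).symm
  have c2 : Commute (h.xG b u) (h.xG a t) := (h.commute_xG hC hab _ _).symm
  have c3 : Commute (h.xG (P.ng b) (-u⁻¹)) (h.xG a t) := (h.commute_xG hC hnb _ _).symm
  simp only [nt]
  calc h.xG a t * h.xG (P.ng a) (-t⁻¹) * h.xG a t * (h.xG b u * h.xG (P.ng b) (-u⁻¹) * h.xG b u)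
      = h.xG a t * h.xG (P.ng a) (-t⁻¹) * ((h.xG a t * h.xG b u) * h.xG (P.ng b) (-u⁻¹)) * h.xG b u := by group
    _ = h.xG a t * h.xG (P.ng a) (-t⁻¹) * ((h.xG b u * h.xG (P.ng b) (-u⁻¹)) * h.xG a t) * h.xG b u := by
        rw [c2.symm.eq, mul_assoc (h.xG b u) (h.xG a t), ← c3.eq]; simp only [mul_assoc]
    _ = h.xG a t * (h.xG (P.ng a) (-t⁻¹) * h.xG b u) * h.xG (P.ng b) (-u⁻¹) * (h.xG a t * h.xG b u) := by group
    _ = _ := by rw [c1.symm.eq]; group

theorem commute_nt (hC : P.ckComm = true) {a b : ℕ} (hab : ckOrth P a b = true)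
    (hna : ckOrth P (P.ng a) b = true) (hnb : ckOrth P a (P.ng b) = true)
    (hnn : ckOrth P (P.ng a) (P.ng b) = true) (t u : F) : Commute (h.nt a t) (h.nt b u) := by
  have key : ∀ x : GL D.Idx F, Commute (h.xG a t) x → Commute (h.xG (P.ng a) (-t⁻¹)) x →
      Commute (h.nt a t) x := fun x h1 h2 => (h1.mul_left h2).mul_left h1
  exact ((key _ (h.commute_xG hC hab _ _) (h.commute_xG hC hna _ _)).mul_right
    (key _ (h.commute_xG hC hnb _ _) (h.commute_xG hC hnn _ _))).mul_right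
    (key _ (h.commute_xG hC hab _ _) (h.commute_xG hC hna _ _))

end Ok

/-- Two words do not commute on the roots. -/
def ckNC (P : Pk) (a b : List ℕ) : Bool :=
  P.allRoots.any fun r => !Nat.beq (wl P (a ++ b) r) (wl P (b ++ a) r)

/-- Consecutive words of a list do not commute. -/
def ckChain (P : Pk) : List (List ℕ × List ℕ) → Bool
  | [] => true
  | [_] => true
  | a :: b :: l => ckNC P a.2 b.2 && ckChain P (b :: l)

/-- The orders of the products of two orbit words form a given matrix. -/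
def ckCoxT (P : Pk) (orbs : List (List ℕ × List ℕ)) {n : ℕ} (M : Matrix (Fin n) (Fin n) ℕ) : Bool :=
  Nat.beq n orbs.length && (List.finRange n).all fun i => (List.finRange n).all fun j =>
    ckOrd P ((orbs.getD i ([], [])).2 ++ (orbs.getD j ([], [])).2) (M i j)

namespace TwistGrp

variable {h : Ok D P} {T : Twist h F} (G : TwistGrp T)

theorem mem_derived_of_comm {x y : GL D.Idx F} (hx : x ∈ G.G1) (hy : y ∈ G.G1) :
    ⁅x, y⁆ ∈ ⁅G.G1, G.G1⁆ :=
  Subgroup.commutator_mem_commutator hx hy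

theorem derived_conj {x n : GL D.Idx F} (hn : n ∈ G.G1) (hx : x ∈ ⁅G.G1, G.G1⁆) :
    n * x * n⁻¹ ∈ ⁅G.G1, G.G1⁆ := by
  have hle : ⁅G.G1, G.G1⁆ ≤ (⁅G.G1, G.G1⁆).comap (MulAut.conj n).toMonoidHom := by
    rw [Subgroup.commutator_le]
    intro a ha b hb
    rw [Subgroup.mem_comap, MulEquiv.toMonoidHom_eq_coe, MonoidHom.coe_coe, map_commutatorElement]
    exact Subgroup.commutator_mem_commutator
      (by simpa using G.G1.mul_mem (G.G1.mul_mem hn ha) (G.G1.inv_mem hn))
      (by simpa using G.G1.mul_mem (G.G1.mul_mem hn hb) (G.G1.inv_mem hn))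
  have := hle hx
  simpa using this

/-- The opposite root part of an orbit lies in the derived group. -/
theorem neg_derived {o : List ℕ × List ℕ} (ho : o ∈ G.O.orbs) (hU : G.Uw o.2 ≤ ⁅G.G1, G.G1⁆)
    {x : GL D.Idx F} (hx1 : x ∈ G.G1)
    (hx : x ∈ h.genR (fun r => r < P.nroots ∧ negS P o.2 (wl P o.2 r))) : x ∈ ⁅G.G1, G.G1⁆ := by
  obtain ⟨hw, -, -, -⟩ := G.O.spec ho
  have hn := G.nW_mem o ho
  have hle : h.genR (F := F) (fun r => r < P.nroots ∧ negS P o.2 (wl P o.2 r)) ≤
      (h.genR (negS P o.2)).comap (MulAut.conj (h.nW o.2)).toMonoidHom := by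
    refine h.genR_le fun r hr t => ?_
    obtain ⟨e, -, hxc⟩ := h.conj_nW hw.1 (one_mem (D.diagonalSubgroup F)) hr.1
    have h1 := hxc t
    rw [mul_one (h.nW o.2)] at h1
    rw [Subgroup.mem_comap, MulEquiv.toMonoidHom_eq_coe, MonoidHom.coe_coe, MulAut.conj_apply, h1]
    exact h.xG_mem_genR hr.2 _
  have h1 : h.nW o.2 * x * (h.nW o.2)⁻¹ ∈ G.Uw o.2 :=
    ⟨by simpa using hle hx, G.le_fixed (G.G1.mul_mem (G.G1.mul_mem hn hx1) (G.G1.inv_mem hn))⟩
  have h2 := G.derived_conj (G.G1.inv_mem hn) (hU h1)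
  convert h2 using 1
  group

theorem commutator_eq_top (hle : G.G1 ≤ ⁅G.G1, G.G1⁆) : commutator ↥G.G1 = ⊤ := by
  rw [eq_top_iff, commutator_def]
  intro x _
  have h1 := hle x.2
  have h2 : Subgroup.map G.G1.subtype ⁅(⊤ : Subgroup ↥G.G1), (⊤ : Subgroup ↥G.G1)⁆ = ⁅G.G1, G.G1⁆ := by
    rw [Subgroup.map_commutator, ← MonoidHom.range_eq_map, Subgroup.range_subtype]
  rw [← h2] at h1
  obtain ⟨y, hy, e⟩ := h1
  rwa [← Subtype.ext e]

theorem irreducible (hC : P.ckComm = true) (hp : G.Proper) (hch : ckChain P G.O.orbs = true) :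
    (G.bnPair hC hp).Irreducible := by
  intro J hJ hJne hJc
  by_contra hall
  push_neg at hall
  let Q : List ℕ × List ℕ → Prop := fun o => ∃ x ∈ J, (x : GL D.Idx F) = h.nW o.2
  have hstep : ∀ a ∈ G.O.orbs, ∀ b ∈ G.O.orbs, ckNC P a.2 b.2 = true → Q a → Q b := by
    rintro a ha b hb hnc ⟨x, hx, ex⟩
    by_contra hQ
    have hy : (⟨h.nW b.2, G.nW_mem b hb⟩ : ↥G.G1) ∈ (G.bnPair hC hp).S \ J :=
      ⟨⟨b, hb, rfl⟩, fun e => hQ ⟨_, e, rfl⟩⟩
    have hB := (Subgroup.mem_subgroupOf.1 (hall x hx _ hy)).1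
    simp only [Subgroup.coe_mul, Subgroup.coe_inv, ex] at hB
    have ha' := (G.nW_monomial ha).1
    have hb' := (G.nW_monomial hb).1
    have hd : h.nW (F := F) a.2 * h.nW b.2 * (h.nW a.2)⁻¹ * (h.nW b.2)⁻¹ ∈ D.diagonalSubgroup F := by
      rw [← h.borel_inf_monomial]
      exact Subgroup.mem_inf.2 ⟨hB, mul_mem (mul_mem (mul_mem ha' hb') (inv_mem ha')) (inv_mem hb')⟩
    have hwa := (G.O.spec ha).1.1
    have hwb := (G.O.spec hb).1.1
    have hab : WordOk P (a.2 ++ b.2) := fun x hx => by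
      rcases List.mem_append.1 hx with e | e; exacts [hwa x e, hwb x e]
    have hba : WordOk P (b.2 ++ a.2) := fun x hx => by
      rcases List.mem_append.1 hx with e | e; exacts [hwb x e, hwa x e]
    have hd' : (h.nW (F := F) (b.2 ++ a.2))⁻¹ * h.nW (a.2 ++ b.2) ∈ D.diagonalSubgroup F := by
      have h1 := (Subgroup.mem_normalizer_iff.1 (h.monomial_normalizes (inv_mem (mul_mem ha' hb'))) _).1 hd
      rw [h.nW_append, h.nW_append]
      convert h1 using 1
      group
    simp only [ckNC, List.any_eq_true, Pk.mem_allRoots, Bool.not_eq_true', nbeq, decide_eq_false_iff_not] at hnc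
    obtain ⟨r, hr, hne⟩ := hnc
    exact hne (h.wl_eq_of_mem hba hab hd' hr).symm
  have hsymm : ∀ a b, ckNC P a b = true → ckNC P b a = true := by
    intro a b e
    simp only [ckNC, List.any_eq_true, Pk.mem_allRoots, Bool.not_eq_true', nbeq, decide_eq_false_iff_not] at e ⊢
    obtain ⟨r, hr, hne⟩ := e
    exact ⟨r, hr, fun e => hne e.symm⟩
  have hconst : ∀ L : List (List ℕ × List ℕ), (∀ o ∈ L, o ∈ G.O.orbs) → ckChain P L = true →
      ∀ a ∈ L, ∀ b ∈ L, Q a → Q b := by
    intro L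
    induction L with
    | nil => intro _ _ a ha; exact absurd ha List.not_mem_nil
    | cons x L ih =>
      intro hL hc
      cases L with
      | nil =>
        intro a ha b hb hQ
        rw [List.mem_singleton] at ha hb
        rw [hb]; exact ha ▸ hQ
      | cons y L =>
        simp only [ckChain, Bool.and_eq_true] at hc
        have ih' := ih (fun o ho => hL o (List.mem_cons_of_mem _ ho)) hc.2
        have hx := hL x List.mem_cons_self
        have hy := hL y (List.mem_cons_of_mem _ List.mem_cons_self)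
        intro a ha b hb hQ
        have hQy : Q y := by
          rcases List.mem_cons.1 ha with rfl | ha
          · exact hstep _ hx _ hy hc.1 hQ
          · exact ih' a ha y List.mem_cons_self hQ
        rcases List.mem_cons.1 hb with rfl | hb
        · exact hstep _ hy _ hx (hsymm _ _ hc.1) hQy
        · exact ih' y List.mem_cons_self b hb hQy
  obtain ⟨x, hx⟩ := hJne
  obtain ⟨a, ha, ea⟩ := hJ hx
  obtain ⟨y, ⟨b, hb, eb⟩, hy⟩ := hJc
  obtain ⟨z, hz, ez⟩ := hconst G.O.orbs (fun _ ho => ho) hch a ha b hb ⟨x, hx, ea⟩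
  exact hy (by rwa [show y = z from Subtype.ext (eb.trans ez.symm)])

/-- `N¹/H¹` is a Coxeter group. -/
theorem exists_phi (hC : P.ckComm = true) (hp : G.Proper) {n : ℕ} {M : CoxeterMatrix (Fin n)}
    (hck : ckCoxT P G.O.orbs M.M = true) (hnd : G.O.orbs.Nodup) :
    ∃ φ : ↥(D.monomialSubgroup F ⊓ G.G1) →* M.Group, Function.Surjective φ ∧
      φ.ker = (D.diagonalSubgroup F ⊓ G.G1).subgroupOf (D.monomialSubgroup F ⊓ G.G1) := by
  simp only [ckCoxT, Bool.and_eq_true, nbeq, decide_eq_true_eq, List.all_eq_true] at hck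
  obtain ⟨hn, hord⟩ := hck
  set B := G.bnPair hC hp
  have hget : ∀ i : Fin n, G.O.orbs.getD i ([], []) ∈ G.O.orbs := fun i => by
    rw [List.getD_eq_getElem _ _ (hn ▸ i.isLt)]; exact List.getElem_mem _
  let f : Fin n → B.S := fun i => ⟨⟨_, G.nW_mem _ (hget i)⟩, _, hget i, rfl⟩
  have hf : Function.Bijective f := by
    constructor
    · intro i j e
      have e1 : h.nW (F := F) (G.O.orbs.getD i ([], [])).2 = h.nW (G.O.orbs.getD j ([], [])).2 :=
        congrArg (fun x : B.S => ((x.1 : ↥G.G1) : GL D.Idx F)) e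
      have e2 := G.nW_inj hp (hget i) (hget j) (by rw [e1, inv_mul_cancel]; exact one_mem _)
      rw [List.getD_eq_getElem _ _ (hn ▸ i.isLt), List.getD_eq_getElem _ _ (hn ▸ j.isLt)] at e2
      exact Fin.ext ((List.Nodup.getElem_inj_iff hnd).1 e2)
    · rintro ⟨x, o, ho, e⟩
      obtain ⟨k, hk, rfl⟩ := List.getElem_of_mem ho
      refine ⟨⟨k, hn.symm ▸ hk⟩, Subtype.ext (Subtype.ext ?_)⟩
      show h.nW _ = (x : GL D.Idx F)
      rw [e, List.getD_eq_getElem _ _ hk]
  let σe := (Equiv.ofBijective f hf).symm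
  have hM : M = (S0320.cox B).reindex σe := by
    refine CoxeterMatrix.ext (Matrix.ext fun i j => ?_)
    show M.M i j = orderOf (BN.g B (σe.symm i) * BN.g B (σe.symm j))
    simp only [σe, Equiv.symm_symm, Equiv.ofBijective_apply]
    have hi := hget i
    have hj := hget j
    set a := (G.O.orbs.getD i ([], [])).2
    set b := (G.O.orbs.getD j ([], [])).2
    have hl : WordOk P (a ++ b) := fun x hx => by
      rcases List.mem_append.1 hx with e | e; exacts [(G.O.spec hi).1.1 x e, (G.O.spec hj).1.1 x e]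
    have hck := hord i (List.mem_finRange i) j (List.mem_finRange j)
    simp only [ckOrd, Bool.and_eq_true, Nat.blt_eq, List.all_eq_true, Pk.mem_allRoots, nbeq, decide_eq_true_eq,
      List.mem_range, Bool.or_eq_true, List.any_eq_true, Bool.not_eq_true', decide_eq_false_iff_not] at hck
    obtain ⟨⟨⟨hm, -⟩, hfix⟩, hmove⟩ := hck
    set x : B.N := ⟨(f i).1, B.subset (f i).2⟩ * ⟨(f j).1, B.subset (f j).2⟩
    have hx : ∀ k : ℕ, (((x ^ k : B.N) : ↥G.G1) : GL D.Idx F) = h.nW (List.replicate k (a ++ b)).flatten := by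
      intro k
      induction k with
      | zero => simp [h.nW_nil]
      | succ k ih =>
        rw [pow_succ', List.replicate_succ, List.flatten_cons, h.nW_append]
        push_cast at ih ⊢
        rw [ih]
        simp [x, f, a, b, h.nW_append]
    have hone : ∀ k : ℕ, BN.cl B x ^ k = 1 ↔ ∀ r < P.nroots, wpow P (a ++ b) k r = r := by
      intro k
      rw [show BN.cl B x ^ k = BN.cl B (x ^ k) from rfl, BN.cl_eq_one_iff]
      have hwk := h.wordOk_flatten hl k
      constructor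
      · intro hb r hr
        rw [wpow_eq]
        have h1 := (Subgroup.mem_subgroupOf.1 hb).1
        rw [hx] at h1
        have h2 : (h.nW (F := F) (List.replicate k (a ++ b)).flatten) ∈ D.diagonalSubgroup F := by
          rw [← h.borel_inf_monomial]; exact Subgroup.mem_inf.2 ⟨h1, h.nW_mem _ hwk⟩
        exact (h.wl_eq_of_mem (F := F) (l := []) (fun _ hh => absurd hh List.not_mem_nil) hwk
          (by rw [h.nW_nil, inv_one, one_mul]; exact h2) hr).symm
      · intro htriv
        refine Subgroup.mem_subgroupOf.2 ⟨?_, ((x ^ k : B.N) : ↥G.G1).2⟩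
        rw [hx]
        exact Subgroup.mem_sup_right (h.nW_mem_diagonal hwk fun r hr => by rw [← wpow_eq]; exact htriv r hr)
    symm
    show orderOf (BN.cl B x) = _
    rw [orderOf_eq_iff hm]
    refine ⟨(hone _).2 hfix, fun k hk hk0 e => ?_⟩
    rcases hmove k hk with e0 | ⟨r, hr, hne⟩
    · omega
    · exact hne ((hone k).1 e r hr)
  subst hM
  let e := ((BN.coxSystem B).reindex σe).mulEquiv
  let ι : ↥(D.monomialSubgroup F ⊓ G.G1) →* B.N :=
    (Subgroup.subgroupOfEquivOfLe (inf_le_right : D.monomialSubgroup F ⊓ G.G1 ≤ G.G1)).symm.toMonoidHom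
  refine ⟨e.toMonoidHom.comp ((QuotientGroup.mk' (BN.T B)).comp ι), ?_, ?_⟩
  · exact e.surjective.comp ((QuotientGroup.mk'_surjective _).comp (MulEquiv.surjective _))
  · ext x
    rw [MonoidHom.mem_ker, MonoidHom.comp_apply, MonoidHom.comp_apply, MulEquiv.toMonoidHom_eq_coe,
      MonoidHom.coe_coe, MulEquiv.map_eq_one_iff, QuotientGroup.mk'_apply, BN.cl_eq_one_iff,
      Subgroup.mem_subgroupOf]
    constructor
    · intro hb
      exact ⟨h.borel_inf_monomial (F := F) ▸ Subgroup.mem_inf.2 ⟨(Subgroup.mem_subgroupOf.1 hb).1, x.2.1⟩, x.2.2⟩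
    · intro hb
      exact Subgroup.mem_subgroupOf.2 ⟨Subgroup.mem_sup_right hb.1, x.2.2⟩

/-- A fixed root element reached from a commutator of fixed root elements is in the derived group. -/
theorem long_derived {g : Gph} {hg : g.ckG P = true} {φ : F →+* F} (G : TwistGrp (stdTwist h hg φ))
    (hC : P.ckComm = true) {r s u a : ℕ} {e : ℤ} (he : e = 1 ∨ e = -1) {w : List ℕ}
    (hr : ck1 P g r = true ∧ P.isPos r = true) (hs : ck1 P g s = true ∧ P.isPos s = true)
    (hu : ck1 P g u = true) (hkey : (P.keys r).any (Nat.beq s) = true) (hw : P.cword r s = [(u, e, 1, 1)])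
    (hwl : wl P (orbWord G.O.orbs w) u = a) (ha : ck1 P g a = true) {t : F} (ht : φ t = t) :
    h.xG a t ∈ ⁅G.G1, G.G1⁆ := by
  set l := orbWord G.O.orbs w
  have hlc : ∀ w : List ℕ, WordOk P (orbWord G.O.orbs w) ∧ (stdTwist h hg φ).Comm (orbWord G.O.orbs w) := by
    intro w
    induction w with
    | nil => exact ⟨fun _ hx => absurd hx List.not_mem_nil, fun r _ => rfl⟩
    | cons k w ih =>
      have hk : WordOk P (G.O.orbs.getD k ([], [])).2 ∧ (stdTwist h hg φ).Comm (G.O.orbs.getD k ([], [])).2 := by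
        by_cases hk : k < G.O.orbs.length
        · have hm : G.O.orbs.getD k ([], []) ∈ G.O.orbs := by
            rw [List.getD_eq_getElem _ _ hk]; exact List.getElem_mem hk
          exact ⟨(G.O.spec hm).1.1, (G.O.spec hm).2.2.2⟩
        · rw [List.getD_eq_default _ _ (Nat.le_of_not_lt hk)]
          exact ⟨fun _ hx => absurd hx List.not_mem_nil, fun r _ => rfl⟩
      show WordOk P (_ ++ orbWord G.O.orbs w) ∧ (stdTwist h hg φ).Comm (_ ++ orbWord G.O.orbs w)
      refine ⟨fun x hx => ?_, fun r hr => ?_⟩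
      · rcases List.mem_append.1 hx with a | a
        exacts [hk.1 x a, ih.1 x a]
      · rw [wl_append, wl_append, ih.2 r hr, hk.2 _ (h.wl_lt _ ih.1 r hr)]
  obtain ⟨hl, hc⟩ := hlc w
  obtain ⟨n, hn, d, hd, en⟩ := G.exists_rep hl hc
  have hun : u < P.nroots := by simp only [ck1, Bool.and_eq_true, Nat.blt_eq] at hu; exact hu.1.1
  obtain ⟨k, hk, hx⟩ := h.conj_nW hl hd hun
  rw [hwl] at hx
  have e1 : n * h.xG u (k⁻¹ * t) * n⁻¹ = h.xG a t := by rw [en, hx, mul_inv_cancel_left₀ hk]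
  have hv : φ (k⁻¹ * t) = k⁻¹ * t := by
    have hf : h.xG u (k⁻¹ * t) ∈ (stdTwist h hg φ).fixed := by
      rw [show h.xG u (k⁻¹ * t) = n⁻¹ * h.xG a t * n by rw [← e1]; group]
      exact mul_mem (mul_mem (inv_mem (G.le_fixed hn)) (Std.xG_fixed hg φ ha ht)) (G.le_fixed hn)
    have h1 := ((stdTwist h hg φ).mem_fixed.1 hf).2
    simp only [ck1, Bool.and_eq_true, Nat.blt_eq, nbeq, decide_eq_true_eq] at hu
    rw [Std.σ_xG' hg φ hu.1.1 hu.2, hu.1.2] at h1
    exact h.xG_inj_param hun h1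
  have hee : (e : F) * e = 1 := by rcases he with rfl | rfl <;> simp
  have hmem : ∀ (q : ℕ), ck1 P g q = true ∧ P.isPos q = true → ∀ x : F, φ x = x → h.xG q x ∈ G.G1 :=
    fun q hq x hx => G.pos_fixed_le hC ⟨h.xG_mem_pos hq.2 _, Std.xG_fixed hg φ hq.1 hx⟩
  have hkey' : s ∈ P.keys r := by
    simp only [List.any_eq_true, nbeq, decide_eq_true_eq] at hkey
    obtain ⟨x, hx, rfl⟩ := hkey
    exact hx
  have e2 := h.comm_word hC (P.isPos_iff.1 hr.2).2 hkey' ((e : F) * (k⁻¹ * t)) 1
  rw [hw] at e2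
  simp only [List.map_cons, List.map_nil, List.prod_cons, List.prod_nil, mul_one, pow_one] at e2
  rw [← mul_assoc, hee, one_mul] at e2
  rw [← e1, e2]
  refine G.derived_conj hn (G.mem_derived_of_comm (inv_mem (hmem s hs 1 (map_one φ))) (inv_mem (hmem r hr _ ?_)))
  rw [map_mul, map_intCast, hv]

end TwistGrp

end Cfsg.Agent.Chev
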