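/-
The twisted groups of type ³D₄.
-/
import Cfsg.Agent.Lib.Chev.TwistExtra
import Cfsg.Agent.Lib.Chev.EnumD4
import Cfsg.Agent.Lib.Chev.AllC
import Cfsg.Prelude.Def_LieTwisted

set_option autoImplicit false
set_option maxHeartbeats 400000

namespace Cfsg.Agent.Chev.TwD4

open Cfsg.Lie
open scoped Matrix commutatorElement

theorem ckTw4 : ckTw D4.pk gD4a.rr gD4a.pp D4.orbsT = true := by decide +kernel

theorem chain4 : ckChain D4.pk D4.orbsT = true := by decide +kernel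

theorem cox4 : ckCoxT D4.pk D4.orbsT CoxeterMatrix.G₂.M = true := by decide +kernel

theorem neg1 : ckNeg D4.pk [1] [14] = true ∧ ckNeg D4.pk [0, 2, 3] [18, 13, 12] = true := by decide +kernel

theorem cks : (ck1 D4.pk gD4a 14 && ck1 D4.pk gD4a 9 && ck1 D4.pk gD4a 22 && ck1 D4.pk gD4a 23 &&
    ck3 D4.pk gD4a 18 13 12 && ck3 D4.pk gD4a 5 10 11) = true := by decide +kernel

/-- All the orthogonality needed for a triple. -/
theorem orth : ∀ a ∈ [(18 : ℕ), 5], ∀ b ∈ [(13 : ℕ), 10], ∀ c ∈ [(12 : ℕ), 11],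
    ckOrth D4.pk a b = true ∧ ckOrth D4.pk a c = true ∧ ckOrth D4.pk b c = true := by decide +kernel

theorem ngs : D4.pk.ng 14 = 9 ∧ D4.pk.ng 18 = 5 ∧ D4.pk.ng 13 = 10 ∧ D4.pk.ng 12 = 11 := by decide +kernel

theorem sims : D4.pk.sim 0 = 18 ∧ D4.pk.sim 1 = 14 ∧ D4.pk.sim 2 = 13 ∧ D4.pk.sim 3 = 12 := by decide +kernel

theorem cword4 : D4.pk.cword 14 22 = [(23, -1, 1, 1)] := by decide +kernel

variable {K : Type*} [Field K] {q : ℕ} (φ : K →+* K) (hφ : ∀ t, φ t = t ^ q)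

/-- The twist. -/
noncomputable abbrev T : Twist D4.ok K := stdTwist D4.ok ckG_D4a φ

/-- The orbits. -/
def O : (T φ).Orbits := ⟨D4.orbsT, ckTw4⟩

theorem wordMat1 (r : ℕ) (t : K) :
    (D4.ok.xG r t : GL chevD4.Idx K).val = chevD4.wordMat K [(r, t)] := by
  simp [ChevalleyDatum.wordMat, D4.ok.coe_xG]

theorem wordMat3 (r s u : ℕ) (t v w : K) :
    (D4.ok.xG r t * D4.ok.xG s v * D4.ok.xG u w : GL chevD4.Idx K).val =
      chevD4.wordMat K [(r, t), (s, v), (u, w)] := by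
  simp [ChevalleyDatum.wordMat, D4.ok.coe_xG, mul_assoc]

theorem gen1 {r : ℕ} (hr : r ∈ [d4p2, d4m2]) {t : K} (ht : t ^ q = t) :
    D4.ok.xG r t ∈ twistedD4 K q :=
  Subgroup.subset_closure ⟨_, Or.inl ⟨t, ht, r, hr, rfl⟩, wordMat1 r t⟩

include hφ in
theorem gen3 {rs : ℕ × ℕ × ℕ} (hr : rs ∈ [(d4p1, d4p3, d4p4), (d4m1, d4m3, d4m4)]) (t : K) :
    D4.ok.xG rs.1 t * D4.ok.xG rs.2.1 (φ t) * D4.ok.xG rs.2.2 (φ (φ t)) ∈ twistedD4 K q :=
  Subgroup.subset_closure ⟨_, Or.inr ⟨t, rs, hr, rfl⟩, by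
    rw [hφ, hφ, ← pow_mul, ← sq]; exact wordMat3 _ _ _ _ _ _⟩

include hφ in
theorem phi3 [Fintype K] (hK : Fintype.card K = q ^ 3) (t : K) : φ (φ (φ t)) = t := by
  rw [hφ, hφ, hφ, ← pow_mul, ← pow_mul, show q * (q * q) = q ^ 3 by ring, ← hK]
  exact FiniteField.pow_card t

/-- The generators are of two kinds. -/
theorem gens {P' : GL chevD4.Idx K → Prop}
    (h1 : ∀ r ∈ [(14 : ℕ), 9], ∀ t : K, t ^ q = t → P' (D4.ok.xG r t))
    (h2 : ∀ rs ∈ [((18 : ℕ), (13 : ℕ), (12 : ℕ)), (5, 10, 11)], ∀ t : K,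
      P' (D4.ok.xG rs.1 t * D4.ok.xG rs.2.1 (t ^ q) * D4.ok.xG rs.2.2 (t ^ (q ^ 2))))
    {g : GL chevD4.Idx K} (hg : ∃ w ∈ d4Words K q, (g : Matrix chevD4.Idx chevD4.Idx K) = chevD4.wordMat K w) :
    P' g := by
  obtain ⟨w, hw, e⟩ := hg
  rcases hw with ⟨t, ht, r, hr, rfl⟩ | ⟨t, rs, hr, rfl⟩
  · obtain rfl : g = D4.ok.xG r t := Units.ext (e.trans (wordMat1 r t).symm)
    exact h1 r hr t ht
  · obtain rfl : g = D4.ok.xG rs.1 t * D4.ok.xG rs.2.1 (t ^ q) * D4.ok.xG rs.2.2 (t ^ (q ^ 2)) :=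
      Units.ext (e.trans (wordMat3 _ _ _ _ _ _).symm)
    exact h2 rs hr t

include hφ in
theorem le_fixed [Fintype K] (hK : Fintype.card K = q ^ 3) : twistedD4 K q ≤ (T φ).fixed := by
  have hc := cks
  simp only [Bool.and_eq_true] at hc
  obtain ⟨⟨⟨⟨⟨a, b⟩, -⟩, -⟩, p1⟩, p2⟩ := hc
  refine (Subgroup.closure_le _).2 fun g hg => gens (P' := fun g => g ∈ (T φ).fixed) (fun r hr t ht => ?_)
    (fun rs hr t => ?_) hg
  · have ht' : φ t = t := (hφ t).trans ht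
    simp only [List.mem_cons, List.not_mem_nil, or_false] at hr
    rcases hr with rfl | rfl <;> exact Std.xG_fixed ckG_D4a φ (by assumption) ht'
  · rw [show t ^ q ^ 2 = φ (φ t) by rw [hφ, hφ, ← pow_mul, sq], ← hφ]
    have h2 := phi3 φ hφ hK t
    simp only [List.mem_cons, List.not_mem_nil, or_false] at hr
    rcases hr with rfl | rfl <;> exact Std.triple_fixed ckG_D4a φ ckComm_D4 (by assumption) h2

include hφ in
theorem nt_single {t : K} (ht : φ t = t) : D4.ok.nt 14 t ∈ twistedD4 K q := by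
  have h1 : ∀ u : K, φ u = u → D4.ok.xG 14 u ∈ twistedD4 K q := fun u hu =>
    gen1 (by decide) ((hφ u).symm.trans hu)
  refine mul_mem (mul_mem (h1 t ht) ?_) (h1 t ht)
  rw [ngs.1]
  refine gen1 (by decide) ?_
  rw [← hφ, map_neg, map_inv₀, ht]

theorem commute3 {a b c : ℕ} (hab : a ∈ [(18 : ℕ), 5]) (hbb : b ∈ [(13 : ℕ), 10]) (hcc : c ∈ [(12 : ℕ), 11])
    (t u v : K) : Commute (D4.ok.xG a t) (D4.ok.xG b u) ∧ Commute (D4.ok.xG a t) (D4.ok.xG c v) ∧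
      Commute (D4.ok.xG b u) (D4.ok.xG c v) := by
  obtain ⟨o1, o2, o3⟩ := orth a hab b hbb c hcc
  exact ⟨D4.ok.commute_xG ckComm_D4 o1 t u, D4.ok.commute_xG ckComm_D4 o2 t v,
    D4.ok.commute_xG ckComm_D4 o3 u v⟩

theorem nt_orth3 (t u v : K) :
    D4.ok.nt 18 t * D4.ok.nt 13 u * D4.ok.nt 12 v =
      (D4.ok.xG 18 t * D4.ok.xG 13 u * D4.ok.xG 12 v) *
      (D4.ok.xG 5 (-t⁻¹) * D4.ok.xG 10 (-u⁻¹) * D4.ok.xG 11 (-v⁻¹)) *
      (D4.ok.xG 18 t * D4.ok.xG 13 u * D4.ok.xG 12 v) := by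
  obtain ⟨o1, -, -⟩ := orth 18 (by simp) 13 (by simp) 12 (by simp)
  obtain ⟨o2, -, -⟩ := orth 5 (by simp) 13 (by simp) 12 (by simp)
  obtain ⟨o3, -, -⟩ := orth 18 (by simp) 10 (by simp) 12 (by simp)
  rw [D4.ok.nt_orth ckComm_D4 o1 (ngs.2.1.symm ▸ o2) (ngs.2.2.1.symm ▸ o3)]
  simp only [Ok.nt, ngs.2.1, ngs.2.2.1, ngs.2.2.2]
  set A := D4.ok.xG (F := K) 18 t * D4.ok.xG 13 u
  set B := D4.ok.xG (F := K) 5 (-t⁻¹) * D4.ok.xG 10 (-u⁻¹)
  set C := D4.ok.xG (F := K) 12 v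
  set E := D4.ok.xG (F := K) 11 (-v⁻¹)
  have cAC : Commute A C :=
    ((commute3 (a := 18) (b := 13) (c := 12) (by simp) (by simp) (by simp) t u v).2.1).mul_left
      (commute3 (a := 18) (b := 13) (c := 12) (by simp) (by simp) (by simp) t u v).2.2
  have cBC : Commute B C :=
    ((commute3 (a := 5) (b := 13) (c := 12) (by simp) (by simp) (by simp) (-t⁻¹) u v).2.1).mul_left
      (commute3 (a := 18) (b := 10) (c := 12) (by simp) (by simp) (by simp) t (-u⁻¹) v).2.2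
  have cAE : Commute A E :=
    ((commute3 (a := 18) (b := 13) (c := 11) (by simp) (by simp) (by simp) t u (-v⁻¹)).2.1).mul_left
      (commute3 (a := 18) (b := 13) (c := 11) (by simp) (by simp) (by simp) t u (-v⁻¹)).2.2
  calc A * B * A * (C * E * C) = A * (B * (A * C)) * E * C := by group
    _ = A * ((B * C) * A) * E * C := by rw [cAC.eq, mul_assoc B C A]
    _ = A * C * B * (A * E) * C := by rw [cBC.eq]; group
    _ = A * C * (B * E) * (A * C) := by rw [cAE.eq]; group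

include hφ in
theorem nt_triple (t : K) : D4.ok.nt 18 t * D4.ok.nt 13 (φ t) * D4.ok.nt 12 (φ (φ t)) ∈ twistedD4 K q := by
  rw [nt_orth3]
  refine mul_mem (mul_mem (gen3 φ hφ (rs := (d4p1, d4p3, d4p4)) (by simp) t) ?_)
    (gen3 φ hφ (rs := (d4p1, d4p3, d4p4)) (by simp) t)
  simp only [← map_inv₀, ← map_neg]
  exact gen3 φ hφ (rs := (d4m1, d4m3, d4m4)) (by simp) _

/-- The torus map on four parameters. -/
noncomputable def hH : (Fin 4 → Kˣ) →* GL chevD4.Idx K := D4.ok.hHom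

theorem hH_single (i : Fin 4) (t : Kˣ) :
    hH (Pi.mulSingle i t) = D4.ok.ht (D4.pk.sim i) (t : K) := D4.ok.hHom_single i t

theorem equations {c : Fin 4 → Kˣ}
    (e : ∀ k < 4, ∏ i : Fin 4, c i ^ D4.pk.A i (D4.pk.sim k) = 1) :
    c 0 * c 0 = c 1 ∧ c 1 * c 1 = c 0 * c 2 * c 3 ∧ c 2 * c 2 = c 1 ∧ c 3 * c 3 = c 1 := by
  have hA : (List.range 4).map (fun i => (List.range 4).map fun k => D4.pk.A i (D4.pk.sim k)) =
      [[2, -1, 0, 0], [-1, 2, -1, -1], [0, -1, 2, 0], [0, -1, 0, 2]] := by decide +kernel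
  have hA' : ∀ i k, i < 4 → k < 4 → D4.pk.A i (D4.pk.sim k) =
      (([[2, -1, 0, 0], [-1, 2, -1, -1], [0, -1, 2, 0], [0, -1, 0, 2]] : List (List ℤ)).getD i []).getD k 0 := by
    intro i k hi hk
    rw [← hA, getD_map_range _ hi, getD_map_range _ hk]
  have key : ∀ k : Fin 4, c 0 ^ D4.pk.A 0 (D4.pk.sim k) * c 1 ^ D4.pk.A 1 (D4.pk.sim k) *
      c 2 ^ D4.pk.A 2 (D4.pk.sim k) * c 3 ^ D4.pk.A 3 (D4.pk.sim k) = 1 := fun k => by
    have := e k k.isLt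
    rwa [Fin.prod_univ_four] at this
  simp only [hA' 0 _ (by omega) (Fin.isLt _), hA' 1 _ (by omega) (Fin.isLt _), hA' 2 _ (by omega) (Fin.isLt _),
    hA' 3 _ (by omega) (Fin.isLt _)] at key
  have k0 := key 0; have k1 := key 1; have k2 := key 2; have k3 := key 3
  simp [pow_two, zpow_two] at k0 k1 k2 k3
  refine ⟨?_, ?_, ?_, ?_⟩
  · exact mul_inv_eq_one.1 k0
  · rw [← mul_inv_eq_one, ← k1, mul_inv, mul_inv]; ac_rfl
  · rw [← mul_inv_eq_one, ← k2]; ac_rfl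
  · rw [← mul_inv_eq_one, ← k3]; ac_rfl

theorem kernel_eqs {c : Fin 4 → Kˣ} (e : D4.ok.hHom (F := K) c = 1) :
    c 1 = 1 ∧ c 0 ^ 2 = 1 ∧ c 2 ^ 2 = 1 ∧ c 3 ^ 2 = 1 ∧ c 0 * c 2 * c 3 = 1 := by
  obtain ⟨e1, e2, e3, e4⟩ := equations (D4.ok.hHom_eq_one e)
  have d : c 1 = 1 := by
    have h1 : c 1 * c 1 * (c 1 * c 1) = c 1 * c 1 * c 1 := by
      nth_rw 1 [e2]; nth_rw 1 [e2]
      rw [mul_mul_mul_comm, mul_mul_mul_comm (c 0), e1, e3, e4]
    rw [← mul_assoc] at h1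
    exact mul_left_cancel (h1.trans (mul_one _).symm)
  exact ⟨d, by rw [pow_two, e1, d], by rw [pow_two, e3, d], by rw [pow_two, e4, d], by rw [← e2, d, mul_one]⟩

theorem kernel_sq {c : Fin 4 → Kˣ} (e : D4.ok.hHom (F := K) c = 1) : c ^ 2 = 1 := by
  obtain ⟨h1, h0, h2, h3, -⟩ := kernel_eqs e
  funext i
  fin_cases i <;> simp [h0, h1, h2, h3]

theorem tau_apply (c : Fin 4 → Kˣ) : (T φ).τ c =
    ![Units.map φ.toMonoidHom (c 3), Units.map φ.toMonoidHom (c 1), Units.map φ.toMonoidHom (c 0),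
      Units.map φ.toMonoidHom (c 2)] := by
  funext j
  fin_cases j <;> rfl

theorem tau_fixed {c : Fin 4 → Kˣ} (e : (T φ).τ c = c) :
    φ (c 3) = c 0 ∧ φ (c 1) = c 1 ∧ φ (c 0) = c 2 ∧ φ (c 2) = c 3 := by
  rw [tau_apply] at e
  exact ⟨congrArg Units.val (congrFun e 0), congrArg Units.val (congrFun e 1), congrArg Units.val (congrFun e 2),
    congrArg Units.val (congrFun e 3)⟩

theorem tau_three (hp : ∀ t, φ (φ (φ t)) = t) (c : Fin 4 → Kˣ) : ((T φ).τ)^[3] c = c := by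
  show (T φ).τ ((T φ).τ ((T φ).τ c)) = c
  rw [tau_apply, tau_apply, tau_apply]
  funext j
  fin_cases j <;> apply Units.ext
  · exact hp _
  · exact hp _
  · exact hp _
  · exact hp _

include hφ in
theorem hHom_fixed_mem {c : Fin 4 → Kˣ} (e : (T φ).τ c = c) : hH c ∈ twistedD4 K q := by
  obtain ⟨-, e1, e0, e2⟩ := tau_fixed φ e
  have hs : hH (Pi.mulSingle 1 (c 1)) ∈ twistedD4 K q := by
    rw [hH_single, show D4.pk.sim ((1 : Fin 4) : ℕ) = 14 from sims.2.1, Ok.ht]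
    exact mul_mem (nt_single φ hφ e1) (nt_single φ hφ (by rw [map_neg, map_one]))
  have hpr : hH (Pi.mulSingle 0 (c 0) * Pi.mulSingle 2 (c 2) * Pi.mulSingle 3 (c 3)) ∈ twistedD4 K q := by
    rw [map_mul, map_mul, hH_single, hH_single, hH_single, show D4.pk.sim ((0 : Fin 4) : ℕ) = 18 from sims.1,
      show D4.pk.sim ((2 : Fin 4) : ℕ) = 13 from sims.2.2.1, show D4.pk.sim ((3 : Fin 4) : ℕ) = 12 from sims.2.2.2,
      Ok.ht, Ok.ht, Ok.ht, ← e2, ← e0]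
    have cN : ∀ a b : ℕ, a ∈ [(18 : ℕ), 13] → b ∈ [(13 : ℕ), 12] → a ≠ b → ∀ x y : K,
        Commute (D4.ok.nt a x) (D4.ok.nt b y) := by
      intro a b ha hb hne x y
      have ho : ckOrth D4.pk a b = true ∧ ckOrth D4.pk (D4.pk.ng a) b = true ∧
          ckOrth D4.pk a (D4.pk.ng b) = true ∧ ckOrth D4.pk (D4.pk.ng a) (D4.pk.ng b) = true := by
        simp only [List.mem_cons, List.not_mem_nil, or_false] at ha hb
        rcases ha with rfl | rfl <;> rcases hb with rfl | rfl <;> first | exact absurd rfl hne | decide +kernel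
      exact D4.ok.commute_nt ckComm_D4 ho.1 ho.2.1 ho.2.2.1 ho.2.2.2 x y
    rw [(cN 18 13 (by simp) (by simp) (by omega) (-1) _).mul_mul_mul_comm,
      (((cN 18 12 (by simp) (by simp) (by omega) (-1) _).mul_left
        (cN 13 12 (by simp) (by simp) (by omega) (-1) _))).mul_mul_mul_comm]
    refine mul_mem (nt_triple φ hφ _) ?_
    have h1 := nt_triple φ hφ (-1)
    rwa [map_neg, map_one, map_neg, map_one] at h1
  have hc : c = Pi.mulSingle 1 (c 1) * (Pi.mulSingle 0 (c 0) * Pi.mulSingle 2 (c 2) * Pi.mulSingle 3 (c 3)) := by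
    funext j
    fin_cases j <;> simp
  rw [hc, map_mul]
  exact mul_mem hs hpr

include hφ in
theorem diag_le [Fintype K] (hK : Fintype.card K = q ^ 3) :
    chevD4.diagonalSubgroup K ⊓ (T φ).fixed ≤ twistedD4 K q := by
  rintro d ⟨hd, hf⟩
  obtain ⟨c, hc, rfl⟩ := Std.diag_lift (h := D4.ok) ckG_D4a φ (e := 2) (n := 3) (by decide)
    (fun c e => kernel_sq e) (tau_three φ (phi3 φ hφ hK)) hd hf
  exact hHom_fixed_mem φ hφ hc

theorem genR_neg {w L : List ℕ} (hck : ckNeg D4.pk w L = true) (hL : ∀ r ∈ L, r < D4.pk.nroots) :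
    D4.ok.genR (F := K) (negS D4.pk w) = D4.ok.genR (fun r => r ∈ L) := by
  rw [D4.ok.negS_eq hck hL]

theorem Uw_forms {o : List ℕ × List ℕ} (ho : o ∈ D4.orbsT) {x : GL chevD4.Idx K}
    (hx : x ∈ D4.ok.genR (negS D4.pk o.2) ⊓ (T φ).fixed) :
    (∃ t, φ t = t ∧ x = D4.ok.xG 14 t) ∨
      ∃ t, x = D4.ok.xG 18 t * D4.ok.xG 13 (φ t) * D4.ok.xG 12 (φ (φ t)) := by
  have hc := cks
  simp only [Bool.and_eq_true] at hc
  obtain ⟨⟨⟨⟨⟨a, -⟩, -⟩, -⟩, p1⟩, -⟩ := hc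
  obtain ⟨n1, n2⟩ := neg1
  obtain ⟨hx, hf⟩ := hx
  simp only [D4.orbsT, List.mem_cons, List.not_mem_nil, or_false] at ho
  rcases ho with rfl | rfl
  · rw [genR_neg n1 (by decide)] at hx
    obtain ⟨t, ht, rfl⟩ := Std.fixed_single ckG_D4a φ (by decide) a ⟨hx, hf⟩
    exact Or.inl ⟨t, ht, rfl⟩
  · rw [genR_neg n2 (by decide)] at hx
    obtain ⟨t, rfl⟩ := Std.fixed_triple ckG_D4a φ ckComm_D4 (by decide) (by decide) (by decide) p1 ⟨hx, hf⟩
    exact Or.inr ⟨t, rfl⟩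

include hφ in
/-- The twisted group. -/
theorem exists_grp [Fintype K] (hK : Fintype.card K = q ^ 3) :
    ∃ G : TwistGrp (T φ), G.G1 = twistedD4 K q ∧ G.O.orbs = D4.orbsT := by
  refine ⟨⟨O φ, twistedD4 K q, le_fixed φ hφ hK, fun o ho => ?_, fun o ho x hx => ?_, diag_le φ hφ hK⟩, rfl, rfl⟩
  · change o ∈ D4.orbsT at ho
    simp only [D4.orbsT, List.mem_cons, List.not_mem_nil, or_false] at ho
    rcases ho with rfl | rfl <;>
      simp only [Ok.nW, List.map_cons, List.map_nil, List.prod_cons, List.prod_nil, mul_one, Ok.nG,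
        sims.1, sims.2.1, sims.2.2.1, sims.2.2.2]
    · exact nt_single φ hφ (map_one φ)
    · have h1 := nt_triple φ hφ (1 : K)
      rwa [map_one, map_one, mul_assoc] at h1
  · rcases Uw_forms φ ho hx with ⟨t, ht, rfl⟩ | ⟨t, rfl⟩
    · exact gen1 (by decide) ((hφ t).symm.trans ht)
    · exact gen3 φ hφ (rs := (d4p1, d4p3, d4p4)) (by simp) t

end Cfsg.Agent.Chev.TwD4
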