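/-
Order, (B,N)-pair and simplicity of ³D₄.
-/
import Cfsg.Agent.Lib.Chev.TwD4

set_option autoImplicit false
set_option maxHeartbeats 400000

namespace Cfsg.Agent.Chev.TwD4

open Cfsg.Lie
open scoped Matrix commutatorElement

variable {K : Type*} [Field K] [Fintype K] {q : ℕ} {φ : K →+* K} (hφ : ∀ t, φ t = t ^ q)
  (hK : Fintype.card K = q ^ 3) (hq : IsPrimePow q)
  (G : TwistGrp (T φ)) (hG : G.G1 = twistedD4 K q) (hO : G.O.orbs = D4.orbsT)

theorem cnt_orbs : Twist.cnt D4.pk [1] = 1 ∧ Twist.cnt D4.pk [0, 2, 3] = 3 := by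
  obtain ⟨n1, n2⟩ := neg1
  exact ⟨D4.ok.cnt_eq n1 (by decide) (by decide), D4.ok.cnt_eq n2 (by decide) (by decide)⟩

include hφ hK hq hO in
theorem card_orb : ∀ o ∈ G.O.orbs, Nat.card (G.Uw o.2) ^ 1 = q ^ Twist.cnt D4.pk o.2 := by
  obtain ⟨c1, c2⟩ := cnt_orbs
  obtain ⟨n1, n2⟩ := neg1
  have hc := cks
  simp only [Bool.and_eq_true] at hc
  obtain ⟨⟨⟨⟨⟨a, -⟩, -⟩, -⟩, p1⟩, -⟩ := hc
  have hfix : Nat.card (G.Uw [1]) = q := by
    obtain ⟨e, -⟩ := Std.fixed_field_card (F := K) hq.two_le (by omega : 1 ≤ 3) hK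
    rw [← e]
    symm
    refine Nat.card_eq_of_bijective (fun t => ⟨D4.ok.xG 14 t.1, ?_⟩) ⟨fun x y e => ?_, ?_⟩
    · exact ⟨by rw [genR_neg n1 (by decide)]; exact D4.ok.xG_mem_genR (S := fun r => r ∈ [14]) (by simp) _,
        Std.xG_fixed ckG_D4a φ a ((hφ t.1).trans t.2)⟩
    · exact Subtype.ext (D4.ok.xG_inj_param (show 14 < D4.pk.nroots by decide) (congrArg Subtype.val e))
    · rintro ⟨x, hx, hf⟩
      rw [genR_neg n1 (by decide)] at hx
      obtain ⟨t, ht, rfl⟩ := Std.fixed_single ckG_D4a φ (by decide) a ⟨hx, hf⟩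
      exact ⟨⟨t, (hφ t).symm.trans ht⟩, rfl⟩
  have htri : Nat.card (G.Uw [0, 2, 3]) = q ^ 3 := by
    rw [← hK, ← Nat.card_eq_fintype_card]
    symm
    obtain ⟨o1, o2, o3⟩ := orth 18 (by simp) 13 (by simp) 12 (by simp)
    refine Nat.card_eq_of_bijective
      (fun t => ⟨D4.ok.xG 18 t * D4.ok.xG 13 (φ t) * D4.ok.xG 12 (φ (φ t)), ?_⟩) ⟨fun x y e => ?_, ?_⟩
    · exact ⟨(genR_neg (K := K) n2 (by decide)).symm ▸ (mul_mem (mul_mem
        (D4.ok.xG_mem_genR (S := fun r => r ∈ [18, 13, 12]) (by simp) _)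
        (D4.ok.xG_mem_genR (S := fun r => r ∈ [18, 13, 12]) (by simp) _))
        (D4.ok.xG_mem_genR (S := fun r => r ∈ [18, 13, 12]) (by simp) _) :
        D4.ok.xG 18 t * D4.ok.xG 13 (φ t) * D4.ok.xG 12 (φ (φ t)) ∈ D4.ok.genR (fun r => r ∈ [18, 13, 12])),
        Std.triple_fixed ckG_D4a φ ckComm_D4 p1 (phi3 φ hφ hK t)⟩
    · exact (Std.triple_unique ckComm_D4 (by decide) (by decide) (by decide) o1 o3 o2 (congrArg Subtype.val e)).1
    · rintro ⟨x, hx, hf⟩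
      rw [genR_neg n2 (by decide)] at hx
      obtain ⟨t, rfl⟩ := Std.fixed_triple ckG_D4a φ ckComm_D4 (by decide) (by decide) (by decide) p1 ⟨hx, hf⟩
      exact ⟨t, rfl⟩
  intro o ho
  rw [hO] at ho
  simp only [D4.orbsT, List.mem_cons, List.not_mem_nil, or_false] at ho
  rw [pow_one]
  rcases ho with rfl | rfl
  · rw [c1, pow_one]; exact hfix
  · rw [c2]; exact htri

include hφ hK hq hO in
theorem card_Uw {l : List ℕ} (hl : WordOk D4.pk l) (hc : (T φ).Comm l) :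
    Nat.card (G.Uw l) = q ^ Twist.cnt D4.pk l := by
  simpa using G.card_Uw ckComm_D4 (e := 1) (card_orb hφ hK hq G hO) hl hc

include hφ hK hq hO G in
theorem card_pos : Nat.card ↥(chevD4.posUnipotent K ⊓ (T φ).fixed) = q ^ 12 := by
  obtain ⟨l, hl, hc, htop⟩ := TwistGrp.exists_top (T := T φ)
  have h1 := card_Uw hφ hK hq G hO hl hc
  have h2 : Twist.cnt D4.pk l = 12 := by
    have e : negS D4.pk l = fun r => r ∈ posL D4.pk := funext fun r =>
      propext ⟨fun hr => mem_posL.2 hr.1, fun hr => ⟨mem_posL.1 hr, htop r (mem_posL.1 hr)⟩⟩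
    rw [Twist.cnt, e, show {r | r ∈ posL D4.pk} = ↑(posL D4.pk).toFinset by ext; simp,
      Set.ncard_coe_finset]
    decide
  rw [h2] at h1
  rw [← h1]
  have e : G.Uw l = chevD4.posUnipotent K ⊓ (T φ).fixed := by
    unfold TwistGrp.Uw
    rw [D4.ok.posUnipotent_eq]
    congr 1
    exact le_antisymm (D4.ok.genR_mono fun r hr => hr.1) (D4.ok.genR_mono fun r hr => ⟨hr, htop r hr⟩)
  rw [e]

omit [Fintype K] in
theorem ker_form (c : Fin 4 → Kˣ) (hk : hH (K := K) c = 1) (hc : (T φ).τ c = c) : c = 1 := by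
  unfold hH at hk
  obtain ⟨h1, h0, -, -, h5⟩ := kernel_eqs hk
  obtain ⟨t3, -, t0, t2⟩ := tau_fixed φ hc
  have hp : φ (c 0 : K) = c 0 := by
    rcases sq_eq_one_iff.1 (show (c 0 : K) ^ 2 = 1 by rw [← Units.val_pow_eq_pow_val, h0, Units.val_one]) with e | e <;>
      simp [e]
  have e2 : c 2 = c 0 := Units.ext (t0.symm.trans hp)
  have e3 : c 3 = c 0 := Units.ext (t2.symm.trans ((congrArg (fun u : Kˣ => φ (u : K)) e2).trans hp))
  rw [e2, e3, ← pow_two, h0, one_mul] at h5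
  funext j
  fin_cases j
  exacts [h5, h1, e2.trans h5, e3.trans h5]

/-- The fixed torus parameters. -/
noncomputable def tori (φ : K →+* K) : Subgroup (Fin 4 → Kˣ) := MonoidHom.eqLocus ((T φ).τ) (MonoidHom.id _)

omit [Fintype K] in
theorem mem_tori {c : Fin 4 → Kˣ} : c ∈ tori φ ↔ (T φ).τ c = c := Iff.rfl

include hφ hK hq in
theorem card_tori : Nat.card (tori φ) = (q - 1) * (q ^ 3 - 1) := by
  classical
  have hq2 := hq.two_le
  obtain ⟨-, e⟩ := Std.fixed_field_card (F := K) hq2 (by omega : 1 ≤ 3) hK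
  have hu : ∀ t : Kˣ, φ (t : K) = t ↔ t ^ (q - 1) = 1 := fun t => by
    rw [hφ, Units.ext_iff, Units.val_pow_eq_pow_val, Units.val_one,
      ← pow_sub_one_mul (show q ≠ 0 by omega) (t : K), mul_eq_right₀ t.ne_zero]
  have hb : Function.Bijective (fun c : tori φ =>
      ((⟨c.1 1, (hu _).1 (tau_fixed φ (mem_tori.1 c.2)).2.1⟩, c.1 0) :
        {t : Kˣ // t ^ (q - 1) = 1} × Kˣ)) := by
    constructor
    · intro c d hcd
      simp only [Prod.mk.injEq, Subtype.mk.injEq] at hcd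
      obtain ⟨h1, h0⟩ := hcd
      obtain ⟨-, -, c2, c3⟩ := tau_fixed φ (mem_tori.1 c.2)
      obtain ⟨-, -, d2, d3⟩ := tau_fixed φ (mem_tori.1 d.2)
      have h2 : c.1 2 = d.1 2 := Units.ext (c2.symm.trans ((congrArg (fun u : Kˣ => φ (u : K)) h0).trans d2))
      refine Subtype.ext (funext fun j => ?_)
      fin_cases j
      · exact h0
      · exact h1
      · exact h2
      · exact Units.ext (c3.symm.trans ((congrArg (fun u : Kˣ => φ (u : K)) h2).trans d3))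
    · rintro ⟨⟨a, ha⟩, x⟩
      refine ⟨⟨![x, a, Units.map φ.toMonoidHom x, Units.map φ.toMonoidHom (Units.map φ.toMonoidHom x)], ?_⟩, rfl⟩
      rw [mem_tori]
      refine (tau_apply φ _).trans ?_
      funext j
      fin_cases j
      · exact Units.ext (phi3 φ hφ hK _)
      · exact Units.ext ((hu a).2 ha)
      · rfl
      · rfl
  rw [Nat.card_eq_of_bijective _ hb, Nat.card_prod, e, Nat.card_eq_fintype_card, Fintype.card_units, hK]

include hφ hK hq G in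
theorem card_diag :
    Nat.card ↥(chevD4.diagonalSubgroup K ⊓ (T φ).fixed) = (q - 1) * (q ^ 3 - 1) := by
  rw [← card_tori hφ hK hq]
  symm
  refine Nat.card_eq_of_bijective (fun c => ⟨hH c.1, ?_⟩) ⟨fun a b e => ?_, ?_⟩
  · exact ⟨D4.ok.mem_diagonal_iff.2 ⟨c.1, rfl⟩, (T φ).mem_fixed.2
      ⟨D4.ok.diagonal_le_group (D4.ok.mem_diagonal_iff.2 ⟨c.1, rfl⟩), ((T φ).σ_hHom c.1).trans (congrArg _ c.2)⟩⟩
  · have e1 : hH a.1 = hH b.1 := congrArg Subtype.val e
    have h2 := ker_form (φ := φ) (a.1 * b.1⁻¹) (by rw [map_mul, map_inv, e1, mul_inv_cancel])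
      (mem_tori.1 (mul_mem a.2 (inv_mem b.2)))
    exact Subtype.ext (mul_inv_eq_one.1 h2)
  · rintro ⟨d, hd, hf⟩
    obtain ⟨c, hc, rfl⟩ := Std.diag_lift (h := D4.ok) ckG_D4a φ (e := 2) (n := 3) (by decide)
      (fun c e => kernel_sq e) (tau_three φ (phi3 φ hφ hK)) hd hf
    exact ⟨⟨c, hc⟩, rfl⟩

theorem cube_sub (q : ℕ) : (q - 1) * (q ^ 3 - 1) = (q - 1) ^ 2 * (q ^ 2 + q + 1) := by
  rcases q with _ | m
  · rfl
  · rw [Nat.add_sub_cancel, show (m + 1) ^ 3 - 1 = m * ((m + 1) ^ 2 + (m + 1) + 1) by ring_nf; omega]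
    ring

include hφ hK hq hG hO in
theorem order_eq : Nat.card ↥(twistedD4 K q) = q ^ 12 * (q ^ 2 - 1) * (q ^ 6 - 1) * (q ^ 8 + q ^ 4 + 1) := by
  rw [← hG, G.card_eq ckComm_D4 (fun n => q ^ n) (fun l hl hc => card_Uw hφ hK hq G hO hl hc),
    TwistGrp.sum_W1 G.O hO D4.ckEnumT (fun n => q ^ n), card_pos hφ hK hq G hO,
    show (D4.enumL.map fun w => q ^ cntL D4.pk (orbWord D4.orbsT w)).sum =
      pev q (psum (D4.enumL.map fun w => cntL D4.pk (orbWord D4.orbsT w))) by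
      rw [pev_psum, List.map_map]; rfl, D4.psumT, card_diag hφ hK hq G]
  obtain ⟨m, rfl⟩ : ∃ m, q = m + 1 := ⟨q - 1, by have := hq.two_le; omega⟩
  have h : ∀ k, 1 ≤ (m + 1) ^ k := fun k => Nat.one_le_pow _ _ (by omega)
  zify [h 2, h 3, h 6]
  simp only [pev, Nat.add_sub_cancel]
  push_cast
  ring

include hG in
theorem inf_eq (S : Subgroup (GL chevD4.Idx K)) : S ⊓ twistedD4 K q = S ⊓ (T φ).fixed := by
  rw [← hG, G.eq_fixed ckComm_D4]

include hφ hK hq hO in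
theorem proper : G.Proper where
  disj o ho o' ho' j := by
    rw [hO] at ho ho'
    simp only [D4.orbsT, List.mem_cons, List.not_mem_nil, or_false] at ho ho'
    intro hj hj'
    rcases ho with rfl | rfl <;> rcases ho' with rfl | rfl <;> simp at hj hj' ⊢ <;> omega
  ne_nil o ho := by
    rw [hO] at ho
    simp only [D4.orbsT, List.mem_cons, List.not_mem_nil, or_false] at ho
    rcases ho with rfl | rfl <;> simp
  ne_bot o ho e := by
    have h1 := card_orb hφ hK hq G hO o ho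
    rw [e, Subgroup.card_bot, one_pow] at h1
    obtain ⟨c1, c2⟩ := cnt_orbs
    rw [hO] at ho
    simp only [D4.orbsT, List.mem_cons, List.not_mem_nil, or_false] at ho
    have hq2 := hq.two_le
    rcases ho with rfl | rfl <;> simp only [c1, c2] at h1
    · simp at h1; omega
    · exact (Nat.one_lt_pow (by norm_num) hq2).ne h1

include hφ hK G in
theorem coord : ∀ i < D4.pk.rank, ∃ (L : List ℕ) (t : ℕ → K), L.Pairwise (· < ·) ∧
    (∀ r ∈ L, D4.pk.isPos r = true) ∧ D4.pk.sim i ∈ L ∧ t (D4.pk.sim i) ≠ 0 ∧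
    (L.map fun r => D4.ok.xG r (t r)).prod ∈ (T φ).fixed := by
  have hc := cks
  simp only [Bool.and_eq_true] at hc
  obtain ⟨⟨⟨⟨⟨a, -⟩, -⟩, -⟩, p1⟩, -⟩ := hc
  have h1 : D4.ok.xG 14 (1 : K) ∈ (T φ).fixed := Std.xG_fixed ckG_D4a φ a (map_one φ)
  have h3 : D4.ok.xG 12 (1 : K) * D4.ok.xG 13 1 * D4.ok.xG 18 1 ∈ (T φ).fixed := by
    have h := Std.triple_fixed (h := D4.ok) ckG_D4a φ ckComm_D4 p1 (t := (1 : K)) (by rw [map_one, map_one, map_one])
    rw [map_one, map_one] at h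
    obtain ⟨o1, o2, o3⟩ := orth 18 (by simp) 13 (by simp) 12 (by simp)
    rwa [((D4.ok.commute_xG ckComm_D4 o2 (1 : K) 1).mul_left (D4.ok.commute_xG ckComm_D4 o3 1 1)).eq,
      (D4.ok.commute_xG ckComm_D4 o1 (1 : K) 1).eq, ← mul_assoc] at h
  intro i hi
  have hi' : i = 0 ∨ i = 1 ∨ i = 2 ∨ i = 3 := by
    have : i < 4 := hi
    omega
  rcases hi' with rfl | rfl | rfl | rfl
  · exact ⟨[12, 13, 18], fun _ => 1, by simp, by decide, by decide, one_ne_zero, by simpa [mul_assoc] using h3⟩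
  · exact ⟨[14], fun _ => 1, by simp, by decide, by decide, one_ne_zero, by simpa using h1⟩
  · exact ⟨[12, 13, 18], fun _ => 1, by simp, by decide, by decide, one_ne_zero, by simpa [mul_assoc] using h3⟩
  · exact ⟨[12, 13, 18], fun _ => 1, by simp, by decide, by decide, one_ne_zero, by simpa [mul_assoc] using h3⟩

include hφ hK hq hG hO in
theorem perfect : commutator ↥G.G1 = ⊤ := by
  have hq2 := hq.two_le
  have hc := cks
  simp only [Bool.and_eq_true] at hc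
  obtain ⟨⟨⟨⟨⟨a, -⟩, c⟩, k23⟩, p1⟩, -⟩ := hc
  have hz : ∃ z : Kˣ, (z : K) * z ≠ 1 := by
    classical
    by_contra hall
    push_neg at hall
    have hsub : (Finset.univ : Finset K) ⊆ {0, 1, -1} := fun x _ => by
      by_cases hx : x = 0
      · simp [hx]
      · rcases mul_self_eq_one_iff.1 (hall (Units.mk0 x hx)) with e | e <;> simp at e <;> simp [e]
    have h1 := (Finset.card_le_card hsub).trans Finset.card_le_three
    rw [Finset.card_univ, hK] at h1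
    have : q ^ 2 ≤ q ^ 3 := Nat.pow_le_pow_right (by omega) (by norm_num)
    nlinarith
  obtain ⟨z, hz⟩ := hz
  have hlong : ∀ t : K, φ t = t → D4.ok.xG 14 t ∈ ⁅G.G1, G.G1⁆ := fun t ht =>
    G.long_derived ckComm_D4 (Or.inr rfl) (r := 14) (s := 22) ⟨a, by decide⟩ ⟨c, by decide⟩ k23 (by decide +kernel)
      cword4 (w := [1, 0]) (by rw [hO]; decide +kernel) a ht
  set cc : Fin 4 → Kˣ :=
    ![z, 1, Units.map φ.toMonoidHom z, Units.map φ.toMonoidHom (Units.map φ.toMonoidHom z)] with hcc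
  have hτ : (T φ).τ cc = cc := by
    refine (tau_apply φ _).trans ?_
    funext k
    fin_cases k <;> apply Units.ext <;> simp [hcc, phi3 φ hφ hK]
  have hch : ∀ c : Fin 4 → Kˣ, c 1 = 1 → hchar D4.pk c 18 = (c 0 : K) * c 0 ∧ hchar D4.pk c 13 = (c 2 : K) * c 2 ∧
      hchar D4.pk c 12 = (c 3 : K) * c 3 := by
    intro c hc1
    have hA : (List.range 4).map (fun i => [18, 13, 12].map fun r => D4.pk.A i r) =
        [[2, 0, 0], [-1, -1, -1], [0, 2, 0], [0, 0, 2]] := by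
      decide +kernel
    simp [List.range_succ] at hA
    obtain ⟨⟨a1, a2, a3⟩, ⟨b1, b2, b3⟩, ⟨d1, d2, d3⟩, ⟨e1, e2, e3⟩⟩ := hA
    refine ⟨?_, ?_, ?_⟩ <;>
      (show ∏ i : Fin 4, _ = _; rw [Fin.prod_univ_four]
       simp [hc1, a1, a2, a3, b1, b2, b3, d1, d2, d3, e1, e2, e3, zpow_two, pow_two])
  have htriple : ∀ t : K, D4.ok.xG 18 t * D4.ok.xG 13 (φ t) * D4.ok.xG 12 (φ (φ t)) ∈ ⁅G.G1, G.G1⁆ := by
    intro t
    have hd : D4.ok.hHom (F := K) cc ∈ G.G1 := by rw [hG]; exact hHom_fixed_mem φ hφ hτ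
    obtain ⟨e18, e13, e12⟩ := hch cc rfl
    obtain ⟨o1, o2, o3⟩ := orth 18 (by simp) 13 (by simp) 12 (by simp)
    set s := t / ((z : K) * z - 1)
    have hs : ((z : K) * z - 1) * s = t := mul_div_cancel₀ _ (sub_ne_zero.2 hz)
    have hy1 : D4.ok.xG 18 s * D4.ok.xG 13 (φ s) * D4.ok.xG 12 (φ (φ s)) ∈ G.G1 :=
      G.pos_fixed_le ckComm_D4 ⟨mul_mem (mul_mem (D4.ok.xG_mem_pos (by decide) _) (D4.ok.xG_mem_pos (by decide) _))
        (D4.ok.xG_mem_pos (by decide) _), Std.triple_fixed ckG_D4a φ ckComm_D4 p1 (phi3 φ hφ hK s)⟩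
    have h1 := G.mem_derived_of_comm hd hy1
    convert h1 using 1
    rw [commutatorElement_def, mul_inv_rev, mul_inv_rev, D4.ok.xG_inv, D4.ok.xG_inv, D4.ok.xG_inv,
      show ∀ d a b c a' b' c' : GL chevD4.Idx K, d * (a * b * c) * d⁻¹ * (c' * (b' * a')) =
        (d * a * d⁻¹) * ((d * b * d⁻¹) * (((d * c * d⁻¹) * c') * b')) * a' by intros; group,
      show D4.ok.hHom cc * D4.ok.xG 18 s * (D4.ok.hHom cc)⁻¹ = D4.ok.xG 18 (hchar D4.pk cc 18 * s) from
        D4.ok.hHom_xG cc (by decide) s,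
      show D4.ok.hHom cc * D4.ok.xG 13 (φ s) * (D4.ok.hHom cc)⁻¹ = D4.ok.xG 13 (hchar D4.pk cc 13 * φ s) from
        D4.ok.hHom_xG cc (by decide) (φ s),
      show D4.ok.hHom cc * D4.ok.xG 12 (φ (φ s)) * (D4.ok.hHom cc)⁻¹ =
          D4.ok.xG 12 (hchar D4.pk cc 12 * φ (φ s)) from D4.ok.hHom_xG cc (by decide) (φ (φ s)),
      D4.ok.xG_add, (D4.ok.commute_xG ckComm_D4 o3 (-φ s) _).symm.eq,
      ← mul_assoc (D4.ok.xG 13 (hchar D4.pk cc 13 * φ s)), D4.ok.xG_add, mul_assoc (D4.ok.xG 18 (hchar D4.pk cc 18 * s)),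
      ((D4.ok.commute_xG ckComm_D4 o1 (-s) _).mul_right (D4.ok.commute_xG ckComm_D4 o2 (-s) _)).symm.eq,
      ← mul_assoc, D4.ok.xG_add, ← mul_assoc, e18, e13, e12]
    congr 3
    · rw [show (cc 0 : K) = z from rfl]; linear_combination -hs
    · rw [← hs]; simp [hcc, map_mul, map_sub]; ring
    · rw [← hs]; simp [hcc, map_mul, map_sub]; ring
  refine G.commutator_eq_top ?_
  have horb : ∀ o ∈ G.O.orbs, G.Uw o.2 ≤ ⁅G.G1, G.G1⁆ := by
    intro o ho x hx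
    rw [hO] at ho
    rcases Uw_forms φ ho hx with ⟨t, ht, rfl⟩ | ⟨t, rfl⟩
    · exact hlong t ht
    · exact htriple t
  have hneg : (([([1], 9)] : List (List ℕ × ℕ)).all fun p => Nat.blt p.2 D4.pk.nroots &&
      D4.pk.isPos (wl D4.pk p.1 p.2) && !D4.pk.isPos (wl D4.pk p.1 (wl D4.pk p.1 p.2))) = true ∧
    (([([0, 2, 3], 5), ([0, 2, 3], 10), ([0, 2, 3], 11)] : List (List ℕ × ℕ)).all fun p =>
      Nat.blt p.2 D4.pk.nroots && D4.pk.isPos (wl D4.pk p.1 p.2) &&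
      !D4.pk.isPos (wl D4.pk p.1 (wl D4.pk p.1 p.2))) = true := by decide +kernel
  simp only [List.all_cons, List.all_nil, Bool.and_true, Bool.and_eq_true, Nat.blt_eq, Bool.not_eq_true'] at hneg
  obtain ⟨⟨⟨q1, q2⟩, q3⟩, ⟨⟨u1, u2⟩, u3⟩, ⟨⟨v1, v2⟩, v3⟩, ⟨⟨w1, w2⟩, w3⟩⟩ := hneg
  conv_lhs => rw [hG]
  refine (Subgroup.closure_le _).2 fun g hg => ?_
  have hmem : g ∈ G.G1 := hG ▸ Subgroup.subset_closure hg
  revert hmem
  refine gens (P' := fun g => g ∈ G.G1 → g ∈ ⁅G.G1, G.G1⁆) (fun r hr t ht hmem => ?_) (fun rs hr t hmem => ?_) hg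
  · have ht' : φ t = t := (hφ t).trans ht
    simp only [List.mem_cons, List.not_mem_nil, or_false] at hr
    rcases hr with rfl | rfl
    · exact hlong t ht'
    · exact G.neg_derived (o := ([1], [1])) (by rw [hO]; decide) (horb _ (by rw [hO]; decide)) hmem
        (D4.ok.xG_mem_genR ⟨q1, q2, q3⟩ _)
  · simp only [List.mem_cons, List.not_mem_nil, or_false] at hr
    rcases hr with rfl | rfl
    · rw [show t ^ q ^ 2 = φ (φ t) by rw [hφ, hφ, ← pow_mul, sq], ← hφ]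
      exact htriple t
    · exact G.neg_derived (o := ([0, 2, 3], [0, 2, 3])) (by rw [hO]; decide) (horb _ (by rw [hO]; decide)) hmem
        (mul_mem (mul_mem (D4.ok.xG_mem_genR ⟨u1, u2, u3⟩ _) (D4.ok.xG_mem_genR ⟨v1, v2, v3⟩ _))
          (D4.ok.xG_mem_genR ⟨w1, w2, w3⟩ _))

include hφ hK hq hG hO in
theorem simple : IsSimpleGroup ↥(twistedD4 K q) ∧ ¬ IsMulCommutative ↥(twistedD4 K q) := by
  have hp := proper hφ hK hq G hO
  have hne : G.G1 ≠ ⊥ := fun e => by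
    have h1 := card_pos hφ hK hq G hO
    have h2 : chevD4.posUnipotent K ⊓ (T φ).fixed = ⊥ :=
      eq_bot_iff.2 fun x hx => e ▸ G.pos_fixed_le ckComm_D4 hx
    rw [h2, Subgroup.card_bot] at h1
    exact (Nat.one_lt_pow (by norm_num) hq.two_le).ne h1
  have := G.simple ckComm_D4 hp (perfect hφ hK hq G hG hO) (G.irreducible ckComm_D4 hp (hO ▸ chain4))
    (G.core_bot ckComm_D4 (coord hφ hK G)) hne
  rw [hG] at this
  exact this

include hφ hK hq hG hO in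
theorem bn : ∃ P : Cfsg.BNPair ↥(twistedD4 K q),
    P.B = (chevD4.borelSubgroup K ⊓ twistedD4 K q).subgroupOf (twistedD4 K q) ∧
    P.N = (chevD4.monomialSubgroup K ⊓ twistedD4 K q).subgroupOf (twistedD4 K q) := by
  have : ∃ P : Cfsg.BNPair ↥G.G1, P.B = (chevD4.borelSubgroup K ⊓ G.G1).subgroupOf G.G1 ∧
      P.N = (chevD4.monomialSubgroup K ⊓ G.G1).subgroupOf G.G1 :=
    ⟨G.bnPair ckComm_D4 (proper hφ hK hq G hO), rfl, rfl⟩
  rw [hG] at this
  exact this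

include hφ hK hq hG hO in
theorem weyl : ∃ f : ↥(chevD4.monomialSubgroup K ⊓ twistedD4 K q) →* (CoxeterMatrix.G₂).Group, Function.Surjective f ∧
    f.ker = (chevD4.diagonalSubgroup K ⊓ twistedD4 K q).subgroupOf (chevD4.monomialSubgroup K ⊓ twistedD4 K q) := by
  have := G.exists_phi ckComm_D4 (proper hφ hK hq G hO) (M := CoxeterMatrix.G₂) (hO ▸ cox4) (hO ▸ by decide)
  rw [hG] at this
  exact this

omit G hG hO in
/-- All the hypotheses are available. -/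
theorem setup {K : Type*} [Field K] [Fintype K] {q : ℕ} (hq : IsPrimePow q) (hK : Fintype.card K = q ^ 3) :
    ∃ (φ : K →+* K) (G : TwistGrp (T φ)), (∀ t, φ t = t ^ q) ∧ G.G1 = twistedD4 K q ∧ G.O.orbs = D4.orbsT := by
  obtain ⟨φ, hφ⟩ := Std.exists_frob hq (by norm_num) hK
  obtain ⟨G, hG, hO⟩ := exists_grp φ hφ hK
  exact ⟨φ, G, hφ, hG, hO⟩

end Cfsg.Agent.Chev.TwD4
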