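/-
The Poincaré polynomials of the seven Weyl groups.
-/
import Cfsg.Agent.Lib.Chev.Weyl
import Cfsg.Agent.Lib.Chev.AllC

set_option autoImplicit false

namespace Cfsg.Agent.Chev

theorem ckOrb_B2 : B2.pk.ckOrb [1, 0] = true := by decide +kernel
theorem ckOrb_G2 : G2.pk.ckOrb [1, 0] = true := by decide +kernel
theorem ckOrb_D4 : D4.pk.ckOrb [3, 2, 1, 0] = true := by decide +kernel
theorem ckOrb_F4 : F4.pk.ckOrb [3, 2, 1, 0] = true := by decide +kernel
theorem ckOrb_E6 : E6.pk.ckOrb [5, 4, 3, 2, 1, 0] = true := by decide +kernel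
theorem poinP_B2 : B2.pk.poinP [1, 0] = pgeom [2, 4] := by decide +kernel
theorem poinP_G2 : G2.pk.poinP [1, 0] = pgeom [2, 6] := by decide +kernel
theorem poinP_D4 : D4.pk.poinP [3, 2, 1, 0] = pgeom [2, 4, 4, 6] := by decide +kernel
theorem poinP_F4 : F4.pk.poinP [3, 2, 1, 0] = pgeom [2, 6, 8, 12] := by decide +kernel
theorem poinP_E6 : E6.pk.poinP [5, 4, 3, 2, 1, 0] = pgeom [2, 5, 6, 8, 9, 12] := by decide +kernel

end Cfsg.Agent.Chev
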