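/-
Smith normal forms of the seven Cartan matrices.
-/
import Cfsg.Agent.Lib.Chev.Order
import Cfsg.Agent.Lib.Chev.AllC

set_option autoImplicit false

namespace Cfsg.Agent.Chev

theorem smith_B2 : ckSmith B2.pk [[0, 1], [1, 2]]
    [[-2, 1], [1, 0]]
    [[1, 2], [0, 1]]
    [[1, -2], [0, 1]] [-1, 2] = true := by decide +kernel

theorem smith_G2 : ckSmith G2.pk [[0, 1], [1, 2]]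
    [[-2, 1], [1, 0]]
    [[1, 2], [0, 1]]
    [[1, -2], [0, 1]] [-1, 1] = true := by decide +kernel

theorem smith_D4 : ckSmith D4.pk [[1, 0, 0, 0], [2, 1, 0, 0], [3, 2, 1, 0], [2, 2, 1, 1]]
    [[1, 0, 0, 0], [-2, 1, 0, 0], [1, -2, 1, 0], [1, 0, -1, 1]]
    [[0, 0, 0, 1], [1, 0, 0, 2], [0, 1, -1, 1], [0, 0, 1, 2]]
    [[-2, 1, 0, 0], [-3, 0, 1, 1], [-2, 0, 0, 1], [1, 0, 0, 0]] [-1, -1, -2, 2] = true := by decide +kernel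

theorem smith_F4 : ckSmith F4.pk [[1, 0, 0, 0], [-1, 0, 1, 0], [2, 1, 0, 0], [2, 2, 2, 1]]
    [[1, 0, 0, 0], [-2, 0, 1, 0], [1, 1, 0, 0], [0, -2, -2, 1]]
    [[0, 0, 1, -2], [1, 0, 2, -4], [0, 0, 2, -3], [0, 1, 2, -2]]
    [[-2, 1, 0, 0], [2, 0, -2, 1], [-3, 0, 2, 0], [-2, 0, 1, 0]] [-1, -1, -1, -1] = true := by decide +kernel

theorem smith_E6 : ckSmith E6.pk [[1, 0, 0, 0, 0, 0], [0, 1, 0, 0, 0, 0], [-1, 2, 0, 1, 0, 0], [-2, 3, 0, 2, 1, 0], [2, -1, 1, 0, 0, 0], [5, 0, 4, 3, 2, 1]]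
    [[1, 0, 0, 0, 0, 0], [0, 1, 0, 0, 0, 0], [-2, 1, 0, 0, 1, 0], [1, -2, 1, 0, 0, 0], [0, 1, -2, 1, 0, 0], [0, 0, 1, -2, -4, 1]]
    [[0, 0, 0, 0, 1, -2], [0, 0, 0, 0, 2, -3], [1, 0, 0, 0, 2, -4], [0, 1, 0, 0, 4, -6], [0, 0, 1, 0, 4, -5], [0, 0, 0, 1, 4, -4]]
    [[-2, 0, 1, 0, 0, 0], [0, -2, 0, 1, 0, 0], [2, -3, 0, 0, 1, 0], [4, -4, 0, 0, 0, 1], [-3, 2, 0, 0, 0, 0], [-2, 1, 0, 0, 0, 0]] [-1, -1, -1, -1, -1, -3] = true := by decide +kernel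

theorem smith_E7 : ckSmith E7.pk [[1, 0, 0, 0, 0, 0, 0], [0, 1, 0, 0, 0, 0, 0], [-1, 2, 0, 1, 0, 0, 0], [-2, 3, 0, 2, 1, 0, 0], [-3, 4, 0, 3, 2, 1, 0], [2, -1, 1, 0, 0, 0, 0], [4, 1, 4, 4, 3, 2, 1]]
    [[1, 0, 0, 0, 0, 0, 0], [0, 1, 0, 0, 0, 0, 0], [-2, 1, 0, 0, 0, 1, 0], [1, -2, 1, 0, 0, 0, 0], [0, 1, -2, 1, 0, 0, 0], [0, 0, 1, -2, 1, 0, 0], [0, 0, 0, 1, -2, -4, 1]]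
    [[0, 0, 0, 0, 0, 1, -2], [0, 0, 0, 0, 0, 2, -3], [1, 0, 0, 0, 0, 2, -4], [0, 1, 0, 0, 0, 4, -6], [0, 0, 1, 0, 0, 4, -5], [0, 0, 0, 1, 0, 4, -4], [0, 0, 0, 0, 1, 4, -3]]
    [[-2, 0, 1, 0, 0, 0, 0], [0, -2, 0, 1, 0, 0, 0], [2, -3, 0, 0, 1, 0, 0], [4, -4, 0, 0, 0, 1, 0], [6, -5, 0, 0, 0, 0, 1], [-3, 2, 0, 0, 0, 0, 0], [-2, 1, 0, 0, 0, 0, 0]] [-1, -1, -1, -1, -1, -1, -2] = true := by decide +kernel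

theorem smith_E8 : ckSmith E8.pk [[1, 0, 0, 0, 0, 0, 0, 0], [0, 1, 0, 0, 0, 0, 0, 0], [-1, 2, 0, 1, 0, 0, 0, 0], [-2, 3, 0, 2, 1, 0, 0, 0], [-3, 4, 0, 3, 2, 1, 0, 0], [-4, 5, 0, 4, 3, 2, 1, 0], [2, -1, 1, 0, 0, 0, 0, 0], [3, 2, 4, 5, 4, 3, 2, 1]]
    [[1, 0, 0, 0, 0, 0, 0, 0], [0, 1, 0, 0, 0, 0, 0, 0], [-2, 1, 0, 0, 0, 0, 1, 0], [1, -2, 1, 0, 0, 0, 0, 0], [0, 1, -2, 1, 0, 0, 0, 0], [0, 0, 1, -2, 1, 0, 0, 0], [0, 0, 0, 1, -2, 1, 0, 0], [0, 0, 0, 0, 1, -2, -4, 1]]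
    [[0, 0, 0, 0, 0, 0, 1, -2], [0, 0, 0, 0, 0, 0, 2, -3], [1, 0, 0, 0, 0, 0, 2, -4], [0, 1, 0, 0, 0, 0, 4, -6], [0, 0, 1, 0, 0, 0, 4, -5], [0, 0, 0, 1, 0, 0, 4, -4], [0, 0, 0, 0, 1, 0, 4, -3], [0, 0, 0, 0, 0, 1, 4, -2]]
    [[-2, 0, 1, 0, 0, 0, 0, 0], [0, -2, 0, 1, 0, 0, 0, 0], [2, -3, 0, 0, 1, 0, 0, 0], [4, -4, 0, 0, 0, 1, 0, 0], [6, -5, 0, 0, 0, 0, 1, 0], [8, -6, 0, 0, 0, 0, 0, 1], [-3, 2, 0, 0, 0, 0, 0, 0], [-2, 1, 0, 0, 0, 0, 0, 0]] [-1, -1, -1, -1, -1, -1, -1, -1] = true := by decide +kernel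

end Cfsg.Agent.Chev
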