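/-
The Coxeter matrices and Coxeter numbers of the seven types.
-/
import Cfsg.Agent.Lib.Chev.Coxeter

set_option autoImplicit false

namespace Cfsg.Agent.Chev

theorem ckCox_B2 : ckCox B2.pk (CoxeterMatrix.B 2).M = true := by decide +kernel
theorem ckCox_G2 : ckCox G2.pk CoxeterMatrix.G₂.M = true := by decide +kernel
theorem ckCox_D4 : ckCox D4.pk Cfsg.Lie.coxeterD4.M = true := by decide +kernel
theorem ckCox_F4 : ckCox F4.pk CoxeterMatrix.F₄.M = true := by decide +kernel
theorem ckCox_E6 : ckCox E6.pk CoxeterMatrix.E₆.M = true := by decide +kernel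
theorem ckCox_E7 : ckCox E7.pk CoxeterMatrix.E₇.M = true := by decide +kernel
theorem ckCox_E8 : ckCox E8.pk CoxeterMatrix.E₈.M = true := by decide +kernel

theorem coxNum_B2 : ckOrd B2.pk ((List.finRange 2).map Fin.val) 4 = true := by decide +kernel
theorem coxNum_G2 : ckOrd G2.pk ((List.finRange 2).map Fin.val) 6 = true := by decide +kernel
theorem coxNum_D4 : ckOrd D4.pk ((List.finRange 4).map Fin.val) 6 = true := by decide +kernel
theorem coxNum_F4 : ckOrd F4.pk ((List.finRange 4).map Fin.val) 12 = true := by decide +kernel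
theorem coxNum_E6 : ckOrd E6.pk ((List.finRange 6).map Fin.val) 12 = true := by decide +kernel
theorem coxNum_E7 : ckOrd E7.pk ((List.finRange 7).map Fin.val) 18 = true := by decide +kernel
theorem coxNum_E8 : ckOrd E8.pk ((List.finRange 8).map Fin.val) 30 = true := by decide +kernel

end Cfsg.Agent.Chev
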