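/-
Characters of the root lattice given on roots versus characters along chains.
-/
import Cfsg.Agent.Lib.Chev.Subgroups
import Cfsg.Agent.Lib.Chev.Comm
import Cfsg.Prelude.Def_ChevAutomorphisms

set_option autoImplicit false

namespace Cfsg.Agent.Chev

open Cfsg.Lie

variable {D : ChevalleyDatum} {P : Pk} {F : Type*} [Field F]

namespace Ok

variable (h : Ok D P)
include h

/-- One more step along a chain. -/
theorem tgt_succ {r s k : ℕ} (hr : r < P.nroots) (hs : s < P.nroots) (hk : k + 1 < P.len r s) :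
    0 < P.len r (P.tgt r s k) ∧ P.tgt r (P.tgt r s k) 0 = P.tgt r s (k + 1) := by
  have hkey : s ∈ P.keys r := (h.mem_keys hr).2 ⟨hs, by omega⟩
  obtain ⟨hsr, hsn, -, hsp⟩ := h.range_spec hr hkey
  obtain ⟨hck, -⟩ := hsp k (by omega)
  obtain ⟨hnx, hcoef⟩ := hsp (k + 1) hk
  set c := P.tgt r s k with hc
  have e := (h.pow_spec hr).1 s hkey k (by omega) (P.tgt r s (k + 1))
  rw [colL_gen (by omega) hs hsr hsn, if_pos (by omega : k + 1 ≤ P.len r s),
    colL_gen (by omega) hs hsr hsn, if_pos (by omega : k + 2 ≤ P.len r s)] at e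
  simp only [Nat.add_sub_cancel, show k + 2 - 1 = k + 1 by omega, app_single, cf_scl, cf_cons, cf_nil,
    if_true, add_zero] at e
  have hne : cf (P.colL 1 r c) (P.tgt r s (k + 1)) ≠ 0 := by
    intro h0
    rw [← hc, h0, mul_zero] at e
    rcases mul_eq_zero.1 e.symm with e1 | e1
    · simp at e1; omega
    · exact hcoef e1
  by_cases hcr : c = r
  · exact absurd (by simp [Pk.colL, nbeq, hcr, ble_f (not_le.2 hr), cf_nil]) hne
  by_cases hcn : c = P.ng r
  · refine absurd ?_ hne
    have : ∀ L : List ℕ, cf (L.map fun i => (P.nroots + i, P.co r i)) (P.tgt r s (k + 1)) = 0 := by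
      intro L
      induction L with
      | nil => rfl
      | cons a L ih =>
        rw [List.map_cons, cf_cons, ih, if_neg (by omega : ¬ P.nroots + a = P.tgt r s (k + 1)), add_zero]
    have hn := Ok.ng_lt (P := P) hr
    simp [Pk.colL, nbeq, hcn, ble_f (not_le.2 hn), h.ng_ne hr, this]
  rw [colL_gen one_ne_zero hck hcr hcn] at hne
  split_ifs at hne with hl
  · refine ⟨hl, ?_⟩
    simp only [cf_cons, cf_nil, add_zero, Nat.sub_self] at hne
    by_contra hne2
    rw [if_neg hne2] at hne
    exact hne rfl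
  · simp [cf_nil] at hne

/-- A character of the root lattice is multiplicative along chains. -/
theorem isChar_of_rootCharacter {χ : ℕ → Fˣ} (hχ : D.IsRootCharacter χ) :
    IsChar P (fun r => (χ r : F)) := by
  have one : ∀ r < P.nroots, ∀ s < P.nroots, 0 < P.len r s → χ (P.tgt r s 0) = χ r * χ s := by
    intro r hr s hs hl
    refine hχ.2 r s _ (h.nroots ▸ hr) (h.nroots ▸ hs) ?_
    rw [h.cRoot_eq hr hs, Pk.cRoot, P.entry_getElem? hl]
    rfl
  refine ⟨fun r _ => (χ r).ne_zero, fun r hr => ?_, fun r hr s hs k hk => ?_⟩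
  · have := hχ.1 r (h.nroots ▸ hr)
    rw [h.neg_eq hr] at this
    rw [this, Units.val_inv_eq_inv_val]
  · obtain ⟨hs', -⟩ := (h.mem_keys hr).1 hs
    have key : χ (P.tgt r s k) = χ r ^ (k + 1) * χ s := by
      induction k with
      | zero => rw [one r hr s hs' hk, pow_one]
      | succ k ih =>
        obtain ⟨hl, he⟩ := h.tgt_succ hr hs' hk
        rw [← he, one r hr _ (h.tgt_lt hr hs' (by omega)) hl, ih (by omega), pow_succ' (χ r) (k + 1), mul_assoc]
    rw [key]
    push_cast
    rfl

omit h in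
/-- The diagonal matrix of a character of the root lattice. -/
theorem charDiag_eq (χ : ℕ → Fˣ) : D.charDiag F χ = dM D (fun r => (χ r : F)) := rfl

end Ok

end Cfsg.Agent.Chev
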