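/-
The normaliser of `U` in the group, the diagonal part, Sylow, and the fixed points of a field endomorphism.
-/
import Cfsg.Agent.Lib.Chev.Order
import Cfsg.Agent.Lib.Chev.Simple
import Cfsg.Agent.Lib.Chev.RootChar

set_option autoImplicit false

namespace Cfsg.Agent.Chev

open Cfsg.Lie
open scoped Matrix

variable {D : ChevalleyDatum} {P : Pk} {F : Type*} [Field F]

namespace Ok

variable (h : Ok D P)
include h

theorem neg_not_pos {r : ℕ} (hr : r < P.nroots) (hp : P.isPos r = false) {t : F}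
    (hm : h.xG r t ∈ D.posUnipotent F) : t = 0 := by
  have : h.xG r t ∈ D.borelSubgroup F ⊓ D.negUnipotent F :=
    Subgroup.mem_inf.2 ⟨Subgroup.mem_sup_left hm, h.xG_mem_neg hr hp t⟩
  rw [h.borel_inf_neg, Subgroup.mem_bot] at this
  exact h.xG_inj_param hr (this.trans (h.xG_zero r).symm)

theorem sim_not_out (hC : P.ckComm = true) {i : ℕ} (hi : i < P.rank) {t : F}
    (hm : h.xG (P.sim i) t ∈ h.genR (Out P (· = i))) : t = 0 := by
  obtain ⟨hN, -⟩ := h.fundamental_split (F := F) hC hi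
  have hn : h.nG i ∈ Subgroup.normalizer (h.genR (F := F) (Out P (· = i)) : Set (GL D.Idx F)) := by
    refine hN ?_
    rw [nG, nt]
    exact mul_mem (mul_mem (Subgroup.mem_sup_left (h.mem_rootSubgroup _))
      (Subgroup.mem_sup_right (h.mem_rootSubgroup _))) (Subgroup.mem_sup_left (h.mem_rootSubgroup _))
  have hl : WordOk P [i] := fun x hx => by simp at hx; exact hx ▸ hi
  have h1 := (Subgroup.mem_normalizer_iff.1 hn _).1 hm
  have hpos : h.genR (F := F) (Out P (· = i)) ≤ D.posUnipotent F :=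
    h.genR_le fun r hr t => h.xG_mem_pos ((h.out_sim hi).1 hr).1 t
  obtain ⟨e, he, hx⟩ := h.nW_xG (F := F) [i] hl (P.sim i) (h.sim_lt hi)
  have h2 : h.nW (F := F) [i] = h.nG i := by rw [h.nW_cons, h.nW_nil, mul_one]
  have h3 := (hx t).1
  rw [h2] at h3
  rw [h3, show wl P [i] (P.sim i) = P.ng (P.sim i) from h.w_sim hi] at h1
  have := h.neg_not_pos (ng_lt (h.sim_lt hi))
    (by rw [← Bool.not_eq_true, h.ng_pos_iff (h.sim_lt hi), h.sim_pos hi]; simp) (hpos h1)
  calc t = e * (e * t) := by rw [← mul_assoc, he, one_mul]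
    _ = 0 := by rw [this, mul_zero]

theorem pos_part_of_conj (hC : P.ckComm = true) {l : List ℕ} (hl : WordOk P l) {y : GL D.Idx F}
    (hy : y ∈ D.posUnipotent F) (hn : h.nW l * y * (h.nW l)⁻¹ ∈ D.posUnipotent F) :
    y ∈ h.genR (fun r => P.isPos r = true ∧ P.isPos (wl P l r) = true) := by
  obtain ⟨a, ha, b, hb, rfl⟩ := h.split_pos hC (fun r => P.isPos (wl P l r) = true)
    (fun r => P.isPos (wl P l r) = false) (fun r _ => by cases P.isPos (wl P l r) <;> simp) hy
  have h1 := h.uplus_conj hl (one_mem _) ha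
  have h2 := h.uminus_conj hl (one_mem _) hb
  rw [mul_one] at h1 h2
  have h3 : h.nW l * b * (h.nW l)⁻¹ ∈ D.borelSubgroup F ⊓ D.negUnipotent F := by
    refine Subgroup.mem_inf.2 ⟨Subgroup.mem_sup_left ?_, h2⟩
    have := mul_mem (inv_mem h1) hn
    convert this using 1
    group
  rw [h.borel_inf_neg, Subgroup.mem_bot, conj_eq_one_iff] at h3
  rw [h3, mul_one]; exact ha

/-- An element moving some nontrivial element of each fundamental root subgroup into `U` lies in `B`. -/
theorem mem_borel_of_conj_sim (hC : P.ckComm = true) {g : GL D.Idx F} (hg : g ∈ D.group F)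
    (hconj : ∀ i < P.rank, ∃ t : F, t ≠ 0 ∧ g * h.xG (P.sim i) t * g⁻¹ ∈ D.posUnipotent F) :
    g ∈ D.borelSubgroup F := by
  obtain ⟨b, hb, l, hl, u, hu, rfl⟩ := h.bruhat_exists hC hg
  have huU := h.negS_le_pos l hu
  have hpos : ∀ i < P.rank, P.isPos (wl P l (P.sim i)) = true := by
    intro i hi
    by_contra hneg
    obtain ⟨t, ht0, hc⟩ := hconj i hi
    have hy : u * h.xG (P.sim i) t * u⁻¹ ∈ D.posUnipotent F :=
      mul_mem (mul_mem huU (h.xG_mem_pos (h.sim_pos hi) t)) (inv_mem huU)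
    obtain ⟨v, hv, d, hd, rfl⟩ := h.mem_borel hb
    have h1 : h.nW l * (u * h.xG (P.sim i) t * u⁻¹) * (h.nW l)⁻¹ ∈ D.posUnipotent F := by
      have h4 := mul_mem (mul_mem (inv_mem hv) hc) hv
      have h5 := (Subgroup.mem_normalizer_iff.1 (h.diagonal_normalizes (inv_mem hd)) _).1 h4
      convert h5 using 1
      group
    have h2 : u * h.xG (P.sim i) t * u⁻¹ ∈ h.genR (Out P (· = i)) := by
      refine h.genR_mono (fun r hr => ?_) (h.pos_part_of_conj hC hl hy h1)
      exact (h.out_sim hi).2 ⟨hr.1, fun e => hneg (e ▸ hr.2)⟩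
    obtain ⟨hN, hsup⟩ := h.fundamental_split (F := F) hC hi
    have huU' := huU
    rw [← hsup, sup_comm, ← SetLike.mem_coe,
      Subgroup.coe_mul_of_left_le_normalizer_right _ _ (le_trans le_sup_left hN)] at huU'
    obtain ⟨x, hx, a, ha, rfl⟩ := huU'
    rw [h.rootSubgroup_eq] at hx
    obtain ⟨c, rfl⟩ := hx
    have hxN : h.xG (P.sim i) c ∈ Subgroup.normalizer (h.genR (F := F) (Out P (· = i)) : Set (GL D.Idx F)) :=
      hN (Subgroup.mem_sup_left (h.mem_rootSubgroup c))
    have hxt : h.xG (P.sim i) t ∈ Subgroup.normalizer (h.genR (F := F) (Out P (· = i)) : Set (GL D.Idx F)) :=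
      hN (Subgroup.mem_sup_left (h.mem_rootSubgroup t))
    have h6 : a * h.xG (P.sim i) t * a⁻¹ ∈ h.genR (Out P (· = i)) := by
      refine (Subgroup.mem_normalizer_iff.1 hxN _).2 ?_
      convert h2 using 1
      group
    refine ht0 (h.sim_not_out hC hi ?_)
    have h7 : h.xG (P.sim i) t * (h.xG (P.sim i) t)⁻¹ = 1 := mul_inv_cancel _
    have h8 := mul_mem (mul_mem (inv_mem ha) h6) ha
    convert h8 using 1
    group
  have hid := fun r hr => h.wl_eq_id l.length l le_rfl hl hpos r hr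
  exact mul_mem (mul_mem hb (Subgroup.mem_sup_right (h.nW_mem_diagonal hl hid))) (Subgroup.mem_sup_left huU)

theorem tri_of_diagonal {u : GL D.Idx F} {χ : D.Idx → F} (hu : u ∈ D.posUnipotent F)
    (e : (u : Matrix D.Idx D.Idx F) = Matrix.diagonal χ) : u = 1 := by
  have ht := h.tri_of_pos hu
  apply Units.ext
  ext row col
  rw [Units.val_one]
  by_cases hrc : row = col
  · subst hrc; rw [(ht row row).1 rfl, Matrix.one_apply_eq]
  · rw [e, Matrix.diagonal_apply_ne _ hrc, Matrix.one_apply_ne hrc]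

/-- A character-diagonal element of the group is in `H`. -/
theorem inf_character_diagonal (hC : P.ckComm = true) {χ : ℕ → Fˣ} (hχ : D.IsRootCharacter χ)
    {g : GL D.Idx F} (hg : g ∈ D.group F) (hgχ : (g : Matrix D.Idx D.Idx F) = D.charDiag F χ) :
    g ∈ D.diagonalSubgroup F := by
  have hchi := h.isChar_of_rootCharacter hχ
  have hgd : g = h.dG hchi := Units.ext (by rw [hgχ, charDiag_eq]; rfl)
  have hB : g ∈ D.borelSubgroup F := h.mem_borel_of_conj_sim hC hg fun i hi =>
    ⟨1, one_ne_zero, by rw [hgd, h.dG_xG hchi (h.sim_lt hi)]; exact h.xG_mem_pos (h.sim_pos hi) _⟩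
  obtain ⟨v, hv, d, hd, rfl⟩ := h.mem_borel hB
  obtain ⟨c, hc⟩ := h.mem_diagonal_iff.1 (inv_mem hd)
  have hv1 : v = 1 := h.tri_of_diagonal hv (by
    rw [show v = v * d * d⁻¹ by group, ← hc, Units.val_mul, hgχ, charDiag_eq, h.coe_hHom, dM_mul]; rfl)
  rw [hv1, one_mul]; exact hd

/-- `U` is a Sylow subgroup. -/
theorem pos_sylow [Fintype F] (p : ℕ) [Fact p.Prime] [CharP F p] (hC : P.ckComm = true) :
    ∃ S : Sylow p (D.group F), (S : Subgroup (D.group F)) = (D.posUnipotent F).subgroupOf (D.group F) := by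
  classical
  have hp : p.Prime := Fact.out
  obtain ⟨n, -, hq⟩ := FiniteField.card F p
  have hUG : D.posUnipotent F ≤ D.group F := fun x hx => h.borel_le_group (Subgroup.mem_sup_left hx)
  have hcU : Nat.card ((D.posUnipotent F).subgroupOf (D.group F)) = p ^ ((n : ℕ) * (P.nroots / 2)) := by
    rw [Nat.card_congr (Subgroup.subgroupOfEquivOfLe hUG).toEquiv, h.card_pos hC, hq, pow_mul]
  set J := List.range P.rank
  have hJ : ∀ i < P.rank, i ∈ J := fun i hi => List.mem_range.2 hi
  have hH : ¬ p ∣ Nat.card (D.diagonalSubgroup F) := by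
    rw [h.diagonal_eq]
    intro hd
    have h1 := hd.trans (Subgroup.card_range_dvd (h.hHom (F := F)))
    rw [Nat.card_fun, Nat.card_eq_fintype_card (α := Fˣ), Fintype.card_units] at h1
    have h2 : p ∣ Fintype.card F - 1 := hp.dvd_of_dvd_pow h1
    have h3 : p ∣ Fintype.card F := by rw [hq]; exact dvd_pow_self p n.ne_zero
    have h4 := Nat.dvd_sub h3 h2
    rw [Nat.sub_sub_self Fintype.card_pos] at h4
    exact hp.one_lt.ne' (Nat.dvd_one.1 h4)
  have hP : ¬ p ∣ poin P J (Fintype.card F) := by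
    have hid : act P [] ∈ WJ P J :=
      h.mem_WJ.2 ⟨[], ⟨fun _ hx => absurd hx List.not_mem_nil, fun _ hx => absurd hx List.not_mem_nil⟩, rfl⟩
    rw [poin, ← Finset.add_sum_erase _ _ hid]
    have h0 : invJ P J (act P []) = 0 := by
      rw [invJ_def, Finset.card_eq_zero, Finset.filter_eq_empty_iff]
      rintro r - ⟨-, h2, h3⟩
      rw [h.act_val (fun _ hx => absurd hx List.not_mem_nil)] at h3
      simp [wl, h2] at h3
    rw [h0, pow_zero]
    have hrest : p ∣ ∑ f ∈ (WJ P J).erase (act P []), Fintype.card F ^ invJ P J f := by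
      refine Finset.dvd_sum fun f hf => ?_
      obtain ⟨hne, hmem⟩ := Finset.mem_erase.1 hf
      obtain ⟨l, hl, rfl⟩ := h.mem_WJ.1 hmem
      refine dvd_pow (by rw [hq]; exact dvd_pow_self p n.ne_zero) fun h00 => hne ?_
      rw [invJ_def, Finset.card_eq_zero, Finset.filter_eq_empty_iff] at h00
      have hpos : ∀ i < P.rank, P.isPos (wl P l (P.sim i)) = true := by
        intro i hi
        by_contra e
        refine h00 (Finset.mem_univ ⟨P.sim i, h.sim_lt hi⟩) ⟨inJ_iff.2 fun m hm hn => absurd (hJ m hm) hn,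
          h.sim_pos hi, ?_⟩
        rw [h.act_val hl.1]
        simpa using e
      refine (h.act_eq_iff hl.1 fun _ hx => absurd hx List.not_mem_nil).2 fun r hr => ?_
      rw [h.wl_eq_id l.length l le_rfl hl.1 hpos r hr]; rfl
    intro hd
    exact hp.one_lt.ne' (Nat.dvd_one.1 ((Nat.dvd_add_left hrest).1 hd))
  refine ⟨Sylow.ofCard ((D.posUnipotent F).subgroupOf (D.group F)) ?_, rfl⟩
  have hne : Nat.card (D.diagonalSubgroup F) * poin P J (Fintype.card F) ≠ 0 := fun e => by
    rcases mul_eq_zero.1 e with e | e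
    · exact hH (e ▸ dvd_zero p)
    · exact hP (e ▸ dvd_zero p)
  have key : ∀ e m : ℕ, m ≠ 0 → ¬ p ∣ m → (p ^ e * m).factorization p = e := fun e m hm hpm => by
    rw [Nat.factorization_mul (pow_ne_zero _ hp.pos.ne') hm, Finsupp.add_apply, hp.factorization_pow,
      Finsupp.single_eq_same, Nat.factorization_eq_zero_of_not_dvd hpm, add_zero]
  rw [hcU, h.card_group hC hJ, mul_assoc,
    show Fintype.card F ^ (P.nroots / 2) = p ^ ((n : ℕ) * (P.nroots / 2)) by rw [hq, pow_mul],
    key _ _ hne fun e => (hp.dvd_mul.1 e).elim hH hP]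

section Frobenius

theorem map_xG (σ : F →+* F) (r : ℕ) (t : F) :
    Units.map σ.mapMatrix.toMonoidHom (h.xG r t) = h.xG r (σ t) := by
  by_cases hr : r < P.nroots
  · apply Units.ext
    simp only [Units.coe_map, RingHom.toMonoidHom_eq_coe, MonoidHom.coe_coe, RingHom.mapMatrix_apply,
      h.coe_xG' hr, X_map]
  · rw [xG, dif_neg hr, map_one, xG, dif_neg hr]

/-- The subgroup generated by the root elements with fixed parameter. -/
def fixGen (σ : F →+* F) : Subgroup (GL D.Idx F) :=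
  Subgroup.closure {g | ∃ r t, σ t = t ∧ g = h.xG r t}

theorem xG_mem_fixGen {σ : F →+* F} (r : ℕ) {t : F} (ht : σ t = t) : h.xG r t ∈ h.fixGen σ :=
  Subgroup.subset_closure ⟨r, t, ht, rfl⟩

theorem nW_mem_fixGen (σ : F →+* F) : ∀ l, h.nW (F := F) l ∈ h.fixGen σ := by
  intro l
  induction l with
  | nil => exact one_mem _
  | cons i l ih =>
    rw [h.nW_cons]
    refine mul_mem ?_ ih
    rw [nG, nt]
    exact mul_mem (mul_mem (h.xG_mem_fixGen _ (map_one σ)) (h.xG_mem_fixGen _ (by simp)))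
      (h.xG_mem_fixGen _ (map_one σ))

theorem map_group_mem (σ : F →+* F) {g : GL D.Idx F} (hg : g ∈ D.group F) :
    Units.map σ.mapMatrix.toMonoidHom g ∈ D.group F := by
  have : D.group F ≤ (D.group F).comap (Units.map σ.mapMatrix.toMonoidHom) :=
    h.group_le fun r _ t => by rw [Subgroup.mem_comap, h.map_xG]; exact h.mem_group_of_xG _ _
  exact this hg

/-- The centraliser of the fixed root elements in the group is trivial. -/
theorem centralizer_fixGen (hC : P.ckComm = true) (σ : F →+* F) {g : GL D.Idx F} (hg : g ∈ D.group F)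
    (hcen : ∀ x ∈ h.fixGen σ, g * x = x * g) : g = 1 := by
  have hfix : ∀ r, g * h.xG r 1 * g⁻¹ = h.xG r 1 := fun r => by
    rw [hcen _ (h.xG_mem_fixGen r (map_one σ)), mul_inv_cancel_right]
  have hB : g ∈ D.borelSubgroup F := h.mem_borel_of_conj_sim hC hg fun i hi =>
    ⟨1, one_ne_zero, by rw [hfix]; exact h.xG_mem_pos (h.sim_pos hi) _⟩
  obtain ⟨l, hl, hneg⟩ := h.exists_longest
  have hn : h.nW l * g * (h.nW l)⁻¹ = g := by
    rw [← hcen _ (h.nW_mem_fixGen σ l), mul_inv_cancel_right]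
  have hB' : g ∈ D.borelSubgroup F ⊓ (D.negUnipotent F ⊔ D.diagonalSubgroup F) := by
    refine Subgroup.mem_inf.2 ⟨hB, ?_⟩
    obtain ⟨v, hv, d, hd, e⟩ := h.mem_borel hB
    rw [← hn, e, show h.nW l * (v * d) * (h.nW l)⁻¹ =
      (h.nW l * v * (h.nW l)⁻¹) * (h.nW l * d * (h.nW l)⁻¹) by group]
    refine mul_mem (Subgroup.mem_sup_left ?_)
      (Subgroup.mem_sup_right ((Subgroup.mem_normalizer_iff.1 (h.nW_normalizer (F := F) l hl) d).1 hd))
    have : D.posUnipotent F ≤ (D.negUnipotent F).comap (MulAut.conj (h.nW (F := F) l)).toMonoidHom :=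
      h.posUnipotent_le fun r hr t => by
        obtain ⟨e, -, hx⟩ := h.nW_xG (F := F) l hl r (P.isPos_iff.1 hr).2
        rw [Subgroup.mem_comap, MulEquiv.toMonoidHom_eq_coe, MonoidHom.coe_coe, MulAut.conj_apply, (hx t).1]
        exact h.xG_mem_neg (h.wl_lt l hl r (P.isPos_iff.1 hr).2) (hneg r hr) _
    exact this hv
  rw [h.borel_inf_neg_diag] at hB'
  obtain ⟨c, rfl⟩ := h.mem_diagonal_iff.1 hB'
  apply Units.ext
  rw [h.coe_hHom, Units.val_one, dM, ← Matrix.diagonal_one]
  congr 1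
  funext x
  rcases x with i | s
  · rfl
  · have := hfix s.val
    rw [h.hHom_xG c (h.slt s), mul_one] at this
    exact h.xG_inj_param (h.slt s) this

/-- A fixed element of the group normalises any group between the fixed root elements and the fixed points. -/
theorem fixed_decomp (hC : P.ckComm = true) (σ : F →+* F) {g : GL D.Idx F} (hg : g ∈ D.group F)
    (hfix : Units.map σ.mapMatrix.toMonoidHom g = g) :
    ∃ x ∈ h.fixGen σ, ∃ d ∈ D.diagonalSubgroup F, Units.map σ.mapMatrix.toMonoidHom d = d ∧ g = x * d := by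
  set S := Units.map σ.mapMatrix.toMonoidHom (M := Matrix D.Idx D.Idx F)
  have hgenR : ∀ (T : ℕ → Prop) (u : GL D.Idx F), u ∈ h.genR T → S u ∈ h.genR T := by
    intro T u hu
    have : h.genR (F := F) T ≤ (h.genR T).comap S :=
      h.genR_le fun r hr t => by rw [Subgroup.mem_comap, h.map_xG]; exact h.xG_mem_genR hr _
    exact this hu
  have hposfix : ∀ v ∈ D.posUnipotent F, S v = v → v ∈ h.fixGen σ := by
    intro v hv he
    obtain ⟨t, rfl⟩ := h.pos_normal_form hC hv
    rw [map_list_prod, List.map_map] at he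
    have hu := h.prod_unique (posL P) posL_sorted (fun r hr => mem_posL.1 hr) (fun r => σ (t r)) t
      (by rw [← he]; congr 1; exact List.map_congr_left fun r _ => (h.map_xG σ r (t r)).symm)
    refine list_prod_mem fun x hx => ?_
    obtain ⟨r, hr, rfl⟩ := List.mem_map.1 hx
    exact h.xG_mem_fixGen r (hu r hr)
  have hdiag : ∀ d ∈ D.diagonalSubgroup F, S d ∈ D.diagonalSubgroup F := by
    intro d hd
    obtain ⟨c, rfl⟩ := h.mem_diagonal_iff.1 hd
    refine h.mem_diagonal_iff.2 ⟨fun i => Units.map σ.toMonoidHom (c i), Units.ext ?_⟩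
    simp only [S, Units.coe_map, h.coe_hHom, dM, RingHom.toMonoidHom_eq_coe, MonoidHom.coe_coe,
      RingHom.mapMatrix_apply, Matrix.diagonal_map (map_zero σ)]
    congr 1
    funext x
    rcases x with i | s
    · simp
    · simp [hchar, map_prod]
  have hnfix : ∀ l, S (h.nW l) = h.nW l := by
    intro l
    induction l with
    | nil => rw [h.nW_nil, map_one]
    | cons i l ih => rw [h.nW_cons, map_mul, ih, nG, nt, map_mul, map_mul, h.map_xG, h.map_xG]; simp
  obtain ⟨b, hb, l, hl, u, hu, rfl⟩ := h.bruhat_exists hC hg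
  obtain ⟨v, hv, d, hd, rfl⟩ := h.mem_borel hb
  have hposS : ∀ x ∈ D.posUnipotent F, S x ∈ D.posUnipotent F := fun x hx => by
    rw [h.posUnipotent_eq] at hx ⊢; exact hgenR _ x hx
  have hb' : S (v * d) ∈ D.borelSubgroup F := by
    rw [map_mul]; exact mul_mem (Subgroup.mem_sup_left (hposS v hv)) (Subgroup.mem_sup_right (hdiag d hd))
  obtain ⟨eb, eu⟩ := h.bruhat_factor hl (one_mem _) hb' hb (hgenR _ u hu) hu
    (by rw [mul_one, ← hnfix l, ← map_mul, ← map_mul, hfix, hnfix l])
  rw [map_mul] at eb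
  have h1 : v⁻¹ * S v ∈ D.posUnipotent F ⊓ D.diagonalSubgroup F := by
    refine Subgroup.mem_inf.2 ⟨mul_mem (inv_mem hv) (hposS v hv), ?_⟩
    rw [show v⁻¹ * S v = d * (S d)⁻¹ by rw [inv_mul_eq_iff_eq_mul, ← mul_assoc, ← eb]; group]
    exact mul_mem hd (inv_mem (hdiag d hd))
  rw [h.pos_inf_diagonal, Subgroup.mem_bot, inv_mul_eq_one] at h1
  rw [← h1, mul_right_inj] at eb
  have hLnorm : ∀ y ∈ h.fixGen σ, d * y * d⁻¹ ∈ h.fixGen σ := by
    intro y hy
    obtain ⟨c, rfl⟩ := h.mem_diagonal_iff.1 hd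
    have hc : ∀ r < P.nroots, σ (hchar P c r) = hchar P c r := fun r hr => by
      have := congrArg (fun g : GL D.Idx F => g.val (h.rootIdx _ hr) (h.rootIdx _ hr)) eb
      simpa [S, h.coe_hHom, dM, rootIdx] using this
    have : h.fixGen (F := F) σ ≤ (h.fixGen σ).comap (MulAut.conj (h.hHom c)).toMonoidHom := by
      refine (Subgroup.closure_le _).2 ?_
      rintro _ ⟨r, t, ht, rfl⟩
      rw [SetLike.mem_coe, Subgroup.mem_comap, MulEquiv.toMonoidHom_eq_coe, MonoidHom.coe_coe, MulAut.conj_apply]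
      by_cases hr : r < P.nroots
      · rw [h.hHom_xG c hr]; exact h.xG_mem_fixGen r (by rw [map_mul, hc r hr, ht])
      · rw [xG, dif_neg hr, mul_one, mul_inv_cancel]; exact one_mem _
    exact this hy
  refine ⟨v * (d * (h.nW l * u) * d⁻¹), mul_mem (hposfix v hv h1.symm)
    (hLnorm _ (mul_mem (h.nW_mem_fixGen σ l) (hposfix u (h.negS_le_pos l hu) eu))), d, hd, eb, by group⟩

/-- The normaliser of a group between the fixed root elements and the fixed points. -/
theorem normalizer_fixed (hC : P.ckComm = true) (σ : F →+* F) {K : Subgroup (GL D.Idx F)}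
    (hKG : K ≤ D.group F) (hLK : h.fixGen σ ≤ K)
    (hKfix : ∀ g ∈ K, Units.map σ.mapMatrix.toMonoidHom g = g) {g : GL D.Idx F} (hg : g ∈ D.group F) :
    g ∈ Subgroup.normalizer (K : Set (GL D.Idx F)) ↔ Units.map σ.mapMatrix.toMonoidHom g = g := by
  set S := Units.map σ.mapMatrix.toMonoidHom (M := Matrix D.Idx D.Idx F)
  constructor
  · intro hn
    have hx : (S g)⁻¹ * g = 1 := by
      refine h.centralizer_fixGen hC σ (mul_mem (inv_mem (h.map_group_mem σ hg)) hg) fun x hx => ?_
      have h1 : g * x * g⁻¹ ∈ K := (Subgroup.mem_normalizer_iff.1 hn x).1 (hLK hx)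
      have h2 := hKfix _ h1
      rw [map_mul, map_mul, map_inv, hKfix x (hLK hx)] at h2
      calc (S g)⁻¹ * g * x = (S g)⁻¹ * (g * x * g⁻¹) * g := by group
        _ = x * ((S g)⁻¹ * g) := by rw [← h2]; group
    exact inv_mul_eq_one.1 hx
  · intro hfix
    have main : ∀ y : GL D.Idx F, y ∈ D.group F → S y = y → ∀ k ∈ K, y * k * y⁻¹ ∈ K := by
      intro y hy hyfix k hk
      obtain ⟨x, hx, d, hd, hdfix, rfl⟩ := h.fixed_decomp hC σ hy hyfix
      obtain ⟨x', hx', d', hd', hd'fix, rfl⟩ := h.fixed_decomp hC σ (hKG hk) (hKfix k hk)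
      have hcomm : d * d' = d' * d := by
        obtain ⟨c, rfl⟩ := h.mem_diagonal_iff.1 hd
        obtain ⟨c', rfl⟩ := h.mem_diagonal_iff.1 hd'
        rw [← map_mul, ← map_mul, mul_comm]
      have hd'K : d' ∈ K := by simpa using mul_mem (inv_mem (hLK hx')) hk
      have hdx : d * x' * d⁻¹ ∈ h.fixGen σ := by
        obtain ⟨c, rfl⟩ := h.mem_diagonal_iff.1 hd
        have hc : ∀ r < P.nroots, σ (hchar P c r) = hchar P c r := fun r hr => by
          have := congrArg (fun g : GL D.Idx F => g.val (h.rootIdx _ hr) (h.rootIdx _ hr)) hdfix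
          simpa [S, h.coe_hHom, dM, rootIdx] using this
        have : h.fixGen (F := F) σ ≤ (h.fixGen σ).comap (MulAut.conj (h.hHom c)).toMonoidHom := by
          refine (Subgroup.closure_le _).2 ?_
          rintro _ ⟨r, t, ht, rfl⟩
          rw [SetLike.mem_coe, Subgroup.mem_comap, MulEquiv.toMonoidHom_eq_coe, MonoidHom.coe_coe,
            MulAut.conj_apply]
          by_cases hr : r < P.nroots
          · rw [h.hHom_xG c hr]; exact h.xG_mem_fixGen r (by rw [map_mul, hc r hr, ht])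
          · rw [xG, dif_neg hr, mul_one, mul_inv_cancel]; exact one_mem _
        exact this hx'
      rw [show x * d * (x' * d') * (x * d)⁻¹ = x * (d * x' * d⁻¹) * (d * d' * d⁻¹) * x⁻¹ by group, hcomm,
        mul_inv_cancel_right]
      exact mul_mem (mul_mem (mul_mem (hLK hx) (hLK hdx)) hd'K) (inv_mem (hLK hx))
    rw [Subgroup.mem_normalizer_iff]
    refine fun k => ⟨main g hg hfix k, fun hk => ?_⟩
    have := main g⁻¹ (inv_mem hg) (by rw [map_inv, hfix]) _ hk
    simpa [mul_assoc] using this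

end Frobenius

end Ok

end Cfsg.Agent.Chev
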