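/-
Certified enumeration of the fixed Weyl group inside type E6 (generated).
-/
import Cfsg.Agent.Lib.Chev.TwistEnum
import Cfsg.Agent.Lib.Chev.Check.E6

set_option autoImplicit false
set_option maxRecDepth 20000

namespace Cfsg.Agent.Chev.E6

/-- The node orbits. -/
def orbsT : List (List ℕ × List ℕ) := [([1], [1]), ([3], [3]), ([2, 4], [2, 4]), ([0, 5], [0, 5])]

/-- Words (part). -/
def enumL0 : List (List ℕ) := [[2, 1, 0, 2, 1, 2, 3, 2, 1, 0, 2, 1, 2, 3], [0, 1, 2, 3, 2, 1, 0, 2, 1, 2, 3], [0, 2, 1, 0, 2, 1, 2, 3, 2, 1, 0, 2, 1, 2, 3], [1, 2, 3, 2, 1, 0, 2, 1, 2, 3], [0, 1, 2, 1, 3, 2, 1, 0, 2, 1, 2, 3], [1, 2, 1, 3, 2, 1, 0, 2, 1, 2, 3], [1, 2, 1, 0, 2, 1, 2, 3, 2, 1, 0, 2, 1, 2, 3], [0, 1, 0, 2, 3, 2, 1, 0, 2, 1, 2, 3], [1, 0, 2, 1, 0, 2, 1, 2, 3, 2, 1, 0, 2, 1, 2, 3], [2, 3, 2, 1, 0,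 2, 1, 2, 3], [0, 1, 0, 2, 1, 3, 2, 1, 0, 2, 1, 2, 3], [2, 1, 3, 2, 1, 0, 2, 1, 2, 3], [0, 1, 2, 1, 0, 2, 1, 2, 3, 2, 1, 0, 2, 1, 2, 3], [1, 0, 2, 3, 2, 1, 0, 2, 1, 2, 3], [0, 1, 0, 2, 1, 0, 2, 1, 2, 3, 2, 1, 0, 2, 1, 2, 3], [0, 2, 3, 2, 1, 0, 2, 1, 2, 3], [1, 0, 2, 1, 3, 2, 1, 0, 2, 1, 2, 3], [0, 2, 1, 3, 2, 1, 0, 2, 1, 2, 3], [0, 1, 2, 1, 0, 3, 2, 1, 0, 2, 1, 2, 3], [1, 2, 1, 0, 3, 2, 1, 0, 2, 1, 2, 3], [0, 1, 0, 2, 1, 0, 3, 2, 1, 0, 2, 1, 2, 3], [2, 1, 0, 3, 2, 1, 0, 2, 1, 2, 3], [1, 0, 2, 1, 0, 3, 2, 1, 0, 2, 1, 2, 3], [0, 2, 1, 0, 3, 2, 1, 0, 2, 1, 2, 3], [3, 2, 1, 0, 2, 1, 2, 3, 2, 1, 0, 2, 1, 2, 3], [0, 1, 2, 1, 0, 3, 2, 1, 2, 3], [0, 3, 2, 1, 0, 2, 1, 2, 3, 2, 1, 0, 2, 1, 2, 3], [1, 2, 1, 0, 3, 2, 1, 2, 3], [0, 1, 2, 1, 0, 3, 2, 1, 0, 2, 3], [1, 2, 1, 0, 3, 2, 1, 0, 2, 3], [1, 3, 2,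 1, 0, 2, 1, 2, 3, 2, 1, 0, 2, 1, 2, 3], [0, 1, 0, 2, 1, 0, 3, 2, 1, 2, 3], [1, 0, 3, 2, 1, 0, 2, 1, 2, 3, 2, 1, 0, 2, 1, 2, 3], [2, 1, 0, 3, 2, 1, 2, 3], [0, 1, 0, 2, 1, 0, 3, 2, 1, 0, 2, 3], [2, 1, 0, 3, 2, 1, 0, 2, 3], [0, 1, 3, 2, 1, 0, 2, 1, 2, 3, 2, 1, 0, 2, 1, 2, 3], [1, 0, 2, 1, 0, 3, 2, 1, 2, 3], [0, 1, 0, 3, 2, 1, 0, 2, 1, 2, 3, 2, 1, 0, 2, 1, 2, 3], [0, 2, 1, 0, 3, 2, 1, 2, 3], [1, 0, 2, 1, 0, 3, 2, 1, 0, 2, 3], [0, 2, 1, 0, 3, 2, 1, 0, 2, 3], [0, 1, 2, 1, 0, 3, 2, 1, 0, 2, 1, 3], [1, 2, 1, 0, 3, 2, 1, 0, 2, 1, 3], [0, 1, 0, 2, 1, 0, 3, 2, 1, 0, 2, 1, 3], [2, 1, 0, 3, 2, 1, 0, 2, 1, 3], [1, 0, 2, 1, 0, 3, 2, 1, 0, 2, 1, 3], [0, 2, 1, 0, 3, 2, 1, 0, 2, 1, 3], [1, 0, 2, 1, 2, 3, 2, 1, 0, 2, 1, 2, 3], [0, 2, 1, 2, 3, 2, 1, 0, 2, 1, 2, 3], [0, 1, 0, 2, 1, 2, 3, 2, 1, 0, 2, 1, 2, 3],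 [2, 1, 2, 3, 2, 1, 0, 2, 1, 2, 3], [0, 1, 2, 1, 2, 3, 2, 1, 0, 2, 1, 2, 3], [1, 2, 1, 2, 3, 2, 1, 0, 2, 1, 2, 3], [1, 0, 2, 1, 0, 2, 3, 2, 1, 0, 2, 1, 2, 3], [0, 2, 1, 0, 2, 3, 2, 1, 0, 2, 1, 2, 3], [1, 0, 2, 1, 0, 2, 1, 3, 2, 1, 0, 2, 1, 2, 3], [3, 2, 1, 0, 2, 1, 2, 3], [0, 2, 1, 0, 2, 1, 3, 2, 1, 0, 2, 1, 2, 3], [1, 3, 2, 1, 0, 2, 1, 2, 3], [0, 1, 0, 2, 1, 0, 2, 3, 2, 1, 0, 2, 1, 2, 3], [2, 1, 0, 2, 3, 2, 1, 0, 2, 1, 2, 3], [0, 1, 0, 2, 1, 0, 2, 1, 3, 2, 1, 0, 2, 1, 2, 3], [0, 3, 2, 1, 0, 2, 1, 2, 3]]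

/-- Words (part). -/
def enumL1 : List (List ℕ) := [[2, 1, 0, 2, 1, 3, 2, 1, 0, 2, 1, 2, 3], [0, 1, 3, 2, 1, 0, 2, 1, 2, 3], [0, 1, 2, 1, 0, 2, 3, 2, 1, 0, 2, 1, 2, 3], [1, 2, 1, 0, 2, 3, 2, 1, 0, 2, 1, 2, 3], [0, 1, 2, 1, 0, 2, 1, 3, 2, 1, 0, 2, 1, 2, 3], [1, 0, 3, 2, 1, 0, 2, 1, 2, 3], [1, 2, 1, 0, 2, 1, 3, 2, 1, 0, 2, 1, 2, 3], [0, 1, 0, 3, 2, 1, 0, 2, 1, 2, 3], [2, 3, 2, 1, 0, 2, 1, 2, 3, 2, 1, 0, 2, 1, 2, 3], [0, 1, 2, 1, 0, 2, 3, 2, 1, 2, 3], [0, 2, 3, 2, 1, 0, 2, 1, 2, 3, 2, 1, 0, 2, 1, 2, 3], [1, 2, 1, 0, 2, 3, 2, 1, 2, 3], [0, 1, 2, 1, 0, 2, 3, 2, 1, 0, 2, 3], [1, 2, 1, 0, 2, 3, 2, 1, 0, 2, 3], [2, 1, 3, 2, 1, 0, 2, 1, 2, 3, 2, 1, 0, 2, 1, 2, 3], [0, 1, 2, 1, 0, 2, 1, 3, 2, 1, 2, 3], [2, 1, 0, 3, 2, 1, 0, 2, 1, 2, 3, 2, 1, 0, 2, 1, 2, 3], [1, 0, 3, 2, 1, 2, 3], [0, 1, 2, 1, 0, 2,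 1, 3, 2, 1, 0, 2, 3], [1, 0, 3, 2, 1, 0, 2, 3], [0, 2, 1, 3, 2, 1, 0, 2, 1, 2, 3, 2, 1, 0, 2, 1, 2, 3], [1, 2, 1, 0, 2, 1, 3, 2, 1, 2, 3], [0, 2, 1, 0, 3, 2, 1, 0, 2, 1, 2, 3, 2, 1, 0, 2, 1, 2, 3], [0, 1, 0, 3, 2, 1, 2, 3], [1, 2, 1, 0, 2, 1, 3, 2, 1, 0, 2, 3], [0, 1, 0, 3, 2, 1, 0, 2, 3], [0, 1, 2, 1, 0, 2, 3, 2, 1, 0, 2, 1, 3], [1, 2, 1, 0, 2, 3, 2, 1, 0, 2, 1, 3], [0, 1, 2, 1, 0, 2, 1, 3, 2, 1, 0, 2, 1, 3], [1, 0, 3, 2, 1, 0, 2, 1, 3], [1, 2, 1, 0, 2, 1, 3, 2, 1, 0, 2, 1, 3], [0, 1, 0, 3, 2, 1, 0, 2, 1, 3], [1, 2, 3, 2, 1, 0, 2, 1, 2, 3, 2, 1, 0, 2, 1, 2, 3], [0, 1, 0, 2, 1, 0, 2, 3, 2, 1, 2, 3], [1, 0, 2, 3, 2, 1, 0, 2, 1, 2, 3, 2, 1, 0, 2, 1, 2, 3], [2, 1, 0, 2, 3, 2, 1, 2, 3], [0, 1, 0, 2, 1, 0, 2, 3, 2, 1, 0, 2, 3], [2, 1, 0, 2, 3, 2, 1, 0, 2, 3], [1, 2, 1, 3, 2, 1, 0, 2, 1, 2, 3,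 2, 1, 0, 2, 1, 2, 3], [0, 1, 0, 2, 1, 0, 2, 1, 3, 2, 1, 2, 3], [1, 2, 1, 0, 3, 2, 1, 0, 2, 1, 2, 3, 2, 1, 0, 2, 1, 2, 3], [0, 3, 2, 1, 2, 3], [0, 1, 0, 2, 1, 0, 2, 1, 3, 2, 1, 0, 2, 3], [0, 3, 2, 1, 0, 2, 3], [1, 0, 2, 1, 3, 2, 1, 0, 2, 1, 2, 3, 2, 1, 0, 2, 1, 2, 3], [2, 1, 0, 2, 1, 3, 2, 1, 2, 3], [1, 0, 2, 1, 0, 3, 2, 1, 0, 2, 1, 2, 3, 2, 1, 0, 2, 1, 2, 3], [0, 1, 3, 2, 1, 2, 3], [2, 1, 0, 2, 1, 3, 2, 1, 0, 2, 3], [0, 1, 3, 2, 1, 0, 2, 3], [0, 1, 0, 2, 1, 0, 2, 3, 2, 1, 0, 2, 1, 3], [2, 1, 0, 2, 3, 2, 1, 0, 2, 1, 3], [0, 1, 0, 2, 1, 0, 2, 1, 3, 2, 1, 0, 2, 1, 3], [0, 3, 2, 1, 0, 2, 1, 3], [2, 1, 0, 2, 1, 3, 2, 1, 0, 2, 1, 3], [0, 1, 3, 2, 1, 0, 2, 1, 3], [2, 1, 2, 3, 2, 1, 0, 2, 1, 2, 3, 2, 1, 0, 2, 1, 2, 3], [0, 1, 2, 1, 0, 2, 1, 2, 3, 2, 1, 2, 3], [2, 1, 0, 2, 3, 2, 1, 0, 2, 1, 2, 3,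 2, 1, 0, 2, 1, 2, 3], [1, 0, 2, 3, 2, 1, 2, 3], [0, 1, 2, 1, 0, 2, 1, 2, 3, 2, 1, 0, 2, 3], [1, 0, 2, 3, 2, 1, 0, 2, 3], [1, 2, 1, 2, 3, 2, 1, 0, 2, 1, 2, 3, 2, 1, 0, 2, 1, 2, 3], [0, 1, 0, 2, 1, 0, 2, 1, 2, 3, 2, 1, 2, 3]]

/-- Words (part). -/
def enumL2 : List (List ℕ) := [[1, 2, 1, 0, 2, 3, 2, 1, 0, 2, 1, 2, 3, 2, 1, 0, 2, 1, 2, 3], [0, 2, 3, 2, 1, 2, 3], [0, 1, 0, 2, 1, 0, 2, 1, 2, 3, 2, 1, 0, 2, 3], [0, 2, 3, 2, 1, 0, 2, 3], [2, 1, 0, 2, 1, 3, 2, 1, 0, 2, 1, 2, 3, 2, 1, 0, 2, 1, 2, 3], [1, 0, 2, 1, 3, 2, 1, 2, 3], [1, 2, 1, 0, 2, 1, 3, 2, 1, 0, 2, 1, 2, 3, 2, 1, 0, 2, 1, 2, 3], [0, 2, 1, 3, 2, 1, 2, 3], [1, 0, 2, 1, 3, 2, 1, 0, 2, 3], [0, 2, 1, 3, 2, 1, 0, 2, 3], [0, 1, 2, 1, 0, 2, 1, 2, 3, 2, 1, 0, 2, 1, 3], [1, 0, 2, 3, 2, 1, 0, 2, 1, 3], [0, 1, 0, 2, 1, 0, 2, 1, 2, 3, 2, 1, 0, 2,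 1, 3], [0, 2, 3, 2, 1, 0, 2, 1, 3], [1, 0, 2, 1, 3, 2, 1, 0, 2, 1, 3], [0, 2, 1, 3, 2, 1, 0, 2, 1, 3], [0, 1, 2, 3, 2, 1, 0, 2, 1, 2, 3, 2, 1, 0, 2, 1, 2, 3], [1, 0, 2, 1, 0, 2, 3, 2, 1, 2, 3], [0, 1, 0, 2, 3, 2, 1, 0, 2, 1, 2, 3, 2, 1, 0, 2, 1, 2, 3], [0, 2, 1, 0, 2, 3, 2, 1, 2, 3], [1, 0, 2, 1, 0, 2, 3, 2, 1, 0, 2, 3], [0, 2, 1, 0, 2, 3, 2, 1, 0, 2, 3], [0, 1, 2, 1, 3, 2, 1, 0, 2, 1, 2, 3, 2, 1, 0, 2, 1, 2, 3], [1, 0, 2, 1, 0, 2, 1, 3, 2, 1, 2, 3], [0, 1, 2, 1, 0, 3, 2, 1, 0, 2, 1, 2, 3, 2, 1, 0, 2, 1, 2, 3], [3, 2, 1, 2, 3], [1, 0, 2, 1, 0, 2, 1, 3, 2, 1, 0, 2, 3], [3, 2, 1, 0, 2, 3], [0, 1, 0, 2, 1, 3, 2, 1, 0, 2, 1, 2, 3, 2, 1, 0, 2, 1, 2, 3], [0, 2, 1, 0, 2, 1, 3, 2, 1, 2, 3], [0, 1, 0, 2, 1, 0, 3, 2, 1, 0, 2, 1, 2, 3, 2, 1, 0, 2, 1, 2, 3], [1, 3, 2, 1, 2, 3], [0, 2, 1, 0, 2, 1, 3,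 2, 1, 0, 2, 3], [1, 3, 2, 1, 0, 2, 3], [1, 0, 2, 1, 0, 2, 3, 2, 1, 0, 2, 1, 3], [0, 2, 1, 0, 2, 3, 2, 1, 0, 2, 1, 3], [1, 0, 2, 1, 0, 2, 1, 3, 2, 1, 0, 2, 1, 3], [3, 2, 1, 0, 2, 1, 3], [0, 2, 1, 0, 2, 1, 3, 2, 1, 0, 2, 1, 3], [1, 3, 2, 1, 0, 2, 1, 3], [0, 2, 1, 2, 3, 2, 1, 0, 2, 1, 2, 3, 2, 1, 0, 2, 1, 2, 3], [1, 2, 1, 0, 2, 1, 2, 3, 2, 1, 2, 3], [0, 2, 1, 0, 2, 3, 2, 1, 0, 2, 1, 2, 3, 2, 1, 0, 2, 1, 2, 3], [0, 1, 0, 2, 3, 2, 1, 2, 3], [1, 2, 1, 0, 2, 1, 2, 3, 2, 1, 0, 2, 3], [0, 1, 0, 2, 3, 2, 1, 0, 2, 3], [0, 1, 2, 1, 2, 3, 2, 1, 0, 2, 1, 2, 3, 2, 1, 0, 2, 1, 2, 3], [1, 0, 2, 1, 0, 2, 1, 2, 3, 2, 1, 2, 3], [0, 1, 2, 1, 0, 2, 3, 2, 1, 0, 2, 1, 2, 3, 2, 1, 0, 2, 1, 2, 3], [2, 3, 2, 1, 2, 3], [1, 0, 2, 1, 0, 2, 1, 2, 3, 2, 1, 0, 2, 3], [2, 3, 2, 1, 0, 2, 3], [0, 2, 1, 0, 2, 1, 3, 2, 1, 0,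 2, 1, 2, 3, 2, 1, 0, 2, 1, 2, 3], [0, 1, 0, 2, 1, 3, 2, 1, 2, 3], [0, 1, 2, 1, 0, 2, 1, 3, 2, 1, 0, 2, 1, 2, 3, 2, 1, 0, 2, 1, 2, 3], [2, 1, 3, 2, 1, 2, 3], [0, 1, 0, 2, 1, 3, 2, 1, 0, 2, 3], [2, 1, 3, 2, 1, 0, 2, 3], [1, 2, 1, 0, 2, 1, 2, 3, 2, 1, 0, 2, 1, 3], [0, 1, 0, 2, 3, 2, 1, 0, 2, 1, 3], [1, 0, 2, 1, 0, 2, 1, 2, 3, 2, 1, 0, 2, 1, 3], [2, 3, 2, 1, 0, 2, 1, 3], [0, 1, 0, 2, 1, 3, 2, 1, 0, 2, 1, 3], [2, 1, 3, 2, 1, 0, 2, 1, 3]]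

/-- Words (part). -/
def enumL3 : List (List ℕ) := [[1, 0, 2, 1, 2, 3, 2, 1, 0, 2, 1, 2, 3, 2, 1, 0, 2, 1, 2, 3], [2, 1, 0, 2, 1, 2, 3, 2, 1, 2, 3], [1, 0, 2, 1, 0, 2, 3, 2, 1, 0, 2, 1, 2, 3, 2, 1, 0, 2, 1, 2, 3], [0, 1, 2, 3, 2, 1, 2, 3], [2, 1, 0, 2, 1, 2, 3, 2, 1, 0, 2, 3], [0, 1, 2, 3, 2, 1, 0, 2, 3], [0, 1, 0, 2, 1, 2, 3, 2, 1, 0, 2, 1, 2, 3, 2, 1, 0, 2, 1, 2, 3], [0, 2, 1, 0, 2, 1, 2, 3, 2, 1, 2, 3], [0, 1, 0, 2, 1, 0, 2, 3, 2, 1, 0, 2, 1, 2, 3, 2, 1, 0, 2, 1, 2, 3], [1, 2, 3, 2, 1, 2, 3], [0, 2, 1, 0, 2, 1, 2, 3, 2, 1, 0, 2, 3], [1, 2, 3, 2, 1, 0, 2, 3], [1, 0, 2, 1, 0, 2, 1, 3, 2, 1, 0, 2, 1, 2, 3, 2, 1, 0, 2, 1, 2, 3], [0, 1, 2, 1, 3, 2, 1, 2, 3], [0, 1, 0, 2, 1, 0, 2, 1, 3, 2, 1, 0, 2, 1, 2, 3, 2, 1, 0, 2, 1, 2, 3], [1, 2, 1, 3, 2, 1, 2, 3], [0, 1, 2, 1, 3, 2, 1, 0, 2, 3], [1,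 2, 1, 3, 2, 1, 0, 2, 3], [2, 1, 0, 2, 1, 2, 3, 2, 1, 0, 2, 1, 3], [0, 1, 2, 3, 2, 1, 0, 2, 1, 3], [0, 2, 1, 0, 2, 1, 2, 3, 2, 1, 0, 2, 1, 3], [1, 2, 3, 2, 1, 0, 2, 1, 3], [0, 1, 2, 1, 3, 2, 1, 0, 2, 1, 3], [1, 2, 1, 3, 2, 1, 0, 2, 1, 3], [2, 1, 0, 2, 1, 2, 3, 2, 1, 0, 2, 1, 2, 3, 2, 1, 0, 2, 1, 2, 3], [1, 0, 2, 1, 2, 3, 2, 1, 2, 3], [1, 2, 1, 0, 2, 1, 2, 3, 2, 1, 0, 2, 1, 2, 3, 2, 1, 0, 2, 1, 2, 3], [0, 2, 1, 2, 3, 2, 1, 2, 3], [1, 0, 2, 1, 2, 3, 2, 1, 0, 2, 3], [0, 2, 1, 2, 3, 2, 1, 0, 2, 3], [0, 2, 1, 0, 2, 1, 2, 3, 2, 1, 0, 2, 1, 2, 3, 2, 1, 0, 2, 1, 2, 3], [0, 1, 0, 2, 1, 2, 3, 2, 1, 2, 3], [0, 1, 2, 1, 0, 2, 1, 2, 3, 2, 1, 0, 2, 1, 2, 3, 2, 1, 0, 2, 1, 2, 3], [2, 1, 2, 3, 2, 1, 2, 3], [0, 1, 0, 2, 1, 2, 3, 2, 1, 0, 2, 3], [2, 1, 2, 3, 2, 1, 0, 2, 3], [1, 0, 2, 1, 0, 2, 1, 2, 3, 2, 1,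 0, 2, 1, 2, 3, 2, 1, 0, 2, 1, 2, 3], [0, 1, 2, 1, 2, 3, 2, 1, 2, 3], [0, 1, 0, 2, 1, 0, 2, 1, 2, 3, 2, 1, 0, 2, 1, 2, 3, 2, 1, 0, 2, 1, 2, 3], [1, 2, 1, 2, 3, 2, 1, 2, 3], [0, 1, 2, 1, 2, 3, 2, 1, 0, 2, 3], [1, 2, 1, 2, 3, 2, 1, 0, 2, 3], [1, 0, 2, 1, 2, 3, 2, 1, 0, 2, 1, 3], [0, 2, 1, 2, 3, 2, 1, 0, 2, 1, 3], [0, 1, 0, 2, 1, 2, 3, 2, 1, 0, 2, 1, 3], [2, 1, 2, 3, 2, 1, 0, 2, 1, 3], [0, 1, 2, 1, 2, 3, 2, 1, 0, 2, 1, 3], [1, 2, 1, 2, 3, 2, 1, 0, 2, 1, 3], [1, 0, 2, 1, 2, 3, 2, 1, 0, 2, 1, 2, 3, 2], [0, 2, 1, 2, 3, 2, 1, 0, 2, 1, 2, 3, 2], [0, 1, 0, 2, 1, 2, 3, 2, 1, 0, 2, 1, 2, 3, 2], [2, 1, 2, 3, 2, 1, 0, 2, 1, 2, 3, 2], [0, 1, 2, 1, 2, 3, 2, 1, 0, 2, 1, 2, 3, 2], [1, 2, 1, 2, 3, 2, 1, 0, 2, 1, 2, 3, 2], [1, 0, 2, 1, 2, 3, 2, 1, 0, 2, 1, 2, 3, 2, 1], [0, 2, 1, 2, 3, 2, 1, 0, 2, 1, 2, 3, 2,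 1], [1, 0, 2, 1, 2, 3, 2, 1, 0, 2, 1, 2, 3, 2, 1, 0], [2, 1, 0, 2, 1, 2, 3], [0, 2, 1, 2, 3, 2, 1, 0, 2, 1, 2, 3, 2, 1, 0], [1, 2, 1, 0, 2, 1, 2, 3], [0, 1, 0, 2, 1, 2, 3, 2, 1, 0, 2, 1, 2, 3, 2, 1], [2, 1, 2, 3, 2, 1, 0, 2, 1, 2, 3, 2, 1], [0, 1, 0, 2, 1, 2, 3, 2, 1, 0, 2, 1, 2, 3, 2, 1, 0], [0, 2, 1, 0, 2, 1, 2, 3]]

/-- Words (part). -/
def enumL4 : List (List ℕ) := [[2, 1, 2, 3, 2, 1, 0, 2, 1, 2, 3, 2, 1, 0], [0, 1, 2, 1, 0, 2, 1, 2, 3], [0, 1, 2, 1, 2, 3, 2, 1, 0, 2, 1, 2, 3, 2, 1], [1, 2, 1, 2, 3, 2, 1, 0, 2, 1, 2, 3, 2, 1], [0, 1, 2, 1, 2, 3, 2, 1, 0, 2, 1, 2, 3, 2, 1, 0], [1, 0, 2, 1, 0, 2, 1, 2, 3], [1, 2, 1, 2, 3, 2, 1, 0, 2, 1, 2, 3, 2, 1, 0], [0, 1, 0, 2, 1, 0, 2, 1, 2, 3], [2, 1, 0, 2, 1, 2, 3, 2, 1, 0, 2, 1, 2, 3, 2], [0, 1, 2, 3, 2, 1, 0, 2, 1, 2, 3, 2], [0, 2, 1, 0, 2, 1,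 2, 3, 2, 1, 0, 2, 1, 2, 3, 2], [1, 2, 3, 2, 1, 0, 2, 1, 2, 3, 2], [0, 1, 2, 1, 3, 2, 1, 0, 2, 1, 2, 3, 2], [1, 2, 1, 3, 2, 1, 0, 2, 1, 2, 3, 2], [2, 1, 0, 2, 1, 2, 3, 2, 1, 0, 2, 1, 2, 3, 2, 1], [0, 1, 2, 3, 2, 1, 0, 2, 1, 2, 3, 2, 1], [2, 1, 0, 2, 1, 2, 3, 2, 1, 0, 2, 1, 2, 3, 2, 1, 0], [1, 0, 2, 1, 2, 3], [0, 1, 2, 3, 2, 1, 0, 2, 1, 2, 3, 2, 1, 0], [1, 0, 2, 1, 0, 2, 3], [0, 2, 1, 0, 2, 1, 2, 3, 2, 1, 0, 2, 1, 2, 3, 2, 1], [1, 2, 3, 2, 1, 0, 2, 1, 2, 3, 2, 1], [0, 2, 1, 0, 2, 1, 2, 3, 2, 1, 0, 2, 1, 2, 3, 2, 1, 0], [0, 1, 0, 2, 1, 2, 3], [1, 2, 3, 2, 1, 0, 2, 1, 2, 3, 2, 1, 0], [0, 1, 0, 2, 1, 0, 2, 3], [0, 1, 2, 1, 3, 2, 1, 0, 2, 1, 2, 3, 2, 1], [1, 2, 1, 3, 2, 1, 0, 2, 1, 2, 3, 2, 1], [0, 1, 2, 1, 3, 2, 1, 0, 2, 1, 2, 3, 2, 1, 0], [1, 0, 2, 1, 0, 2, 1, 3], [1, 2, 1, 3, 2, 1, 0, 2, 1,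 2, 3, 2, 1, 0], [0, 1, 0, 2, 1, 0, 2, 1, 3], [1, 2, 1, 0, 2, 1, 2, 3, 2, 1, 0, 2, 1, 2, 3, 2], [0, 1, 0, 2, 3, 2, 1, 0, 2, 1, 2, 3, 2], [1, 0, 2, 1, 0, 2, 1, 2, 3, 2, 1, 0, 2, 1, 2, 3, 2], [2, 3, 2, 1, 0, 2, 1, 2, 3, 2], [0, 1, 0, 2, 1, 3, 2, 1, 0, 2, 1, 2, 3, 2], [2, 1, 3, 2, 1, 0, 2, 1, 2, 3, 2], [1, 2, 1, 0, 2, 1, 2, 3, 2, 1, 0, 2, 1, 2, 3, 2, 1], [0, 1, 0, 2, 3, 2, 1, 0, 2, 1, 2, 3, 2, 1], [1, 2, 1, 0, 2, 1, 2, 3, 2, 1, 0, 2, 1, 2, 3, 2, 1, 0], [0, 2, 1, 2, 3], [0, 1, 0, 2, 3, 2, 1, 0, 2, 1, 2, 3, 2, 1, 0], [0, 2, 1, 0, 2, 3], [1, 0, 2, 1, 0, 2, 1, 2, 3, 2, 1, 0, 2, 1, 2, 3, 2, 1], [2, 3, 2, 1, 0, 2, 1, 2, 3, 2, 1], [1, 0, 2, 1, 0, 2, 1, 2, 3, 2, 1, 0, 2, 1, 2, 3, 2, 1, 0], [0, 1, 2, 1, 2, 3], [2, 3, 2, 1, 0, 2, 1, 2, 3, 2, 1, 0], [0, 1, 2, 1, 0, 2, 3], [0, 1, 0, 2, 1, 3, 2, 1, 0, 2,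 1, 2, 3, 2, 1], [2, 1, 3, 2, 1, 0, 2, 1, 2, 3, 2, 1], [0, 1, 0, 2, 1, 3, 2, 1, 0, 2, 1, 2, 3, 2, 1, 0], [0, 2, 1, 0, 2, 1, 3], [2, 1, 3, 2, 1, 0, 2, 1, 2, 3, 2, 1, 0], [0, 1, 2, 1, 0, 2, 1, 3], [2, 1, 0, 2, 1, 2, 3, 2, 1, 0, 2, 1, 2, 3, 2, 1, 2], [0, 1, 2, 3, 2, 1, 0, 2, 1, 2, 3, 2, 1, 2], [2, 1, 0, 2, 1, 2, 3, 2, 1, 0, 2, 1, 2, 3, 2, 1, 0, 2], [1, 0, 2, 1, 2, 3, 2], [0, 1, 2, 3, 2, 1, 0, 2, 1, 2, 3, 2, 1, 0, 2], [1, 0, 2, 1, 0, 2, 3, 2], [1, 2, 1, 0, 2, 1, 2, 3, 2, 1, 0, 2, 1, 2, 3, 2, 1, 2], [0, 1, 0, 2, 3, 2, 1, 0, 2, 1, 2, 3, 2, 1, 2]]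

/-- Words (part). -/
def enumL5 : List (List ℕ) := [[1, 2, 1, 0, 2, 1, 2, 3, 2, 1, 0, 2, 1, 2, 3, 2, 1, 0, 2], [0, 2, 1, 2, 3, 2], [0, 1, 0, 2, 3, 2, 1, 0, 2, 1, 2, 3, 2, 1, 0, 2], [0, 2, 1, 0, 2, 3, 2], [2, 1, 0, 2, 1, 2, 3, 2, 1, 0, 2, 1, 2, 3, 2, 1, 0, 2, 1], [1, 0, 2, 1, 2, 3, 2, 1], [1, 2, 1, 0, 2, 1, 2, 3, 2, 1, 0, 2, 1, 2, 3, 2, 1, 0, 2, 1], [0, 2, 1, 2, 3, 2, 1], [1, 0, 2, 1, 2, 3, 2, 1, 0], [0, 2, 1, 2, 3, 2, 1, 0], [0, 1, 2, 3, 2, 1, 0, 2, 1, 2, 3, 2, 1, 0, 2, 1], [1, 0, 2, 1, 0, 2, 3, 2, 1], [0, 1, 0, 2, 3, 2, 1, 0, 2, 1, 2, 3, 2, 1, 0, 2, 1], [0, 2, 1, 0, 2, 3, 2, 1], [1, 0, 2, 1, 0, 2, 3, 2, 1, 0], [0, 2, 1, 0, 2, 3, 2, 1, 0], [1, 0, 2, 1, 0, 2, 3, 2, 1, 0, 2, 1, 2, 3, 2], [0, 2, 1, 0, 2, 3, 2, 1, 0, 2, 1, 2, 3, 2], [1, 0, 2, 1, 0, 2, 1, 3, 2, 1, 0, 2, 1, 2, 3, 2], [3, 2, 1,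 0, 2, 1, 2, 3, 2], [0, 2, 1, 0, 2, 1, 3, 2, 1, 0, 2, 1, 2, 3, 2], [1, 3, 2, 1, 0, 2, 1, 2, 3, 2], [1, 0, 2, 1, 0, 2, 3, 2, 1, 0, 2, 1, 2, 3, 2, 1], [0, 2, 1, 0, 2, 3, 2, 1, 0, 2, 1, 2, 3, 2, 1], [1, 0, 2, 1, 0, 2, 3, 2, 1, 0, 2, 1, 2, 3, 2, 1, 0], [0, 1, 2, 3], [0, 2, 1, 0, 2, 3, 2, 1, 0, 2, 1, 2, 3, 2, 1, 0], [0, 1, 0, 2, 3], [1, 0, 2, 1, 0, 2, 1, 3, 2, 1, 0, 2, 1, 2, 3, 2, 1], [3, 2, 1, 0, 2, 1, 2, 3, 2, 1], [1, 0, 2, 1, 0, 2, 1, 3, 2, 1, 0, 2, 1, 2, 3, 2, 1, 0], [0, 1, 2, 1, 3], [3, 2, 1, 0, 2, 1, 2, 3, 2, 1, 0], [0, 1, 2, 1, 0, 3], [0, 2, 1, 0, 2, 1, 3, 2, 1, 0, 2, 1, 2, 3, 2, 1], [1, 3, 2, 1, 0, 2, 1, 2, 3, 2, 1], [0, 2, 1, 0, 2, 1, 3, 2, 1, 0, 2, 1, 2, 3, 2, 1, 0], [0, 1, 0, 2, 1, 3], [1, 3, 2, 1, 0, 2, 1, 2, 3, 2, 1, 0], [0, 1, 0, 2, 1, 0, 3], [1, 0, 2, 1, 2, 3, 2, 1, 0, 2, 1, 2, 3,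 2, 1, 2], [0, 2, 1, 2, 3, 2, 1, 0, 2, 1, 2, 3, 2, 1, 2], [1, 0, 2, 1, 2, 3, 2, 1, 0, 2, 1, 2, 3, 2, 1, 0, 2], [2, 1, 0, 2, 1, 2, 3, 2], [0, 2, 1, 2, 3, 2, 1, 0, 2, 1, 2, 3, 2, 1, 0, 2], [1, 2, 1, 0, 2, 1, 2, 3, 2], [1, 0, 2, 1, 0, 2, 3, 2, 1, 0, 2, 1, 2, 3, 2, 1, 2], [0, 2, 1, 0, 2, 3, 2, 1, 0, 2, 1, 2, 3, 2, 1, 2], [1, 0, 2, 1, 0, 2, 3, 2, 1, 0, 2, 1, 2, 3, 2, 1, 0, 2], [0, 1, 2, 3, 2], [0, 2, 1, 0, 2, 3, 2, 1, 0, 2, 1, 2, 3, 2, 1, 0, 2], [0, 1, 0, 2, 3, 2], [1, 0, 2, 1, 2, 3, 2, 1, 0, 2, 1, 2, 3, 2, 1, 0, 2, 1], [2, 1, 0, 2, 1, 2, 3, 2, 1], [1, 0, 2, 1, 0, 2, 3, 2, 1, 0, 2, 1, 2, 3, 2, 1, 0, 2, 1], [0, 1, 2, 3, 2, 1], [2, 1, 0, 2, 1, 2, 3, 2, 1, 0], [0, 1, 2, 3, 2, 1, 0], [0, 2, 1, 2, 3, 2, 1, 0, 2, 1, 2, 3, 2, 1, 0, 2, 1], [1, 2, 1, 0, 2, 1, 2, 3, 2, 1], [0, 2, 1, 0, 2, 3, 2, 1, 0, 2,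 1, 2, 3, 2, 1, 0, 2, 1], [0, 1, 0, 2, 3, 2, 1], [1, 2, 1, 0, 2, 1, 2, 3, 2, 1, 0], [0, 1, 0, 2, 3, 2, 1, 0]]

/-- Words (part). -/
def enumL6 : List (List ℕ) := [[0, 1, 2, 1, 0, 2, 1, 2, 3, 2, 1, 0, 2, 1, 2, 3, 2], [1, 0, 2, 3, 2, 1, 0, 2, 1, 2, 3, 2], [0, 1, 0, 2, 1, 0, 2, 1, 2, 3, 2, 1, 0, 2, 1, 2, 3, 2], [0, 2, 3, 2, 1, 0, 2, 1, 2, 3, 2], [1, 0, 2, 1, 3, 2, 1, 0, 2, 1, 2, 3, 2], [0, 2, 1, 3, 2, 1, 0, 2, 1, 2, 3, 2], [0, 1, 2, 1, 0, 2, 1, 2, 3, 2, 1, 0, 2, 1, 2, 3, 2, 1], [1, 0, 2, 3, 2, 1, 0, 2, 1, 2, 3, 2, 1], [0, 1, 2, 1, 0, 2, 1, 2, 3, 2, 1, 0, 2, 1, 2, 3, 2, 1, 0], [2, 1, 2, 3], [1, 0, 2, 3, 2, 1, 0, 2, 1, 2, 3, 2, 1, 0], [2, 1, 0, 2, 3], [0, 1, 0, 2, 1, 0, 2, 1, 2, 3, 2, 1, 0, 2, 1, 2, 3, 2, 1], [0, 2, 3, 2, 1, 0, 2, 1, 2, 3, 2, 1], [0, 1, 0, 2, 1, 0, 2, 1, 2, 3, 2, 1, 0, 2, 1, 2,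 3, 2, 1, 0], [1, 2, 1, 2, 3], [0, 2, 3, 2, 1, 0, 2, 1, 2, 3, 2, 1, 0], [1, 2, 1, 0, 2, 3], [1, 0, 2, 1, 3, 2, 1, 0, 2, 1, 2, 3, 2, 1], [0, 2, 1, 3, 2, 1, 0, 2, 1, 2, 3, 2, 1], [1, 0, 2, 1, 3, 2, 1, 0, 2, 1, 2, 3, 2, 1, 0], [2, 1, 0, 2, 1, 3], [0, 2, 1, 3, 2, 1, 0, 2, 1, 2, 3, 2, 1, 0], [1, 2, 1, 0, 2, 1, 3], [0, 2, 1, 0, 2, 1, 2, 3, 2, 1, 0, 2, 1, 2, 3, 2, 1, 2], [1, 2, 3, 2, 1, 0, 2, 1, 2, 3, 2, 1, 2], [0, 2, 1, 0, 2, 1, 2, 3, 2, 1, 0, 2, 1, 2, 3, 2, 1, 0, 2], [0, 1, 0, 2, 1, 2, 3, 2], [1, 2, 3, 2, 1, 0, 2, 1, 2, 3, 2, 1, 0, 2], [0, 1, 0, 2, 1, 0, 2, 3, 2], [0, 1, 2, 1, 0, 2, 1, 2, 3, 2, 1, 0, 2, 1, 2, 3, 2, 1, 2], [1, 0, 2, 3, 2, 1, 0, 2, 1, 2, 3, 2, 1, 2], [0, 1, 2, 1, 0, 2, 1, 2, 3, 2, 1, 0, 2, 1, 2, 3, 2, 1, 0, 2], [2, 1, 2, 3, 2], [1, 0, 2, 3, 2, 1, 0, 2, 1, 2, 3, 2, 1, 0, 2], [2, 1,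 0, 2, 3, 2], [0, 2, 1, 0, 2, 1, 2, 3, 2, 1, 0, 2, 1, 2, 3, 2, 1, 0, 2, 1], [0, 1, 0, 2, 1, 2, 3, 2, 1], [0, 1, 2, 1, 0, 2, 1, 2, 3, 2, 1, 0, 2, 1, 2, 3, 2, 1, 0, 2, 1], [2, 1, 2, 3, 2, 1], [0, 1, 0, 2, 1, 2, 3, 2, 1, 0], [2, 1, 2, 3, 2, 1, 0], [1, 2, 3, 2, 1, 0, 2, 1, 2, 3, 2, 1, 0, 2, 1], [0, 1, 0, 2, 1, 0, 2, 3, 2, 1], [1, 0, 2, 3, 2, 1, 0, 2, 1, 2, 3, 2, 1, 0, 2, 1], [2, 1, 0, 2, 3, 2, 1], [0, 1, 0, 2, 1, 0, 2, 3, 2, 1, 0], [2, 1, 0, 2, 3, 2, 1, 0], [1, 0, 2, 1, 0, 2, 1, 2, 3, 2, 1, 0, 2, 1, 2, 3, 2, 1, 2], [2, 3, 2, 1, 0, 2, 1, 2, 3, 2, 1, 2], [1, 0, 2, 1, 0, 2, 1, 2, 3, 2, 1, 0, 2, 1, 2, 3, 2, 1, 0, 2], [0, 1, 2, 1, 2, 3, 2], [2, 3, 2, 1, 0, 2, 1, 2, 3, 2, 1, 0, 2], [0, 1, 2, 1, 0, 2, 3, 2], [0, 1, 0, 2, 1, 0, 2, 1, 2, 3, 2, 1, 0, 2, 1, 2, 3, 2, 1, 2], [0, 2, 3, 2, 1, 0, 2, 1, 2, 3,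 2, 1, 2], [0, 1, 0, 2, 1, 0, 2, 1, 2, 3, 2, 1, 0, 2, 1, 2, 3, 2, 1, 0, 2], [1, 2, 1, 2, 3, 2], [0, 2, 3, 2, 1, 0, 2, 1, 2, 3, 2, 1, 0, 2], [1, 2, 1, 0, 2, 3, 2], [1, 0, 2, 1, 0, 2, 1, 2, 3, 2, 1, 0, 2, 1, 2, 3, 2, 1, 0, 2, 1], [0, 1, 2, 1, 2, 3, 2, 1], [0, 1, 0, 2, 1, 0, 2, 1, 2, 3, 2, 1, 0, 2, 1, 2, 3, 2, 1, 0, 2, 1], [1, 2, 1, 2, 3, 2, 1]]

/-- Words (part). -/
def enumL7 : List (List ℕ) := [[0, 1, 2, 1, 2, 3, 2, 1, 0], [1, 2, 1, 2, 3, 2, 1, 0], [2, 3, 2, 1, 0, 2, 1, 2, 3, 2, 1, 0, 2, 1], [0, 1, 2, 1, 0, 2, 3, 2, 1], [0, 2, 3, 2, 1, 0, 2, 1, 2, 3, 2, 1, 0, 2, 1], [1, 2, 1, 0, 2, 3, 2, 1], [0, 1, 2, 1, 0, 2, 3, 2, 1, 0], [1, 2, 1, 0, 2, 3, 2, 1, 0], [0, 1, 0, 2, 1, 0, 2, 3, 2, 1, 0, 2, 1, 2, 3, 2], [2, 1, 0, 2, 3, 2, 1, 0, 2, 1, 2, 3, 2], [0, 1, 0, 2, 1, 0, 2, 1, 3, 2, 1, 0, 2, 1, 2, 3,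 2], [0, 3, 2, 1, 0, 2, 1, 2, 3, 2], [2, 1, 0, 2, 1, 3, 2, 1, 0, 2, 1, 2, 3, 2], [0, 1, 3, 2, 1, 0, 2, 1, 2, 3, 2], [0, 1, 0, 2, 1, 0, 2, 3, 2, 1, 0, 2, 1, 2, 3, 2, 1], [2, 1, 0, 2, 3, 2, 1, 0, 2, 1, 2, 3, 2, 1], [0, 1, 0, 2, 1, 0, 2, 3, 2, 1, 0, 2, 1, 2, 3, 2, 1, 0], [1, 2, 3], [2, 1, 0, 2, 3, 2, 1, 0, 2, 1, 2, 3, 2, 1, 0], [1, 0, 2, 3], [0, 1, 0, 2, 1, 0, 2, 1, 3, 2, 1, 0, 2, 1, 2, 3, 2, 1], [0, 3, 2, 1, 0, 2, 1, 2, 3, 2, 1], [0, 1, 0, 2, 1, 0, 2, 1, 3, 2, 1, 0, 2, 1, 2, 3, 2, 1, 0], [1, 2, 1, 3], [0, 3, 2, 1, 0, 2, 1, 2, 3, 2, 1, 0], [1, 2, 1, 0, 3], [2, 1, 0, 2, 1, 3, 2, 1, 0, 2, 1, 2, 3, 2, 1], [0, 1, 3, 2, 1, 0, 2, 1, 2, 3, 2, 1], [2, 1, 0, 2, 1, 3, 2, 1, 0, 2, 1, 2, 3, 2, 1, 0], [1, 0, 2, 1, 3], [0, 1, 3, 2, 1, 0, 2, 1, 2, 3, 2, 1, 0], [1, 0, 2, 1, 0, 3], [0, 1, 0, 2, 1, 2, 3, 2, 1,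 0, 2, 1, 2, 3, 2, 1, 2], [2, 1, 2, 3, 2, 1, 0, 2, 1, 2, 3, 2, 1, 2], [0, 1, 0, 2, 1, 2, 3, 2, 1, 0, 2, 1, 2, 3, 2, 1, 0, 2], [0, 2, 1, 0, 2, 1, 2, 3, 2], [2, 1, 2, 3, 2, 1, 0, 2, 1, 2, 3, 2, 1, 0, 2], [0, 1, 2, 1, 0, 2, 1, 2, 3, 2], [0, 1, 0, 2, 1, 0, 2, 3, 2, 1, 0, 2, 1, 2, 3, 2, 1, 2], [2, 1, 0, 2, 3, 2, 1, 0, 2, 1, 2, 3, 2, 1, 2], [0, 1, 0, 2, 1, 0, 2, 3, 2, 1, 0, 2, 1, 2, 3, 2, 1, 0, 2], [1, 2, 3, 2], [2, 1, 0, 2, 3, 2, 1, 0, 2, 1, 2, 3, 2, 1, 0, 2], [1, 0, 2, 3, 2], [0, 1, 0, 2, 1, 2, 3, 2, 1, 0, 2, 1, 2, 3, 2, 1, 0, 2, 1], [0, 2, 1, 0, 2, 1, 2, 3, 2, 1], [0, 1, 0, 2, 1, 0, 2, 3, 2, 1, 0, 2, 1, 2, 3, 2, 1, 0, 2, 1], [1, 2, 3, 2, 1], [0, 2, 1, 0, 2, 1, 2, 3, 2, 1, 0], [1, 2, 3, 2, 1, 0], [2, 1, 2, 3, 2, 1, 0, 2, 1, 2, 3, 2, 1, 0, 2, 1], [0, 1, 2, 1, 0, 2, 1, 2, 3, 2, 1], [2, 1, 0, 2,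 3, 2, 1, 0, 2, 1, 2, 3, 2, 1, 0, 2, 1], [1, 0, 2, 3, 2, 1], [0, 1, 2, 1, 0, 2, 1, 2, 3, 2, 1, 0], [1, 0, 2, 3, 2, 1, 0], [0, 1, 2, 1, 0, 2, 3, 2, 1, 0, 2, 1, 2, 3, 2], [1, 2, 1, 0, 2, 3, 2, 1, 0, 2, 1, 2, 3, 2], [0, 1, 2, 1, 0, 2, 1, 3, 2, 1, 0, 2, 1, 2, 3, 2], [1, 0, 3, 2, 1, 0, 2, 1, 2, 3, 2], [1, 2, 1, 0, 2, 1, 3, 2, 1, 0, 2, 1, 2, 3, 2], [0, 1, 0, 3, 2, 1, 0, 2, 1, 2, 3, 2], [0, 1, 2, 1, 0, 2, 3, 2, 1, 0, 2, 1, 2, 3, 2, 1], [1, 2, 1, 0, 2, 3, 2, 1, 0, 2, 1, 2, 3, 2, 1]]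

/-- Words (part). -/
def enumL8 : List (List ℕ) := [[0, 1, 2, 1, 0, 2, 3, 2, 1, 0, 2, 1, 2, 3, 2, 1, 0], [2, 3], [1, 2, 1, 0, 2, 3, 2, 1, 0, 2, 1, 2, 3, 2, 1, 0], [0, 2, 3], [0, 1, 2, 1, 0, 2, 1, 3, 2, 1, 0, 2, 1, 2, 3, 2, 1], [1, 0, 3, 2, 1, 0, 2, 1, 2, 3, 2, 1], [0, 1, 2, 1, 0, 2, 1, 3, 2, 1, 0, 2, 1, 2, 3, 2, 1, 0], [2, 1, 3], [1, 0, 3, 2, 1, 0, 2, 1, 2, 3, 2, 1, 0], [2, 1, 0, 3], [1, 2, 1, 0, 2, 1, 3, 2, 1, 0, 2, 1, 2, 3, 2, 1], [0, 1, 0, 3, 2, 1, 0, 2, 1, 2, 3, 2, 1], [1, 2, 1, 0, 2, 1, 3, 2, 1, 0, 2, 1, 2, 3, 2, 1, 0], [0, 2, 1, 3], [0, 1, 0, 3, 2, 1, 0, 2, 1, 2, 3, 2, 1, 0], [0, 2, 1, 0, 3], [0, 1, 2, 1, 2, 3, 2, 1, 0, 2, 1, 2, 3, 2, 1, 2], [1, 2, 1, 2, 3, 2, 1, 0, 2, 1, 2, 3, 2, 1, 2], [0, 1, 2, 1, 2, 3, 2, 1, 0, 2, 1, 2, 3, 2, 1, 0, 2], [1, 0, 2, 1, 0, 2, 1, 2, 3, 2], [1, 2, 1,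 2, 3, 2, 1, 0, 2, 1, 2, 3, 2, 1, 0, 2], [0, 1, 0, 2, 1, 0, 2, 1, 2, 3, 2], [0, 1, 2, 1, 0, 2, 3, 2, 1, 0, 2, 1, 2, 3, 2, 1, 2], [1, 2, 1, 0, 2, 3, 2, 1, 0, 2, 1, 2, 3, 2, 1, 2], [0, 1, 2, 1, 0, 2, 3, 2, 1, 0, 2, 1, 2, 3, 2, 1, 0, 2], [2, 3, 2], [1, 2, 1, 0, 2, 3, 2, 1, 0, 2, 1, 2, 3, 2, 1, 0, 2], [0, 2, 3, 2], [0, 1, 2, 1, 2, 3, 2, 1, 0, 2, 1, 2, 3, 2, 1, 0, 2, 1], [1, 0, 2, 1, 0, 2, 1, 2, 3, 2, 1], [0, 1, 2, 1, 0, 2, 3, 2, 1, 0, 2, 1, 2, 3, 2, 1, 0, 2, 1], [2, 3, 2, 1], [1, 0, 2, 1, 0, 2, 1, 2, 3, 2, 1, 0], [2, 3, 2, 1, 0], [1, 2, 1, 2, 3, 2, 1, 0, 2, 1, 2, 3, 2, 1, 0, 2, 1], [0, 1, 0, 2, 1, 0, 2, 1, 2, 3, 2, 1], [1, 2, 1, 0, 2, 3, 2, 1, 0, 2, 1, 2, 3, 2, 1, 0, 2, 1], [0, 2, 3, 2, 1], [0, 1, 0, 2, 1, 0, 2, 1, 2, 3, 2, 1, 0], [0, 2, 3, 2, 1, 0], [0, 1, 2, 1, 0, 3, 2, 1, 0, 2, 1, 2, 3, 2],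 [1, 2, 1, 0, 3, 2, 1, 0, 2, 1, 2, 3, 2], [0, 1, 0, 2, 1, 0, 3, 2, 1, 0, 2, 1, 2, 3, 2], [2, 1, 0, 3, 2, 1, 0, 2, 1, 2, 3, 2], [1, 0, 2, 1, 0, 3, 2, 1, 0, 2, 1, 2, 3, 2], [0, 2, 1, 0, 3, 2, 1, 0, 2, 1, 2, 3, 2], [0, 1, 2, 1, 0, 3, 2, 1, 0, 2, 1, 2, 3, 2, 1], [1, 2, 1, 0, 3, 2, 1, 0, 2, 1, 2, 3, 2, 1], [0, 1, 2, 1, 0, 3, 2, 1, 0, 2, 1, 2, 3, 2, 1, 0], [3], [1, 2, 1, 0, 3, 2, 1, 0, 2, 1, 2, 3, 2, 1, 0], [0, 3], [0, 1, 0, 2, 1, 0, 3, 2, 1, 0, 2, 1, 2, 3, 2, 1], [2, 1, 0, 3, 2, 1, 0, 2, 1, 2, 3, 2, 1], [0, 1, 0, 2, 1, 0, 3, 2, 1, 0, 2, 1, 2, 3, 2, 1, 0], [1, 3], [2, 1, 0, 3, 2, 1, 0, 2, 1, 2, 3, 2, 1, 0], [1, 0, 3], [1, 0, 2, 1, 0, 3, 2, 1, 0, 2, 1, 2, 3, 2, 1], [0, 2, 1, 0, 3, 2, 1, 0, 2, 1, 2, 3, 2, 1], [1, 0, 2, 1, 0, 3, 2, 1, 0, 2, 1, 2, 3, 2, 1, 0], [0, 1, 3], [0, 2, 1, 0, 3, 2, 1, 0, 2,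 1, 2, 3, 2, 1, 0], [0, 1, 0, 3]]

/-- Words (part). -/
def enumL9 : List (List ℕ) := [[0, 1, 2, 1, 0, 3, 2, 1, 0, 2, 1, 3, 2], [1, 2, 1, 0, 3, 2, 1, 0, 2, 1, 3, 2], [0, 1, 0, 2, 1, 0, 3, 2, 1, 0, 2, 1, 3, 2], [2, 1, 0, 3, 2, 1, 0, 2, 1, 3, 2], [1, 0, 2, 1, 0, 3, 2, 1, 0, 2, 1, 3, 2], [0, 2, 1, 0, 3, 2, 1, 0, 2, 1, 3, 2], [0, 1, 2, 1, 0, 3, 2, 1, 0, 2, 1, 3, 2, 1], [1, 2, 1, 0, 3, 2, 1, 0, 2, 1, 3, 2, 1], [0, 1, 2, 1, 0, 3, 2, 1, 0, 2, 1, 3, 2, 1, 0], [], [1, 2, 1, 0, 3, 2, 1, 0, 2, 1, 3, 2, 1, 0], [0], [0, 1, 0, 2, 1, 0, 3, 2, 1, 0, 2, 1, 3, 2, 1], [2, 1, 0, 3, 2, 1, 0, 2, 1, 3, 2, 1], [0, 1, 0, 2, 1, 0, 3, 2, 1, 0, 2, 1, 3, 2, 1, 0], [1], [2, 1, 0, 3, 2, 1, 0, 2, 1, 3, 2, 1, 0], [1, 0], [1, 0, 2, 1, 0, 3, 2, 1, 0, 2, 1, 3, 2, 1], [0, 2, 1, 0, 3, 2, 1, 0, 2, 1, 3, 2, 1], [1, 0, 2, 1, 0, 3,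 2, 1, 0, 2, 1, 3, 2, 1, 0], [0, 1], [0, 2, 1, 0, 3, 2, 1, 0, 2, 1, 3, 2, 1, 0], [0, 1, 0], [0, 1, 2, 1, 3, 2, 1, 0, 2, 1, 2, 3, 2, 1, 2], [1, 2, 1, 3, 2, 1, 0, 2, 1, 2, 3, 2, 1, 2], [0, 1, 2, 1, 3, 2, 1, 0, 2, 1, 2, 3, 2, 1, 0, 2], [1, 0, 2, 1, 0, 2, 1, 3, 2], [1, 2, 1, 3, 2, 1, 0, 2, 1, 2, 3, 2, 1, 0, 2], [0, 1, 0, 2, 1, 0, 2, 1, 3, 2], [0, 1, 2, 1, 0, 3, 2, 1, 0, 2, 1, 2, 3, 2, 1, 2], [1, 2, 1, 0, 3, 2, 1, 0, 2, 1, 2, 3, 2, 1, 2], [0, 1, 2, 1, 0, 3, 2, 1, 0, 2, 1, 2, 3, 2, 1, 0, 2], [3, 2], [1, 2, 1, 0, 3, 2, 1, 0, 2, 1, 2, 3, 2, 1, 0, 2], [0, 3, 2], [0, 1, 2, 1, 3, 2, 1, 0, 2, 1, 2, 3, 2, 1, 0, 2, 1], [1, 0, 2, 1, 0, 2, 1, 3, 2, 1], [0, 1, 2, 1, 0, 3, 2, 1, 0, 2, 1, 2, 3, 2, 1, 0, 2, 1], [3, 2, 1], [1, 0, 2, 1, 0, 2, 1, 3, 2, 1, 0], [3, 2, 1, 0], [1, 2, 1, 3, 2, 1, 0, 2, 1, 2, 3, 2, 1,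 0, 2, 1], [0, 1, 0, 2, 1, 0, 2, 1, 3, 2, 1], [1, 2, 1, 0, 3, 2, 1, 0, 2, 1, 2, 3, 2, 1, 0, 2, 1], [0, 3, 2, 1], [0, 1, 0, 2, 1, 0, 2, 1, 3, 2, 1, 0], [0, 3, 2, 1, 0], [0, 1, 2, 1, 0, 2, 3, 2, 1, 0, 2, 1, 3, 2], [1, 2, 1, 0, 2, 3, 2, 1, 0, 2, 1, 3, 2], [0, 1, 2, 1, 0, 2, 1, 3, 2, 1, 0, 2, 1, 3, 2], [1, 0, 3, 2, 1, 0, 2, 1, 3, 2], [1, 2, 1, 0, 2, 1, 3, 2, 1, 0, 2, 1, 3, 2], [0, 1, 0, 3, 2, 1, 0, 2, 1, 3, 2], [0, 1, 2, 1, 0, 2, 3, 2, 1, 0, 2, 1, 3, 2, 1], [1, 2, 1, 0, 2, 3, 2, 1, 0, 2, 1, 3, 2, 1], [0, 1, 2, 1, 0, 2, 3, 2, 1, 0, 2, 1, 3, 2, 1, 0], [2], [1, 2, 1, 0, 2, 3, 2, 1, 0, 2, 1, 3, 2, 1, 0], [0, 2], [0, 1, 2, 1, 0, 2, 1, 3, 2, 1, 0, 2, 1, 3, 2, 1], [1, 0, 3, 2, 1, 0, 2, 1, 3, 2, 1], [0, 1, 2, 1, 0, 2, 1, 3, 2, 1, 0, 2, 1, 3, 2, 1, 0], [2, 1]]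

/-- Words (part). -/
def enumL10 : List (List ℕ) := [[1, 0, 3, 2, 1, 0, 2, 1, 3, 2, 1, 0], [2, 1, 0], [1, 2, 1, 0, 2, 1, 3, 2, 1, 0, 2, 1, 3, 2, 1], [0, 1, 0, 3, 2, 1, 0, 2, 1, 3, 2, 1], [1, 2, 1, 0, 2, 1, 3, 2, 1, 0, 2, 1, 3, 2, 1, 0], [0, 2, 1], [0, 1, 0, 3, 2, 1, 0, 2, 1, 3, 2, 1, 0], [0, 2, 1, 0], [0, 1, 0, 2, 1, 3, 2, 1, 0, 2, 1, 2, 3, 2, 1, 2], [2, 1, 3, 2, 1, 0, 2, 1, 2, 3, 2, 1, 2], [0, 1, 0, 2, 1, 3, 2, 1, 0, 2, 1, 2, 3, 2, 1, 0, 2], [0, 2, 1, 0, 2, 1, 3, 2], [2, 1, 3, 2, 1, 0, 2, 1, 2, 3, 2, 1, 0, 2], [0, 1, 2, 1, 0, 2, 1, 3, 2], [0, 1, 0, 2, 1, 0, 3, 2, 1, 0, 2, 1, 2, 3, 2, 1, 2], [2, 1, 0, 3, 2, 1, 0, 2, 1, 2, 3, 2, 1, 2], [0, 1, 0, 2, 1, 0, 3, 2, 1, 0, 2, 1, 2, 3, 2, 1, 0, 2], [1, 3, 2], [2, 1, 0, 3, 2, 1, 0, 2, 1, 2, 3, 2, 1, 0, 2], [1, 0, 3, 2], [0, 1, 0, 2, 1, 3, 2, 1, 0,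 2, 1, 2, 3, 2, 1, 0, 2, 1], [0, 2, 1, 0, 2, 1, 3, 2, 1], [0, 1, 0, 2, 1, 0, 3, 2, 1, 0, 2, 1, 2, 3, 2, 1, 0, 2, 1], [1, 3, 2, 1], [0, 2, 1, 0, 2, 1, 3, 2, 1, 0], [1, 3, 2, 1, 0], [2, 1, 3, 2, 1, 0, 2, 1, 2, 3, 2, 1, 0, 2, 1], [0, 1, 2, 1, 0, 2, 1, 3, 2, 1], [2, 1, 0, 3, 2, 1, 0, 2, 1, 2, 3, 2, 1, 0, 2, 1], [1, 0, 3, 2, 1], [0, 1, 2, 1, 0, 2, 1, 3, 2, 1, 0], [1, 0, 3, 2, 1, 0], [0, 1, 0, 2, 1, 0, 2, 3, 2, 1, 0, 2, 1, 3, 2], [2, 1, 0, 2, 3, 2, 1, 0, 2, 1, 3, 2], [0, 1, 0, 2, 1, 0, 2, 1, 3, 2, 1, 0, 2, 1, 3, 2], [0, 3, 2, 1, 0, 2, 1, 3, 2], [2, 1, 0, 2, 1, 3, 2, 1, 0, 2, 1, 3, 2], [0, 1, 3, 2, 1, 0, 2, 1, 3, 2], [0, 1, 0, 2, 1, 0, 2, 3, 2, 1, 0, 2, 1, 3, 2, 1], [2, 1, 0, 2, 3, 2, 1, 0, 2, 1, 3, 2, 1], [0, 1, 0, 2, 1, 0, 2, 3, 2, 1, 0, 2, 1, 3, 2, 1, 0], [1, 2], [2, 1, 0, 2, 3, 2, 1, 0, 2, 1,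 3, 2, 1, 0], [1, 0, 2], [0, 1, 0, 2, 1, 0, 2, 1, 3, 2, 1, 0, 2, 1, 3, 2, 1], [0, 3, 2, 1, 0, 2, 1, 3, 2, 1], [0, 1, 0, 2, 1, 0, 2, 1, 3, 2, 1, 0, 2, 1, 3, 2, 1, 0], [1, 2, 1], [0, 3, 2, 1, 0, 2, 1, 3, 2, 1, 0], [1, 2, 1, 0], [2, 1, 0, 2, 1, 3, 2, 1, 0, 2, 1, 3, 2, 1], [0, 1, 3, 2, 1, 0, 2, 1, 3, 2, 1], [2, 1, 0, 2, 1, 3, 2, 1, 0, 2, 1, 3, 2, 1, 0], [1, 0, 2, 1], [0, 1, 3, 2, 1, 0, 2, 1, 3, 2, 1, 0], [1, 0, 2, 1, 0], [1, 0, 2, 1, 0, 2, 1, 3, 2, 1, 0, 2, 1, 2, 3, 2, 1, 2], [3, 2, 1, 0, 2, 1, 2, 3, 2, 1, 2], [1, 0, 2, 1, 0, 2, 1, 3, 2, 1, 0, 2, 1, 2, 3, 2, 1, 0, 2], [0, 1, 2, 1, 3, 2], [3, 2, 1, 0, 2, 1, 2, 3, 2, 1, 0, 2], [0, 1, 2, 1, 0, 3, 2], [0, 1, 0, 2, 1, 0, 2, 1, 3, 2, 1, 0, 2, 1, 2, 3, 2, 1, 2], [0, 3, 2, 1, 0, 2, 1, 2, 3, 2, 1, 2]]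

/-- Words (part). -/
def enumL11 : List (List ℕ) := [[0, 1, 0, 2, 1, 0, 2, 1, 3, 2, 1, 0, 2, 1, 2, 3, 2, 1, 0, 2], [1, 2, 1, 3, 2], [0, 3, 2, 1, 0, 2, 1, 2, 3, 2, 1, 0, 2], [1, 2, 1, 0, 3, 2], [1, 0, 2, 1, 0, 2, 1, 3, 2, 1, 0, 2, 1, 2, 3, 2, 1, 0, 2, 1], [0, 1, 2, 1, 3, 2, 1], [0, 1, 0, 2, 1, 0, 2, 1, 3, 2, 1, 0, 2, 1, 2, 3, 2, 1, 0, 2, 1], [1, 2, 1, 3, 2, 1], [0, 1, 2, 1, 3, 2, 1, 0], [1, 2, 1, 3, 2, 1, 0], [3, 2, 1, 0, 2, 1, 2, 3, 2, 1, 0, 2, 1], [0, 1, 2, 1, 0, 3, 2, 1], [0, 3, 2, 1, 0, 2, 1, 2, 3, 2, 1, 0, 2, 1], [1, 2, 1, 0, 3, 2, 1], [0, 1, 2, 1, 0, 3, 2, 1, 0], [1, 2, 1, 0, 3, 2, 1, 0], [0, 2, 1, 0, 2, 1, 3, 2, 1, 0, 2, 1, 2, 3, 2, 1, 2], [1, 3, 2, 1, 0, 2, 1, 2, 3, 2, 1, 2], [0, 2, 1, 0, 2, 1, 3, 2, 1, 0, 2, 1, 2, 3, 2, 1, 0, 2], [0, 1, 0, 2, 1, 3, 2], [1, 3, 2, 1, 0, 2, 1, 2, 3,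 2, 1, 0, 2], [0, 1, 0, 2, 1, 0, 3, 2], [0, 1, 2, 1, 0, 2, 1, 3, 2, 1, 0, 2, 1, 2, 3, 2, 1, 2], [1, 0, 3, 2, 1, 0, 2, 1, 2, 3, 2, 1, 2], [0, 1, 2, 1, 0, 2, 1, 3, 2, 1, 0, 2, 1, 2, 3, 2, 1, 0, 2], [2, 1, 3, 2], [1, 0, 3, 2, 1, 0, 2, 1, 2, 3, 2, 1, 0, 2], [2, 1, 0, 3, 2], [0, 2, 1, 0, 2, 1, 3, 2, 1, 0, 2, 1, 2, 3, 2, 1, 0, 2, 1], [0, 1, 0, 2, 1, 3, 2, 1], [0, 1, 2, 1, 0, 2, 1, 3, 2, 1, 0, 2, 1, 2, 3, 2, 1, 0, 2, 1], [2, 1, 3, 2, 1], [0, 1, 0, 2, 1, 3, 2, 1, 0], [2, 1, 3, 2, 1, 0], [1, 3, 2, 1, 0, 2, 1, 2, 3, 2, 1, 0, 2, 1], [0, 1, 0, 2, 1, 0, 3, 2, 1], [1, 0, 3, 2, 1, 0, 2, 1, 2, 3, 2, 1, 0, 2, 1], [2, 1, 0, 3, 2, 1], [0, 1, 0, 2, 1, 0, 3, 2, 1, 0], [2, 1, 0, 3, 2, 1, 0], [0, 1, 2, 1, 0, 2, 1, 2, 3, 2, 1, 0, 2, 1, 3, 2], [1, 0, 2, 3, 2, 1, 0, 2, 1, 3, 2], [0, 1, 0, 2, 1, 0, 2, 1, 2, 3, 2, 1,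 0, 2, 1, 3, 2], [0, 2, 3, 2, 1, 0, 2, 1, 3, 2], [1, 0, 2, 1, 3, 2, 1, 0, 2, 1, 3, 2], [0, 2, 1, 3, 2, 1, 0, 2, 1, 3, 2], [0, 1, 2, 1, 0, 2, 1, 2, 3, 2, 1, 0, 2, 1, 3, 2, 1], [1, 0, 2, 3, 2, 1, 0, 2, 1, 3, 2, 1], [0, 1, 2, 1, 0, 2, 1, 2, 3, 2, 1, 0, 2, 1, 3, 2, 1, 0], [2, 1, 2], [1, 0, 2, 3, 2, 1, 0, 2, 1, 3, 2, 1, 0], [2, 1, 0, 2], [0, 1, 0, 2, 1, 0, 2, 1, 2, 3, 2, 1, 0, 2, 1, 3, 2, 1], [0, 2, 3, 2, 1, 0, 2, 1, 3, 2, 1], [0, 1, 0, 2, 1, 0, 2, 1, 2, 3, 2, 1, 0, 2, 1, 3, 2, 1, 0], [1, 2, 1, 2], [0, 2, 3, 2, 1, 0, 2, 1, 3, 2, 1, 0], [1, 2, 1, 0, 2], [1, 0, 2, 1, 3, 2, 1, 0, 2, 1, 3, 2, 1], [0, 2, 1, 3, 2, 1, 0, 2, 1, 3, 2, 1], [1, 0, 2, 1, 3, 2, 1, 0, 2, 1, 3, 2, 1, 0], [2, 1, 0, 2, 1], [0, 2, 1, 3, 2, 1, 0, 2, 1, 3, 2, 1, 0], [1, 2, 1, 0, 2, 1]]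

/-- Words (part). -/
def enumL12 : List (List ℕ) := [[1, 0, 2, 1, 3, 2, 1, 0, 2, 1, 2, 3, 2, 1, 2], [0, 2, 1, 3, 2, 1, 0, 2, 1, 2, 3, 2, 1, 2], [1, 0, 2, 1, 3, 2, 1, 0, 2, 1, 2, 3, 2, 1, 0, 2], [2, 1, 0, 2, 1, 3, 2], [0, 2, 1, 3, 2, 1, 0, 2, 1, 2, 3, 2, 1, 0, 2], [1, 2, 1, 0, 2, 1, 3, 2], [1, 0, 2, 1, 0, 3, 2, 1, 0, 2, 1, 2, 3, 2, 1, 2], [0, 2, 1, 0, 3, 2, 1, 0, 2, 1, 2, 3, 2, 1, 2], [1, 0, 2, 1, 0, 3, 2, 1, 0, 2, 1, 2, 3, 2, 1, 0, 2], [0, 1, 3, 2], [0, 2, 1, 0, 3, 2, 1, 0, 2, 1, 2, 3, 2, 1, 0, 2], [0, 1, 0, 3, 2], [1, 0, 2, 1, 3, 2, 1, 0, 2, 1, 2, 3, 2, 1, 0, 2, 1], [2, 1, 0, 2, 1, 3, 2, 1], [1, 0, 2, 1, 0, 3, 2, 1, 0, 2, 1, 2, 3, 2, 1, 0, 2, 1], [0, 1, 3, 2, 1], [2, 1, 0, 2, 1, 3, 2, 1, 0], [0, 1, 3, 2, 1, 0], [0, 2, 1, 3, 2, 1, 0, 2, 1, 2, 3, 2, 1, 0, 2, 1], [1, 2, 1, 0, 2, 1, 3, 2, 1],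 [0, 2, 1, 0, 3, 2, 1, 0, 2, 1, 2, 3, 2, 1, 0, 2, 1], [0, 1, 0, 3, 2, 1], [1, 2, 1, 0, 2, 1, 3, 2, 1, 0], [0, 1, 0, 3, 2, 1, 0], [1, 0, 2, 1, 0, 2, 3, 2, 1, 0, 2, 1, 3, 2], [0, 2, 1, 0, 2, 3, 2, 1, 0, 2, 1, 3, 2], [1, 0, 2, 1, 0, 2, 1, 3, 2, 1, 0, 2, 1, 3, 2], [3, 2, 1, 0, 2, 1, 3, 2], [0, 2, 1, 0, 2, 1, 3, 2, 1, 0, 2, 1, 3, 2], [1, 3, 2, 1, 0, 2, 1, 3, 2], [1, 0, 2, 1, 0, 2, 3, 2, 1, 0, 2, 1, 3, 2, 1], [0, 2, 1, 0, 2, 3, 2, 1, 0, 2, 1, 3, 2, 1], [1, 0, 2, 1, 0, 2, 3, 2, 1, 0, 2, 1, 3, 2, 1, 0], [0, 1, 2], [0, 2, 1, 0, 2, 3, 2, 1, 0, 2, 1, 3, 2, 1, 0], [0, 1, 0, 2], [1, 0, 2, 1, 0, 2, 1, 3, 2, 1, 0, 2, 1, 3, 2, 1], [3, 2, 1, 0, 2, 1, 3, 2, 1], [1, 0, 2, 1, 0, 2, 1, 3, 2, 1, 0, 2, 1, 3, 2, 1, 0], [0, 1, 2, 1], [3, 2, 1, 0, 2, 1, 3, 2, 1, 0], [0, 1, 2, 1, 0], [0, 2, 1, 0, 2, 1, 3, 2, 1, 0, 2,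 1, 3, 2, 1], [1, 3, 2, 1, 0, 2, 1, 3, 2, 1], [0, 2, 1, 0, 2, 1, 3, 2, 1, 0, 2, 1, 3, 2, 1, 0], [0, 1, 0, 2, 1], [1, 3, 2, 1, 0, 2, 1, 3, 2, 1, 0], [0, 1, 0, 2, 1, 0], [2, 1, 0, 2, 1, 3, 2, 1, 0, 2, 1, 2, 3, 2, 1, 2], [0, 1, 3, 2, 1, 0, 2, 1, 2, 3, 2, 1, 2], [2, 1, 0, 2, 1, 3, 2, 1, 0, 2, 1, 2, 3, 2, 1, 0, 2], [1, 0, 2, 1, 3, 2], [0, 1, 3, 2, 1, 0, 2, 1, 2, 3, 2, 1, 0, 2], [1, 0, 2, 1, 0, 3, 2], [1, 2, 1, 0, 2, 1, 3, 2, 1, 0, 2, 1, 2, 3, 2, 1, 2], [0, 1, 0, 3, 2, 1, 0, 2, 1, 2, 3, 2, 1, 2], [1, 2, 1, 0, 2, 1, 3, 2, 1, 0, 2, 1, 2, 3, 2, 1, 0, 2], [0, 2, 1, 3, 2], [0, 1, 0, 3, 2, 1, 0, 2, 1, 2, 3, 2, 1, 0, 2], [0, 2, 1, 0, 3, 2], [2, 1, 0, 2, 1, 3, 2, 1, 0, 2, 1, 2, 3, 2, 1, 0, 2, 1], [1, 0, 2, 1, 3, 2, 1], [1, 2, 1, 0, 2, 1, 3, 2, 1, 0, 2, 1, 2, 3, 2, 1, 0, 2, 1], [0, 2, 1, 3, 2, 1]]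

/-- Words (part). -/
def enumL13 : List (List ℕ) := [[1, 0, 2, 1, 3, 2, 1, 0], [0, 2, 1, 3, 2, 1, 0], [0, 1, 3, 2, 1, 0, 2, 1, 2, 3, 2, 1, 0, 2, 1], [1, 0, 2, 1, 0, 3, 2, 1], [0, 1, 0, 3, 2, 1, 0, 2, 1, 2, 3, 2, 1, 0, 2, 1], [0, 2, 1, 0, 3, 2, 1], [1, 0, 2, 1, 0, 3, 2, 1, 0], [0, 2, 1, 0, 3, 2, 1, 0], [1, 2, 1, 0, 2, 1, 2, 3, 2, 1, 0, 2, 1, 3, 2], [0, 1, 0, 2, 3, 2, 1, 0, 2, 1, 3, 2], [1, 0, 2, 1, 0, 2, 1, 2, 3, 2, 1, 0, 2, 1, 3, 2], [2, 3, 2, 1, 0, 2, 1, 3, 2], [0, 1, 0, 2, 1, 3, 2, 1, 0, 2, 1, 3, 2], [2, 1, 3, 2, 1, 0, 2, 1, 3, 2], [1, 2, 1, 0, 2, 1, 2, 3, 2, 1, 0, 2, 1, 3, 2, 1], [0, 1, 0, 2, 3, 2, 1, 0, 2, 1, 3, 2, 1], [1, 2, 1, 0, 2, 1, 2, 3, 2, 1, 0, 2, 1, 3, 2, 1, 0], [0, 2, 1, 2], [0, 1, 0, 2, 3, 2, 1, 0, 2, 1, 3, 2, 1, 0], [0, 2, 1, 0, 2], [1, 0, 2, 1, 0, 2, 1, 2, 3, 2, 1, 0, 2,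 1, 3, 2, 1], [2, 3, 2, 1, 0, 2, 1, 3, 2, 1], [1, 0, 2, 1, 0, 2, 1, 2, 3, 2, 1, 0, 2, 1, 3, 2, 1, 0], [0, 1, 2, 1, 2], [2, 3, 2, 1, 0, 2, 1, 3, 2, 1, 0], [0, 1, 2, 1, 0, 2], [0, 1, 0, 2, 1, 3, 2, 1, 0, 2, 1, 3, 2, 1], [2, 1, 3, 2, 1, 0, 2, 1, 3, 2, 1], [0, 1, 0, 2, 1, 3, 2, 1, 0, 2, 1, 3, 2, 1, 0], [0, 2, 1, 0, 2, 1], [2, 1, 3, 2, 1, 0, 2, 1, 3, 2, 1, 0], [0, 1, 2, 1, 0, 2, 1], [2, 1, 0, 2, 1, 2, 3, 2, 1, 0, 2, 1, 3, 2], [0, 1, 2, 3, 2, 1, 0, 2, 1, 3, 2], [0, 2, 1, 0, 2, 1, 2, 3, 2, 1, 0, 2, 1, 3, 2], [1, 2, 3, 2, 1, 0, 2, 1, 3, 2], [0, 1, 2, 1, 3, 2, 1, 0, 2, 1, 3, 2], [1, 2, 1, 3, 2, 1, 0, 2, 1, 3, 2], [2, 1, 0, 2, 1, 2, 3, 2, 1, 0, 2, 1, 3, 2, 1], [0, 1, 2, 3, 2, 1, 0, 2, 1, 3, 2, 1], [2, 1, 0, 2, 1, 2, 3, 2, 1, 0, 2, 1, 3, 2, 1, 0], [1, 0, 2, 1, 2], [0, 1, 2, 3, 2, 1, 0, 2, 1, 3, 2, 1,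 0], [1, 0, 2, 1, 0, 2], [0, 2, 1, 0, 2, 1, 2, 3, 2, 1, 0, 2, 1, 3, 2, 1], [1, 2, 3, 2, 1, 0, 2, 1, 3, 2, 1], [0, 2, 1, 0, 2, 1, 2, 3, 2, 1, 0, 2, 1, 3, 2, 1, 0], [0, 1, 0, 2, 1, 2], [1, 2, 3, 2, 1, 0, 2, 1, 3, 2, 1, 0], [0, 1, 0, 2, 1, 0, 2], [0, 1, 2, 1, 3, 2, 1, 0, 2, 1, 3, 2, 1], [1, 2, 1, 3, 2, 1, 0, 2, 1, 3, 2, 1], [0, 1, 2, 1, 3, 2, 1, 0, 2, 1, 3, 2, 1, 0], [1, 0, 2, 1, 0, 2, 1], [1, 2, 1, 3, 2, 1, 0, 2, 1, 3, 2, 1, 0], [0, 1, 0, 2, 1, 0, 2, 1], [1, 0, 2, 1, 2, 3, 2, 1, 0, 2, 1, 3, 2], [0, 2, 1, 2, 3, 2, 1, 0, 2, 1, 3, 2], [0, 1, 0, 2, 1, 2, 3, 2, 1, 0, 2, 1, 3, 2], [2, 1, 2, 3, 2, 1, 0, 2, 1, 3, 2], [0, 1, 2, 1, 2, 3, 2, 1, 0, 2, 1, 3, 2], [1, 2, 1, 2, 3, 2, 1, 0, 2, 1, 3, 2], [1, 0, 2, 1, 2, 3, 2, 1, 0, 2, 1, 3, 2, 1], [0, 2, 1, 2, 3, 2, 1, 0, 2, 1, 3, 2, 1]]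

/-- Words (part). -/
def enumL14 : List (List ℕ) := [[1, 0, 2, 1, 2, 3, 2, 1, 0, 2, 1, 3, 2, 1, 0], [2, 1, 0, 2, 1, 2], [0, 2, 1, 2, 3, 2, 1, 0, 2, 1, 3, 2, 1, 0], [1, 2, 1, 0, 2, 1, 2], [0, 1, 0, 2, 1, 2, 3, 2, 1, 0, 2, 1, 3, 2, 1], [2, 1, 2, 3, 2, 1, 0, 2, 1, 3, 2, 1], [0, 1, 0, 2, 1, 2, 3, 2, 1, 0, 2, 1, 3, 2, 1, 0], [0, 2, 1, 0, 2, 1, 2], [2, 1, 2, 3, 2, 1, 0, 2, 1, 3, 2, 1, 0], [0, 1, 2, 1, 0, 2, 1, 2], [0, 1, 2, 1, 2, 3, 2, 1, 0, 2, 1, 3, 2, 1], [1, 2, 1, 2, 3, 2, 1, 0, 2, 1, 3, 2, 1], [0, 1, 2, 1, 2, 3, 2, 1, 0, 2, 1, 3, 2, 1, 0], [1, 0, 2, 1, 0, 2, 1, 2], [1, 2, 1, 2, 3, 2, 1, 0, 2, 1, 3, 2, 1, 0], [0, 1, 0, 2, 1, 0, 2, 1, 2], [2, 1, 0, 2, 1, 2, 3, 2, 1, 0, 2, 1, 2, 3, 2, 1, 0, 2, 1, 2], [1, 0, 2, 1, 2, 3, 2, 1, 2], [1, 2, 1, 0, 2, 1, 2, 3, 2, 1, 0, 2, 1, 2, 3, 2, 1, 0, 2, 1, 2],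 [0, 2, 1, 2, 3, 2, 1, 2], [1, 0, 2, 1, 2, 3, 2, 1, 0, 2], [0, 2, 1, 2, 3, 2, 1, 0, 2], [0, 2, 1, 0, 2, 1, 2, 3, 2, 1, 0, 2, 1, 2, 3, 2, 1, 0, 2, 1, 2], [0, 1, 0, 2, 1, 2, 3, 2, 1, 2], [0, 1, 2, 1, 0, 2, 1, 2, 3, 2, 1, 0, 2, 1, 2, 3, 2, 1, 0, 2, 1, 2], [2, 1, 2, 3, 2, 1, 2], [0, 1, 0, 2, 1, 2, 3, 2, 1, 0, 2], [2, 1, 2, 3, 2, 1, 0, 2], [1, 0, 2, 1, 0, 2, 1, 2, 3, 2, 1, 0, 2, 1, 2, 3, 2, 1, 0, 2, 1, 2], [0, 1, 2, 1, 2, 3, 2, 1, 2], [0, 1, 0, 2, 1, 0, 2, 1, 2, 3, 2, 1, 0, 2, 1, 2, 3, 2, 1, 0, 2, 1, 2], [1, 2, 1, 2, 3, 2, 1, 2], [0, 1, 2, 1, 2, 3, 2, 1, 0, 2], [1, 2, 1, 2, 3, 2, 1, 0, 2], [1, 0, 2, 1, 2, 3, 2, 1, 0, 2, 1], [0, 2, 1, 2, 3, 2, 1, 0, 2, 1], [0, 1, 0, 2, 1, 2, 3, 2, 1, 0, 2, 1], [2, 1, 2, 3, 2, 1, 0, 2, 1], [0, 1, 2, 1, 2, 3, 2, 1, 0, 2, 1], [1, 2, 1, 2, 3, 2, 1, 0, 2, 1], [1, 0,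 2, 1, 2, 3, 2, 1, 0, 2, 1, 2, 3, 2, 1, 0, 2, 1, 2], [2, 1, 0, 2, 1, 2, 3, 2, 1, 2], [1, 0, 2, 1, 0, 2, 3, 2, 1, 0, 2, 1, 2, 3, 2, 1, 0, 2, 1, 2], [0, 1, 2, 3, 2, 1, 2], [2, 1, 0, 2, 1, 2, 3, 2, 1, 0, 2], [0, 1, 2, 3, 2, 1, 0, 2], [0, 1, 0, 2, 1, 2, 3, 2, 1, 0, 2, 1, 2, 3, 2, 1, 0, 2, 1, 2], [0, 2, 1, 0, 2, 1, 2, 3, 2, 1, 2], [0, 1, 0, 2, 1, 0, 2, 3, 2, 1, 0, 2, 1, 2, 3, 2, 1, 0, 2, 1, 2], [1, 2, 3, 2, 1, 2], [0, 2, 1, 0, 2, 1, 2, 3, 2, 1, 0, 2], [1, 2, 3, 2, 1, 0, 2], [1, 0, 2, 1, 0, 2, 1, 3, 2, 1, 0, 2, 1, 2, 3, 2, 1, 0, 2, 1, 2], [0, 1, 2, 1, 3, 2, 1, 2], [0, 1, 0, 2, 1, 0, 2, 1, 3, 2, 1, 0, 2, 1, 2, 3, 2, 1, 0, 2, 1, 2], [1, 2, 1, 3, 2, 1, 2], [0, 1, 2, 1, 3, 2, 1, 0, 2], [1, 2, 1, 3, 2, 1, 0, 2], [2, 1, 0, 2, 1, 2, 3, 2, 1, 0, 2, 1], [0, 1, 2, 3, 2, 1, 0, 2, 1], [0, 2, 1, 0, 2, 1, 2,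 3, 2, 1, 0, 2, 1], [1, 2, 3, 2, 1, 0, 2, 1], [0, 1, 2, 1, 3, 2, 1, 0, 2, 1], [1, 2, 1, 3, 2, 1, 0, 2, 1]]

/-- Words (part). -/
def enumL15 : List (List ℕ) := [[0, 2, 1, 2, 3, 2, 1, 0, 2, 1, 2, 3, 2, 1, 0, 2, 1, 2], [1, 2, 1, 0, 2, 1, 2, 3, 2, 1, 2], [0, 2, 1, 0, 2, 3, 2, 1, 0, 2, 1, 2, 3, 2, 1, 0, 2, 1, 2], [0, 1, 0, 2, 3, 2, 1, 2], [1, 2, 1, 0, 2, 1, 2, 3, 2, 1, 0, 2], [0, 1, 0, 2, 3, 2, 1, 0, 2], [0, 1, 2, 1, 2, 3, 2, 1, 0, 2, 1, 2, 3, 2, 1, 0, 2, 1, 2], [1, 0, 2, 1, 0, 2, 1, 2, 3, 2, 1, 2], [0, 1, 2, 1, 0, 2, 3, 2, 1, 0, 2, 1, 2, 3, 2, 1, 0, 2, 1, 2], [2, 3, 2, 1, 2], [1, 0, 2, 1, 0, 2, 1, 2, 3, 2, 1, 0, 2], [2, 3, 2, 1, 0, 2], [0, 2, 1, 0, 2, 1, 3, 2, 1, 0, 2, 1, 2, 3, 2, 1, 0, 2, 1, 2], [0, 1, 0, 2, 1, 3, 2, 1, 2], [0, 1, 2, 1, 0, 2, 1, 3, 2, 1, 0, 2, 1, 2, 3, 2, 1, 0, 2, 1, 2], [2,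 1, 3, 2, 1, 2], [0, 1, 0, 2, 1, 3, 2, 1, 0, 2], [2, 1, 3, 2, 1, 0, 2], [1, 2, 1, 0, 2, 1, 2, 3, 2, 1, 0, 2, 1], [0, 1, 0, 2, 3, 2, 1, 0, 2, 1], [1, 0, 2, 1, 0, 2, 1, 2, 3, 2, 1, 0, 2, 1], [2, 3, 2, 1, 0, 2, 1], [0, 1, 0, 2, 1, 3, 2, 1, 0, 2, 1], [2, 1, 3, 2, 1, 0, 2, 1], [0, 1, 2, 3, 2, 1, 0, 2, 1, 2, 3, 2, 1, 0, 2, 1, 2], [1, 0, 2, 1, 0, 2, 3, 2, 1, 2], [0, 1, 0, 2, 3, 2, 1, 0, 2, 1, 2, 3, 2, 1, 0, 2, 1, 2], [0, 2, 1, 0, 2, 3, 2, 1, 2], [1, 0, 2, 1, 0, 2, 3, 2, 1, 0, 2], [0, 2, 1, 0, 2, 3, 2, 1, 0, 2], [0, 1, 2, 1, 3, 2, 1, 0, 2, 1, 2, 3, 2, 1, 0, 2, 1, 2], [1, 0, 2, 1, 0, 2, 1, 3, 2, 1, 2], [0, 1, 2, 1, 0, 3, 2, 1, 0, 2, 1, 2, 3, 2, 1, 0, 2, 1, 2], [3, 2, 1, 2], [1, 0, 2, 1, 0, 2, 1, 3, 2, 1, 0, 2], [3, 2, 1, 0, 2], [0, 1, 0, 2, 1, 3, 2, 1, 0, 2, 1, 2, 3, 2, 1, 0, 2, 1, 2], [0, 2, 1, 0,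 2, 1, 3, 2, 1, 2], [0, 1, 0, 2, 1, 0, 3, 2, 1, 0, 2, 1, 2, 3, 2, 1, 0, 2, 1, 2], [1, 3, 2, 1, 2], [0, 2, 1, 0, 2, 1, 3, 2, 1, 0, 2], [1, 3, 2, 1, 0, 2], [1, 0, 2, 1, 0, 2, 3, 2, 1, 0, 2, 1], [0, 2, 1, 0, 2, 3, 2, 1, 0, 2, 1], [1, 0, 2, 1, 0, 2, 1, 3, 2, 1, 0, 2, 1], [3, 2, 1, 0, 2, 1], [0, 2, 1, 0, 2, 1, 3, 2, 1, 0, 2, 1], [1, 3, 2, 1, 0, 2, 1], [2, 1, 2, 3, 2, 1, 0, 2, 1, 2, 3, 2, 1, 0, 2, 1, 2], [0, 1, 2, 1, 0, 2, 1, 2, 3, 2, 1, 2], [2, 1, 0, 2, 3, 2, 1, 0, 2, 1, 2, 3, 2, 1, 0, 2, 1, 2], [1, 0, 2, 3, 2, 1, 2], [0, 1, 2, 1, 0, 2, 1, 2, 3, 2, 1, 0, 2], [1, 0, 2, 3, 2, 1, 0, 2], [1, 2, 1, 2, 3, 2, 1, 0, 2, 1, 2, 3, 2, 1, 0, 2, 1, 2], [0, 1, 0, 2, 1, 0, 2, 1, 2, 3, 2, 1, 2], [1, 2, 1, 0, 2, 3, 2, 1, 0, 2, 1, 2, 3, 2, 1, 0, 2, 1, 2], [0, 2, 3, 2, 1, 2], [0, 1, 0, 2, 1, 0, 2, 1, 2, 3, 2, 1, 0,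 2], [0, 2, 3, 2, 1, 0, 2], [2, 1, 0, 2, 1, 3, 2, 1, 0, 2, 1, 2, 3, 2, 1, 0, 2, 1, 2], [1, 0, 2, 1, 3, 2, 1, 2], [1, 2, 1, 0, 2, 1, 3, 2, 1, 0, 2, 1, 2, 3, 2, 1, 0, 2, 1, 2], [0, 2, 1, 3, 2, 1, 2]]

/-- Words (part). -/
def enumL16 : List (List ℕ) := [[1, 0, 2, 1, 3, 2, 1, 0, 2], [0, 2, 1, 3, 2, 1, 0, 2], [0, 1, 2, 1, 0, 2, 1, 2, 3, 2, 1, 0, 2, 1], [1, 0, 2, 3, 2, 1, 0, 2, 1], [0, 1, 0, 2, 1, 0, 2, 1, 2, 3, 2, 1, 0, 2, 1], [0, 2, 3, 2, 1, 0, 2, 1], [1, 0, 2, 1, 3, 2, 1, 0, 2, 1], [0, 2, 1, 3, 2, 1, 0, 2, 1], [1, 2, 3, 2, 1, 0, 2, 1, 2, 3, 2, 1, 0, 2, 1, 2], [0, 1, 0, 2, 1, 0, 2, 3, 2, 1, 2], [1, 0, 2, 3, 2, 1, 0, 2, 1, 2, 3, 2, 1, 0, 2, 1, 2], [2, 1, 0, 2, 3, 2, 1, 2], [0, 1, 0, 2, 1, 0, 2, 3, 2, 1, 0, 2], [2, 1, 0, 2, 3, 2, 1, 0, 2], [1, 2, 1, 3, 2, 1, 0, 2, 1, 2, 3, 2, 1, 0, 2, 1, 2], [0,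 1, 0, 2, 1, 0, 2, 1, 3, 2, 1, 2], [1, 2, 1, 0, 3, 2, 1, 0, 2, 1, 2, 3, 2, 1, 0, 2, 1, 2], [0, 3, 2, 1, 2], [0, 1, 0, 2, 1, 0, 2, 1, 3, 2, 1, 0, 2], [0, 3, 2, 1, 0, 2], [1, 0, 2, 1, 3, 2, 1, 0, 2, 1, 2, 3, 2, 1, 0, 2, 1, 2], [2, 1, 0, 2, 1, 3, 2, 1, 2], [1, 0, 2, 1, 0, 3, 2, 1, 0, 2, 1, 2, 3, 2, 1, 0, 2, 1, 2], [0, 1, 3, 2, 1, 2], [2, 1, 0, 2, 1, 3, 2, 1, 0, 2], [0, 1, 3, 2, 1, 0, 2], [0, 1, 0, 2, 1, 0, 2, 3, 2, 1, 0, 2, 1], [2, 1, 0, 2, 3, 2, 1, 0, 2, 1], [0, 1, 0, 2, 1, 0, 2, 1, 3, 2, 1, 0, 2, 1], [0, 3, 2, 1, 0, 2, 1], [2, 1, 0, 2, 1, 3, 2, 1, 0, 2, 1], [0, 1, 3, 2, 1, 0, 2, 1], [2, 3, 2, 1, 0, 2, 1, 2, 3, 2, 1, 0, 2, 1, 2], [0, 1, 2, 1, 0, 2, 3, 2, 1, 2], [0, 2, 3, 2, 1, 0, 2, 1, 2, 3, 2, 1, 0, 2, 1, 2], [1, 2, 1, 0, 2, 3, 2, 1, 2], [0, 1, 2, 1, 0, 2, 3, 2, 1, 0, 2], [1, 2, 1, 0, 2, 3,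 2, 1, 0, 2], [2, 1, 3, 2, 1, 0, 2, 1, 2, 3, 2, 1, 0, 2, 1, 2], [0, 1, 2, 1, 0, 2, 1, 3, 2, 1, 2], [2, 1, 0, 3, 2, 1, 0, 2, 1, 2, 3, 2, 1, 0, 2, 1, 2], [1, 0, 3, 2, 1, 2], [0, 1, 2, 1, 0, 2, 1, 3, 2, 1, 0, 2], [1, 0, 3, 2, 1, 0, 2], [0, 2, 1, 3, 2, 1, 0, 2, 1, 2, 3, 2, 1, 0, 2, 1, 2], [1, 2, 1, 0, 2, 1, 3, 2, 1, 2], [0, 2, 1, 0, 3, 2, 1, 0, 2, 1, 2, 3, 2, 1, 0, 2, 1, 2], [0, 1, 0, 3, 2, 1, 2], [1, 2, 1, 0, 2, 1, 3, 2, 1, 0, 2], [0, 1, 0, 3, 2, 1, 0, 2], [0, 1, 2, 1, 0, 2, 3, 2, 1, 0, 2, 1], [1, 2, 1, 0, 2, 3, 2, 1, 0, 2, 1], [0, 1, 2, 1, 0, 2, 1, 3, 2, 1, 0, 2, 1], [1, 0, 3, 2, 1, 0, 2, 1], [1, 2, 1, 0, 2, 1, 3, 2, 1, 0, 2, 1], [0, 1, 0, 3, 2, 1, 0, 2, 1], [1, 0, 2, 1, 2, 3, 2, 1, 0, 2, 1, 2], [0, 2, 1, 2, 3, 2, 1, 0, 2, 1, 2], [0, 1, 0, 2, 1, 2, 3, 2, 1, 0, 2, 1, 2], [2, 1, 2, 3, 2, 1, 0,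 2, 1, 2], [0, 1, 2, 1, 2, 3, 2, 1, 0, 2, 1, 2], [1, 2, 1, 2, 3, 2, 1, 0, 2, 1, 2], [1, 0, 2, 1, 0, 2, 3, 2, 1, 0, 2, 1, 2], [0, 2, 1, 0, 2, 3, 2, 1, 0, 2, 1, 2]]

/-- Words (part). -/
def enumL17 : List (List ℕ) := [[1, 0, 2, 1, 0, 2, 1, 3, 2, 1, 0, 2, 1, 2], [3, 2, 1, 0, 2, 1, 2], [0, 2, 1, 0, 2, 1, 3, 2, 1, 0, 2, 1, 2], [1, 3, 2, 1, 0, 2, 1, 2], [0, 1, 0, 2, 1, 0, 2, 3, 2, 1, 0, 2, 1, 2], [2, 1, 0, 2, 3, 2, 1, 0, 2, 1, 2], [0, 1, 0, 2, 1, 0, 2, 1, 3, 2, 1, 0, 2, 1, 2], [0, 3, 2, 1, 0, 2, 1, 2], [2, 1, 0, 2, 1, 3, 2, 1, 0, 2, 1, 2], [0, 1, 3, 2, 1, 0, 2, 1, 2], [0, 1, 2, 1, 0, 2, 3, 2, 1, 0, 2, 1, 2], [1, 2, 1, 0, 2, 3, 2, 1, 0, 2, 1, 2], [0, 1, 2, 1, 0, 2, 1, 3, 2, 1, 0, 2, 1, 2], [1, 0, 3, 2, 1, 0, 2, 1, 2], [1, 2, 1, 0, 2, 1, 3, 2, 1, 0, 2, 1, 2], [0, 1, 0, 3, 2, 1, 0, 2, 1, 2], [3, 2,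 1, 0, 2, 1, 2, 3, 2, 1, 0, 2, 1, 2], [0, 1, 2, 1, 0, 3, 2, 1, 2], [0, 3, 2, 1, 0, 2, 1, 2, 3, 2, 1, 0, 2, 1, 2], [1, 2, 1, 0, 3, 2, 1, 2], [0, 1, 2, 1, 0, 3, 2, 1, 0, 2], [1, 2, 1, 0, 3, 2, 1, 0, 2], [1, 3, 2, 1, 0, 2, 1, 2, 3, 2, 1, 0, 2, 1, 2], [0, 1, 0, 2, 1, 0, 3, 2, 1, 2], [1, 0, 3, 2, 1, 0, 2, 1, 2, 3, 2, 1, 0, 2, 1, 2], [2, 1, 0, 3, 2, 1, 2], [0, 1, 0, 2, 1, 0, 3, 2, 1, 0, 2], [2, 1, 0, 3, 2, 1, 0, 2], [0, 1, 3, 2, 1, 0, 2, 1, 2, 3, 2, 1, 0, 2, 1, 2], [1, 0, 2, 1, 0, 3, 2, 1, 2], [0, 1, 0, 3, 2, 1, 0, 2, 1, 2, 3, 2, 1, 0, 2, 1, 2], [0, 2, 1, 0, 3, 2, 1, 2], [1, 0, 2, 1, 0, 3, 2, 1, 0, 2], [0, 2, 1, 0, 3, 2, 1, 0, 2], [0, 1, 2, 1, 0, 3, 2, 1, 0, 2, 1], [1, 2, 1, 0, 3, 2, 1, 0, 2, 1], [0, 1, 0, 2, 1, 0, 3, 2, 1, 0, 2, 1], [2, 1, 0, 3, 2, 1, 0, 2, 1], [1, 0, 2, 1, 0, 3, 2, 1, 0, 2, 1],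 [0, 2, 1, 0, 3, 2, 1, 0, 2, 1], [2, 1, 0, 2, 1, 2, 3, 2, 1, 0, 2, 1, 2], [0, 1, 2, 3, 2, 1, 0, 2, 1, 2], [0, 2, 1, 0, 2, 1, 2, 3, 2, 1, 0, 2, 1, 2], [1, 2, 3, 2, 1, 0, 2, 1, 2], [0, 1, 2, 1, 3, 2, 1, 0, 2, 1, 2], [1, 2, 1, 3, 2, 1, 0, 2, 1, 2], [1, 2, 1, 0, 2, 1, 2, 3, 2, 1, 0, 2, 1, 2], [0, 1, 0, 2, 3, 2, 1, 0, 2, 1, 2], [1, 0, 2, 1, 0, 2, 1, 2, 3, 2, 1, 0, 2, 1, 2], [2, 3, 2, 1, 0, 2, 1, 2], [0, 1, 0, 2, 1, 3, 2, 1, 0, 2, 1, 2], [2, 1, 3, 2, 1, 0, 2, 1, 2], [0, 1, 2, 1, 0, 2, 1, 2, 3, 2, 1, 0, 2, 1, 2], [1, 0, 2, 3, 2, 1, 0, 2, 1, 2], [0, 1, 0, 2, 1, 0, 2, 1, 2, 3, 2, 1, 0, 2, 1, 2], [0, 2, 3, 2, 1, 0, 2, 1, 2], [1, 0, 2, 1, 3, 2, 1, 0, 2, 1, 2], [0, 2, 1, 3, 2, 1, 0, 2, 1, 2], [0, 1, 2, 1, 0, 3, 2, 1, 0, 2, 1, 2], [1, 2, 1, 0, 3, 2, 1, 0, 2, 1, 2], [0, 1, 0, 2, 1, 0, 3, 2, 1, 0, 2, 1,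 2], [2, 1, 0, 3, 2, 1, 0, 2, 1, 2], [1, 0, 2, 1, 0, 3, 2, 1, 0, 2, 1, 2], [0, 2, 1, 0, 3, 2, 1, 0, 2, 1, 2]]

/-- Words. -/
def enumL : List (List ℕ) := enumL0 ++ enumL1 ++ enumL2 ++ enumL3 ++ enumL4 ++ enumL5 ++ enumL6 ++ enumL7 ++ enumL8 ++ enumL9 ++ enumL10 ++ enumL11 ++ enumL12 ++ enumL13 ++ enumL14 ++ enumL15 ++ enumL16 ++ enumL17

/-- Keys (part). -/
def enumTr0000 : KTree := .node (.node (.node (.node (.node (.node (.node .leaf 3544004832773 .leaf) 3544004834053 .leaf) 3544139045125 (.node .leaf 3544139049989 .leaf)) 3544239707141 (.node (.node (.node .leaf 3544239708933 .leaf) 3548182556421 .leaf) 3548182557957 (.node .leaf 3548417431557 .leaf))) 3548417436677 (.node (.node (.node (.node .leaf 3548501316101 .leaf) 3548501318405 .leaf) 3560933762821 (.node .leaf 3560933766405 .leaf))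 3560950538245 (.node (.node .leaf 3560950543109 .leaf) 3561269301765 (.node .leaf 3561269302277 .leaf)))) 3586603296517 (.node (.node (.node (.node (.node .leaf 3586603298565 .leaf) 3586636849157 .leaf) 3586636852741 (.node .leaf 3586754287621 .leaf)) 3586754287877 (.node (.node .leaf 4579091885584 .leaf) 4579091889936 (.node .leaf 4579226097936 .leaf))) 4579226106896 (.node (.node (.node (.node .leaf 4579528083472 .leaf) 4579528084240 .leaf) 4583269609232 (.node .leaf 4583269613840 .leaf)) 4583504484368 (.node (.node .leaf 4583504493584 .leaf) 4583789692432 (.node .leaf 4583789693712 .leaf))))) 4613200684816 (.node (.node (.node (.node (.node (.node .leaf 4613200691472 .leaf) 4613217460240 .leaf) 4613217468176 (.node .leaf 4613804656144 .leaf)) 4613804656656 (.node (.node .leaf 4690209285904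 .leaf) 4690209287952 (.node .leaf 4690242838544 .leaf))) 4690242842128 (.node (.node (.node (.node .leaf 4690293168144 .leaf) 4690293168400 .leaf) 5738816876035 (.node .leaf 5738816876291 .leaf)) 5738934311171 (.node (.node .leaf 5738934314755 .leaf) 5738967865347 (.node .leaf 5738967867395 .leaf)))) 5751417156355 (.node (.node (.node (.node (.node .leaf 5751417156867 .leaf) 5751735915523 .leaf) 5751735920387 (.node .leaf 5751752692227 .leaf)) 5751752695811 (.node (.node .leaf 5764185074691 .leaf) 5764185076995 (.node .leaf 5764268956419 .leaf))) 5764268961539 (.node (.node (.node (.node .leaf 5764503835139 .leaf) 5764503836675 .leaf) 5772741585923 (.node .leaf 5772741587715 .leaf)) 5772842244867 (.node (.node .leaf 5772842249731 .leaf) 5772976460803 (.node .leaf 5772976462083 .leaf)))))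

/-- Keys (part). -/
def enumTr0001 : KTree := .node (.node (.node (.node (.node (.node (.node .leaf 7821875887889 .leaf) 7821993318673 .leaf) 7821993327633 (.node .leaf 7822295304209 .leaf)) 7822295304977 (.node (.node .leaf 7868835902225 .leaf) 7868835906833 (.node .leaf 7869154661393 .leaf))) 7869154671633 (.node (.node (.node (.node .leaf 7869439869457 .leaf) 7869439871761 .leaf) 7903078657041 (.node .leaf 7903078663441 .leaf)) 7903162538769 (.node (.node .leaf 7903162547985 .leaf) 7903749734929 (.node .leaf 7903749736465 .leaf)))) 7980087258129 (.node (.node (.node (.node (.node .leaf 7980087259921 .leaf) 7980187917073 .leaf) 7980187921937 (.node .leaf 7980238246929 .leaf)) 7980238248209 (.node (.node .leaf 10016603975443 .leaf) 10016603980051 (.node .leaf 10016754964499 .leaf))) 10016754973715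 (.node (.node (.node (.node .leaf 10017040172563 .leaf) 10017040173843 .leaf) 10054974190867 (.node .leaf 10054974195219 .leaf)) 10055309726227 (.node (.node .leaf 10055309736979 .leaf) 10055611711763 (.node .leaf 10055611714323 .leaf))))) 10102068358163 (.node (.node (.node (.node (.node (.node .leaf 10102068364819 .leaf) 10102169017107 .leaf) 10102169026835 (.node .leaf 10102772990227 .leaf)) 10102772991507 (.node (.node .leaf 10179093736467 .leaf) 10179093738771 (.node .leaf 10179177618195 .leaf))) 10179177623315 (.node (.node (.node (.node .leaf 10179261501971 .leaf) 10179261503507 .leaf) 11128916423446 (.node .leaf 11128916428054 .leaf)) 11129151296534 (.node (.node .leaf 11129151306774 .leaf) 11129436504598 (.node .leaf 11129436506902 .leaf)))) 11141683950870 (.node (.node (.node (.node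 (.node .leaf 11141683955222 .leaf) 11142002709014 .leaf) 11142002719766 (.node .leaf 11142304694550 .leaf)) 11142304697110 (.node (.node .leaf 11210169788182 .leaf) 11210169796118 (.node .leaf 11210203340822 .leaf))) 11210203350294 (.node (.node (.node (.node .leaf 11210874421526 .leaf) 11210874421782 .leaf) 11287195166486 (.node .leaf 11287195170070 .leaf)) 11287211941910 (.node (.node .leaf 11287211946774 .leaf) 11287362933270 (.node .leaf 11287362933782 .leaf)))))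

/-- Keys (part). -/
def enumTr000 : KTree := .node enumTr0000 7821875883537 enumTr0001

/-- Keys (part). -/
def enumTr0010 : KTree := .node (.node (.node (.node (.node (.node (.node .leaf 13285191008538 .leaf) 13285224554522 .leaf) 13285224562458 (.node .leaf 13285526537754 .leaf)) 13285526538266 (.node (.node .leaf 13353391633690 .leaf) 13353391638298 (.node .leaf 13353710391834 .leaf))) 13353710403354 (.node (.node (.node (.node .leaf 13354146594842 .leaf) 13354146596890 .leaf) 13366243046170 (.node .leaf 13366243051290 .leaf)) 13366477919258 (.node (.node .leaf 13366477930778 .leaf) 13366998007834 (.node .leaf 13366998009370 .leaf)))) 13477611844378 (.node (.node (.node (.node (.node .leaf 13477611844890 .leaf) 13477712499738 .leaf) 13477712504602 (.node .leaf 13477746053658 .leaf)) 13477746057242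 (.node (.node .leaf 14393225325598 .leaf) 14393225331998 (.node .leaf 14393325984542 .leaf))) 14393325993758 (.node (.node (.node (.node .leaf 14393627968030 .leaf) 14393627969566 .leaf) 14440084616478 (.node .leaf 14440084621086 .leaf)) 14440420151838 (.node (.node .leaf 14440420163358 .leaf) 14440839577630 (.node .leaf 14440839579678 .leaf))))) 14478639378206 (.node (.node (.node (.node (.node (.node .leaf 14478639384350 .leaf) 14478790367262 .leaf) 14478790378782 (.node .leaf 14479394340894 .leaf)) 14479394341406 (.node (.node .leaf 14585713274654 .leaf) 14585713276190 (.node .leaf 14585746823198 .leaf))) 14585746828318 (.node (.node (.node (.node .leaf 14585847484958 .leaf) 14585847487262 .leaf) 15492720176161 (.node .leaf 15492720182817 .leaf)) 15492804057889 (.node (.node .leaf 15492804067617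 .leaf) 15493139595553 (.node .leaf 15493139596833 .leaf)))) 15526728053537 (.node (.node (.node (.node (.node .leaf 15526728058657 .leaf) 15527046812705 .leaf) 15527046824225 (.node .leaf 15527483015201 .leaf)) 15527483016737 (.node (.node .leaf 15573889396257 .leaf) 15573889402657 (.node .leaf 15574006831393 .leaf))) 15574006842913 (.node (.node (.node (.node .leaf 15574644359201 .leaf) 15574644359457 .leaf) 15685224902177 (.node .leaf 15685224903457 .leaf)) 15685241674017 (.node (.node .leaf 15685241678881 .leaf) 15685325558817 (.node .leaf 15685325560609 .leaf)))))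

/-- Keys (part). -/
def enumTr0011 : KTree := .node (.node (.node (.node (.node (.node (.node .leaf 16583642007075 .leaf) 16583658774563 .leaf) 16583658784035 (.node .leaf 16584061419811 .leaf)) 16584061420067 (.node (.node .leaf 16613354975011 .leaf) 16613354981155 (.node .leaf 16613589850147 .leaf))) 16613589861667 (.node (.node (.node (.node .leaf 16614109937699 .leaf) 16614109938211 .leaf) 16617633361443 (.node .leaf 16617633367843 .leaf)) 16617767573795 (.node (.node .leaf 16617767585315 .leaf) 16618388324387 (.node .leaf 16618388324643 .leaf)))) 16776146726435 (.node (.node (.node (.node (.node .leaf 16776146726691 .leaf) 16776163498275 .leaf) 16776163501859 (.node .leaf 16776180275235 .leaf)) 16776180277283 (.node (.node .leaf 17657619492356 .leaf) 17657619492612 (.node .leaf 17657669818628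 .leaf))) 17657669822212 (.node (.node (.node (.node .leaf 17657703372804 .leaf) 17657703374852 .leaf) 17785648004868 (.node .leaf 17785648005380 .leaf)) 17786235193348 (.node (.node .leaf 17786235201284 .leaf) 17786251970052 (.node .leaf 17786251976708 .leaf))))) 17815662640132 (.node (.node (.node (.node (.node (.node .leaf 17815662641412 .leaf) 17815947840260 .leaf) 17815947849476 (.node .leaf 17816182720004 .leaf)) 17816182724612 (.node (.node .leaf 17824219151364 .leaf) 17824219152132 (.node .leaf 17824521128708 .leaf))) 17824521137668 (.node (.node (.node (.node .leaf 17824655345668 .leaf) 17824655350020 .leaf) 18752836021767 (.node .leaf 18752836023047 .leaf)) 18752886348039 (.node (.node .leaf 18752886352903 .leaf) 18752987010055 (.node .leaf 18752987011847 .leaf)))) 18867979697927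 (.node (.node (.node (.node (.node .leaf 18867979699463 .leaf) 18868566886407 .leaf) 18868566895623 (.node .leaf 18868650770951 .leaf)) 18868650777351 (.node (.node .leaf 18902289300487 .leaf) 18902289302791 (.node .leaf 18902574500615 .leaf))) 18902574510855 (.node (.node (.node (.node .leaf 18902893265415 .leaf) 18902893270023 .leaf) 18927958834183 (.node .leaf 18927958834951 .leaf)) 18928260811527 (.node (.node .leaf 18928260820487 .leaf) 18928378251271 (.node .leaf 18928378255623 .leaf)))))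

/-- Keys (part). -/
def enumTr001 : KTree := .node enumTr0010 16583641999139 enumTr0011

/-- Keys (part). -/
def enumTr00 : KTree := .node enumTr000 13285191001882 enumTr001

/-- Keys (part). -/
def enumTr0100 : KTree := .node (.node (.node (.node (.node (.node (.node .leaf 20947564115209 .leaf) 20947647993865 .leaf) 20947647998985 (.node .leaf 20947731878409 .leaf)) 20947731880713 (.node (.node .leaf 21054117986569 .leaf) 21054117987849 (.node .leaf 21054721951241 .leaf))) 21054721960969 (.node (.node (.node (.node .leaf 21054822613257 .leaf) 21054822619913 .leaf) 21101279001609 (.node .leaf 21101279004169 .leaf)) 21101580978953 (.node (.node .leaf 21101580989705 .leaf) 21101916520713 (.node .leaf 21101916525065 .leaf)))) 21126965312521 (.node (.node (.node (.node (.node .leaf 21126965313801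 .leaf) 21127250512649 .leaf) 21127250521865 (.node .leaf 21127401506313 .leaf)) 21127401510921 (.node (.node .leaf 23219248381719 .leaf) 23219248383255 (.node .leaf 23219684575255 .leaf))) 23219684584471 (.node (.node (.node (.node .leaf 23219768459799 .leaf) 23219768466199 .leaf) 23232015909143 (.node .leaf 23232015910423 .leaf)) 23232535987735 (.node (.node .leaf 23232535997463 .leaf) 23232636649751 (.node .leaf 23232636656407 .leaf))))) 23351841072919 (.node (.node (.node (.node (.node (.node .leaf 23351841080855 .leaf) 23351874625559 .leaf) 23351874635031 (.node .leaf 23352478597399 .leaf)) 23352478597655 (.node (.node .leaf 23377527383831 .leaf) 23377527390487 (.node .leaf 23377544159255 .leaf))) 23377544167191 (.node (.node (.node (.node .leaf 23377963582999 .leaf) 23377963583511 .leaf)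 24241803768586 (.node .leaf 24241803769098 .leaf)) 24241954755594 (.node (.node .leaf 24241954760458 .leaf) 24241971532298 (.node .leaf 24241971535882 .leaf)))) 24344062870794 (.node (.node (.node (.node (.node .leaf 24344062871050 .leaf) 24344733942282 .leaf) 24344733951754 (.node .leaf 24344767496458 .leaf)) 24344767504394 (.node (.node .leaf 24412631743498 .leaf) 24412631746058 (.node .leaf 24412933720842 .leaf))) 24412933731594 (.node (.node (.node (.node .leaf 24413252485386 .leaf) 24413252489738 .leaf) 24421205031946 (.node .leaf 24421205034250 .leaf)) 24421490232074 (.node (.node .leaf 24421490242314 .leaf) 24421725110794 (.node .leaf 24421725115402 .leaf)))))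

/-- Keys (part). -/
def enumTr0101 : KTree := .node (.node (.node (.node (.node (.node (.node .leaf 25401175589141 .leaf) 25401595004949 .leaf) 25401595012885 (.node .leaf 25401611781653 .leaf)) 25401611788309 (.node (.node .leaf 25439545279765 .leaf) 25439545280021 (.node .leaf 25440149242389 .leaf))) 25440149251861 (.node (.node (.node (.node .leaf 25440182796565 .leaf) 25440182804501 .leaf) 25555092384789 (.node .leaf 25555092391445 .leaf)) 25555193043733 (.node (.node .leaf 25555193053461 .leaf) 25555713130773 (.node .leaf 25555713132053 .leaf)))) 25563665673237 (.node (.node (.node (.node (.node .leaf 25563665679637 .leaf) 25563749554965 .leaf) 25563749564181 (.node .leaf 25564185756181 .leaf)) 25564185757717 (.node (.node .leaf 28631310411532 .leaf) 28631310415116 (.node .leaf 28631343964172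 .leaf))) 28631343969036 (.node (.node (.node (.node .leaf 28631444623884 .leaf) 28631444624396 .leaf) 28750649049356 (.node .leaf 28750649050892 .leaf)) 28751169127948 (.node (.node .leaf 28751169139468 .leaf) 28751404007436 (.node .leaf 28751404012556 .leaf))))) 28763500461836 (.node (.node (.node (.node (.node (.node .leaf 28763500463884 .leaf) 28763936655372 .leaf) 28763936666892 (.node .leaf 28764255420428 .leaf)) 28764255425036 (.node (.node .leaf 28823529930508 .leaf) 28823529931020 (.node .leaf 28823831906316 .leaf))) 28823831914252 (.node (.node (.node (.node .leaf 28823865460236 .leaf) 28823865466892 .leaf) 30881604058143 (.node .leaf 30881604060447 .leaf)) 30881906035487 (.node (.node .leaf 30881906045727 .leaf) 30882006696479 (.node .leaf 30882006701087 .leaf)))) 30928463085855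 (.node (.node (.node (.node (.node .leaf 30928463087391 .leaf) 30929067050527 .leaf) 30929067062047 (.node .leaf 30929218043935 .leaf)) 30929218049055 (.node (.node .leaf 31035537043231 .leaf) 31035537049375 (.node .leaf 31035620923423 .leaf))) 31035620934943 (.node (.node (.node (.node .leaf 31036292005919 .leaf) 31036292006431 .leaf) 31074092003103 (.node .leaf 31074092007711 .leaf)) 31074125551647 (.node (.node .leaf 31074125560863 .leaf) 31074427536927 (.node .leaf 31074427538207 .leaf)))))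

/-- Keys (part). -/
def enumTr010 : KTree := .node enumTr0100 25401175588629 enumTr0101

/-- Keys (part). -/
def enumTr0110 : KTree := .node (.node (.node (.node (.node (.node (.node .leaf 31981098911266 .leaf) 31981384108834 .leaf) 31981384119586 (.node .leaf 31981518324002 .leaf)) 31981518328354 (.node (.node .leaf 32015106522914 .leaf) 32015106524962 (.node .leaf 32015693711394 .leaf))) 32015693722914 (.node (.node (.node (.node .leaf 32015861481506 .leaf) 32015861486114 .leaf) 32130787061282 (.node .leaf 32130787067682 .leaf)) 32130837387554 (.node (.node .leaf 32130837399074 .leaf) 32131542024226 (.node .leaf 32131542024482 .leaf)))) 32173603630626 (.node (.node (.node (.node (.node .leaf 32173603634978 .leaf) 32173620402466 .leaf) 32173620411426 (.node .leaf 32173905610786 .leaf))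 32173905611554 (.node (.node .leaf 33025061760013 .leaf) 33025061762317 (.node .leaf 33025162418957 .leaf))) 33025162424077 (.node (.node (.node (.node .leaf 33025195971085 .leaf) 33025195972621 .leaf) 33140105561357 (.node .leaf 33140105561869 .leaf)) 33140709523981 (.node (.node .leaf 33140709535501 .leaf) 33140860518413 (.node .leaf 33140860524557 .leaf))))) 33178659798797 (.node (.node (.node (.node (.node (.node .leaf 33178659800845 .leaf) 33179079215117 .leaf) 33179079226637 (.node .leaf 33179414757389 .leaf)) 33179414761997 (.node (.node .leaf 33217281277709 .leaf) 33217281279245 (.node .leaf 33217583253517 .leaf))) 33217583262733 (.node (.node (.node (.node .leaf 33217683915277 .leaf) 33217683921677 .leaf) 34167321082908 (.node .leaf 34167321084188 .leaf)) 34167623060252 (.node (.node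 .leaf 34167623069468 .leaf) 34167656613404 (.node .leaf 34167656618012 .leaf)))) 34235520861468 (.node (.node (.node (.node (.node .leaf 34235520861980 .leaf) 34236191932956 .leaf) 34236191944476 (.node .leaf 34236275818524 .leaf)) 34236275824668 (.node (.node .leaf 34338300048156 .leaf) 34338300053276 (.node .leaf 34338451035164 .leaf))) 34338451046684 (.node (.node (.node (.node .leaf 34339055009820 .leaf) 34339055011356 .leaf) 34359741920028 (.node .leaf 34359741924636 .leaf)) 34359842575388 (.node (.node .leaf 34359842585628 .leaf) 34360144560668 (.node .leaf 34360144562972 .leaf)))))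

/-- Keys (part). -/
def enumTr0111 : KTree := .node (.node (.node (.node (.node (.node (.node .leaf 36315040133902 .leaf) 36315124013838 .leaf) 36315124018702 (.node .leaf 36315140789262 .leaf)) 36315140790542 (.node (.node .leaf 36438606890510 .leaf) 36438606890766 (.node .leaf 36439244407054 .leaf))) 36439244418574 (.node (.node (.node (.node .leaf 36439361847310 .leaf) 36439361853710 .leaf) 36477177905422 (.node .leaf 36477177906958 .leaf)) 36477614097934 (.node (.node .leaf 36477614109454 .leaf) 36477932863502 (.node .leaf 36477932868622 .leaf)))) 36507226095886 (.node (.node (.node (.node (.node .leaf 36507226097166 .leaf) 36507561625102 .leaf) 36507561634830 (.node .leaf 36507645509902 .leaf)) 36507645516558 (.node (.node .leaf 37457299455005 .leaf) 37457299455773 (.node .leaf 37457584655133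 .leaf))) 37457584664093 (.node (.node (.node (.node .leaf 37457601431581 .leaf) 37457601435933 .leaf) 37534022190621 (.node .leaf 37534022190877 .leaf)) 37534726816029 (.node (.node .leaf 37534726827549 .leaf) 37534777147421 (.node .leaf 37534777153821 .leaf))))) 37636818154781 (.node (.node (.node (.node (.node (.node .leaf 37636818159389 .leaf) 37636985917981 .leaf) 37636985929501 (.node .leaf 37637573115933 .leaf)) 37637573117981 (.node (.node .leaf 37649686738205 .leaf) 37649686742557 (.node .leaf 37649820946973 .leaf))) 37649820957725 (.node (.node (.node (.node .leaf 37650106155293 .leaf) 37650106157853 .leaf) 38501245527823 (.node .leaf 38501245529871 .leaf)) 38501262303247 (.node (.node .leaf 38501262306831 .leaf) 38501279078415 (.node .leaf 38501279078671 .leaf)))) 38646153037327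 (.node (.node (.node (.node (.node .leaf 38646153037583 .leaf) 38646773776655 .leaf) 38646773788175 (.node .leaf 38646907994127 .leaf)) 38646908000527 (.node (.node .leaf 38659021227279 .leaf) 38659021227791 (.node .leaf 38659541303823 .leaf))) 38659541315343 (.node (.node (.node (.node .leaf 38659776184335 .leaf) 38659776190479 .leaf) 38693364385039 (.node .leaf 38693364385295 .leaf)) 38693767021071 (.node (.node .leaf 38693767030543 .leaf) 38693783798031 (.node .leaf 38693783805967 .leaf)))))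

/-- Keys (part). -/
def enumTr011 : KTree := .node enumTr0110 36315040132110 enumTr0111

/-- Keys (part). -/
def enumTr01 : KTree := .node enumTr010 31981098908706 enumTr011

/-- Keys (part). -/
def enumTr0 : KTree := .node enumTr00 20947564113673 enumTr01

/-- Keys (part). -/
def enumTr1000 : KTree := .node (.node (.node (.node (.node (.node (.node .leaf 39596461469496 .leaf) 39596478242872 .leaf) 39596478246456 (.node .leaf 39596495018040 .leaf)) 39596495018296 (.node (.node .leaf 39741368714808 .leaf) 39741368715064 (.node .leaf 39741989454136 .leaf))) 39741989465656 (.node (.node (.node (.node .leaf 39742123671608 .leaf) 39742123678008 .leaf) 39754236904760 (.node .leaf 39754236905272 .leaf)) 39754756981304 (.node (.node .leaf 39754756992824 .leaf) 39754991861816 (.node .leaf 39754991867960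 .leaf)))) 39788580324664 (.node (.node (.node (.node (.node .leaf 39788580324920 .leaf) 39788982960696 .leaf) 39788982970168 (.node .leaf 39788999737656 .leaf)) 39788999745592 (.node (.node .leaf 40751539174442 .leaf) 40751539175210 (.node .leaf 40751824374570 .leaf))) 40751824383530 (.node (.node (.node (.node .leaf 40751841151018 .leaf) 40751841155370 .leaf) 40823967073834 (.node .leaf 40823967074090 .leaf)) 40824671699242 (.node (.node .leaf 40824671710762 .leaf) 40824722030634 (.node .leaf 40824722037034 .leaf))))) 40931057808682 (.node (.node (.node (.node (.node (.node .leaf 40931057813290 .leaf) 40931225571882 .leaf) 40931225583402 (.node .leaf 40931812769834 .leaf)) 40931812771882 (.node (.node .leaf 40943926457642 .leaf) 40943926461994 (.node .leaf 40944060666410 .leaf))) 40944060677162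 (.node (.node (.node (.node .leaf 40944345874730 .leaf) 40944345877290 .leaf) 41804007418937 (.node .leaf 41804007420729 .leaf)) 41804091300665 (.node (.node .leaf 41804091305529 .leaf) 41804108076089 (.node .leaf 41804108077369 .leaf)))) 41927573325369 (.node (.node (.node (.node (.node .leaf 41927573325625 .leaf) 41928210841913 .leaf) 41928210853433 (.node .leaf 41928328282169 .leaf)) 41928328288569 (.node (.node .leaf 41966144864569 .leaf) 41966144866105 (.node .leaf 41966581057081 .leaf))) 41966581068601 (.node (.node (.node (.node .leaf 41966899822649 .leaf) 41966899827769 .leaf) 41996193382713 (.node .leaf 41996193383993 .leaf)) 41996528911929 (.node (.node .leaf 41996528921657 .leaf) 41996612796729 (.node .leaf 41996612803385 .leaf)))))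

/-- Keys (part). -/
def enumTr1001 : KTree := .node (.node (.node (.node (.node (.node (.node .leaf 44050040504619 .leaf) 44050342480683 .leaf) 44050342489899 (.node .leaf 44050376033835 .leaf)) 44050376038443 (.node (.node .leaf 44109650543915 .leaf) 44109650544427 (.node .leaf 44110321615403 .leaf))) 44110321626923 (.node (.node (.node (.node .leaf 44110405500971 .leaf) 44110405507115 .leaf) 44225314304811 (.node .leaf 44225314309931 .leaf)) 44225465291819 (.node (.node .leaf 44225465303339 .leaf) 44226069266475 (.node .leaf 44226069268011 .leaf)))) 44242461340459 (.node (.node (.node (.node (.node .leaf 44242461345067 .leaf) 44242561995819 .leaf) 44242562006059 (.node .leaf 44242863981099 .leaf)) 44242863983403 (.node (.node .leaf 45102508747834 .leaf) 45102508750138 (.node .leaf 45102609406778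 .leaf))) 45102609411898 (.node (.node (.node (.node .leaf 45102642958906 .leaf) 45102642960442 .leaf) 45213256795450 (.node .leaf 45213256795962 .leaf)) 45213860758074 (.node (.node .leaf 45213860769594 .leaf) 45214011752506 (.node .leaf 45214011758650 .leaf))))) 45260401360698 (.node (.node (.node (.node (.node (.node .leaf 45260401362746 .leaf) 45260820777018 .leaf) 45260820788538 (.node .leaf 45261156319290 .leaf)) 45261156323898 (.node (.node .leaf 45294728265530 .leaf) 45294728267066 (.node .leaf 45295030241338 .leaf))) 45295030250554 (.node (.node (.node (.node .leaf 45295130903098 .leaf) 45295130909498 .leaf) 46261865102373 (.node .leaf 46261865104933 .leaf)) 46262150302501 (.node (.node .leaf 46262150313253 .leaf) 46262284517669 (.node .leaf 46262284522021 .leaf)))) 46291577749285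 (.node (.node (.node (.node (.node .leaf 46291577751333 .leaf) 46292164937765 .leaf) 46292164949285 (.node .leaf 46292332707877 .leaf)) 46292332712485 (.node (.node .leaf 46420143124005 .leaf) 46420143130405 (.node .leaf 46420193450277 .leaf))) 46420193461797 (.node (.node (.node (.node .leaf 46420898086949 .leaf) 46420898087205 .leaf) 46454369824293 (.node .leaf 46454369828645 .leaf)) 46454386596133 (.node (.node .leaf 46454386605093 .leaf) 46454671804453 (.node .leaf 46454671805221 .leaf)))))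

/-- Keys (part). -/
def enumTr100 : KTree := .node enumTr1000 44050040503339 enumTr1001

/-- Keys (part). -/
def enumTr1010 : KTree := .node (.node (.node (.node (.node (.node (.node .leaf 47352803444008 .leaf) 47353105419048 .leaf) 47353105429288 (.node .leaf 47353206080040 .leaf)) 47353206084648 (.node (.node .leaf 47391072600360 .leaf) 47391072601896 (.node .leaf 47391676565032 .leaf))) 47391676576552 (.node (.node (.node (.node .leaf 47391827558440 .leaf) 47391827563560 .leaf) 47519621197608 (.node .leaf 47519621203752 .leaf)) 47519705077800 (.node (.node .leaf 47519705089320 .leaf) 47520376160296 (.node .leaf 47520376160808 .leaf)))) 47545291386664 (.node (.node (.node (.node (.node .leaf 47545291391272 .leaf) 47545324935208 .leaf) 47545324944424 (.node .leaf 47545626920488 .leaf))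 47545626921768 (.node (.node .leaf 49491965454139 .leaf) 49491965457723 (.node .leaf 49491999006779 .leaf))) 49491999011643 (.node (.node (.node (.node .leaf 49492099666491 .leaf) 49492099667003 .leaf) 49598418600251 (.node .leaf 49598418601787 .leaf)) 49598938678843 (.node (.node .leaf 49598938690363 .leaf) 49599173558331 (.node .leaf 49599173563451 .leaf))))) 49602680209211 (.node (.node (.node (.node (.node (.node .leaf 49602680211259 .leaf) 49603116402747 .leaf) 49603116414267 (.node .leaf 49603435167803 .leaf)) 49603435172411 (.node (.node .leaf 49684184973115 .leaf) 49684184973627 (.node .leaf 49684486948923 .leaf))) 49684486956859 (.node (.node (.node (.node .leaf 49684520502843 .leaf) 49684520509499 .leaf) 52846016085810 (.node .leaf 52846016086322 .leaf)) 52846435502130 (.node (.node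 .leaf 52846435510066 .leaf) 52846452278834 (.node .leaf 52846452285490 .leaf)))) 52871501071666 (.node (.node (.node (.node (.node .leaf 52871501071922 .leaf) 52872105034290 .leaf) 52872105043762 (.node .leaf 52872138588466 .leaf)) 52872138596402 (.node (.node .leaf 53021407325234 .leaf) 53021407331890 (.node .leaf 53021507984178 .leaf))) 53021507993906 (.node (.node (.node (.node .leaf 53022028071218 .leaf) 53022028072498 .leaf) 53025685711922 (.node .leaf 53025685718322 .leaf)) 53025769593650 (.node (.node .leaf 53025769602866 .leaf) 53026205794866 (.node .leaf 53026205796402 .leaf)))))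

/-- Keys (part). -/
def enumTr1011 : KTree := .node (.node (.node (.node (.node (.node (.node .leaf 53898551440701 .leaf) 53898702427197 .leaf) 53898702432061 (.node .leaf 53898719203901 .leaf)) 53898719207485 (.node (.node .leaf 53975039952189 .leaf) 53975039952445 (.node .leaf 53975711023677 .leaf))) 53975711033149 (.node (.node (.node (.node .leaf 53975744577853 .leaf) 53975744585789 .leaf) 54056494382141 (.node .leaf 54056494384701 .leaf)) 54056796359485 (.node (.node .leaf 54056796370237 .leaf) 54057115124029 (.node .leaf 54057115128381 .leaf)))) 54060772768829 (.node (.node (.node (.node (.node .leaf 54060772771133 .leaf) 54061057968957 .leaf) 54061057979197 (.node .leaf 54061292847677 .leaf)) 54061292852285 (.node (.node .leaf 55049250619184 .leaf) 55049250620720 (.node .leaf 55049686812720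 .leaf))) 55049686821936 (.node (.node (.node (.node .leaf 55049770697264 .leaf) 55049770703664 .leaf) 55057723244848 (.node .leaf 55057723246128 .leaf)) 55058243323440 (.node (.node .leaf 55058243333168 .leaf) 55058343985456 (.node .leaf 55058343992112 .leaf))))) 55216202590000 (.node (.node (.node (.node (.node (.node .leaf 55216202597936 .leaf) 55216236142640 .leaf) 55216236152112 (.node .leaf 55216840114480 .leaf)) 55216840114736 (.node (.node .leaf 55229004195632 .leaf) 55229004202288 (.node .leaf 55229020971056 .leaf))) 55229020978992 (.node (.node (.node (.node .leaf 55229440394800 .leaf) 55229440395312 .leaf) 57188496518974 (.node .leaf 57188496520510 .leaf)) 57188580399166 (.node (.node .leaf 57188580404286 .leaf) 57188664283710 (.node .leaf 57188664286014 .leaf)))) 57264985030974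 (.node (.node (.node (.node (.node .leaf 57264985032254 .leaf) 57265588995646 .leaf) 57265589005374 (.node .leaf 57265689657662 .leaf)) 57265689664318 (.node (.node .leaf 57299261602878 .leaf) 57299261605438 (.node .leaf 57299563580222 .leaf))) 57299563590974 (.node (.node (.node (.node .leaf 57299899121982 .leaf) 57299899126334 .leaf) 57346422946878 (.node .leaf 57346422948158 .leaf)) 57346708147006 (.node (.node .leaf 57346708156222 .leaf) 57346859140670 (.node .leaf 57346859145278 .leaf)))))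

/-- Keys (part). -/
def enumTr101 : KTree := .node enumTr1010 53898551440189 enumTr1011

/-- Keys (part). -/
def enumTr10 : KTree := .node enumTr100 47352803441704 enumTr101

/-- Keys (part). -/
def enumTr1100 : KTree := .node (.node (.node (.node (.node (.node (.node .leaf 59387519775552 .leaf) 59387570100544 .leaf) 59387570105408 (.node .leaf 59387670762560 .leaf)) 59387670764352 (.node (.node .leaf 59464008286016 .leaf) 59464008287552 (.node .leaf 59464595474496 .leaf))) 59464595483712 (.node (.node (.node (.node .leaf 59464679359040 .leaf) 59464679365440 .leaf) 59494023248960 (.node .leaf 59494023251264 .leaf)) 59494308449088 (.node (.node .leaf 59494308459328 .leaf) 59494627213888 (.node .leaf 59494627218496 .leaf)))) 59532578012224 (.node (.node (.node (.node (.node .leaf 59532578012992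 .leaf) 59532879989568 .leaf) 59532879998528 (.node .leaf 59532997429312 .leaf)) 59532997433664 (.node (.node .leaf 60495621205571 .leaf) 60495621205827 (.node .leaf 60495671531843 .leaf))) 60495671535427 (.node (.node (.node (.node .leaf 60495705086019 .leaf) 60495705088067 .leaf) 60572109717315 (.node .leaf 60572109717827 .leaf)) 60572696905795 (.node (.node .leaf 60572696913731 .leaf) 60572713682499 (.node .leaf 60572713689155 .leaf))))) 60606419582019 (.node (.node (.node (.node (.node (.node .leaf 60606419583299 .leaf) 60606704782147 .leaf) 60606704791363 (.node .leaf 60606939661891 .leaf)) 60606939666499 (.node (.node .leaf 60619270995011 .leaf) 60619270995779 (.node .leaf 60619572972355 .leaf))) 60619572981315 (.node (.node (.node (.node .leaf 60619707189315 .leaf) 60619707193667 .leaf)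 61616374032164 (.node .leaf 61616374040100 .leaf)) 61616390807588 (.node (.node .leaf 61616390817060 .leaf) 61616793452836 (.node .leaf 61616793453092 .leaf)))) 61628907138852 (.node (.node (.node (.node (.node .leaf 61628907144996 .leaf) 61629142013988 .leaf) 61629142025508 (.node .leaf 61629662101540 .leaf)) 61629662102052 (.node (.node .leaf 61633185525284 .leaf) 61633185531684 (.node .leaf 61633319737636 .leaf))) 61633319749156 (.node (.node (.node (.node .leaf 61633940488228 .leaf) 61633940488484 .leaf) 61808878759460 (.node .leaf 61808878759716 .leaf)) 61808895531300 (.node (.node .leaf 61808895534884 .leaf) 61808912308260 (.node .leaf 61808912310308 .leaf)))))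

/-- Keys (part). -/
def enumTr1101 : KTree := .node (.node (.node (.node (.node (.node (.node .leaf 62711590503974 .leaf) 62711674379046 .leaf) 62711674388774 (.node .leaf 62712009916710 .leaf)) 62712009917990 (.node (.node .leaf 62724123538214 .leaf) 62724123543334 (.node .leaf 62724442297382 .leaf))) 62724442308902 (.node (.node (.node (.node .leaf 62724878499878 .leaf) 62724878501414 .leaf) 62736925142566 (.node .leaf 62736925148966 .leaf)) 62737042577702 (.node (.node .leaf 62737042589222 .leaf) 62737680105510 (.node .leaf 62737680105766 .leaf)))) 62904095223334 (.node (.node (.node (.node (.node .leaf 62904095224614 .leaf) 62904111995174 .leaf) 62904112000038 (.node .leaf 62904195879974 .leaf)) 62904195881766 (.node (.node .leaf 63802528836649 .leaf) 63802528843049 (.node .leaf 63802629495593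 .leaf))) 63802629504809 (.node (.node (.node (.node .leaf 63802931479081 .leaf) 63802931480617 .leaf) 63823618389289 (.node .leaf 63823618393897 .leaf)) 63823953924649 (.node (.node .leaf 63823953936169 .leaf) 63824373350441 (.node .leaf 63824373352489 .leaf))))) 63836403216169 (.node (.node (.node (.node (.node (.node .leaf 63836403222313 .leaf) 63836554205225 .leaf) 63836554216745 (.node .leaf 63837158178857 .leaf)) 63837158179369 (.node (.node .leaf 63995016785705 .leaf) 63995016787241 (.node .leaf 63995050334249 .leaf))) 63995050339369 (.node (.node (.node (.node .leaf 63995150996009 .leaf) 63995150998313 .leaf) 64889222604589 (.node .leaf 64889222611245 .leaf)) 64889256157229 (.node (.node .leaf 64889256165165 .leaf) 64889558140461 (.node .leaf 64889558140973 .leaf)))) 64927358137645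 (.node (.node (.node (.node (.node .leaf 64927358142253 .leaf) 64927676895789 .leaf) 64927676907309 (.node .leaf 64928113098797 .leaf)) 64928113100845 (.node (.node .leaf 64931619746605 .leaf) 64931619751725 (.node .leaf 64931854619693 .leaf))) 64931854631213 (.node (.node (.node (.node .leaf 64932374708269 .leaf) 64932374709805 .leaf) 65081643447085 (.node .leaf 65081643447597 .leaf)) 65081744102445 (.node (.node .leaf 65081744107309 .leaf) 65081777656365 (.node .leaf 65081777659949 .leaf)))))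

/-- Keys (part). -/
def enumTr110 : KTree := .node enumTr1100 62711590497318 enumTr1101

/-- Keys (part). -/
def enumTr1110 : KTree := .node (.node (.node (.node (.node (.node (.node .leaf 67100929508657 .leaf) 67101164377137 .leaf) 67101164387377 (.node .leaf 67101449585201 .leaf)) 67101449587505 (.node (.node .leaf 67109402129713 .leaf) 67109402134065 (.node .leaf 67109720887857 .leaf))) 67109720898609 (.node (.node (.node (.node .leaf 67110022873393 .leaf) 67110022875953 .leaf) 67134938097457 (.node .leaf 67134938105393 .leaf)) 67134971650097 (.node (.node .leaf 67134971659569 .leaf) 67135642730801 (.node .leaf 67135642731057 .leaf)))) 67263503476529 (.node (.node (.node (.node (.node .leaf 67263503480113 .leaf) 67263520251953 .leaf) 67263520256817 (.node .leaf 67263671243313 .leaf))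 67263671243825 (.node (.node .leaf 68187640049460 .leaf) 68187640054068 (.node .leaf 68187791038516 .leaf))) 68187791047732 (.node (.node (.node (.node .leaf 68188076246580 .leaf) 68188076247860 .leaf) 68213125035316 (.node .leaf 68213125039668 .leaf)) 68213460570676 (.node (.node .leaf 68213460581428 .leaf) 68213762556212 (.node .leaf 68213762558772 .leaf))))) 68230154628148 (.node (.node (.node (.node (.node (.node .leaf 68230154634804 .leaf) 68230255287092 .leaf) 68230255296820 (.node .leaf 68230859260212 .leaf)) 68230859261492 (.node (.node .leaf 68345835170868 .leaf) 68345835173172 (.node .leaf 68345919052596 .leaf))) 68345919057716 (.node (.node (.node (.node .leaf 68346002936372 .leaf) 68346002937908 .leaf) 70386663304758 (.node .leaf 70386663309110 .leaf)) 70386780739894 (.node (.node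 .leaf 70386780748854 .leaf) 70387082725430 (.node .leaf 70387082726198 .leaf)))) 70412148290358 (.node (.node (.node (.node (.node .leaf 70412148294966 .leaf) 70412467049526 .leaf) 70412467059766 (.node .leaf 70412752257590 .leaf)) 70412752259894 (.node (.node .leaf 70424916274230 .leaf) 70424916280630 (.node .leaf 70425000155958 .leaf))) 70425000165174 (.node (.node (.node (.node .leaf 70425587352118 .leaf) 70425587353654 .leaf) 70531990236214 (.node .leaf 70531990238006 .leaf)) 70532090895158 (.node (.node .leaf 70532090900022 .leaf) 70532141225014 (.node .leaf 70532141226294 .leaf)))))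

/-- Keys (part). -/
def enumTr1111 : KTree := .node (.node (.node (.node (.node (.node (.node .leaf 72637225381700 .leaf) 72637342816580 .leaf) 72637342820164 (.node .leaf 72637376370756 .leaf)) 72637376372804 (.node (.node .leaf 72662710367044 .leaf) 72662710367556 (.node .leaf 72663029126212 .leaf))) 72663029131076 (.node (.node (.node (.node .leaf 72663045902916 .leaf) 72663045906500 .leaf) 72696952859716 (.node .leaf 72696952862020 .leaf)) 72697036741444 (.node (.node .leaf 72697036746564 .leaf) 72697271620164 (.node .leaf 72697271621700 .leaf)))) 72709804272708 (.node (.node (.node (.node (.node .leaf 72709804274500 .leaf) 72709904931652 .leaf) 72709904936516 (.node .leaf 72710039147588 .leaf)) 72710039148868 (.node (.node .leaf 73697999269431 .leaf) 73697999273783 (.node .leaf 73698133481783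 .leaf))) 73698133490743 (.node (.node (.node (.node .leaf 73698435467319 .leaf) 73698435468087 .leaf) 73706471894839 (.node .leaf 73706471899447 .leaf)) 73706706769975 (.node (.node .leaf 73706706779191 .leaf) 73706991978039 (.node .leaf 73706991979319 .leaf))))) 73719223035703 (.node (.node (.node (.node (.node (.node .leaf 73719223042359 .leaf) 73719239811127 .leaf) 73719239819063 (.node .leaf 73719827007031 .leaf)) 73719827007543 (.node (.node .leaf 73822002226999 .leaf) 73822002229047 (.node .leaf 73822035779639 .leaf))) 73822035783223 (.node (.node (.node (.node .leaf 73822086109239 .leaf) 73822086109495 .leaf) 74840459914818 (.node .leaf 74840459916098 .leaf)) 74840594127170 (.node (.node .leaf 74840594132034 .leaf) 74840694789186 (.node .leaf 74840694790978 .leaf)))) 74848932540226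 (.node (.node (.node (.node (.node .leaf 74848932541762 .leaf) 74849167415362 .leaf) 74849167420482 (.node .leaf 74849251299906 .leaf)) 74849251302210 (.node (.node .leaf 74878863288130 .leaf) 74878863291714 (.node .leaf 74878880063554 .leaf))) 74878880068418 (.node (.node (.node (.node .leaf 74879198827074 .leaf) 74879198827586 .leaf) 74917417527106 (.node .leaf 74917417529154 .leaf)) 74917451079746 (.node (.node .leaf 74917451083330 .leaf) 74917568518210 (.node .leaf 74917568518466 .leaf)))))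

/-- Keys (part). -/
def enumTr111 : KTree := .node enumTr1110 72637225381444 enumTr1111

/-- Keys (part). -/
def enumTr11 : KTree := .node enumTr110 67100929504049 enumTr111

/-- Keys (part). -/
def enumTr1 : KTree := .node enumTr10 59387519774272 enumTr11

/-- Keys (part). -/
def enumTr : KTree := .node enumTr0 39596461467448 enumTr1

theorem ckEnumT : ckEnum pk orbsT enumL enumTr = true := by decide +kernel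

/-- The lengths. -/
theorem psumT : psum (enumL.map fun w => cntL pk (orbWord orbsT w)) =
    [1, 2, 4, 6, 9, 13, 17, 22, 26, 32, 37, 43, 47, 51, 55, 58, 61, 61, 62, 61, 61, 58, 55, 51, 47, 43, 37, 32, 26, 22, 17, 13, 9, 6, 4, 2, 1] := by decide +kernel

end Cfsg.Agent.Chev.E6
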