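/-
The twisted groups of type ²E₆.
-/
import Cfsg.Agent.Lib.Chev.TwistExtra
import Cfsg.Agent.Lib.Chev.EnumE6
import Cfsg.Agent.Lib.Chev.AllC
import Cfsg.Prelude.Def_LieTwisted

set_option autoImplicit false

namespace Cfsg.Agent.Chev.TwE6

open Cfsg.Lie
open scoped Matrix commutatorElement

/-- The checks on the orbit data. -/
theorem ckTw6 : ckTw E6.pk gE6.rr gE6.pp E6.orbsT = true := by decide +kernel

theorem chain6 : ckChain E6.pk E6.orbsT = true := by decide +kernel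

theorem cox6 : ckCoxT E6.pk E6.orbsT CoxeterMatrix.F₄.M = true := by decide +kernel

theorem neg1 : ckNeg E6.pk [1] [46] = true ∧ ckNeg E6.pk [3] [39] = true ∧
    ckNeg E6.pk [2, 4] [42, 37] = true ∧ ckNeg E6.pk [0, 5] [56, 36] = true := by decide +kernel

theorem cks : (ck1 E6.pk gE6 46 && ck1 E6.pk gE6 25 && ck1 E6.pk gE6 39 && ck1 E6.pk gE6 32 &&
    ck1 E6.pk gE6 47 && ck2 E6.pk gE6 56 36 && ck2 E6.pk gE6 15 35 && ck2 E6.pk gE6 42 37 &&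
    ck2 E6.pk gE6 29 34) = true := by decide +kernel

theorem orth : (ckOrth E6.pk 56 36 && ckOrth E6.pk 15 36 && ckOrth E6.pk 56 35 && ckOrth E6.pk 15 35 &&
    ckOrth E6.pk 42 37 && ckOrth E6.pk 29 37 && ckOrth E6.pk 42 34 && ckOrth E6.pk 29 34) = true := by decide +kernel

theorem cworde : E6.pk.cword 46 39 = [(47, (E6.pk.cword 46 39).headD (0, 1, 0, 0) |>.2.1, 1, 1)] ∧
    (((E6.pk.cword 46 39).headD (0, 1, 0, 0)).2.1 = 1 ∨ ((E6.pk.cword 46 39).headD (0, 1, 0, 0)).2.1 = -1) := by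
  decide +kernel

variable {K : Type*} [Field K] {q : ℕ} (φ : K →+* K) (hφ : ∀ t, φ t = t ^ q)

/-- The twist. -/
noncomputable abbrev T : Twist E6.ok K := stdTwist E6.ok ckG_E6 φ

/-- The orbits. -/
def O : (T φ).Orbits := ⟨E6.orbsT, ckTw6⟩

theorem wordMat1 (r : ℕ) (t : K) :
    (E6.ok.xG r t : GL chevE6.Idx K).val = chevE6.wordMat K [(r, t)] := by
  simp [ChevalleyDatum.wordMat, E6.ok.coe_xG]

theorem wordMat2 (r s : ℕ) (t u : K) :
    (E6.ok.xG r t * E6.ok.xG s u : GL chevE6.Idx K).val = chevE6.wordMat K [(r, t), (s, u)] := by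
  simp [ChevalleyDatum.wordMat, E6.ok.coe_xG]

theorem gen1 {r : ℕ} (hr : r ∈ [e6p2, e6m2, e6p4, e6m4]) {t : K} (ht : t ^ q = t) :
    E6.ok.xG r t ∈ twistedE6 K q :=
  Subgroup.subset_closure ⟨_, Or.inl ⟨t, ht, r, hr, rfl⟩, wordMat1 r t⟩

include hφ in
theorem gen2 {rs : ℕ × ℕ} (hr : rs ∈ [(e6p1, e6p6), (e6m1, e6m6), (e6p3, e6p5), (e6m3, e6m5)]) (t : K) :
    E6.ok.xG rs.1 t * E6.ok.xG rs.2 (φ t) ∈ twistedE6 K q :=
  Subgroup.subset_closure ⟨_, Or.inr ⟨t, rs, hr, rfl⟩, by rw [hφ]; exact wordMat2 _ _ _ _⟩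

include hφ in
theorem phi2 [Fintype K] (hK : Fintype.card K = q ^ 2) (t : K) : φ (φ t) = t := by
  rw [hφ, hφ, ← pow_mul, ← sq, ← hK]
  exact FiniteField.pow_card t

/-- The generators are of four kinds. -/
theorem gens {P' : GL chevE6.Idx K → Prop}
    (h1 : ∀ r ∈ [46, 25, 39, 32], ∀ t : K, t ^ q = t → P' (E6.ok.xG r t))
    (h2 : ∀ rs ∈ [((56 : ℕ), (36 : ℕ)), (15, 35), (42, 37), (29, 34)], ∀ t : K,
      P' (E6.ok.xG rs.1 t * E6.ok.xG rs.2 (t ^ q)))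
    {g : GL chevE6.Idx K} (hg : ∃ w ∈ e6Words K q, (g : Matrix chevE6.Idx chevE6.Idx K) = chevE6.wordMat K w) :
    P' g := by
  obtain ⟨w, hw, e⟩ := hg
  rcases hw with ⟨t, ht, r, hr, rfl⟩ | ⟨t, rs, hr, rfl⟩
  · obtain rfl : g = E6.ok.xG r t := Units.ext (e.trans (wordMat1 r t).symm)
    exact h1 r hr t ht
  · obtain rfl : g = E6.ok.xG rs.1 t * E6.ok.xG rs.2 (t ^ q) := Units.ext (e.trans (wordMat2 _ _ _ _).symm)
    exact h2 rs hr t

include hφ in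
theorem le_fixed [Fintype K] (hK : Fintype.card K = q ^ 2) : twistedE6 K q ≤ (T φ).fixed := by
  have hc := cks
  simp only [Bool.and_eq_true] at hc
  obtain ⟨⟨⟨⟨⟨⟨⟨⟨a, b⟩, c⟩, d⟩, -⟩, p1⟩, p2⟩, p3⟩, p4⟩ := hc
  refine (Subgroup.closure_le _).2 fun g hg => gens (P' := fun g => g ∈ (T φ).fixed) (fun r hr t ht => ?_)
    (fun rs hr t => ?_) hg
  · have ht' : φ t = t := (hφ t).trans ht
    simp only [List.mem_cons, List.not_mem_nil, or_false] at hr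
    rcases hr with rfl | rfl | rfl | rfl <;> exact Std.xG_fixed ckG_E6 φ (by assumption) ht'
  · rw [← hφ]
    have h2 := phi2 φ hφ hK t
    simp only [List.mem_cons, List.not_mem_nil, or_false] at hr
    rcases hr with rfl | rfl | rfl | rfl <;> exact Std.pair_fixed ckG_E6 φ ckComm_E6 (by assumption) h2

include hφ in
theorem nt_single {a b : ℕ} (ha : a ∈ [e6p2, e6p4]) (hb : E6.pk.ng a = b) (hb' : b ∈ [e6m2, e6m4]) {t : K}
    (ht : φ t = t) : E6.ok.nt a t ∈ twistedE6 K q := by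
  have h1 : ∀ u : K, φ u = u → E6.ok.xG a u ∈ twistedE6 K q := fun u hu =>
    gen1 (by simp only [List.mem_cons, List.not_mem_nil, or_false] at ha ⊢; tauto) ((hφ u).symm.trans hu)
  refine mul_mem (mul_mem (h1 t ht) ?_) (h1 t ht)
  rw [hb]
  refine gen1 (by simp only [List.mem_cons, List.not_mem_nil, or_false] at hb' ⊢; tauto) ?_
  rw [← hφ, map_neg, map_inv₀, ht]

include hφ in
theorem nt_pair {a b : ℕ} (hr : (a, b) ∈ [((56 : ℕ), (36 : ℕ)), (42, 37)]) (t : K) :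
    E6.ok.nt a t * E6.ok.nt b (φ t) ∈ twistedE6 K q := by
  have ho := orth
  simp only [Bool.and_eq_true] at ho
  obtain ⟨⟨⟨⟨⟨⟨⟨o1, o2⟩, o3⟩, -⟩, o5⟩, o6⟩, o7⟩, -⟩ := ho
  simp only [List.mem_cons, List.not_mem_nil, or_false, Prod.mk.injEq] at hr
  rcases hr with ⟨rfl, rfl⟩ | ⟨rfl, rfl⟩
  · rw [E6.ok.nt_orth ckComm_E6 o1 o2 o3]
    refine mul_mem (mul_mem (gen2 φ hφ (rs := (e6p1, e6p6)) (by simp) t) ?_)
      (gen2 φ hφ (rs := (e6p1, e6p6)) (by simp) t)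
    rw [← map_inv₀, ← map_neg]
    exact gen2 φ hφ (rs := (e6m1, e6m6)) (by simp) _
  · rw [E6.ok.nt_orth ckComm_E6 o5 o6 o7]
    refine mul_mem (mul_mem (gen2 φ hφ (rs := (e6p3, e6p5)) (by simp) t) ?_)
      (gen2 φ hφ (rs := (e6p3, e6p5)) (by simp) t)
    rw [← map_inv₀, ← map_neg]
    exact gen2 φ hφ (rs := (e6m3, e6m5)) (by simp) _

/-- The torus map on six parameters. -/
noncomputable def hH : (Fin 6 → Kˣ) →* GL chevE6.Idx K := E6.ok.hHom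

theorem hH_single (i : Fin 6) (t : Kˣ) :
    hH (Pi.mulSingle i t) = E6.ok.ht (E6.pk.sim i) (t : K) := E6.ok.hHom_single i t

theorem equations {c : Fin 6 → Kˣ}
    (e : ∀ k < 6, ∏ i : Fin 6, c i ^ E6.pk.A i (E6.pk.sim k) = 1) :
    c 0 * c 0 = c 2 ∧ c 1 * c 1 = c 3 ∧ c 2 * c 2 = c 0 * c 3 ∧ c 3 * c 3 = c 1 * c 2 * c 4 ∧
      c 4 * c 4 = c 3 * c 5 ∧ c 5 * c 5 = c 4 := by
  have hA : (List.range 6).map (fun i => (List.range 6).map fun k => E6.pk.A i (E6.pk.sim k)) =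
      [[2, 0, -1, 0, 0, 0], [0, 2, 0, -1, 0, 0], [-1, 0, 2, -1, 0, 0], [0, -1, -1, 2, -1, 0],
       [0, 0, 0, -1, 2, -1], [0, 0, 0, 0, -1, 2]] := by decide +kernel
  have hA' : ∀ i k, i < 6 → k < 6 → E6.pk.A i (E6.pk.sim k) =
      (([[2, 0, -1, 0, 0, 0], [0, 2, 0, -1, 0, 0], [-1, 0, 2, -1, 0, 0], [0, -1, -1, 2, -1, 0],
       [0, 0, 0, -1, 2, -1], [0, 0, 0, 0, -1, 2]] : List (List ℤ)).getD i []).getD k 0 := by
    intro i k hi hk
    rw [← hA, getD_map_range _ hi, getD_map_range _ hk]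
  have key : ∀ k : Fin 6, c 0 ^ E6.pk.A 0 (E6.pk.sim k) * c 1 ^ E6.pk.A 1 (E6.pk.sim k) *
      c 2 ^ E6.pk.A 2 (E6.pk.sim k) * c 3 ^ E6.pk.A 3 (E6.pk.sim k) * c 4 ^ E6.pk.A 4 (E6.pk.sim k) *
      c 5 ^ E6.pk.A 5 (E6.pk.sim k) = 1 := fun k => by
    have := e k k.isLt
    rwa [Fin.prod_univ_six] at this
  simp only [hA' 0 _ (by omega) (Fin.isLt _), hA' 1 _ (by omega) (Fin.isLt _), hA' 2 _ (by omega) (Fin.isLt _),
    hA' 3 _ (by omega) (Fin.isLt _), hA' 4 _ (by omega) (Fin.isLt _), hA' 5 _ (by omega) (Fin.isLt _)] at key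
  have k0 := key 0; have k1 := key 1; have k2 := key 2; have k3 := key 3; have k4 := key 4; have k5 := key 5
  simp [pow_two, zpow_two] at k0 k1 k2 k3 k4 k5
  refine ⟨?_, ?_, ?_, ?_, ?_, ?_⟩
  · exact mul_inv_eq_one.1 k0
  · exact mul_inv_eq_one.1 k1
  · rw [← mul_inv_eq_one, ← k2, mul_inv]; ac_rfl
  · rw [← mul_inv_eq_one, ← k3, mul_inv, mul_inv]; ac_rfl
  · rw [← mul_inv_eq_one, ← k4, mul_inv]; ac_rfl
  · rw [← mul_inv_eq_one, ← k5]; ac_rfl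

theorem kernel_eqs {c : Fin 6 → Kˣ} (e : E6.ok.hHom (F := K) c = 1) :
    c 0 ^ 3 = 1 ∧ c 1 = 1 ∧ c 2 = c 0 ^ 2 ∧ c 3 = 1 ∧ c 4 = c 5 ^ 2 ∧ c 5 ^ 3 = 1 := by
  obtain ⟨e1, e2, e3, e4, e5, e6⟩ := equations (E6.ok.hHom_eq_one e)
  have a : c 0 ^ 3 = c 3 := by
    apply mul_left_cancel (a := c 0)
    rw [← e3, ← e1, ← pow_succ']
    simp [pow_succ, mul_assoc]
  have b : c 5 ^ 3 = c 3 := by
    apply mul_right_cancel (b := c 5)
    rw [← e5, ← e6, ← pow_succ]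
    simp [pow_succ, mul_assoc]
  have d : c 1 = 1 := by
    have h1 : c 1 ^ 4 = c 1 * (c 0 ^ 2 * c 5 ^ 2) := by
      rw [show (4 : ℕ) = 2 * 2 from rfl, pow_mul, pow_two (c 1), e2, pow_two, e4, ← e1, ← e6, pow_two, pow_two,
        mul_assoc]
    have h2 : c 1 ^ 3 = c 0 ^ 2 * c 5 ^ 2 := mul_left_cancel (a := c 1) (by rw [← h1, ← pow_succ'])
    have h3 : c 1 ^ 9 = c 1 ^ 8 := by
      calc c 1 ^ 9 = (c 1 ^ 3) ^ 3 := by rw [← pow_mul]
        _ = (c 0 ^ 3) ^ 2 * (c 5 ^ 3) ^ 2 := by rw [h2, mul_pow, ← pow_mul, ← pow_mul, ← pow_mul, ← pow_mul]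
        _ = (c 1 * c 1) ^ 4 := by rw [a, b, e2, ← pow_add]
        _ = c 1 ^ 8 := by rw [← pow_two, ← pow_mul]
    rw [pow_succ] at h3
    exact mul_left_cancel (h3.trans (mul_one _).symm)
  have h3' : c 3 = 1 := by rw [← e2, d, mul_one]
  exact ⟨a.trans h3', d, (e1.symm.trans (pow_two _).symm), h3', (e6.symm.trans (pow_two _).symm), b.trans h3'⟩

theorem kernel_cube {c : Fin 6 → Kˣ} (e : E6.ok.hHom (F := K) c = 1) : c ^ 3 = 1 := by
  obtain ⟨h0, h1, h2, h3, h4, h5⟩ := kernel_eqs e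
  funext i
  fin_cases i <;> simp [h0, h1, h2, h3, h4, h5, ← pow_mul]
  · rw [show c 0 ^ 6 = (c 0 ^ 3) ^ 2 from pow_mul (c 0) 3 2, h0, one_pow]
  · rw [show c 5 ^ 6 = (c 5 ^ 3) ^ 2 from pow_mul (c 5) 3 2, h5, one_pow]

theorem tau_apply (c : Fin 6 → Kˣ) : (T φ).τ c =
    ![Units.map φ.toMonoidHom (c 5), Units.map φ.toMonoidHom (c 1), Units.map φ.toMonoidHom (c 4),
      Units.map φ.toMonoidHom (c 3), Units.map φ.toMonoidHom (c 2), Units.map φ.toMonoidHom (c 0)] := by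
  funext j
  fin_cases j <;> rfl

theorem tau_fixed {c : Fin 6 → Kˣ} (e : (T φ).τ c = c) :
    φ (c 5) = c 0 ∧ φ (c 1) = c 1 ∧ φ (c 4) = c 2 ∧ φ (c 3) = c 3 ∧ φ (c 2) = c 4 ∧ φ (c 0) = c 5 := by
  rw [tau_apply] at e
  exact ⟨congrArg Units.val (congrFun e 0), congrArg Units.val (congrFun e 1), congrArg Units.val (congrFun e 2),
    congrArg Units.val (congrFun e 3), congrArg Units.val (congrFun e 4), congrArg Units.val (congrFun e 5)⟩

theorem tau_two (hp : ∀ t, φ (φ t) = t) (c : Fin 6 → Kˣ) : ((T φ).τ)^[2] c = c := by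
  show (T φ).τ ((T φ).τ c) = c
  rw [tau_apply, tau_apply]
  funext j
  fin_cases j <;> exact Units.ext (hp _)

include hφ in
theorem hHom_fixed_mem [Fintype K] {c : Fin 6 → Kˣ} (e : (T φ).τ c = c) :
    hH c ∈ twistedE6 K q := by
  obtain ⟨-, e1, -, e3, e4, e5⟩ := tau_fixed φ e
  have hs : ∀ (i : Fin 6) (a b : ℕ), E6.pk.sim i = a → a ∈ [e6p2, e6p4] → E6.pk.ng a = b → b ∈ [e6m2, e6m4] →
      φ (c i) = c i → hH (Pi.mulSingle i (c i)) ∈ twistedE6 K q := by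
    intro i a b hi ha hb hb' hfix
    rw [hH_single, hi, Ok.ht]
    exact mul_mem (nt_single φ hφ ha hb hb' hfix) (nt_single φ hφ ha hb hb' (by rw [map_neg, map_one]))
  have hpr : ∀ (i j : Fin 6) (a b : ℕ), E6.pk.sim i = a → E6.pk.sim j = b →
      (a, b) ∈ [((56 : ℕ), (36 : ℕ)), (42, 37)] → ckOrth E6.pk a b = true → ckOrth E6.pk (E6.pk.ng a) b = true →
      ckOrth E6.pk a (E6.pk.ng b) = true → ckOrth E6.pk (E6.pk.ng a) (E6.pk.ng b) = true → φ (c i) = c j →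
      hH (Pi.mulSingle i (c i) * Pi.mulSingle j (c j)) ∈ twistedE6 K q := by
    intro i j a b hi hj hab o1 o2 o3 o4 hfix
    rw [map_mul, hH_single, hH_single, hi, hj, Ok.ht, Ok.ht,
      (E6.ok.commute_nt ckComm_E6 o1 o2 o3 o4 (-1) (c j : K)).mul_mul_mul_comm, ← hfix]
    refine mul_mem (nt_pair φ hφ hab _) ?_
    have h1 := nt_pair φ hφ hab (-1)
    rwa [map_neg, map_one] at h1
  have ho := orth
  simp only [Bool.and_eq_true] at ho
  obtain ⟨⟨⟨⟨⟨⟨⟨o1, o2⟩, o3⟩, o4⟩, o5⟩, o6⟩, o7⟩, o8⟩ := ho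
  have hc : c = Pi.mulSingle 1 (c 1) * Pi.mulSingle 3 (c 3) * (Pi.mulSingle 0 (c 0) * Pi.mulSingle 5 (c 5)) *
      (Pi.mulSingle 2 (c 2) * Pi.mulSingle 4 (c 4)) := by
    funext j
    fin_cases j <;> simp
  rw [hc, map_mul, map_mul, map_mul hH (Pi.mulSingle 1 _) _]
  exact mul_mem (mul_mem (mul_mem (hs 1 _ _ rfl (by decide) rfl (by decide) e1)
    (hs 3 _ _ rfl (by decide) rfl (by decide) e3)) (hpr 0 5 _ _ rfl rfl (by decide) o1 o2 o3 o4 e5))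
    (hpr 2 4 _ _ rfl rfl (by decide) o5 o6 o7 o8 e4)

include hφ in
theorem diag_le [Fintype K] (hK : Fintype.card K = q ^ 2) :
    chevE6.diagonalSubgroup K ⊓ (T φ).fixed ≤ twistedE6 K q := by
  rintro d ⟨hd, hf⟩
  obtain ⟨c, hc, rfl⟩ := Std.diag_lift (h := E6.ok) ckG_E6 φ (e := 3) (n := 2) (by decide)
    (fun c e => kernel_cube e) (tau_two φ (phi2 φ hφ hK)) hd hf
  exact hHom_fixed_mem φ hφ hc

theorem genR_neg {w L : List ℕ} (hck : ckNeg E6.pk w L = true) (hL : ∀ r ∈ L, r < E6.pk.nroots) :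
    E6.ok.genR (F := K) (negS E6.pk w) = E6.ok.genR (fun r => r ∈ L) := by
  rw [E6.ok.negS_eq hck hL]

theorem Uw_forms {o : List ℕ × List ℕ} (ho : o ∈ E6.orbsT) {x : GL chevE6.Idx K}
    (hx : x ∈ E6.ok.genR (negS E6.pk o.2) ⊓ (T φ).fixed) :
    (∃ a ∈ [(46 : ℕ), 39], ∃ t, φ t = t ∧ x = E6.ok.xG a t) ∨
      ∃ ab ∈ [((42 : ℕ), (37 : ℕ)), (56, 36)], ∃ t, x = E6.ok.xG ab.1 t * E6.ok.xG ab.2 (φ t) := by
  have hc := cks
  simp only [Bool.and_eq_true] at hc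
  obtain ⟨⟨⟨⟨⟨⟨⟨⟨a, -⟩, c⟩, -⟩, -⟩, p1⟩, -⟩, p3⟩, -⟩ := hc
  obtain ⟨n1, n2, n3, n4⟩ := neg1
  obtain ⟨hx, hf⟩ := hx
  simp only [E6.orbsT, List.mem_cons, List.not_mem_nil, or_false] at ho
  rcases ho with rfl | rfl | rfl | rfl
  · rw [genR_neg n1 (by decide)] at hx
    obtain ⟨t, ht, rfl⟩ := Std.fixed_single ckG_E6 φ (by decide) a ⟨hx, hf⟩
    exact Or.inl ⟨46, by simp, t, ht, rfl⟩
  · rw [genR_neg n2 (by decide)] at hx
    obtain ⟨t, ht, rfl⟩ := Std.fixed_single ckG_E6 φ (by decide) c ⟨hx, hf⟩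
    exact Or.inl ⟨39, by simp, t, ht, rfl⟩
  · rw [genR_neg n3 (by decide)] at hx
    obtain ⟨t, rfl⟩ := Std.fixed_pair ckG_E6 φ ckComm_E6 (by decide) (by decide) p3 ⟨hx, hf⟩
    exact Or.inr ⟨(42, 37), by simp, t, rfl⟩
  · rw [genR_neg n4 (by decide)] at hx
    obtain ⟨t, rfl⟩ := Std.fixed_pair ckG_E6 φ ckComm_E6 (by decide) (by decide) p1 ⟨hx, hf⟩
    exact Or.inr ⟨(56, 36), by simp, t, rfl⟩

include hφ in
/-- The twisted group. -/
theorem exists_grp [Fintype K] (hK : Fintype.card K = q ^ 2) :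
    ∃ G : TwistGrp (T φ), G.G1 = twistedE6 K q ∧ G.O.orbs = E6.orbsT := by
  refine ⟨⟨O φ, twistedE6 K q, le_fixed φ hφ hK, fun o ho => ?_, fun o ho x hx => ?_, diag_le φ hφ hK⟩, rfl, rfl⟩
  · change o ∈ E6.orbsT at ho
    simp only [E6.orbsT, List.mem_cons, List.not_mem_nil, or_false] at ho
    rcases ho with rfl | rfl | rfl | rfl <;>
      simp only [Ok.nW, List.map_cons, List.map_nil, List.prod_cons, List.prod_nil, mul_one, Ok.nG]
    · exact nt_single φ hφ (a := e6p2) (by simp) rfl (by decide) (map_one φ)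
    · exact nt_single φ hφ (a := e6p4) (by simp) rfl (by decide) (map_one φ)
    · have h1 := nt_pair φ hφ (a := 42) (b := 37) (by simp) 1
      rwa [map_one] at h1
    · have h1 := nt_pair φ hφ (a := 56) (b := 36) (by simp) 1
      rwa [map_one] at h1
  · rcases Uw_forms φ ho hx with ⟨a, ha, t, ht, rfl⟩ | ⟨ab, hab, t, rfl⟩
    · simp only [List.mem_cons, List.not_mem_nil, or_false] at ha
      rcases ha with rfl | rfl <;> exact gen1 (by decide) ((hφ t).symm.trans ht)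
    · simp only [List.mem_cons, List.not_mem_nil, or_false] at hab
      rcases hab with rfl | rfl <;> exact gen2 φ hφ (by decide) t

end Cfsg.Agent.Chev.TwE6
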