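/-
Order, (B,N)-pair and simplicity of ²E₆.
-/
import Cfsg.Agent.Lib.Chev.TwE6

set_option autoImplicit false
set_option maxHeartbeats 400000

namespace Cfsg.Agent.Chev.TwE6

open Cfsg.Lie
open scoped Matrix commutatorElement

variable {K : Type*} [Field K] [Fintype K] {q : ℕ} (φ : K →+* K) (hφ : ∀ t, φ t = t ^ q)
  (hK : Fintype.card K = q ^ 2) (hq : IsPrimePow q)

include hK hq in
theorem two_le : 2 ≤ q := hq.two_le

variable {φ} (G : TwistGrp (T φ)) (hG : G.G1 = twistedE6 K q) (hO : G.O.orbs = E6.orbsT)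

omit [Fintype K] in
theorem cnt_orbs : Twist.cnt E6.pk [1] = 1 ∧ Twist.cnt E6.pk [3] = 1 ∧ Twist.cnt E6.pk [2, 4] = 2 ∧
    Twist.cnt E6.pk [0, 5] = 2 := by
  obtain ⟨n1, n2, n3, n4⟩ := neg1
  exact ⟨E6.ok.cnt_eq n1 (by decide) (by decide), E6.ok.cnt_eq n2 (by decide) (by decide),
    E6.ok.cnt_eq n3 (by decide) (by decide), E6.ok.cnt_eq n4 (by decide) (by decide)⟩

include hφ hK hq hO in
theorem card_orb : ∀ o ∈ G.O.orbs, Nat.card (G.Uw o.2) ^ 1 = q ^ Twist.cnt E6.pk o.2 := by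
  obtain ⟨c1, c2, c3, c4⟩ := cnt_orbs
  have hfix : ∀ a : ℕ, ∀ w : List ℕ, ckNeg E6.pk w [a] = true → E6.pk.isPos a = true →
      ck1 E6.pk gE6 a = true → Nat.card (G.Uw w) = q := by
    intro a w hw hp hck
    obtain ⟨e, -⟩ := Std.fixed_field_card (F := K) (two_le hK hq) (by omega : 1 ≤ 2) hK
    rw [← e]
    symm
    have ha := (E6.pk.isPos_iff.1 hp).2
    refine Nat.card_eq_of_bijective (fun t => ⟨E6.ok.xG a t.1, ?_⟩) ⟨fun x y e => ?_, ?_⟩
    · exact ⟨by rw [genR_neg hw (by simp [ha])]; exact E6.ok.xG_mem_genR (S := fun r => r ∈ [a]) (by simp) _,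
        Std.xG_fixed ckG_E6 φ hck ((hφ t.1).trans t.2)⟩
    · exact Subtype.ext (E6.ok.xG_inj_param ha (congrArg Subtype.val e))
    · rintro ⟨x, hx, hf⟩
      obtain ⟨t, ht, rfl⟩ := Std.fixed_single ckG_E6 φ hp hck
        ⟨by rwa [genR_neg hw (by simp [ha])] at hx, hf⟩
      exact ⟨⟨t, (hφ t).symm.trans ht⟩, rfl⟩
  have hpair : ∀ a b : ℕ, ∀ w : List ℕ, ckNeg E6.pk w [a, b] = true → E6.pk.isPos a = true →
      E6.pk.isPos b = true → ck2 E6.pk gE6 a b = true → Nat.card (G.Uw w) = q ^ 2 := by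
    intro a b w hw ha hb hck
    rw [← hK, ← Nat.card_eq_fintype_card]
    symm
    have hab : ckOrth E6.pk a b = true := by
      simp only [ck2, Bool.and_eq_true] at hck; exact hck.1.1.1.1
    have hlt : ∀ r ∈ [a, b], r < E6.pk.nroots := by
      simp [(E6.pk.isPos_iff.1 ha).2, (E6.pk.isPos_iff.1 hb).2]
    refine Nat.card_eq_of_bijective (fun t => ⟨E6.ok.xG a t * E6.ok.xG b (φ t), ?_⟩) ⟨fun x y e => ?_, ?_⟩
    · exact ⟨(genR_neg (K := K) hw hlt).symm ▸ (mul_mem (E6.ok.xG_mem_genR (S := fun r => r ∈ [a, b]) (by simp) _)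
        (E6.ok.xG_mem_genR (S := fun r => r ∈ [a, b]) (by simp) _) :
        E6.ok.xG a t * E6.ok.xG b (φ t) ∈ E6.ok.genR (fun r => r ∈ [a, b])),
        Std.pair_fixed ckG_E6 φ ckComm_E6 hck (phi2 φ hφ hK t)⟩
    · exact (Std.pair_unique ckComm_E6 ha hb hab (congrArg Subtype.val e)).1
    · rintro ⟨x, hx, hf⟩
      obtain ⟨t, rfl⟩ := Std.fixed_pair ckG_E6 φ ckComm_E6 ha hb hck ⟨by rwa [genR_neg hw hlt] at hx, hf⟩
      exact ⟨t, rfl⟩
  have hc := cks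
  simp only [Bool.and_eq_true] at hc
  obtain ⟨⟨⟨⟨⟨⟨⟨⟨a, -⟩, c⟩, -⟩, -⟩, p1⟩, -⟩, p3⟩, -⟩ := hc
  obtain ⟨n1, n2, n3, n4⟩ := neg1
  intro o ho
  rw [hO] at ho
  simp only [E6.orbsT, List.mem_cons, List.not_mem_nil, or_false] at ho
  rw [pow_one]
  rcases ho with rfl | rfl | rfl | rfl
  · rw [c1, pow_one]; exact hfix 46 _ n1 (by decide) a
  · rw [c2, pow_one]; exact hfix 39 _ n2 (by decide) c
  · rw [c3]; exact hpair 42 37 _ n3 (by decide) (by decide) p3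
  · rw [c4]; exact hpair 56 36 _ n4 (by decide) (by decide) p1

include hφ hK hq hO in
theorem card_Uw {l : List ℕ} (hl : WordOk E6.pk l) (hc : (T φ).Comm l) :
    Nat.card (G.Uw l) = q ^ Twist.cnt E6.pk l := by
  simpa using G.card_Uw ckComm_E6 (e := 1) (card_orb hφ hK hq G hO) hl hc

include hφ hK hq hO G in
theorem card_pos : Nat.card ↥(chevE6.posUnipotent K ⊓ (T φ).fixed) = q ^ 36 := by
  obtain ⟨l, hl, hc, htop⟩ := TwistGrp.exists_top (T := T φ)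
  have h1 := card_Uw hφ hK hq G hO hl hc
  have h2 : Twist.cnt E6.pk l = 36 := by
    have e : negS E6.pk l = fun r => r ∈ posL E6.pk := funext fun r =>
      propext ⟨fun hr => mem_posL.2 hr.1, fun hr => ⟨mem_posL.1 hr, htop r (mem_posL.1 hr)⟩⟩
    rw [Twist.cnt, e, show {r | r ∈ posL E6.pk} = ↑(posL E6.pk).toFinset by ext; simp,
      Set.ncard_coe_finset]
    decide
  rw [h2] at h1
  rw [← h1]
  have e : G.Uw l = chevE6.posUnipotent K ⊓ (T φ).fixed := by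
    unfold TwistGrp.Uw
    rw [E6.ok.posUnipotent_eq]
    congr 1
    exact le_antisymm (E6.ok.genR_mono fun r hr => hr.1) (E6.ok.genR_mono fun r hr => ⟨hr, htop r hr⟩)
  rw [e]

include hφ in
omit [Fintype K] in
theorem ker_form (c : Fin 6 → Kˣ) (hk : hH (K := K) c = 1) (hc : (T φ).τ c = c) :
    c 0 ^ Nat.gcd 3 (q + 1) = 1 ∧ c 1 = 1 ∧ c 2 = (c 0)⁻¹ ∧ c 3 = 1 ∧ c 4 = c 0 ∧ c 5 = (c 0)⁻¹ := by
  unfold hH at hk
  obtain ⟨h0, h1, h2, h3, h4, h5⟩ := kernel_eqs hk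
  obtain ⟨-, -, -, -, t4, t5⟩ := tau_fixed φ hc
  have e5 : c 5 = c 0 ^ q := Units.ext (by rw [Units.val_pow_eq_pow_val, ← hφ]; exact t5.symm)
  have e4 : c 4 = c 2 ^ q := Units.ext (by rw [Units.val_pow_eq_pow_val, ← hφ]; exact t4.symm)
  have hq1 : c 0 ^ (q + 1) = 1 := by
    obtain ⟨-, -, -, g4, -, -⟩ := equations (E6.ok.hHom_eq_one hk)
    rw [h3, h1, one_mul, one_mul, h2, e4, h2, ← pow_mul, ← pow_add] at g4
    have e6 : (c 0 ^ (q + 1)) ^ 2 = 1 := by rw [← pow_mul]; convert g4.symm using 2; ring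
    have e7 : (c 0 ^ (q + 1)) ^ 3 = 1 := by rw [← pow_mul, mul_comm, pow_mul, h0, one_pow]
    rwa [pow_succ _ 2, e6, one_mul] at e7
  have hz' : c 0 ^ Nat.gcd 3 (q + 1) = 1 := (pow_gcd_eq_one).2 ⟨h0, hq1⟩
  have hi : c 0 ^ q = (c 0)⁻¹ := eq_inv_of_mul_eq_one_left (by rw [← pow_succ, hq1])
  have e2' : c 2 = (c 0)⁻¹ := h2.trans (eq_inv_of_mul_eq_one_left (by rw [← pow_succ, h0]))
  have e4' : c 4 = c 0 := by
    rw [h4, e5.trans hi, inv_pow]
    refine inv_eq_of_mul_eq_one_left ?_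
    rw [← pow_succ', h0]
  exact ⟨hz', h1, e2', h3, e4', e5.trans hi⟩

include hφ hK hq in
theorem card_ker : Nat.card {c : Fin 6 → Kˣ // (T φ).τ c = c ∧ hH (K := K) c = 1} = Nat.gcd 3 (q + 1) := by
    classical
    have hq2 := two_le hK hq
    have hz : Nat.card (powMonoidHom (Nat.gcd 3 (q + 1)) : Kˣ →* Kˣ).ker = Nat.gcd 3 (q + 1) := by
      rw [IsCyclic.card_powMonoidHom_ker, Nat.card_eq_fintype_card, Fintype.card_units, hK]
      refine Nat.gcd_eq_right (dvd_trans (Nat.gcd_dvd_right _ _) ⟨q - 1, ?_⟩)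
      obtain ⟨m, rfl⟩ : ∃ m, q = m + 1 := ⟨q - 1, by omega⟩
      rw [Nat.add_sub_cancel]; ring_nf; omega
    rw [← hz]
    symm
    have hzq : ∀ z : Kˣ, z ^ Nat.gcd 3 (q + 1) = 1 → z ^ 3 = 1 ∧ z ^ q = z⁻¹ := fun z hz' => by
      obtain ⟨a, ha⟩ := Nat.gcd_dvd_left 3 (q + 1)
      obtain ⟨b, hb⟩ := Nat.gcd_dvd_right 3 (q + 1)
      refine ⟨by rw [ha, pow_mul, hz', one_pow], eq_inv_of_mul_eq_one_left ?_⟩
      rw [← pow_succ, hb, pow_mul, hz', one_pow]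
    refine Nat.card_eq_of_bijective (fun z => ⟨![z.1, 1, z.1⁻¹, 1, z.1, z.1⁻¹], ?_, ?_⟩) ⟨fun a b e => ?_, ?_⟩
    · obtain ⟨-, h2⟩ := hzq z.1 z.2
      have h2' : φ (z.1 : K) = ((z.1⁻¹ : Kˣ) : K) := by rw [hφ, ← h2, Units.val_pow_eq_pow_val]
      have h3' : φ ((z.1⁻¹ : Kˣ) : K) = (z.1 : K) := by rw [← h2', phi2 φ hφ hK]
      show (T φ).τ _ = _
      rw [tau_apply]
      funext j
      fin_cases j
      · exact Units.ext h3'
      · exact Units.ext (map_one φ)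
      · exact Units.ext h2'
      · exact Units.ext (map_one φ)
      · exact Units.ext h3'
      · exact Units.ext h2'
    · obtain ⟨h3, -⟩ := hzq z.1 z.2
      unfold hH
      refine E6.ok.hHom_eq_one_of fun k hk => ?_
      have hA : (List.range 6).map (fun i => (List.range 6).map fun k => E6.pk.A i (E6.pk.sim k)) =
          [[2, 0, -1, 0, 0, 0], [0, 2, 0, -1, 0, 0], [-1, 0, 2, -1, 0, 0], [0, -1, -1, 2, -1, 0],
           [0, 0, 0, -1, 2, -1], [0, 0, 0, 0, -1, 2]] := by decide +kernel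
      have hA' : ∀ i k, i < 6 → k < 6 → E6.pk.A i (E6.pk.sim k) =
          (([[2, 0, -1, 0, 0, 0], [0, 2, 0, -1, 0, 0], [-1, 0, 2, -1, 0, 0], [0, -1, -1, 2, -1, 0],
           [0, 0, 0, -1, 2, -1], [0, 0, 0, 0, -1, 2]] : List (List ℤ)).getD i []).getD k 0 := by
        intro i k hi hk
        rw [← hA, getD_map_range _ hi, getD_map_range _ hk]
      show ∏ i : Fin 6, _ = _
      rw [Fin.prod_univ_six, hA' _ k (Fin.isLt _) hk, hA' _ k (Fin.isLt _) hk, hA' _ k (Fin.isLt _) hk,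
        hA' _ k (Fin.isLt _) hk, hA' _ k (Fin.isLt _) hk, hA' _ k (Fin.isLt _) hk]
      have h3' : z.1 * (z.1 * z.1) = 1 := by rw [← h3, pow_succ', pow_two]
      have hk' : k = 0 ∨ k = 1 ∨ k = 2 ∨ k = 3 ∨ k = 4 ∨ k = 5 := by
        have : k < 6 := hk
        omega
      rcases hk' with rfl | rfl | rfl | rfl | rfl | rfl <;>
        simp [zpow_two, pow_two, mul_assoc, h3', inv_eq_one, ← mul_inv_rev]
    · exact Subtype.ext (congrFun (congrArg Subtype.val e) 0)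
    · rintro ⟨c, hc1, hk1⟩
      obtain ⟨hz', h1, e2', h3, e4', e5'⟩ := ker_form hφ c hk1 hc1
      refine ⟨⟨c 0, hz'⟩, Subtype.ext (funext fun j => ?_)⟩
      fin_cases j
      exacts [rfl, h1.symm, e2'.symm, h3.symm, e4'.symm, e5'.symm]

include hφ hK hq G in
theorem card_diag :
    Nat.gcd 3 (q + 1) * Nat.card ↥(chevE6.diagonalSubgroup K ⊓ (T φ).fixed) = (q - 1) ^ 4 * (q + 1) ^ 2 := by
  classical
  have hq2 := two_le hK hq
  let F0 : Subgroup (Fin 6 → Kˣ) := MonoidHom.eqLocus ((T φ).τ) (MonoidHom.id _)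
  let f : F0 →* GL chevE6.Idx K := hH.comp F0.subtype
  have hrange : f.range = chevE6.diagonalSubgroup K ⊓ (T φ).fixed := by
    ext d
    constructor
    · rintro ⟨⟨c, hc⟩, rfl⟩
      exact ⟨E6.ok.mem_diagonal_iff.2 ⟨c, rfl⟩, (T φ).mem_fixed.2
        ⟨E6.ok.diagonal_le_group (E6.ok.mem_diagonal_iff.2 ⟨c, rfl⟩), by
          exact ((T φ).σ_hHom c).trans (congrArg _ hc)⟩⟩
    · rintro ⟨hd, hf⟩
      obtain ⟨c, hc, rfl⟩ := Std.diag_lift (h := E6.ok) ckG_E6 φ (e := 3) (n := 2) (by decide)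
        (fun c e => kernel_cube e) (tau_two φ (phi2 φ hφ hK)) hd hf
      exact ⟨⟨c, hc⟩, rfl⟩
  have hF0 : Nat.card F0 = (q - 1) ^ 4 * (q + 1) ^ 2 := by
    obtain ⟨-, e⟩ := Std.fixed_field_card (F := K) hq2 (by omega : 1 ≤ 2) hK
    have hu : ∀ t : Kˣ, φ (t : K) = t ↔ t ^ (q - 1) = 1 := fun t => by
      rw [hφ, Units.ext_iff, Units.val_pow_eq_pow_val, Units.val_one,
        ← pow_sub_one_mul (show q ≠ 0 by omega) (t : K), mul_eq_right₀ t.ne_zero]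
    have hb : Function.Bijective (fun c : F0 =>
        ((⟨c.1 1, (hu _).1 (tau_fixed φ c.2).2.1⟩, ⟨c.1 3, (hu _).1 (tau_fixed φ c.2).2.2.2.1⟩), (c.1 0, c.1 2)) :
        F0 → ({t : Kˣ // t ^ (q - 1) = 1} × {t : Kˣ // t ^ (q - 1) = 1}) × (Kˣ × Kˣ)) := by
      constructor
      · intro c d hcd
        simp only [Prod.mk.injEq, Subtype.mk.injEq] at hcd
        obtain ⟨⟨h1, h3⟩, h0, h2⟩ := hcd
        obtain ⟨-, -, -, -, c4, c5⟩ := tau_fixed φ c.2
        obtain ⟨-, -, -, -, d4, d5⟩ := tau_fixed φ d.2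
        refine Subtype.ext (funext fun j => ?_)
        fin_cases j
        · exact h0
        · exact h1
        · exact h2
        · exact h3
        · exact Units.ext (c4.symm.trans ((congrArg (fun u : Kˣ => φ (u : K)) h2).trans d4))
        · exact Units.ext (c5.symm.trans ((congrArg (fun u : Kˣ => φ (u : K)) h0).trans d5))
      · rintro ⟨⟨⟨a, ha⟩, ⟨b, hb⟩⟩, x, y⟩
        refine ⟨⟨![x, a, y, b, Units.map φ.toMonoidHom y, Units.map φ.toMonoidHom x], ?_⟩, rfl⟩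
        show (T φ).τ _ = _
        rw [tau_apply]
        funext j
        fin_cases j
        · exact Units.ext (phi2 φ hφ hK _)
        · exact Units.ext ((hu a).2 ha)
        · exact Units.ext (phi2 φ hφ hK _)
        · exact Units.ext ((hu b).2 hb)
        · rfl
        · rfl
    rw [Nat.card_eq_of_bijective _ hb, Nat.card_prod, Nat.card_prod, Nat.card_prod, e,
      Nat.card_eq_fintype_card, Fintype.card_units, hK]
    obtain ⟨m, rfl⟩ : ∃ m, q = m + 1 := ⟨q - 1, by omega⟩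
    rw [show (m + 1) ^ 2 - 1 = m * (m + 1 + 1) by ring_nf; omega, Nat.add_sub_cancel]
    ring
  have hker : Nat.card f.ker = Nat.gcd 3 (q + 1) := by
    rw [← card_ker hφ hK hq]
    exact Nat.card_congr ⟨fun x => ⟨x.1.1, x.1.2, x.2⟩, fun x => ⟨⟨x.1, x.2.1⟩, x.2.2⟩, fun _ => rfl, fun _ => rfl⟩
  have h1 := Subgroup.card_mul_index f.ker
  rw [Subgroup.index_ker, hker, hrange, hF0] at h1
  exact h1

include hφ hK hq hG hO in
theorem order_eq :
    Nat.gcd 3 (q + 1) * Nat.card ↥(twistedE6 K q) =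
      q ^ 36 * (q ^ 2 - 1) * (q ^ 5 + 1) * (q ^ 6 - 1) * (q ^ 8 - 1) * (q ^ 9 + 1) * (q ^ 12 - 1) := by
  have hq2 := two_le hK hq
  rw [← hG, G.card_eq ckComm_E6 (fun n => q ^ n) (fun l hl hc => card_Uw hφ hK hq G hO hl hc),
    TwistGrp.sum_W1 G.O hO E6.ckEnumT (fun n => q ^ n), card_pos hφ hK hq G hO,
    show (E6.enumL.map fun w => q ^ cntL E6.pk (orbWord E6.orbsT w)).sum =
      pev q (psum (E6.enumL.map fun w => cntL E6.pk (orbWord E6.orbsT w))) by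
      rw [pev_psum, List.map_map]; rfl, E6.psumT]
  rw [show ∀ g a d P : ℕ, g * (a * d * P) = a * (g * d) * P by intros; ring, card_diag hφ hK hq G]
  obtain ⟨m, rfl⟩ : ∃ m, q = m + 1 := ⟨q - 1, by omega⟩
  have h : ∀ k, 1 ≤ (m + 1) ^ k := fun k => Nat.one_le_pow _ _ (by omega)
  zify [h 2, h 6, h 8, h 12]
  simp only [pev, Nat.add_sub_cancel]
  push_cast
  ring

include hG in
theorem inf_eq (S : Subgroup (GL chevE6.Idx K)) : S ⊓ twistedE6 K q = S ⊓ (T φ).fixed := by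
  rw [← hG, G.eq_fixed ckComm_E6]

include hφ hK hq hO in
theorem proper : G.Proper where
  disj o ho o' ho' j := by
    rw [hO] at ho ho'
    simp only [E6.orbsT, List.mem_cons, List.not_mem_nil, or_false] at ho ho'
    intro hj hj'
    rcases ho with rfl | rfl | rfl | rfl <;> rcases ho' with rfl | rfl | rfl | rfl <;> simp at hj hj' ⊢ <;> omega
  ne_nil o ho := by
    rw [hO] at ho
    simp only [E6.orbsT, List.mem_cons, List.not_mem_nil, or_false] at ho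
    rcases ho with rfl | rfl | rfl | rfl <;> simp
  ne_bot o ho e := by
    have h1 := card_orb hφ hK hq G hO o ho
    rw [e, Subgroup.card_bot, one_pow] at h1
    obtain ⟨c1, c2, c3, c4⟩ := cnt_orbs
    rw [hO] at ho
    simp only [E6.orbsT, List.mem_cons, List.not_mem_nil, or_false] at ho
    have hq2 := two_le hK hq
    rcases ho with rfl | rfl | rfl | rfl <;> simp only [c1, c2, c3, c4] at h1 <;> nlinarith

include hφ hK G in
theorem coord : ∀ i < E6.pk.rank, ∃ (L : List ℕ) (t : ℕ → K), L.Pairwise (· < ·) ∧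
    (∀ r ∈ L, E6.pk.isPos r = true) ∧ E6.pk.sim i ∈ L ∧ t (E6.pk.sim i) ≠ 0 ∧
    (L.map fun r => E6.ok.xG r (t r)).prod ∈ (T φ).fixed := by
  have hc := cks
  simp only [Bool.and_eq_true] at hc
  obtain ⟨⟨⟨⟨⟨⟨⟨⟨a, -⟩, c⟩, -⟩, -⟩, p1⟩, -⟩, p3⟩, -⟩ := hc
  have hsingle : ∀ r, ck1 E6.pk gE6 r = true → E6.ok.xG r (1 : K) ∈ (T φ).fixed := fun r hr =>
    Std.xG_fixed ckG_E6 φ hr (map_one φ)
  have hpair : ∀ r s, ck2 E6.pk gE6 r s = true → E6.ok.xG s (1 : K) * E6.ok.xG r 1 ∈ (T φ).fixed := by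
    intro r s hrs
    have h1 := Std.pair_fixed (h := E6.ok) ckG_E6 φ ckComm_E6 hrs (t := (1 : K)) (by rw [map_one, map_one])
    rw [map_one] at h1
    rwa [(E6.ok.commute_xG ckComm_E6 (by simp only [ck2, Bool.and_eq_true] at hrs; exact hrs.1.1.1.1) 1 1).eq] at h1
  intro i hi
  have hi' : i = 0 ∨ i = 1 ∨ i = 2 ∨ i = 3 ∨ i = 4 ∨ i = 5 := by
    have : i < 6 := hi
    omega
  rcases hi' with rfl | rfl | rfl | rfl | rfl | rfl
  · exact ⟨[36, 56], fun _ => 1, by simp, by decide, by decide, one_ne_zero, by simpa using hpair _ _ p1⟩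
  · exact ⟨[46], fun _ => 1, by simp, by decide, by decide, one_ne_zero, by simpa using hsingle _ a⟩
  · exact ⟨[37, 42], fun _ => 1, by simp, by decide, by decide, one_ne_zero, by simpa using hpair _ _ p3⟩
  · exact ⟨[39], fun _ => 1, by simp, by decide, by decide, one_ne_zero, by simpa using hsingle _ c⟩
  · exact ⟨[37, 42], fun _ => 1, by simp, by decide, by decide, one_ne_zero, by simpa using hpair _ _ p3⟩
  · exact ⟨[36, 56], fun _ => 1, by simp, by decide, by decide, one_ne_zero, by simpa using hpair _ _ p1⟩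

include hφ hK hq hG hO in
theorem perfect : commutator ↥G.G1 = ⊤ := by
  have hq2 := two_le hK hq
  have hc := cks
  simp only [Bool.and_eq_true] at hc
  obtain ⟨⟨⟨⟨⟨⟨⟨⟨a, -⟩, c⟩, -⟩, k47⟩, p1⟩, -⟩, p3⟩, -⟩ := hc
  obtain ⟨cw, hsign⟩ := cworde
  have hz : ∃ z : Kˣ, (z : K) * z ≠ 1 := by
    classical
    by_contra hall
    push_neg at hall
    have hsub : (Finset.univ : Finset K) ⊆ {0, 1, -1} := fun x _ => by
      by_cases hx : x = 0
      · simp [hx]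
      · rcases mul_self_eq_one_iff.1 (hall (Units.mk0 x hx)) with e | e <;> simp at e <;> simp [e]
    have h1 := (Finset.card_le_card hsub).trans Finset.card_le_three
    rw [Finset.card_univ, hK] at h1
    nlinarith
  obtain ⟨z, hz⟩ := hz
  have hfix1 : ∀ w : List ℕ, ∀ b : ℕ, wl E6.pk (orbWord G.O.orbs w) 47 = b → ck1 E6.pk gE6 b = true →
      ∀ t : K, φ t = t → E6.ok.xG b t ∈ ⁅G.G1, G.G1⁆ := fun w b hw hb t ht =>
    G.long_derived ckComm_E6 hsign ⟨a, by decide⟩ ⟨c, by decide⟩ k47 (by decide) cw hw hb ht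
  have hpair : ∀ (i j : Fin 6) (x y : ℕ), E6.pk.sim i = x → E6.pk.sim j = y → ck2 E6.pk gE6 x y = true →
      E6.pk.isPos x = true → E6.pk.isPos y = true →
      (∀ u : Kˣ, ∀ v : Kˣ, hchar E6.pk (Pi.mulSingle i u * Pi.mulSingle j v : Fin 6 → Kˣ) x = (u : K) * u ∧
        hchar E6.pk (Pi.mulSingle i u * Pi.mulSingle j v : Fin 6 → Kˣ) y = (v : K) * v) →
      (T φ).τ (Pi.mulSingle i z * Pi.mulSingle j (Units.map φ.toMonoidHom z)) =
        (Pi.mulSingle i z * Pi.mulSingle j (Units.map φ.toMonoidHom z) : Fin 6 → Kˣ) →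
      ∀ t : K, E6.ok.xG x t * E6.ok.xG y (φ t) ∈ ⁅G.G1, G.G1⁆ := by
    intro i j x y hi hj hck hx hy hch hτ t
    have ho : ckOrth E6.pk x y = true := by simp only [ck2, Bool.and_eq_true] at hck; exact hck.1.1.1.1
    set cc : Fin 6 → Kˣ := Pi.mulSingle i z * Pi.mulSingle j (Units.map φ.toMonoidHom z)
    have hd : E6.ok.hHom (F := K) cc ∈ G.G1 := by rw [hG]; exact hHom_fixed_mem φ hφ hτ
    obtain ⟨ex, ey⟩ := hch z (Units.map φ.toMonoidHom z)
    set s := t / ((z : K) * z - 1)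
    have hs : ((z : K) * z - 1) * s = t := mul_div_cancel₀ _ (sub_ne_zero.2 hz)
    have hy1 : E6.ok.xG x s * E6.ok.xG y (φ s) ∈ G.G1 :=
      G.pos_fixed_le ckComm_E6 ⟨mul_mem (E6.ok.xG_mem_pos hx _) (E6.ok.xG_mem_pos hy _),
        Std.pair_fixed ckG_E6 φ ckComm_E6 hck (phi2 φ hφ hK s)⟩
    have h1 := G.mem_derived_of_comm hd hy1
    convert h1 using 1
    rw [commutatorElement_def, mul_inv_rev, E6.ok.xG_inv, E6.ok.xG_inv,
      show ∀ d a b a' b' : GL chevE6.Idx K, d * (a * b) * d⁻¹ * (b' * a') = (d * a * d⁻¹) * ((d * b * d⁻¹) * b') * a'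
        by intros; group,
      show E6.ok.hHom cc * E6.ok.xG x s * (E6.ok.hHom cc)⁻¹ = E6.ok.xG x (hchar E6.pk cc x * s) from
        E6.ok.hHom_xG cc (E6.pk.isPos_iff.1 hx).2 s,
      show E6.ok.hHom cc * E6.ok.xG y (φ s) * (E6.ok.hHom cc)⁻¹ = E6.ok.xG y (hchar E6.pk cc y * φ s) from
        E6.ok.hHom_xG cc (E6.pk.isPos_iff.1 hy).2 (φ s), E6.ok.xG_add, mul_assoc,
      (E6.ok.commute_xG ckComm_E6 ho (-s) (hchar E6.pk cc y * φ s + -φ s)).symm.eq, ← mul_assoc, E6.ok.xG_add,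
      show hchar E6.pk cc x = _ from ex, show hchar E6.pk cc y = _ from ey]
    congr 2
    · linear_combination -hs
    · rw [← hs]; simp only [Units.coe_map, map_mul, map_sub, map_one]
      show _ = φ z * φ z * φ s + -φ s
      ring
  have hchar6 : ∀ (c : Fin 6 → Kˣ), hchar E6.pk c 56 = (c 0 : K) ^ (2 : ℤ) * (c 2 : K) ^ (-1 : ℤ) ∧
      hchar E6.pk c 36 = (c 4 : K) ^ (-1 : ℤ) * (c 5 : K) ^ (2 : ℤ) ∧
      hchar E6.pk c 42 = (c 0 : K) ^ (-1 : ℤ) * (c 2 : K) ^ (2 : ℤ) * (c 3 : K) ^ (-1 : ℤ) ∧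
      hchar E6.pk c 37 = (c 3 : K) ^ (-1 : ℤ) * (c 4 : K) ^ (2 : ℤ) * (c 5 : K) ^ (-1 : ℤ) := by
    intro c
    have hA : (List.range 6).map (fun i => [56, 36, 42, 37].map fun r => E6.pk.A i r) =
        [[2, 0, -1, 0], [0, 0, 0, 0], [-1, 0, 2, 0], [0, 0, -1, -1], [0, -1, 0, 2], [0, 2, 0, -1]] := by
      decide +kernel
    simp [List.range_succ] at hA
    obtain ⟨⟨a1, a2, a3, a4⟩, ⟨b1, b2, b3, b4⟩, ⟨d1, d2, d3, d4⟩, ⟨e1, e2, e3, e4⟩, ⟨f1, f2, f3, f4⟩,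
      ⟨g1, g2, g3, g4⟩⟩ := hA
    refine ⟨?_, ?_, ?_, ?_⟩ <;>
      (show ∏ i : Fin 6, _ = _; rw [Fin.prod_univ_six]; simp [a1, a2, a3, a4, b1, b2, b3, b4, d1, d2, d3, d4,
        e1, e2, e3, e4, f1, f2, f3, f4, g1, g2, g3, g4])
  have hτ6 : ∀ (i j : Fin 6), (i = 0 ∧ j = 5) ∨ (i = 2 ∧ j = 4) →
      (T φ).τ (Pi.mulSingle i z * Pi.mulSingle j (Units.map φ.toMonoidHom z)) =
        (Pi.mulSingle i z * Pi.mulSingle j (Units.map φ.toMonoidHom z) : Fin 6 → Kˣ) := by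
    intro i j hij
    have key : ∀ a b : Kˣ, ∀ c : Fin 6 → Kˣ, φ (a : K) = b → φ (b : K) = a →
        (c = ![a, 1, 1, 1, 1, b] ∨ c = ![1, 1, a, 1, b, 1]) → (T φ).τ c = c := by
      intro a b c hab hba hc
      refine (tau_apply φ c).trans ?_
      rcases hc with rfl | rfl <;> funext k <;> fin_cases k <;> apply Units.ext <;> simp [hab, hba]
    refine key z (Units.map φ.toMonoidHom z) _ rfl (phi2 φ hφ hK _) ?_
    have e1 : ∀ u v : Kˣ, (Pi.mulSingle 0 u * Pi.mulSingle 5 v : Fin 6 → Kˣ) = ![u, 1, 1, 1, 1, v] := by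
      intro u v; funext k; fin_cases k <;> simp
    have e2 : ∀ u v : Kˣ, (Pi.mulSingle 2 u * Pi.mulSingle 4 v : Fin 6 → Kˣ) = ![1, 1, u, 1, v, 1] := by
      intro u v; funext k; fin_cases k <;> simp
    rcases hij with ⟨rfl, rfl⟩ | ⟨rfl, rfl⟩
    · exact Or.inl (e1 _ _)
    · exact Or.inr (e2 _ _)
  have horb : ∀ o ∈ G.O.orbs, G.Uw o.2 ≤ ⁅G.G1, G.G1⁆ := by
    intro o ho x hx
    rw [hO] at ho
    rcases Uw_forms φ ho hx with ⟨b, hb, t, ht, rfl⟩ | ⟨ab, hab, t, rfl⟩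
    · simp only [List.mem_cons, List.not_mem_nil, or_false] at hb
      rcases hb with rfl | rfl
      · exact hfix1 [1] 46 (by rw [hO]; decide +kernel) a t ht
      · exact hfix1 [0] 39 (by rw [hO]; decide +kernel) c t ht
    · simp only [List.mem_cons, List.not_mem_nil, or_false] at hab
      rcases hab with rfl | rfl
      · refine hpair 2 4 42 37 rfl rfl p3 (by decide) (by decide) (fun u v => ?_) (hτ6 2 4 (Or.inr ⟨rfl, rfl⟩)) t
        obtain ⟨-, -, h3, h4⟩ := hchar6 (Pi.mulSingle 2 u * Pi.mulSingle 4 v)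
        rw [h3, h4]; simp [Pi.mulSingle_apply, zpow_two, pow_two]
      · refine hpair 0 5 56 36 rfl rfl p1 (by decide) (by decide) (fun u v => ?_) (hτ6 0 5 (Or.inl ⟨rfl, rfl⟩)) t
        obtain ⟨h1, h2, -, -⟩ := hchar6 (Pi.mulSingle 0 u * Pi.mulSingle 5 v)
        rw [h1, h2]; simp [Pi.mulSingle_apply, zpow_two, pow_two]
  refine G.commutator_eq_top ?_
  have hneg : (([([1], 25), ([3], 32)] : List (List ℕ × ℕ)).all fun p => Nat.blt p.2 E6.pk.nroots &&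
      E6.pk.isPos (wl E6.pk p.1 p.2) && !E6.pk.isPos (wl E6.pk p.1 (wl E6.pk p.1 p.2))) = true ∧
    (([([2, 4], 29), ([2, 4], 34), ([0, 5], 15), ([0, 5], 35)] : List (List ℕ × ℕ)).all fun p =>
      Nat.blt p.2 E6.pk.nroots && E6.pk.isPos (wl E6.pk p.1 p.2) &&
      !E6.pk.isPos (wl E6.pk p.1 (wl E6.pk p.1 p.2))) = true := by decide +kernel
  simp only [List.all_cons, List.all_nil, Bool.and_true, Bool.and_eq_true, Nat.blt_eq, Bool.not_eq_true'] at hneg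
  obtain ⟨⟨⟨⟨q1, q2⟩, q3⟩, ⟨⟨r1, r2⟩, r3⟩⟩, ⟨⟨s1, s2⟩, s3⟩, ⟨⟨t1, t2⟩, t3⟩, ⟨⟨u1, u2⟩, u3⟩, ⟨⟨v1, v2⟩, v3⟩⟩ := hneg
  conv_lhs => rw [hG]
  refine (Subgroup.closure_le _).2 fun g hg => ?_
  have hmem : g ∈ G.G1 := hG ▸ Subgroup.subset_closure hg
  revert hmem
  refine gens (P' := fun g => g ∈ G.G1 → g ∈ ⁅G.G1, G.G1⁆) (fun r hr t ht hmem => ?_) (fun rs hr t hmem => ?_) hg
  · have ht' : φ t = t := (hφ t).trans ht
    simp only [List.mem_cons, List.not_mem_nil, or_false] at hr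
    rcases hr with rfl | rfl | rfl | rfl
    · exact hfix1 [1] 46 (by rw [hO]; decide +kernel) a t ht'
    · exact G.neg_derived (o := ([1], [1])) (by rw [hO]; decide) (horb _ (by rw [hO]; decide)) hmem
        (E6.ok.xG_mem_genR ⟨q1, q2, q3⟩ _)
    · exact hfix1 [0] 39 (by rw [hO]; decide +kernel) c t ht'
    · exact G.neg_derived (o := ([3], [3])) (by rw [hO]; decide) (horb _ (by rw [hO]; decide)) hmem
        (E6.ok.xG_mem_genR ⟨r1, r2, r3⟩ _)
  · simp only [List.mem_cons, List.not_mem_nil, or_false] at hr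
    rcases hr with rfl | rfl | rfl | rfl
    · rw [← hφ]
      obtain ⟨h1, h2, -, -⟩ := hchar6 1
      exact hpair 0 5 56 36 rfl rfl p1 (by decide) (by decide) (fun u v => by
        obtain ⟨h1, h2, -, -⟩ := hchar6 (Pi.mulSingle 0 u * Pi.mulSingle 5 v)
        rw [h1, h2]; simp [Pi.mulSingle_apply, zpow_two, pow_two]) (hτ6 0 5 (Or.inl ⟨rfl, rfl⟩)) t
    · exact G.neg_derived (o := ([0, 5], [0, 5])) (by rw [hO]; decide) (horb _ (by rw [hO]; decide)) hmem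
        (mul_mem (E6.ok.xG_mem_genR ⟨u1, u2, u3⟩ _) (E6.ok.xG_mem_genR ⟨v1, v2, v3⟩ _))
    · rw [← hφ]
      exact hpair 2 4 42 37 rfl rfl p3 (by decide) (by decide) (fun u v => by
        obtain ⟨-, -, h3, h4⟩ := hchar6 (Pi.mulSingle 2 u * Pi.mulSingle 4 v)
        rw [h3, h4]; simp [Pi.mulSingle_apply, zpow_two, pow_two]) (hτ6 2 4 (Or.inr ⟨rfl, rfl⟩)) t
    · exact G.neg_derived (o := ([2, 4], [2, 4])) (by rw [hO]; decide) (horb _ (by rw [hO]; decide)) hmem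
        (mul_mem (E6.ok.xG_mem_genR ⟨s1, s2, s3⟩ _) (E6.ok.xG_mem_genR ⟨t1, t2, t3⟩ _))

include hφ hK hq hG hO in
theorem simple : IsSimpleGroup ↥(twistedE6 K q) ∧ ¬ IsMulCommutative ↥(twistedE6 K q) := by
  have hp := proper hφ hK hq G hO
  have hne : G.G1 ≠ ⊥ := fun e => by
    have h1 := card_pos hφ hK hq G hO
    have h2 : chevE6.posUnipotent K ⊓ (T φ).fixed = ⊥ :=
      eq_bot_iff.2 fun x hx => e ▸ G.pos_fixed_le ckComm_E6 hx
    rw [h2, Subgroup.card_bot] at h1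
    exact (Nat.one_lt_pow (by norm_num) (two_le hK hq)).ne h1
  have := G.simple ckComm_E6 hp (perfect hφ hK hq G hG hO) (G.irreducible ckComm_E6 hp (hO ▸ chain6))
    (G.core_bot ckComm_E6 (coord hφ hK G)) hne
  rw [hG] at this
  exact this

include hφ hK hq hG hO in
theorem bn : ∃ P : Cfsg.BNPair ↥(twistedE6 K q),
    P.B = (chevE6.borelSubgroup K ⊓ twistedE6 K q).subgroupOf (twistedE6 K q) ∧
    P.N = (chevE6.monomialSubgroup K ⊓ twistedE6 K q).subgroupOf (twistedE6 K q) := by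
  have : ∃ P : Cfsg.BNPair ↥G.G1, P.B = (chevE6.borelSubgroup K ⊓ G.G1).subgroupOf G.G1 ∧
      P.N = (chevE6.monomialSubgroup K ⊓ G.G1).subgroupOf G.G1 :=
    ⟨G.bnPair ckComm_E6 (proper hφ hK hq G hO), rfl, rfl⟩
  rw [hG] at this
  exact this

include hφ hK hq hG hO in
theorem weyl : ∃ f : ↥(chevE6.monomialSubgroup K ⊓ twistedE6 K q) →* (CoxeterMatrix.F₄).Group, Function.Surjective f ∧
    f.ker = (chevE6.diagonalSubgroup K ⊓ twistedE6 K q).subgroupOf (chevE6.monomialSubgroup K ⊓ twistedE6 K q) := by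
  have := G.exists_phi ckComm_E6 (proper hφ hK hq G hO) (M := CoxeterMatrix.F₄) (hO ▸ cox6) (hO ▸ by decide)
  rw [hG] at this
  exact this

omit G hG hO in
/-- All the hypotheses are available. -/
theorem setup {K : Type*} [Field K] [Fintype K] {q : ℕ} (hq : IsPrimePow q) (hK : Fintype.card K = q ^ 2) :
    ∃ (φ : K →+* K) (G : TwistGrp (T φ)), (∀ t, φ t = t ^ q) ∧ G.G1 = twistedE6 K q ∧ G.O.orbs = E6.orbsT := by
  obtain ⟨φ, hφ⟩ := Std.exists_frob hq (by norm_num) hK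
  obtain ⟨G, hG, hO⟩ := exists_grp φ hφ hK
  exact ⟨φ, G, hφ, hG, hO⟩

end Cfsg.Agent.Chev.TwE6
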