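/-
Characteristic two: roots whose element is central in `U`, their centralisers, pairs of long root subgroups.
-/
import Cfsg.Agent.Lib.Chev.Order
import Cfsg.Agent.Lib.Chev.Simple

set_option autoImplicit false

namespace Cfsg.Agent.Chev

open Cfsg.Lie
open scoped Matrix commutatorElement

namespace Pk

variable (Q : Pk)

/-- The root elements of `r` and `s` commute in characteristic two. -/
def comm2 (r s : ℕ) : Bool :=
  Nat.beq s r || (!Nat.beq s (Q.ng r) && (Q.cterms r s).all fun c => decide (c.2.1 % 2 = 0))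

/-- Inclusion-style description of a dominant root and its orthogonal nodes `J` (all but `k`). -/
def ckCent (R k : ℕ) (J : List ℕ) : Bool :=
  Q.isPos R && Nat.blt k Q.rank &&
    decide (Q.A k R = 1 ∨ Q.A k R = 2) &&
    (List.range Q.rank).all (fun i =>
      bif J.any (Nat.beq i) then decide (Q.A i R = 0) && Q.comm2 R (Q.ng (Q.sim i)) else Nat.beq i k) &&
    J.all (fun i => Nat.blt i Q.rank) &&
    Q.allRoots.all fun s => !Q.isPos s || Q.comm2 R s

/-- All pairings of `r` with other roots are at most one in absolute value. -/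
def longB (r : ℕ) : Bool :=
  Q.allRoots.all fun x => Nat.beq x r || Nat.beq x (Q.ng r) || decide ((Q.pair r x).natAbs ≤ 1)

/-- Some root other than `± s` has pairing at least two with `s`. -/
def shortB (s : ℕ) : Bool :=
  Q.allRoots.any fun x => !Nat.beq x s && !Nat.beq x (Q.ng s) && decide (2 ≤ (Q.pair s x).natAbs)

/-- The commutator of `x_R` and `x_s` lives in one root commuting with both. -/
def shapeB (R s : ℕ) : Bool :=
  (R :: (Q.cterms R s).map Prod.fst).any fun k =>
    Nat.blt k Q.nroots && Q.comm2 R k && Q.comm2 k s &&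
      (Q.cterms R s).all fun c => decide (c.2.1 % 2 = 0) || Nat.beq c.1 k

/-- The pair check for a highest root. -/
def ckPair (R : ℕ) : Bool :=
  Q.isPos R && Q.longB R && (Q.allRoots.all fun s => !Q.isPos s || Q.comm2 R s) &&
    Q.allRoots.all fun s => Q.isPos s || Nat.beq s (Q.ng R) || Q.shortB s || Q.shapeB R s

end Pk

variable {D : ChevalleyDatum} {P : Pk} {F : Type*} [Field F]

namespace Ok

variable (h : Ok D P)
include h

theorem cword_fst {r s : ℕ} {g : ℕ × ℤ × ℕ × ℕ} (hg : g ∈ P.cword r s) :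
    ∃ c ∈ P.cterms r s, g.1 = c.1 ∧ (c.2.1 % 2 = 0 → g.2.1 % 2 = 0) := by
  simp only [Pk.cword, List.mem_map] at hg
  obtain ⟨c, hc, rfl⟩ := hg
  exact ⟨c, hc, rfl, fun e => by simp [Int.mul_emod, e]⟩

theorem cast_even [CharP F 2] {z : ℤ} (hz : z % 2 = 0) : (z : F) = 0 := by
  rw [CharP.intCast_eq_zero_iff F 2]
  exact Int.dvd_of_emod_eq_zero hz

theorem comm_xG (hC : P.ckComm = true) {r s : ℕ} (hr : r < P.nroots) (hs : s < P.nroots) (hsr : s ≠ r)
    (hsn : s ≠ P.ng r) (t u : F) :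
    h.xG s u * h.xG r t = h.xG r t * h.xG s u *
      ((P.cword r s).map fun g => h.xG g.1 ((g.2.1 : F) * t ^ g.2.2.1 * u ^ g.2.2.2)).prod := by
  apply Units.ext
  simp only [Units.val_mul, h.coe_xG' hr, h.coe_xG' hs, h.cword_prod hr hs]
  exact h.comm_formula hC hr hs hsr hsn t u

theorem comm2_commute [CharP F 2] (hC : P.ckComm = true) {r s : ℕ} (hr : r < P.nroots) (hs : s < P.nroots)
    (hc : P.comm2 r s = true) (t u : F) : Commute (h.xG r t) (h.xG s u) := by
  simp only [Pk.comm2, nbeq, Bool.or_eq_true, Bool.and_eq_true, decide_eq_true_eq, List.all_eq_true,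
    Bool.not_eq_true', decide_eq_false_iff_not] at hc
  by_cases hsr : s = r
  · subst hsr
    show _ * _ = _ * _
    rw [h.xG_add, h.xG_add, add_comm]
  obtain ⟨hsn, hev⟩ := hc.resolve_left hsr
  have e := h.comm_xG hC hr hs hsr hsn t u
  rw [List.prod_eq_one, mul_one] at e
  · exact e.symm
  · intro x hx
    obtain ⟨g, hg, rfl⟩ := List.mem_map.1 hx
    obtain ⟨c, hcm, -, hc2⟩ := h.cword_fst hg
    rw [h.cast_even (hc2 (hev c hcm)), zero_mul, zero_mul, h.xG_zero]

theorem commute_pos [CharP F 2] (hC : P.ckComm = true) {R : ℕ} (hR : R < P.nroots)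
    (hall : ∀ s < P.nroots, P.isPos s = true → P.comm2 R s = true) (t : F) {g : GL D.Idx F}
    (hg : g ∈ D.posUnipotent F) : Commute (h.xG R t) g := by
  have : D.posUnipotent F ≤ Subgroup.centralizer {h.xG R t} := h.posUnipotent_le fun s hs u => by
    rw [Subgroup.mem_centralizer_iff]
    intro y hy
    rw [Set.mem_singleton_iff] at hy
    rw [hy]
    exact h.comm2_commute hC hR (P.isPos_iff.1 hs).2 (hall s (P.isPos_iff.1 hs).2 hs) t u
  exact (Subgroup.mem_centralizer_iff.1 (this hg) _ rfl)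

theorem borel_scales {b : GL D.Idx F} (hb : b ∈ D.borelSubgroup F) {R : ℕ} (hR : R < P.nroots)
    (hcen : ∀ t : F, ∀ g ∈ D.posUnipotent F, Commute (h.xG R t) g) :
    ∃ e : F, e ≠ 0 ∧ ∀ t : F, b * h.xG R t * b⁻¹ = h.xG R (e * t) := by
  obtain ⟨v, hv, d, hd, rfl⟩ := h.mem_borel hb
  obtain ⟨c, rfl⟩ := h.mem_diagonal_iff.1 hd
  refine ⟨hchar P c R, (h.isChar_hchar c).ne R hR, fun t => ?_⟩
  rw [show v * h.hHom c * h.xG R t * (v * h.hHom c)⁻¹ =
    v * (h.hHom c * h.xG R t * (h.hHom c)⁻¹) * v⁻¹ by group, h.hHom_xG c hR]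
  rw [mul_inv_eq_iff_eq_mul]
  exact (hcen _ v hv).symm

/-- The stabiliser of a dominant root. -/
theorem stab_dominant {R : ℕ} {J : List ℕ} (hR : R < P.nroots) (hdom : ∀ i < P.rank, 0 ≤ P.A i R)
    (hJ : ∀ i < P.rank, i ∉ J → 0 < P.A i R) :
    ∀ (n : ℕ) (l : List ℕ), WordOk P l → invJ P (List.range P.rank) (act P l) = n → wl P l R = R →
      ∃ l', WordIn P J l' ∧ ∀ r < P.nroots, wl P l r = wl P l' r := by
  intro n
  induction n using Nat.strong_induction_on with
  | _ n ih =>
    intro l hl hn hfix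
    by_cases hneg : ∃ i, i < P.rank ∧ P.isPos (wl P l (P.sim i)) = false
    · obtain ⟨i, hi, hneg⟩ := hneg
      have hA0 : P.A i R = 0 := by
        rcases (hdom i hi).lt_or_eq with hlt | heq
        · exfalso
          have h1 := h.pair_wl l hl _ (h.sim_lt hi) R hR
          rw [hfix, h.pair_sim hi] at h1
          have h2 : P.pair (wl P l (P.sim i)) R ≤ 0 := by
            unfold Pk.pair
            have key : ∀ L : List ℤ, (∀ x ∈ L, x ≤ 0) → L.sum ≤ 0 := fun L => by
              induction L with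
              | nil => simp
              | cons a L ih =>
                intro hL
                rw [List.sum_cons]
                have := hL a List.mem_cons_self
                have := ih fun x hx => hL x (List.mem_cons_of_mem _ hx)
                omega
            refine key _ ?_
            intro x hx
            obtain ⟨j, hj, rfl⟩ := List.mem_map.1 hx
            have hj' := List.mem_range.1 hj
            have hs := ((h.roots_spec (h.wl_lt l hl _ (h.sim_lt hi))).1 j hj').2.2.1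
            rw [hneg] at hs
            simp only [Bool.false_eq_true, if_false] at hs
            exact mul_nonpos_of_nonpos_of_nonneg hs.2 (hdom j hj')
          omega
        · exact heq.symm
      have hiJ : i ∈ J := by
        by_contra hiJ
        have := hJ i hi hiJ
        omega
      have hwR : P.w i R = R := by
        refine h.rv_inj (h.w_lt hi hR) hR fun j hj => ?_
        rw [((h.w_spec hi hR).2.2.2.2.2.1 j hj).1, hA0]
        simp
      have hl1 : WordOk P (l ++ [i]) := fun x hx => by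
        rcases List.mem_append.1 hx with a | a
        · exact hl x a
        · simp at a; exact a ▸ hi
      have hlt := h.invJ_lt (J := List.range P.rank) hl hi (List.mem_range.2 hi) hneg
      obtain ⟨l', hl', hact⟩ := ih _ (hn ▸ hlt) (l ++ [i]) hl1 rfl (by rw [wl_append]; simp [wl, hwR, hfix])
      refine ⟨l' ++ [i], ⟨fun x hx => ?_, fun x hx => ?_⟩, fun r hr => ?_⟩
      · rcases List.mem_append.1 hx with a | a
        · exact hl'.1 x a
        · simp at a; exact a ▸ hi
      · rcases List.mem_append.1 hx with a | a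
        · exact hl'.2 x a
        · simp at a; exact a ▸ hiJ
      · have h1 := hact (P.w i r) (h.w_lt hi hr)
        rw [wl_append] at h1
        simp only [wl, h.w_w hi hr] at h1
        rw [h1, wl_append]
        rfl
    · simp only [not_exists, not_and, Bool.not_eq_false] at hneg
      exact ⟨[], ⟨fun x hx => absurd hx List.not_mem_nil, fun x hx => absurd hx List.not_mem_nil⟩,
        fun r hr => h.wl_eq_id l.length l le_rfl hl hneg r hr⟩

/-- Centraliser of the root involution of a dominant root. -/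
theorem centralizer_dominant [CharP F 2] (hC : P.ckComm = true) {R k : ℕ} {J : List ℕ}
    (hck : P.ckCent R k J = true) :
    D.group F ⊓ Subgroup.centralizer {h.xG R 1} =
      D.posUnipotent F ⊔ h.genR fun s => ∃ i ∈ J, s = P.ng (P.sim i) := by
  simp only [Pk.ckCent, nbeq, Bool.and_eq_true, List.all_eq_true, List.mem_range, decide_eq_true_eq,
    Nat.blt_eq, Pk.mem_allRoots, Bool.or_eq_true, Bool.not_eq_true'] at hck
  obtain ⟨⟨⟨⟨⟨hpos, hk⟩, hAk⟩, hJall⟩, hJlt⟩, hcen⟩ := hck
  have hR := (P.isPos_iff.1 hpos).2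
  have hsplit : ∀ i < P.rank, (i ∈ J → P.A i R = 0 ∧ P.comm2 R (P.ng (P.sim i)) = true) ∧ (i ∉ J → i = k) := by
    intro i hi
    have := hJall i hi
    have hb : J.any (Nat.beq i) = decide (i ∈ J) := by
      rw [Bool.eq_iff_iff, List.any_eq_true, decide_eq_true_eq]
      exact ⟨fun ⟨x, hx, e⟩ => (Nat.eq_of_beq_eq_true e) ▸ hx, fun hi => ⟨i, hi, Nat.beq_refl i⟩⟩
    rw [hb] at this
    constructor <;> intro hij <;> simpa [hij] using this
  have hdom : ∀ i < P.rank, 0 ≤ P.A i R := by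
    intro i hi
    by_cases hij : i ∈ J
    · rw [((hsplit i hi).1 hij).1]
    · rw [(hsplit i hi).2 hij]; omega
  have hout : ∀ i < P.rank, i ∉ J → 0 < P.A i R := by
    intro i hi hij; rw [(hsplit i hi).2 hij]; omega
  have hU : ∀ t : F, ∀ g ∈ D.posUnipotent F, Commute (h.xG R t) g := fun t g hg =>
    h.commute_pos hC hR (fun s hs hp => (hcen s hs).resolve_left (by simp [hp])) t hg
  set S := D.posUnipotent F ⊔ h.genR fun s => ∃ i ∈ J, s = P.ng (P.sim i) with hS
  have hSle : S ≤ D.group F ⊓ Subgroup.centralizer {h.xG R 1} := by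
    refine sup_le ?_ (h.genR_le ?_)
    · refine le_inf (fun g hg => h.borel_le_group (Subgroup.mem_sup_left hg)) fun g hg => ?_
      rw [Subgroup.mem_centralizer_iff]
      intro y hy; rw [Set.mem_singleton_iff] at hy; rw [hy]; exact hU 1 g hg
    · rintro s ⟨i, hi, rfl⟩ t
      refine Subgroup.mem_inf.2 ⟨h.mem_group_of_xG _ _, ?_⟩
      rw [Subgroup.mem_centralizer_iff]
      intro y hy; rw [Set.mem_singleton_iff] at hy; rw [hy]
      exact h.comm2_commute hC hR (ng_lt (h.sim_lt (hJlt i hi))) ((hsplit i (hJlt i hi)).1 hi).2 1 t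
  refine le_antisymm (fun g hg => ?_) hSle
  obtain ⟨hgG, hgC⟩ := Subgroup.mem_inf.1 hg
  have hmemU : ∀ {x}, x ∈ D.posUnipotent F → x ∈ S := fun hx => Subgroup.mem_sup_left hx
  have hxsim : ∀ i ∈ J, ∀ t : F, h.xG (P.sim i) t ∈ S ∧ h.xG (P.ng (P.sim i)) t ∈ S := fun i hi t =>
    ⟨hmemU (h.xG_mem_pos (h.sim_pos (hJlt i hi)) t), Subgroup.mem_sup_right (h.xG_mem_genR (by exact ⟨i, hi, rfl⟩) t)⟩
  have hnt : ∀ i ∈ J, ∀ t : F, h.nt (P.sim i) t ∈ S := fun i hi t => by
    rw [nt]
    exact mul_mem (mul_mem (hxsim i hi t).1 (hxsim i hi _).2) (hxsim i hi t).1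
  obtain ⟨b, hb, l, hl, u, hu, rfl⟩ := h.bruhat_exists hC hgG
  obtain ⟨v, hv, d, hd, rfl⟩ := h.mem_borel hb
  have huU := h.negS_le_pos l hu
  have hcomm : ∀ {x}, x ∈ S → x * h.xG R 1 = h.xG R 1 * x := fun hx =>
    ((Subgroup.mem_centralizer_iff.1 (Subgroup.mem_inf.1 (hSle hx)).2) _ rfl).symm
  have hgC' : (v * d * h.nW l * u) * h.xG R 1 = h.xG R 1 * (v * d * h.nW l * u) :=
    ((Subgroup.mem_centralizer_iff.1 hgC) _ rfl).symm
  have key : d * h.nW l * h.xG R 1 * (d * h.nW l)⁻¹ = h.xG R 1 := by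
    have h1 := hcomm (hmemU hv)
    have h2 := hcomm (hmemU huU)
    calc d * h.nW l * h.xG R 1 * (d * h.nW l)⁻¹
        = v⁻¹ * (v * d * h.nW l * (h.xG R 1 * u) * u⁻¹ * (d * h.nW l)⁻¹ * v⁻¹) * v := by group
      _ = v⁻¹ * (v * d * h.nW l * u * h.xG R 1 * (v * d * h.nW l * u)⁻¹) * v := by rw [← h2]; group
      _ = v⁻¹ * (h.xG R 1 * v) := by rw [hgC']; group
      _ = _ := by rw [← h1]; group
  obtain ⟨c, rfl⟩ := h.mem_diagonal_iff.1 hd
  obtain ⟨e, he, hx⟩ := h.nW_xG (F := F) l hl R hR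
  have hfix : wl P l R = R := by
    rw [show h.hHom c * h.nW l * h.xG R 1 * (h.hHom c * h.nW l)⁻¹ =
      h.hHom c * (h.nW l * h.xG R 1 * (h.nW l)⁻¹) * (h.hHom c)⁻¹ by group, (hx 1).1,
      h.hHom_xG c (h.wl_lt l hl R hR)] at key
    exact (h.xG_index_inj hR (h.wl_lt l hl R hR) one_ne_zero key.symm).symm
  obtain ⟨l', hl', hact⟩ := h.stab_dominant hR hdom hout _ l hl rfl hfix
  have hn' : h.nW (F := F) l' ∈ S := by
    have : ∀ L, (∀ i ∈ L, i ∈ J) → h.nW (F := F) L ∈ S := by
      intro L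
      induction L with
      | nil => intro _; rw [h.nW_nil]; exact one_mem _
      | cons i L ih =>
        intro hL
        rw [h.nW_cons]
        exact mul_mem (hnt i (hL i List.mem_cons_self) 1) (ih fun x hx => hL x (List.mem_cons_of_mem _ hx))
    exact this l' hl'.2
  have hd' := h.mem_diagonal_of_wl_eq (F := F) hl hl'.1 hact
  have hd'' : h.hHom c * h.nW l * (h.nW l')⁻¹ ∈ D.diagonalSubgroup F := by
    have h4 := (Subgroup.mem_normalizer_iff.1 (h.nW_normalizer (F := F) l hl) _).1 (inv_mem hd')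
    have h5 := mul_mem (show h.hHom c ∈ D.diagonalSubgroup F from h.mem_diagonal_iff.2 ⟨c, rfl⟩) h4
    convert h5 using 1
    group
  obtain ⟨c', hc'⟩ := h.mem_diagonal_iff.1 hd''
  have hc1 : hchar P c' R = 1 := by
    have h1 := hcomm hn'
    have h5 : h.hHom c' * h.xG R 1 * (h.hHom c')⁻¹ = h.xG R 1 := by
      rw [hc']
      calc h.hHom c * h.nW l * (h.nW l')⁻¹ * h.xG R 1 * (h.hHom c * h.nW l * (h.nW l')⁻¹)⁻¹
          = h.hHom c * h.nW l * (h.nW l')⁻¹ * (h.xG R 1 * h.nW l') * (h.hHom c * h.nW l)⁻¹ := by group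
        _ = h.hHom c * h.nW l * h.xG R 1 * (h.hHom c * h.nW l)⁻¹ := by rw [← h1]; group
        _ = _ := key
    rw [h.hHom_xG c' hR, mul_one] at h5
    exact h.xG_inj_param hR h5
  have hck' : c' ⟨k, hk⟩ = 1 := by
    rw [hchar, Finset.prod_eq_single (⟨k, hk⟩ : Fin P.rank)] at hc1
    · apply Units.ext
      rw [Units.val_one]
      rcases hAk with a | a <;> rw [a] at hc1
      · simpa using hc1
      · rw [zpow_two] at hc1
        have h0 : ((c' ⟨k, hk⟩ : F) - 1) * ((c' ⟨k, hk⟩ : F) - 1) = 0 := by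
          have h2 : (2 : F) = 0 := CharTwo.two_eq_zero
          linear_combination hc1 - ((c' ⟨k, hk⟩ : F) - 1) * h2
        exact sub_eq_zero.1 (mul_self_eq_zero.1 h0)
    · intro j _ hj
      have hjJ : j.val ∈ J := by
        by_contra hjJ; exact hj (Fin.ext ((hsplit j.val j.isLt).2 hjJ))
      rw [((hsplit j.val j.isLt).1 hjJ).1, zpow_zero]
    · simp
  have hd3 : h.hHom c' ∈ S := by
    have key2 : ∀ T : Finset (Fin P.rank), h.hHom (F := F) (∏ i ∈ T, Pi.mulSingle i (c' i)) ∈ S := by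
      intro T
      induction T using Finset.induction_on with
      | empty => rw [Finset.prod_empty, map_one]; exact one_mem _
      | insert i T hi ih =>
        rw [Finset.prod_insert hi, map_mul]
        refine mul_mem ?_ ih
        by_cases hij : i.val ∈ J
        · rw [h.hHom_single i, ht]
          exact mul_mem (hnt _ hij _) (hnt _ hij _)
        · have : i = ⟨k, hk⟩ := Fin.ext ((hsplit i.val i.isLt).2 hij)
          rw [this, hck', Pi.mulSingle_one, map_one]
          exact one_mem _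
    have := key2 Finset.univ
    rwa [Finset.univ_prod_mulSingle c'] at this
  rw [show v * h.hHom c * h.nW l * u = v * (h.hHom c * h.nW l * (h.nW l')⁻¹) * h.nW l' * u by group, ← hc']
  exact mul_mem (mul_mem (mul_mem (hmemU hv) hd3) hn') (hmemU huU)

theorem xG_two [CharP F 2] (r : ℕ) (t : F) : h.xG r t * h.xG r t = 1 := by
  rw [h.xG_add, CharTwo.add_self_eq_zero, h.xG_zero]

theorem isPGroup_pos [CharP F 2] [Fintype F] (hC : P.ckComm = true) :
    IsPGroup 2 (D.posUnipotent F) := by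
  obtain ⟨n, -, hq⟩ := FiniteField.card F 2
  exact IsPGroup.of_card (n := n * (P.nroots / 2)) (by rw [h.card_pos hC, hq, pow_mul])

theorem pair_shape [CharP F 2] (hC : P.ckComm = true) {R s : ℕ} (hR : R < P.nroots) (hs : s < P.nroots)
    (hsR : s ≠ R) (hsn : s ≠ P.ng R) (hsh : P.shapeB R s = true) :
    IsPGroup 2 ↥(D.rootSubgroup F R ⊔ D.rootSubgroup F s) := by
  simp only [Pk.shapeB, List.any_eq_true, Bool.and_eq_true, Nat.blt_eq, List.all_eq_true,
    Bool.or_eq_true, decide_eq_true_eq, nbeq] at hsh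
  obtain ⟨k, -, ⟨⟨hk, hRk⟩, hks⟩, hall⟩ := hsh
  have cR : ∀ a c : F, h.xG R a * h.xG k c = h.xG k c * h.xG R a := fun a c => h.comm2_commute hC hR hk hRk a c
  have cs : ∀ c b : F, h.xG k c * h.xG s b = h.xG s b * h.xG k c := fun c b => h.comm2_commute hC hk hs hks c b
  have hz : ∀ a b : F, ∃ z : F, h.xG s b * h.xG R a = h.xG R a * h.xG s b * h.xG k z := by
    intro a b
    have hmem : ((P.cword R s).map fun g => h.xG g.1 ((g.2.1 : F) * a ^ g.2.2.1 * b ^ g.2.2.2)).prod ∈
        D.rootSubgroup F k := by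
      refine list_prod_mem fun x hx => ?_
      obtain ⟨g, hg, rfl⟩ := List.mem_map.1 hx
      obtain ⟨c, hc, hgc, hev⟩ := h.cword_fst hg
      rcases hall c hc with e | e
      · rw [h.cast_even (hev e), zero_mul, zero_mul, h.xG_zero]
        exact one_mem _
      · rw [hgc, e]
        exact h.mem_rootSubgroup _
    rw [← SetLike.mem_coe, h.rootSubgroup_eq] at hmem
    obtain ⟨z, hz⟩ := hmem
    exact ⟨z, by rw [hz]; exact h.comm_xG hC hR hs hsR hsn a b⟩
  have mulf : ∀ a b c a' b' c' : F, ∃ z : F,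
      h.xG R a * h.xG s b * h.xG k c * (h.xG R a' * h.xG s b' * h.xG k c') =
        h.xG R (a + a') * h.xG s (b + b') * h.xG k (z + (c + c')) := by
    intro a b c a' b' c'
    obtain ⟨z, hz⟩ := hz a' b
    refine ⟨z, ?_⟩
    calc h.xG R a * h.xG s b * h.xG k c * (h.xG R a' * h.xG s b' * h.xG k c')
        = h.xG R a * h.xG s b * (h.xG k c * h.xG R a') * (h.xG s b' * h.xG k c') := by group
      _ = h.xG R a * (h.xG s b * h.xG R a') * (h.xG k c * h.xG s b') * h.xG k c' := by rw [← cR]; group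
      _ = h.xG R a * h.xG R a' * h.xG s b * (h.xG k z * h.xG s b') * (h.xG k c * h.xG k c') := by
          rw [hz, cs c b']; group
      _ = h.xG R a * h.xG R a' * (h.xG s b * h.xG s b') * (h.xG k z * (h.xG k c * h.xG k c')) := by
          rw [cs z b']; group
      _ = _ := by rw [h.xG_add, h.xG_add, h.xG_add, h.xG_add]
  let K : Subgroup (GL D.Idx F) :=
    { carrier := {g | ∃ a b c, g = h.xG R a * h.xG s b * h.xG k c}
      one_mem' := ⟨0, 0, 0, by simp [h.xG_zero]⟩
      mul_mem' := by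
        rintro _ _ ⟨a, b, c, rfl⟩ ⟨a', b', c', rfl⟩
        obtain ⟨z, e⟩ := mulf a b c a' b' c'
        exact ⟨_, _, _, e⟩
      inv_mem' := by
        rintro _ ⟨a, b, c, rfl⟩
        obtain ⟨z, e⟩ := mulf a b c a b c
        refine ⟨a, b, c + (z + (c + c)), inv_eq_of_mul_eq_one_right ?_⟩
        rw [← h.xG_add k c, ← mul_assoc (h.xG R a * h.xG s b), ← mul_assoc, e]
        simp only [CharTwo.add_self_eq_zero, add_zero, h.xG_zero, one_mul]
        rw [h.xG_two] }
  have hle : D.rootSubgroup F R ⊔ D.rootSubgroup F s ≤ K := by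
    refine sup_le ?_ ?_ <;> intro g hg <;> rw [← SetLike.mem_coe, h.rootSubgroup_eq] at hg <;>
      obtain ⟨t, rfl⟩ := hg
    · exact ⟨t, 0, 0, by simp [h.xG_zero]⟩
    · exact ⟨0, t, 0, by simp [h.xG_zero]⟩
  refine IsPGroup.to_le (fun g => ⟨2, ?_⟩) hle
  obtain ⟨g, a, b, c, rfl⟩ := g
  obtain ⟨z, e⟩ := mulf a b c a b c
  apply Subtype.ext
  show (h.xG R a * h.xG s b * h.xG k c) ^ 2 ^ 2 = 1
  rw [show (2 : ℕ) ^ 2 = 2 + 2 from rfl, pow_add, pow_two, e]
  simp only [CharTwo.add_self_eq_zero, add_zero, h.xG_zero, one_mul, h.xG_two]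

/-- Two long root subgroups of a highest root: a `2`-group or opposite. -/
theorem pair_highest [CharP F 2] [Fintype F] (hC : P.ckComm = true) {R : ℕ} (hck : P.ckPair R = true)
    {g : GL D.Idx F} (hg : g ∈ D.group F) :
    IsPGroup 2 ↥(D.rootSubgroup F R ⊔ (D.rootSubgroup F R).map (MulAut.conj g).toMonoidHom) ∨
    ∃ x ∈ D.group F, (D.rootSubgroup F R ⊔ (D.rootSubgroup F R).map (MulAut.conj g).toMonoidHom).map
      (MulAut.conj x).toMonoidHom = D.rootSubgroup F R ⊔ D.rootSubgroup F (P.ng R) := by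
  simp only [Pk.ckPair, Bool.and_eq_true, List.all_eq_true, Pk.mem_allRoots, Bool.or_eq_true,
    Bool.not_eq_true', nbeq, decide_eq_true_eq] at hck
  obtain ⟨⟨⟨hpos, hlong⟩, hcen⟩, hcase⟩ := hck
  have hR := (P.isPos_iff.1 hpos).2
  have hU : ∀ t : F, ∀ u ∈ D.posUnipotent F, Commute (h.xG R t) u := fun t u hu =>
    h.commute_pos hC hR (fun s hs hp => (hcen s hs).resolve_left (by simp [hp])) t hu
  obtain ⟨b, hb, l, hl, u, hu, rfl⟩ := h.bruhat_exists hC hg
  have huU := h.negS_le_pos l hu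
  set s := wl P l R with hs
  have hsn : s < P.nroots := h.wl_lt l hl R hR
  have hbX : (D.rootSubgroup F R).map (MulAut.conj b).toMonoidHom = D.rootSubgroup F R := by
    obtain ⟨e, he, hx⟩ := h.borel_scales hb hR hU
    apply SetLike.coe_injective
    rw [Subgroup.coe_map, h.rootSubgroup_eq]
    ext y
    simp only [Set.mem_image, Set.mem_range, MulEquiv.coe_toMonoidHom, MulAut.conj_apply]
    constructor
    · rintro ⟨_, ⟨t, rfl⟩, rfl⟩; exact ⟨_, (hx t).symm⟩
    · rintro ⟨t, rfl⟩; exact ⟨_, ⟨t / e, rfl⟩, by rw [hx, mul_div_cancel₀ _ he]⟩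
  have hnX : (D.rootSubgroup F R).map (MulAut.conj (b * h.nW l * u)).toMonoidHom =
      (D.rootSubgroup F s).map (MulAut.conj b).toMonoidHom := by
    obtain ⟨e, he, hx⟩ := h.nW_xG (F := F) l hl R hR
    have hconj : ∀ t, b * h.nW l * u * h.xG R t * (b * h.nW l * u)⁻¹ = b * (h.nW l * h.xG R t * (h.nW l)⁻¹) * b⁻¹ := by
      intro t
      calc _ = b * h.nW l * (u * h.xG R t * u⁻¹) * (h.nW l)⁻¹ * b⁻¹ := by group
        _ = b * h.nW l * h.xG R t * (h.nW l)⁻¹ * b⁻¹ := by
            rw [← (hU t u huU).eq, mul_inv_cancel_right]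
        _ = _ := by group
    apply SetLike.coe_injective
    rw [Subgroup.coe_map, Subgroup.coe_map, h.rootSubgroup_eq, h.rootSubgroup_eq]
    ext y
    simp only [Set.mem_image, Set.mem_range, MulEquiv.coe_toMonoidHom, MulAut.conj_apply]
    constructor
    · rintro ⟨_, ⟨t, rfl⟩, rfl⟩; exact ⟨_, ⟨e * t, rfl⟩, by rw [hconj, (hx t).1, hs]⟩
    · rintro ⟨_, ⟨t, rfl⟩, rfl⟩
      exact ⟨_, ⟨e * t, rfl⟩, by rw [hconj, (hx _).1, ← mul_assoc, he, one_mul, hs]⟩
  rw [hnX]
  by_cases hsR : s = P.ng R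
  · right
    refine ⟨b⁻¹, inv_mem (h.borel_le_group hb), ?_⟩
    rw [← hbX, ← Subgroup.map_sup, Subgroup.map_map, hsR]
    convert Subgroup.map_id _ using 2
    ext y
    simp [mul_assoc]
  left
  rw [← hbX, ← Subgroup.map_sup]
  refine IsPGroup.map ?_ _
  by_cases hp : P.isPos s = true
  · refine (h.isPGroup_pos hC).to_le (sup_le ?_ ?_) <;> intro x hx <;>
      rw [← SetLike.mem_coe, h.rootSubgroup_eq] at hx <;> obtain ⟨t, rfl⟩ := hx
    · exact h.xG_mem_pos hpos t
    · exact h.xG_mem_pos hp t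
  have hne : s ≠ R := fun e => hp (e ▸ hpos)
  have hshort : ¬ P.shortB s = true := by
    simp only [Pk.shortB, List.any_eq_true, Pk.mem_allRoots, Bool.and_eq_true, Bool.not_eq_true',
      nbeq, decide_eq_false_iff_not, decide_eq_true_eq]
    rintro ⟨x, hxn, ⟨hx1, hx2⟩, hx3⟩
    have hlr : WordOk P l.reverse := fun i hi => hl i (List.mem_reverse.1 hi)
    set x' := wl P l.reverse x with hx'
    have hx'n : x' < P.nroots := h.wl_lt _ hlr x hxn
    have hxx : wl P l x' = x := h.wl_reverse' hl hxn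
    have hlo : (P.pair R x').natAbs ≤ 1 := by
      simp only [Pk.longB, List.all_eq_true, Pk.mem_allRoots, Bool.or_eq_true, nbeq, decide_eq_true_eq] at hlong
      rcases hlong x' hx'n with (e | e) | e
      · exact absurd (by rw [← hxx, e, hs]) hx1
      · exact absurd (by rw [← hxx, e, h.wl_ng l hl R hR, hs]) hx2
      · exact e
    rw [← h.pair_wl l hl R hR x' hx'n, hxx, ← hs] at hlo
    omega
  rcases hcase s hsn with ((e | e) | e) | e
  · exact absurd e hp
  · exact absurd e hsR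
  · exact absurd e hshort
  · exact h.pair_shape hC hR hsn hne hsR e

theorem centralizer_list [CharP F 2] (hC : P.ckComm = true) {R k : ℕ} {J L : List ℕ} (hck : P.ckCent R k J = true)
    (hL : L = J.map fun i => P.ng (P.sim i)) {t : GL D.Idx F} (ht : (t : Matrix D.Idx D.Idx F) = D.x F R 1) :
    D.group F ⊓ Subgroup.centralizer {t} =
      D.posUnipotent F ⊔ Subgroup.closure {g : GL D.Idx F | ∃ s ∈ L, ∃ c : F, (g : Matrix D.Idx D.Idx F) = D.x F s c} := by
  rw [h.eq_xG_iff.1 ht, h.centralizer_dominant hC hck, Ok.genR]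
  congr 2
  ext g
  subst hL
  simp only [Set.mem_setOf_eq, List.mem_map]
  constructor
  · rintro ⟨r, c, ⟨i, hi, rfl⟩, rfl⟩; exact ⟨_, ⟨i, hi, rfl⟩, c, h.coe_xG _ _⟩
  · rintro ⟨s, ⟨i, hi, rfl⟩, c, hg⟩; exact ⟨_, c, ⟨i, hi, rfl⟩, h.eq_xG_iff.1 hg⟩

theorem closure_list_eq {L : List ℕ} :
    Subgroup.closure {g : GL D.Idx F | ∃ s ∈ L, ∃ c : F, (g : Matrix D.Idx D.Idx F) = D.x F s c} =
      L.foldr (fun s S => D.rootSubgroup F s ⊔ S) ⊥ := by
  induction L with
  | nil => simp
  | cons a L ih =>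
    rw [List.foldr_cons, ← ih, ChevalleyDatum.rootSubgroup, ← Subgroup.closure_union]
    congr 1
    ext g
    simp

end Ok

end Cfsg.Agent.Chev
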