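/-
The special isogenies in characteristic two and three.
-/
import Cfsg.Agent.Lib.Chev.Simple
import Cfsg.Agent.Lib.Chev.FieldAut
import Cfsg.Agent.Lib.Chev.AllC

set_option autoImplicit false

namespace Cfsg.Agent.Chev

open Cfsg.Lie
open scoped Matrix

/-- Data of a symmetry exchanging long and short roots. -/
structure Sp where
  /-- the characteristic -/
  p : ℕ
  /-- images of the roots -/
  rho : List ℕ
  /-- images of the nodes -/
  pi : List ℕ
  /-- the long roots -/
  longs : List ℕ
  /-- the long nodes -/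
  longNodes : List ℕ

namespace Sp

variable (g : Sp)

/-- Image of a root. -/
def rr (r : ℕ) : ℕ := g.rho.getD r r

/-- Image of a node. -/
def pp (i : ℕ) : ℕ := g.pi.getD i i

/-- The long roots. -/
def lon (r : ℕ) : Bool := g.longs.any (Nat.beq r)

/-- The exponent at a root. -/
def lam (r : ℕ) : ℕ := bif g.lon r then 1 else g.p

/-- The coordinates of the ideal spanned by the short roots. -/
def inI (P : Pk) (c : ℕ) : Bool :=
  bif Nat.blt c P.nroots then !g.lon c else !g.longNodes.any (Nat.beq (c - P.nroots))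

/-- The exchange of the coordinates. -/
def sw (P : Pk) (c : ℕ) : ℕ :=
  bif Nat.blt c P.nroots then g.rr c else P.nroots + g.pp (c - P.nroots)

/-- Nodes. -/
def ckSN (P : Pk) : Bool :=
  (List.range P.rank).all fun i => Nat.blt (g.pp i) P.rank &&
    Nat.beq (g.rr (P.sim i)) (P.sim (g.pp i))

/-- Roots. -/
def ckSR (P : Pk) : Bool :=
  P.allRoots.all fun r => Nat.blt (g.rr r) P.nroots && Nat.beq (g.rr (g.rr r)) r &&
    Nat.beq (g.rr (P.ng r)) (P.ng (g.rr r)) && (P.isPos (g.rr r) == P.isPos r) &&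
    (g.lon (g.rr r) == !g.lon r) && (g.lon (P.ng r) == g.lon r)

/-- Long roots are sums of short roots. -/
def ckSpan (P : Pk) : Bool :=
  P.allRoots.all fun r => !g.lon r || P.allRoots.any fun s => !g.lon s && P.allRoots.any fun u =>
    !g.lon u && (List.range P.rank).all fun i =>
      decide (P.rv r i = P.rv s i + P.rv u i)

/-- The exchange of the coordinates is an involution exchanging the ideal and its complement. -/
def ckSC (P : Pk) : Bool :=
  P.allCodes.all fun c => Nat.blt (g.sw P c) P.dim && Nat.beq (g.sw P (g.sw P c)) c &&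
    (g.inI P (g.sw P c) == !g.inI P c)

/-- The ideal is invariant. -/
def ckInv (P : Pk) : Bool :=
  P.allRoots.all fun r => P.allCodes.all fun y => !g.inI P y || (List.range 4).all fun k =>
    Nat.beq k 0 || (P.colL k r y).all fun q => g.inI P q.1 || decide (cf (P.colL k r y) q.1 % (g.p : ℤ) = 0)

/-- The two columns to be compared. -/
def cmpCol (P : Pk) (r y k : ℕ) : V :=
  (bif Nat.blt k 4 then ((P.colL k r (g.sw P y)).filter fun q => !g.inI P q.1).map fun q => (g.sw P q.1, q.2)
    else []) ++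
  (bif Nat.beq (k % g.lam r) 0 && Nat.blt (k / g.lam r) 4 then
    scl (-1) (P.colL (k / g.lam r) (g.rr r) y) else [])

/-- The quotient is the ideal twisted. -/
def ckCmp (P : Pk) : Bool :=
  P.allRoots.all fun r => P.allCodes.all fun y => !g.inI P y || (List.range (4 * g.p)).all fun k =>
    (g.cmpCol P r y k).all fun q => !g.inI P q.1 || decide (cf (g.cmpCol P r y k) q.1 % (g.p : ℤ) = 0)

/-- All checks. -/
def ckSp (P : Pk) : Bool :=
  Nat.blt 1 g.p && Nat.blt g.p 4 && g.ckSN P && g.ckSR P && g.ckSpan P && g.ckSC P && g.ckInv P && g.ckCmp P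

end Sp

/-- Exchange data of B₂. -/
def spB2 : Sp where
  p := 2
  rho := [1, 0, 3, 2, 5, 4, 7, 6]
  pi := [1, 0]
  longs := [0, 3, 4, 7]
  longNodes := [1]

/-- Exchange data of G₂. -/
def spG2 : Sp where
  p := 3
  rho := [2, 3, 0, 1, 5, 4, 7, 6, 10, 11, 8, 9]
  pi := [1, 0]
  longs := [0, 1, 5, 6, 10, 11]
  longNodes := [1]

/-- Exchange data of F₄. -/
def spF4 : Sp where
  p := 2
  rho := [3, 7, 8, 0, 9, 11, 18, 1, 2, 4, 15, 5, 16, 21, 23, 10, 12, 19, 6, 17, 22, 13, 20, 14, 33, 27, 34, 25, 30, 41, 28, 35, 37, 24, 26, 31, 42, 32, 43, 45, 46, 29, 36, 38, 47, 39, 40, 44]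
  pi := [3, 2, 1, 0]
  longs := [0, 1, 2, 4, 5, 6, 15, 16, 17, 21, 22, 23, 24, 25, 26, 30, 31, 32, 41, 42, 43, 45, 46, 47]
  longNodes := [2, 3]

theorem ckSp_B2 : spB2.ckSp B2.pk = true := by decide +kernel
theorem ckSp_G2 : spG2.ckSp G2.pk = true := by decide +kernel
theorem ckSp_F4 : spF4.ckSp F4.pk = true := by decide +kernel

end Cfsg.Agent.Chev
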