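/-
The Chevalley group acting on the ideal of short roots, and the resulting endomorphism.
-/
import Cfsg.Agent.Lib.Chev.Special
import Cfsg.Agent.Lib.Chev.Twist

set_option autoImplicit false
set_option maxHeartbeats 400000

namespace Cfsg.Agent.Chev

open Cfsg.Lie
open scoped Matrix

theorem cast_mod {F : Type*} [Field F] {p : ℕ} [CharP F p] {z : ℤ} (e : z % (p : ℤ) = 0) : (z : F) = 0 :=
  (CharP.intCast_eq_zero_iff F p z).2 (Int.dvd_of_emod_eq_zero e)

theorem cf_filter_map (keep : ℕ → Bool) (f : ℕ → ℕ) {x x' : ℕ} :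
    ∀ v : V, (∀ q ∈ v, (keep q.1 = true ∧ f q.1 = x) ↔ q.1 = x') →
      cf ((v.filter fun q => keep q.1).map fun q => (f q.1, q.2)) x = cf v x'
  | [], _ => rfl
  | q :: v, hv => by
    have ih := cf_filter_map keep f v fun a ha => hv a (List.mem_cons_of_mem _ ha)
    have h1 := hv q List.mem_cons_self
    cases hk : keep q.1
    · have hne : q.1 ≠ x' := fun e => by have := (h1.2 e).1; simp [hk] at this
      simp [List.filter_cons, hk, cf_cons, hne, ih]
    · by_cases hx : f q.1 = x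
      · have hq := h1.1 ⟨hk, hx⟩
        rw [List.filter_cons_of_pos (by simpa using hk), List.map_cons, cf_cons, cf_cons, ih]
        rw [if_pos hx, if_pos hq]
      · have hne : q.1 ≠ x' := fun e => hx (h1.2 e).2
        simp [List.filter_cons, hk, cf_cons, hx, hne, ih]

variable {D : ChevalleyDatum} {P : Pk} {F : Type*} [Field F] {g : Sp}

/-- Block triangular with respect to the ideal. -/
def Stab (g : Sp) (P : Pk) (M : Matrix D.Idx D.Idx F) : Prop :=
  ∀ x y : D.Idx, g.inI P (code P y) = true → g.inI P (code P x) = false → M x y = 0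

namespace Ok

variable (h : Ok D P) (hg : g.ckSp P = true)
include h hg

theorem sp_p : 1 < g.p ∧ g.p < 4 := by
  simp only [Sp.ckSp, Bool.and_eq_true, Nat.blt_eq] at hg
  exact ⟨hg.1.1.1.1.1.1.1, hg.1.1.1.1.1.1.2⟩

theorem sp_node {i : ℕ} (hi : i < P.rank) : g.pp i < P.rank ∧ g.rr (P.sim i) = P.sim (g.pp i) := by
  simp only [Sp.ckSp, Sp.ckSN, Bool.and_eq_true, Nat.blt_eq, List.all_eq_true, List.mem_range, nbeq,
    decide_eq_true_eq] at hg
  exact hg.1.1.1.1.1.2 i hi

theorem sp_root {r : ℕ} (hr : r < P.nroots) :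
    g.rr r < P.nroots ∧ g.rr (g.rr r) = r ∧ g.rr (P.ng r) = P.ng (g.rr r) ∧
      P.isPos (g.rr r) = P.isPos r ∧ g.lon (g.rr r) = !g.lon r ∧ g.lon (P.ng r) = g.lon r := by
  simp only [Sp.ckSp, Sp.ckSR, Bool.and_eq_true, Nat.blt_eq, List.all_eq_true, Pk.mem_allRoots, nbeq,
    decide_eq_true_eq, beq_iff_eq] at hg
  obtain ⟨⟨⟨⟨⟨a, b⟩, c⟩, d⟩, e⟩, e'⟩ := hg.1.1.1.1.2 r hr
  exact ⟨a, b, c, d, e, e'⟩

theorem sp_span {r : ℕ} (hr : r < P.nroots) (hl : g.lon r = true) :
    ∃ s < P.nroots, g.lon s = false ∧ ∃ u < P.nroots, g.lon u = false ∧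
      ∀ i < P.rank, P.rv r i = P.rv s i + P.rv u i := by
  simp only [Sp.ckSp, Sp.ckSpan, Bool.and_eq_true, Bool.or_eq_true, List.all_eq_true, List.any_eq_true,
    Pk.mem_allRoots, List.mem_range, decide_eq_true_eq, Bool.not_eq_true'] at hg
  rcases hg.1.1.1.2 r hr with e | ⟨s, hs, e1, u, hu, e2, e3⟩
  · rw [hl] at e; exact absurd e (by decide)
  · exact ⟨s, hs, e1, u, hu, e2, e3⟩

theorem sp_code {c : ℕ} (hc : c < P.dim) :
    g.sw P c < P.dim ∧ g.sw P (g.sw P c) = c ∧ g.inI P (g.sw P c) = !g.inI P c := by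
  simp only [Sp.ckSp, Sp.ckSC, Bool.and_eq_true, Nat.blt_eq, List.all_eq_true, Pk.mem_allCodes, nbeq,
    decide_eq_true_eq, beq_iff_eq] at hg
  obtain ⟨⟨a, b⟩, e⟩ := hg.1.1.2 c hc
  exact ⟨a, b, e⟩

omit hg in
theorem inI_root {r : ℕ} (hr : r < P.nroots) : g.inI P r = !g.lon r := by
  simp [Sp.inI, blt_t hr]

theorem sp_inv {r : ℕ} (hr : r < P.nroots) {x y k : ℕ} (hy : y < P.dim) (hyI : g.inI P y = true)
    (hxI : g.inI P x = false) (hk : k < 4) (hk0 : k ≠ 0) [CharP F g.p] :
    (cf (P.colL k r y) x : F) = 0 := by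
  by_cases hne : ∀ q ∈ P.colL k r y, q.1 ≠ x
  · rw [cf_eq_zero hne, Int.cast_zero]
  push_neg at hne
  obtain ⟨q, hq, rfl⟩ := hne
  simp only [Sp.ckSp, Sp.ckInv, Bool.and_eq_true, List.all_eq_true, Pk.mem_allRoots, Pk.mem_allCodes,
    Bool.or_eq_true, Bool.not_eq_true', List.mem_range, nbeq, decide_eq_true_eq] at hg
  rcases hg.1.2 r hr y hy with e | e
  · rw [hyI] at e; exact absurd e (by decide)
  rcases e k hk with e | e
  · exact absurd e hk0
  rcases e q hq with e | e
  · rw [hxI] at e; exact absurd e (by decide)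
  · exact cast_mod e

theorem sp_cmp {r : ℕ} (hr : r < P.nroots) {x y k : ℕ} (hx : x < P.dim) (hy : y < P.dim)
    (hxI : g.inI P x = true) (hyI : g.inI P y = true) (hk : k < 4 * g.p) [CharP F g.p] :
    (if k < 4 then (cf (P.colL k r (g.sw P y)) (g.sw P x) : F) else 0) =
      (if k % g.lam r = 0 ∧ k / g.lam r < 4 then (cf (P.colL (k / g.lam r) (g.rr r) y) x : F) else 0) := by
  have h0 : (cf (g.cmpCol P r y k) x : F) = 0 := by
    by_cases hne : ∀ q ∈ g.cmpCol P r y k, q.1 ≠ x
    · rw [cf_eq_zero hne, Int.cast_zero]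
    push_neg at hne
    obtain ⟨q, hq, rfl⟩ := hne
    have hg' := hg
    simp only [Sp.ckSp, Sp.ckCmp, Bool.and_eq_true, List.all_eq_true, Pk.mem_allRoots, Pk.mem_allCodes,
      Bool.or_eq_true, Bool.not_eq_true', List.mem_range, decide_eq_true_eq] at hg'
    rcases hg'.2 r hr y hy with e | e
    · rw [hyI] at e; exact absurd e (by decide)
    rcases e k hk q hq with e | e
    · rw [hxI] at e; exact absurd e (by decide)
    · exact cast_mod e
  obtain ⟨hsy, -, -⟩ := h.sp_code hg hy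
  obtain ⟨hsx, hxx, hxs⟩ := h.sp_code hg hx
  rw [Sp.cmpCol, cf_append, Int.cast_add, add_eq_zero_iff_eq_neg] at h0
  have hA : cf (((P.colL k r (g.sw P y)).filter fun q => !g.inI P q.1).map fun q => (g.sw P q.1, q.2)) x =
      cf (P.colL k r (g.sw P y)) (g.sw P x) := by
    refine cf_filter_map (fun c => !g.inI P c) (g.sw P) _ fun q hq => ?_
    have hqd := h.valid_colL hr hsy q hq
    constructor
    · rintro ⟨-, e⟩
      rw [← e, (h.sp_code hg hqd).2.1]
    · intro e
      refine ⟨?_, by rw [e, hxx]⟩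
      rw [e, hxs, hxI]; rfl
  have hB : (Nat.beq (k % g.lam r) 0 && Nat.blt (k / g.lam r) 4) = decide (k % g.lam r = 0 ∧ k / g.lam r < 4) := by
    rw [nbeq, show Nat.blt (k / g.lam r) 4 = decide (k / g.lam r < 4) from ?_, Bool.decide_and]
    by_cases e : k / g.lam r < 4 <;> simp [e, blt_t, blt_f]
  rw [hB] at h0
  by_cases hk4 : k < 4 <;> by_cases hb : k % g.lam r = 0 ∧ k / g.lam r < 4 <;>
    simp only [hk4, hb, and_self, blt_t, blt_f, decide_true, decide_false, cond_true, cond_false, if_true, if_false,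
      cf_nil, Int.cast_zero, cf_scl, Int.cast_mul, Int.cast_neg, Int.cast_one, neg_mul, one_mul, neg_neg, neg_zero,
      not_false_eq_true, hA] at h0 ⊢ <;> exact h0

/-- The coordinate exchanged with a given one. -/
noncomputable def swX (x : D.Idx) : D.Idx := Classical.choose (h.exists_code (h.sp_code hg (h.code_lt x)).1)

theorem code_swX (x : D.Idx) : code P (h.swX hg x) = g.sw P (code P x) :=
  Classical.choose_spec (h.exists_code (h.sp_code hg (h.code_lt x)).1)

theorem swX_swX (x : D.Idx) : h.swX hg (h.swX hg x) = x :=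
  h.code_inj (by rw [h.code_swX hg, h.code_swX hg, (h.sp_code hg (h.code_lt x)).2.1])

theorem inI_swX (x : D.Idx) : g.inI P (code P (h.swX hg x)) = !g.inI P (code P x) := by
  rw [h.code_swX hg, (h.sp_code hg (h.code_lt x)).2.2]

theorem X_stab [CharP F g.p] {r : ℕ} (hr : r < P.nroots) (t : F) : Stab g P (X D P r t) := by
  intro x y hy hx
  rw [X_apply]
  refine Finset.sum_eq_zero fun k hk => ?_
  by_cases hk0 : k = 0
  · subst hk0
    have h0 := congrFun (congrFun (h.Ek_zero (r := r)) x) y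
    rw [Ek, opM_apply, Matrix.one_apply_ne (fun e => by rw [e, hy] at hx; exact absurd hx (by decide))] at h0
    rw [h0, Int.cast_zero, mul_zero]
  · rw [h.sp_inv hg hr (h.code_lt y) hy hx (Finset.mem_range.1 hk) hk0, mul_zero]

theorem lam_cases (r : ℕ) : g.lam r = 1 ∨ g.lam r = 2 ∨ g.lam r = 3 := by
  have := h.sp_p hg
  unfold Sp.lam
  cases g.lon r <;> simp <;> omega

theorem X_match [CharP F g.p] {r : ℕ} (hr : r < P.nroots) (t : F) {x y : D.Idx}
    (hx : g.inI P (code P x) = true) (hy : g.inI P (code P y) = true) :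
    X D P r t (h.swX hg x) (h.swX hg y) = X D P (g.rr r) (t ^ g.lam r) x y := by
  rw [X_apply, X_apply, h.code_swX hg, h.code_swX hg]
  set a : ℕ → F := fun k => (cf (P.colL k r (g.sw P (code P y))) (g.sw P (code P x)) : F) with ha
  set b : ℕ → F := fun k => (cf (P.colL k (g.rr r) (code P y)) (code P x) : F) with hb
  have key : ∀ k < 4 * g.p, (if k < 4 then a k else 0) =
      (if k % g.lam r = 0 ∧ k / g.lam r < 4 then b (k / g.lam r) else 0) := fun k hk =>
    h.sp_cmp hg hr (h.code_lt x) (h.code_lt y) hx hy hk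
  show ∑ k ∈ Finset.range 4, t ^ k * a k = ∑ k ∈ Finset.range 4, (t ^ g.lam r) ^ k * b k
  have e1 : ∑ k ∈ Finset.range 4, t ^ k * a k =
      ∑ k ∈ Finset.range (4 * g.p), t ^ k * (if k < 4 then a k else 0) := by
    rw [← Finset.sum_subset (Finset.range_mono (show 4 ≤ 4 * g.p by have := h.sp_p hg; omega))]
    · exact Finset.sum_congr rfl fun k hk => by rw [if_pos (Finset.mem_range.1 hk)]
    · intro k _ hk
      rw [if_neg (by simpa using hk), mul_zero]
  rw [e1, Finset.sum_congr rfl fun k hk => by rw [key k (Finset.mem_range.1 hk)]]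
  obtain ⟨hp1, hp2⟩ := h.sp_p hg
  have hl := h.lam_cases hg r
  have hlp : g.lam r = 1 ∨ g.lam r = g.p := by
    unfold Sp.lam; cases g.lon r <;> simp
  generalize g.lam r = l at hl hlp ⊢
  generalize g.p = p at hp1 hp2 hlp ⊢
  rcases (show p = 2 ∨ p = 3 by omega) with rfl | rfl <;> rcases hlp with rfl | rfl <;>
    simp [Finset.sum_range_succ, ← pow_mul]

/-- The coordinates of the ideal. -/
abbrev SI (g : Sp) (P : Pk) (D : ChevalleyDatum) : Type := {x : D.Idx // g.inI P (code P x) = true}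

omit h hg in
theorem Stab.one : Stab g P (1 : Matrix D.Idx D.Idx F) := fun x y hy hx =>
  Matrix.one_apply_ne fun e => by rw [e, hy] at hx; exact absurd hx (by decide)

omit h hg in
theorem Stab.mul {M N : Matrix D.Idx D.Idx F} (hM : Stab g P M) (hN : Stab g P N) : Stab g P (M * N) := by
  intro x y hy hx
  rw [Matrix.mul_apply]
  refine Finset.sum_eq_zero fun z _ => ?_
  cases hz : g.inI P (code P z)
  · rw [hN z y hy hz, mul_zero]
  · rw [hM x z hz hx, zero_mul]

theorem group_stab [CharP F g.p] {a : GL D.Idx F} (ha : a ∈ D.group F) :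
    Stab g P (a : Matrix D.Idx D.Idx F) := by
  let S : Subgroup (GL D.Idx F) :=
    { carrier := {a | Stab g P (a : Matrix D.Idx D.Idx F) ∧ Stab g P ((a⁻¹ : GL D.Idx F) : Matrix D.Idx D.Idx F)}
      one_mem' := ⟨by simpa using Stab.one, by simpa using Stab.one⟩
      mul_mem' := fun {a b} ha hb => ⟨by rw [Units.val_mul]; exact Stab.mul ha.1 hb.1,
        by rw [mul_inv_rev, Units.val_mul]; exact Stab.mul hb.2 ha.2⟩
      inv_mem' := fun {a} ha => ⟨ha.2, by rw [inv_inv]; exact ha.1⟩ }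
  have hle : D.group F ≤ S := h.group_le fun r hr t =>
    ⟨by rw [h.coe_xG' hr]; exact h.X_stab hg hr t, by rw [h.xG_inv, h.coe_xG' hr]; exact h.X_stab hg hr _⟩
  exact (hle ha).1

theorem sum_inI (f : D.Idx → F) (hf : ∀ z, g.inI P (code P z) = false → f z = 0) :
    ∑ z, f z = ∑ z : SI g P D, f z.1 := by
  rw [← Finset.sum_subtype (Finset.univ.filter fun z : D.Idx => g.inI P (code P z) = true) (by simp)]
  rw [Finset.sum_filter]
  refine Finset.sum_congr rfl fun z _ => ?_
  split_ifs with e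
  · rfl
  · exact hf z (by simpa using e)

/-- The action on the ideal. -/
noncomputable def psiA [CharP F g.p] : ↥(D.group F) →* Matrix (SI g P D) (SI g P D) F where
  toFun a := Matrix.of fun x y => (a : GL D.Idx F).val x.1 y.1
  map_one' := by
    ext x y
    show (1 : Matrix D.Idx D.Idx F) x.1 y.1 = _
    simp [Matrix.one_apply, Subtype.ext_iff]
  map_mul' a b := by
    ext x y
    show ((a : GL D.Idx F).val * (b : GL D.Idx F).val) x.1 y.1 = _
    rw [Matrix.mul_apply, Matrix.mul_apply]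
    refine h.sum_inI hg (fun z => (a : GL D.Idx F).val x.1 z * (b : GL D.Idx F).val z y.1) fun z hz => ?_
    rw [h.group_stab hg b.2 z y.1 y.2 hz, mul_zero]

/-- The action on the quotient, transported to the ideal. -/
noncomputable def psiB [CharP F g.p] : ↥(D.group F) →* Matrix (SI g P D) (SI g P D) F where
  toFun a := Matrix.of fun x y => (a : GL D.Idx F).val (h.swX hg x.1) (h.swX hg y.1)
  map_one' := by
    ext x y
    show (1 : Matrix D.Idx D.Idx F) (h.swX hg x.1) (h.swX hg y.1) = _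
    by_cases e : x = y
    · subst e; simp
    · rw [Matrix.one_apply_ne, Matrix.one_apply_ne e]
      exact fun e2 => e (Subtype.ext (by rw [← h.swX_swX hg x.1, e2, h.swX_swX hg]))
  map_mul' a b := by
    ext x y
    show ((a : GL D.Idx F).val * (b : GL D.Idx F).val) (h.swX hg x.1) (h.swX hg y.1) = _
    rw [Matrix.mul_apply, Matrix.mul_apply,
      ← Equiv.sum_comp (Function.Involutive.toPerm _ (h.swX_swX hg))]
    refine h.sum_inI hg (fun z => (a : GL D.Idx F).val (h.swX hg x.1) (h.swX hg z) *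
      (b : GL D.Idx F).val (h.swX hg z) (h.swX hg y.1)) fun z hz => ?_
    rw [h.group_stab hg a.2 (h.swX hg x.1) (h.swX hg z) (by rw [h.inI_swX hg, hz]; rfl)
      (by rw [h.inI_swX hg, x.2]; rfl), zero_mul]

theorem psiA_xG [CharP F g.p] {r : ℕ} (hr : r < P.nroots) (t : F) :
    h.psiA hg ⟨h.xG r t, h.mem_group_of_xG r t⟩ = Matrix.of fun x y => X D P r t x.1 y.1 := by
  ext x y
  show (h.xG r t : GL D.Idx F).val x.1 y.1 = _
  rw [h.coe_xG' hr]
  rfl

theorem psiB_xG [CharP F g.p] {r : ℕ} (hr : r < P.nroots) (t : F) :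
    h.psiB hg ⟨h.xG r t, h.mem_group_of_xG r t⟩ =
      h.psiA hg ⟨h.xG (g.rr r) (t ^ g.lam r), h.mem_group_of_xG _ _⟩ := by
  rw [h.psiA_xG hg (h.sp_root hg hr).1]
  ext x y
  show (h.xG r t : GL D.Idx F).val (h.swX hg x.1) (h.swX hg y.1) = _
  rw [h.coe_xG' hr, h.X_match hg hr t x.2 y.2]
  rfl

theorem wl_fix_short [CharP F g.p] {l : List ℕ} (hl : WordOk P l) {β : GL D.Idx F}
    (hβ : β ∈ D.borelSubgroup F)
    (e : ∀ x y : SI g P D, (h.nW (F := F) l).val x.1 y.1 = β.val x.1 y.1)
    {s : ℕ} (hs : s < P.nroots) (hsl : g.lon s = false) : s ≤ wl P l s := by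
  obtain ⟨v, hv, d, hd, rfl⟩ := h.mem_borel hβ
  obtain ⟨χ, hχ⟩ := h.coe_diag hd
  have hw := h.wl_lt l hl s hs
  set y := h.rootIdx s hs
  set x := h.rootIdx (wl P l s) hw
  have hy : g.inI P (code P y) = true := by
    show g.inI P s = true
    rw [h.inI_root hs, hsl]; rfl
  have hn : h.nW (F := F) l ∈ D.group F := h.monomial_le_group (h.nW_mem l hl)
  have hne : (h.nW (F := F) l).val x y ≠ 0 := by
    intro h0
    have h1 : (((h.nW (F := F) l)⁻¹ : GL D.Idx F).val * (h.nW (F := F) l).val) y y = 1 := by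
      rw [← Units.val_mul, inv_mul_cancel, Units.val_one, Matrix.one_apply_eq]
    rw [Matrix.mul_apply, Finset.sum_eq_zero] at h1
    · exact zero_ne_one h1
    intro z _
    by_cases hz : (h.nW (F := F) l).val z y = 0
    · rw [hz, mul_zero]
    · have := h.nW_col l hl z y hs hz
      rw [show z = x from h.code_inj this] at hz
      exact absurd h0 hz
  have hx : g.inI P (code P x) = true := by
    by_contra hx
    exact hne (h.group_stab hg hn x y hy (by simpa using hx))
  have h2 := e ⟨x, hx⟩ ⟨y, hy⟩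
  simp only [Units.val_mul, hχ, Matrix.mul_diagonal] at h2
  rw [h2] at hne
  rcases eq_or_ne x y with exy | exy
  · exact le_of_eq (congrArg (code P) exy).symm
  · have hlt := (h.tri_of_pos hv x y).2 exy (left_ne_zero_of_mul hne)
    rcases h.lev_cases x with a | a | a <;> rcases h.lev_cases y with b | b | b <;>
      (have ex : code P x = wl P l s := rfl; have ey : code P y = s := rfl; omega)

theorem psiA_injective [CharP F g.p] (hC : P.ckComm = true) : Function.Injective (h.psiA (F := F) hg) := by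
  rw [injective_iff_map_eq_one]
  let K : Subgroup ↥(D.group F) :=
    { carrier := {a | h.psiA hg a = 1}
      one_mem' := map_one _
      mul_mem' := fun {a b} ha hb => by
        show h.psiA hg (a * b) = 1
        rw [map_mul, show h.psiA hg a = 1 from ha, show h.psiA hg b = 1 from hb, one_mul]
      inv_mem' := fun {a} ha => by
        show h.psiA hg a⁻¹ = 1
        have h1 : h.psiA hg (a⁻¹ * a) = 1 := by rw [inv_mul_cancel, map_one]
        rwa [map_mul, show h.psiA hg a = 1 from ha, mul_one] at h1 }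
  haveI hnorm : K.Normal := ⟨fun a ha b => by
    show h.psiA hg (b * a * b⁻¹) = 1
    rw [map_mul, map_mul, show h.psiA hg a = 1 from ha, mul_one, ← map_mul, mul_inv_cancel, map_one]⟩
  have hle : K ≤ (D.borelSubgroup F).subgroupOf (D.group F) := by
    intro a ha
    obtain ⟨b, hb, l, hl, u, hu, e⟩ := h.bruhat_exists hC a.2
    have hbG := h.borel_le_group hb
    have huB : u ∈ D.borelSubgroup F := Subgroup.mem_sup_left (h.negS_le_pos l hu)
    have huG := h.borel_le_group huB
    have hnG : h.nW (F := F) l ∈ D.group F := h.monomial_le_group (h.nW_mem l hl)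
    have ea : a = ⟨b, hbG⟩ * ⟨h.nW l, hnG⟩ * ⟨u, huG⟩ := Subtype.ext e
    have e1 : h.psiA hg ⟨h.nW l, hnG⟩ = h.psiA hg (⟨b, hbG⟩⁻¹ * ⟨u, huG⟩⁻¹) := by
      have h1 : h.psiA hg (⟨b, hbG⟩⁻¹ * a * ⟨u, huG⟩⁻¹) = h.psiA hg (⟨b, hbG⟩⁻¹ * ⟨u, huG⟩⁻¹) := by
        rw [map_mul, map_mul, show h.psiA hg a = 1 from ha, mul_one, map_mul]
      rw [← h1, ea]
      congr 1
      group
    have hβ : b⁻¹ * u⁻¹ ∈ D.borelSubgroup F := mul_mem (inv_mem hb) (inv_mem huB)
    have e2 : ∀ x y : SI g P D, (h.nW (F := F) l).val x.1 y.1 = (b⁻¹ * u⁻¹).val x.1 y.1 := fun x y =>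
      congrFun (congrFun e1 x) y
    have hfix : ∀ s < P.nroots, g.lon s = false → wl P l s = s := by
      intro s hs hsl
      have h1 := h.wl_fix_short hg hl hβ e2 hs hsl
      have hns : g.lon (P.ng s) = false := by rw [(h.sp_root hg hs).2.2.2.2.2, hsl]
      have h2 := h.wl_fix_short hg hl hβ e2 (ng_lt hs) hns
      rw [h.wl_ng l hl s hs, Pk.ng, Pk.ng] at h2
      have := h.wl_lt l hl s hs
      omega
    have htriv : ∀ r < P.nroots, wl P l r = r := by
      intro r hr
      cases hrl : g.lon r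
      · exact hfix r hr hrl
      obtain ⟨s, hs, hsl, v, hv, hvl, hsum⟩ := h.sp_span hg hr hrl
      refine h.rv_inj (h.wl_lt l hl r hr) hr fun j hj => ?_
      rw [h.rv_wl l hl r hr j hj, hsum j hj]
      conv_rhs => rw [← hfix s hs hsl, ← hfix v hv hvl, h.rv_wl l hl s hs j hj, h.rv_wl l hl v hv j hj]
      rw [← Finset.sum_add_distrib]
      exact Finset.sum_congr rfl fun k hk => by rw [hsum k (Finset.mem_range.1 hk)]; ring
    refine Subgroup.mem_subgroupOf.2 ?_
    rw [e]
    exact mul_mem (mul_mem hb (Subgroup.mem_sup_right (h.nW_mem_diagonal hl htriv))) huB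
  intro a ha
  have h1 : a ∈ ((D.borelSubgroup F).subgroupOf (D.group F)).normalCore :=
    Subgroup.normal_le_normalCore.2 hle ha
  rwa [h.core_bot, Subgroup.mem_bot] at h1

end Ok

end Cfsg.Agent.Chev
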