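/-
The endomorphism exchanging long and short roots.
-/
import Cfsg.Agent.Lib.Chev.SpecialHom

set_option autoImplicit false
set_option maxHeartbeats 400000

namespace Cfsg.Agent.Chev

open Cfsg.Lie
open scoped Matrix

variable {D : ChevalleyDatum} {P : Pk} {F : Type*} [Field F] {g : Sp}

namespace Ok

variable (h : Ok D P) (hg : g.ckSp P = true) (hC : P.ckComm = true) [CharP F g.p]
include h hg hC

theorem psiB_mem (a : ↥(D.group F)) : h.psiB (F := F) hg a ∈ MonoidHom.mrange (h.psiA (F := F) hg) := by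
  let S : Subgroup (GL D.Idx F) :=
    { carrier := {x | ∃ hx : x ∈ D.group F, h.psiB hg ⟨x, hx⟩ ∈ MonoidHom.mrange (h.psiA (F := F) hg) ∧
        h.psiB hg ⟨x, hx⟩⁻¹ ∈ MonoidHom.mrange (h.psiA (F := F) hg)}
      one_mem' := ⟨one_mem _, by
        rw [show (⟨1, one_mem _⟩ : ↥(D.group F)) = 1 from rfl, inv_one, map_one]
        exact ⟨one_mem _, one_mem _⟩⟩
      mul_mem' := fun {x y} ⟨hx, h1, h2⟩ ⟨hy, h3, h4⟩ => ⟨mul_mem hx hy, by
        rw [show (⟨x * y, mul_mem hx hy⟩ : ↥(D.group F)) = ⟨x, hx⟩ * ⟨y, hy⟩ from rfl, mul_inv_rev, map_mul,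
          map_mul]
        exact ⟨mul_mem h1 h3, mul_mem h4 h2⟩⟩
      inv_mem' := fun {x} ⟨hx, h1, h2⟩ => ⟨inv_mem hx, by
        rw [show (⟨x⁻¹, inv_mem hx⟩ : ↥(D.group F)) = ⟨x, hx⟩⁻¹ from rfl, inv_inv]
        exact ⟨h2, h1⟩⟩ }
  have hle : D.group F ≤ S := h.group_le fun r hr t => ⟨h.mem_group_of_xG r t,
    ⟨_, (h.psiB_xG hg hr t).symm⟩, by
      rw [show (⟨h.xG r t, h.mem_group_of_xG r t⟩ : ↥(D.group F))⁻¹ = ⟨h.xG r (-t), h.mem_group_of_xG r _⟩ from
        Subtype.ext (h.xG_inv r t)]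
      exact ⟨_, (h.psiB_xG hg hr (-t)).symm⟩⟩
  obtain ⟨hx, h1, -⟩ := hle a.2
  exact h1

/-- The special endomorphism of the Chevalley group. -/
noncomputable def spHom : ↥(D.group F) →* ↥(D.group F) where
  toFun a := Classical.choose (h.psiB_mem hg hC a)
  map_one' := h.psiA_injective hg hC (by rw [Classical.choose_spec (h.psiB_mem hg hC 1), map_one, map_one])
  map_mul' a b := h.psiA_injective hg hC (by
    rw [Classical.choose_spec (h.psiB_mem hg hC (a * b)), map_mul, map_mul,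
      Classical.choose_spec (h.psiB_mem hg hC a), Classical.choose_spec (h.psiB_mem hg hC b)])

theorem psiA_spHom (a : ↥(D.group F)) : h.psiA hg (h.spHom hg hC a) = h.psiB hg a :=
  Classical.choose_spec (h.psiB_mem hg hC a)

theorem spHom_xG {r : ℕ} (hr : r < P.nroots) (t : F) :
    h.spHom hg hC ⟨h.xG r t, h.mem_group_of_xG r t⟩ = ⟨h.xG (g.rr r) (t ^ g.lam r), h.mem_group_of_xG _ _⟩ :=
  h.psiA_injective hg hC ((h.psiA_spHom hg hC _).trans (h.psiB_xG hg hr t))

omit hC [CharP F g.p] in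
theorem lam_mul {r : ℕ} (hr : r < P.nroots) : g.lam (g.rr r) * g.lam r = g.p := by
  unfold Sp.lam
  rw [(h.sp_root hg hr).2.2.2.2.1]
  cases g.lon r <;> simp

theorem spHom_spHom_xG {r : ℕ} (hr : r < P.nroots) (t : F) :
    (h.spHom hg hC (h.spHom hg hC ⟨h.xG r t, h.mem_group_of_xG r t⟩) : GL D.Idx F) = h.xG r (t ^ g.p) := by
  obtain ⟨h1, h2, -⟩ := h.sp_root hg hr
  rw [h.spHom_xG hg hC hr, h.spHom_xG hg hC h1, ← pow_mul, mul_comm (g.lam r), h.lam_mul hg hr]
  show h.xG (g.rr (g.rr r)) (t ^ g.p) = _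
  rw [h2]

theorem spHom_bijective (hp : g.p.Prime) (hperf : ∀ x : F, ∃ y : F, y ^ g.p = x) :
    Function.Bijective (h.spHom (F := F) hg hC) := by
  haveI := Fact.mk hp
  set ρ := frobenius F g.p
  have hρ : ∀ x, ρ x = x ^ g.p := frobenius_def _
  let fr : ↥(D.group F) →* ↥(D.group F) :=
    ((gmap D ρ).comp (D.group F).subtype).codRestrict _ fun x => h.map_group_le ρ ⟨x, x.2, rfl⟩
  have hfr : Function.Bijective fr := by
    refine ⟨fun a b e => Subtype.ext (gmap_injective ρ (congrArg Subtype.val e)), fun x => ?_⟩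
    have hle : D.group F ≤ (fr.range).map (D.group F).subtype := h.group_le fun r hr t => by
      obtain ⟨u, hu⟩ := hperf t
      refine ⟨⟨h.xG r t, h.mem_group_of_xG r t⟩, ⟨⟨h.xG r u, h.mem_group_of_xG r u⟩, Subtype.ext ?_⟩, rfl⟩
      show gmap D ρ (h.xG r u) = h.xG r t
      rw [h.gmap_xG ρ hr, hρ, hu]
    obtain ⟨y, hy, e⟩ := hle x.2
    obtain ⟨z, hz⟩ := hy
    exact ⟨z, hz.trans (Subtype.ext e)⟩
  have hsq : (h.spHom (F := F) hg hC).comp (h.spHom hg hC) = fr := by
    have hle : D.group F ≤ (((h.spHom (F := F) hg hC).comp (h.spHom hg hC)).eqLocus fr).map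
        (D.group F).subtype := h.group_le fun r hr t =>
      ⟨⟨h.xG r t, h.mem_group_of_xG r t⟩, Subtype.ext (by
        rw [MonoidHom.comp_apply, h.spHom_spHom_xG hg hC hr]
        show _ = gmap D ρ (h.xG r t)
        rw [h.gmap_xG ρ hr, hρ]), rfl⟩
    refine MonoidHom.ext fun x => ?_
    obtain ⟨y, hy, e⟩ := hle x.2
    rw [show x = y from Subtype.ext e.symm]
    exact hy
  have h2 : Function.Bijective (h.spHom (F := F) hg hC ∘ h.spHom hg hC) := by
    rw [← MonoidHom.coe_comp, hsq]; exact hfr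
  exact ⟨Function.Injective.of_comp h2.1, Function.Surjective.of_comp h2.2⟩

theorem spAut_spec (hp : g.p.Prime) (hperf : ∀ x : F, ∃ y : F, y ^ g.p = x) :
    ∃ α : ↥(D.group F) ≃* ↥(D.group F), ∀ (x : ↥(D.group F)) (r : ℕ) (t : F), r < P.nroots →
      ((x : GL D.Idx F) : Matrix D.Idx D.Idx F) = D.x F r t →
        ((α x : GL D.Idx F) : Matrix D.Idx D.Idx F) = D.x F (g.rr r) (t ^ g.lam r) := by
  refine ⟨MulEquiv.ofBijective _ (h.spHom_bijective hg hC hp hperf), fun x r t hr e => ?_⟩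
  rw [show x = ⟨h.xG r t, h.mem_group_of_xG r t⟩ from Subtype.ext (h.eq_xG_iff.1 e)]
  show ((h.spHom hg hC _ : ↥(D.group F)) : GL D.Idx F).val = _
  rw [h.spHom_xG hg hC hr, h.coe_xG]

omit hC [CharP F g.p] in
theorem pp_pp {i : ℕ} (hi : i < P.rank) : g.pp (g.pp i) = i := by
  have h1 := (h.sp_node hg hi).1
  obtain ⟨-, e, -⟩ := h.sp_code hg (c := P.nroots + i) (by simp [Pk.dim]; omega)
  simp [Sp.sw, blt_f (show ¬ P.nroots + i < P.nroots by omega),
    blt_f (show ¬ P.nroots + g.pp i < P.nroots by omega)] at e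
  exact e

/-- The special endomorphism followed by a field endomorphism, as a twist. -/
noncomputable def spTwist (hp : g.p.Prime) (φ : F →+* F) : Twist h F := by
  classical
  haveI := Fact.mk hp
  let f : ℕ → F →+ F := fun r => φ.toAddMonoidHom.comp
    (if g.lon r then AddMonoidHom.id F else (frobenius F g.p).toAddMonoidHom)
  have hf : ∀ r t, f r t = φ (t ^ g.lam r) := by
    intro r t
    cases e : g.lon r <;> simp [f, e, Sp.lam, frobenius_def]
  let τ : (Fin P.rank → Fˣ) →* (Fin P.rank → Fˣ) :=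
    { toFun := fun c j => Units.map φ.toMonoidHom
        (c ⟨g.pp j, (h.sp_node hg j.isLt).1⟩ ^ g.lam (P.sim (g.pp j)))
      map_one' := by funext j; simp
      map_mul' := fun c d => by funext j; simp [mul_pow] }
  let σh : ↥(D.group F) →* GL D.Idx F :=
    (gmap D φ).comp ((D.group F).subtype.comp (h.spHom hg hC))
  let σ : GL D.Idx F → GL D.Idx F := fun x => if hx : x ∈ D.group F then σh ⟨x, hx⟩ else 1
  have hσ : ∀ (x : GL D.Idx F) (hx : x ∈ D.group F), σ x = σh ⟨x, hx⟩ := fun x hx => dif_pos hx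
  have hmul : ∀ a ∈ D.group F, ∀ b ∈ D.group F, σ (a * b) = σ a * σ b := by
    intro a ha b hb
    rw [hσ _ (mul_mem ha hb), hσ _ ha, hσ _ hb, ← map_mul]
    rfl
  have hx : ∀ r < P.nroots, ∀ t, σ (h.xG r t) = h.xG (g.rr r) (f r t) := by
    intro r hr t
    rw [hσ _ (h.mem_group_of_xG r t), hf]
    show gmap D φ (h.spHom hg hC ⟨h.xG r t, _⟩ : ↥(D.group F)).1 = _
    rw [h.spHom_xG hg hC hr, h.gmap_xG φ (h.sp_root hg hr).1]
  have hnt : ∀ r < P.nroots, ∀ t, σ (h.nt r t) = h.nt (g.rr r) (φ (t ^ g.lam r)) := by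
    intro r hr t
    obtain ⟨-, -, e3, -, e5, e6⟩ := h.sp_root hg hr
    have hl : g.lam (P.ng r) = g.lam r := by rw [Sp.lam, e6]; rfl
    rw [Ok.nt, hmul _ (mul_mem (h.mem_group_of_xG _ _) (h.mem_group_of_xG _ _)) _ (h.mem_group_of_xG _ _),
      hmul _ (h.mem_group_of_xG _ _) _ (h.mem_group_of_xG _ _), hx r hr, hx _ (ng_lt hr), e3, Ok.nt]
    simp only [hf, map_neg]
    have e : f (P.ng r) (-t⁻¹) = -(φ (t ^ g.lam r))⁻¹ := by
      rw [map_neg, hf, hl, inv_pow, map_inv₀]
    rw [hf] at e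
    rw [e]
  have hntG : ∀ r (t : F), h.nt r t ∈ D.group F := fun r t =>
    mul_mem (mul_mem (h.mem_group_of_xG _ _) (h.mem_group_of_xG _ _)) (h.mem_group_of_xG _ _)
  exact
  { σ := σ
    map_mul' := hmul
    ρ := g.rr
    π := g.pp
    ρ_lt := fun r hr => (h.sp_root hg hr).1
    ρ_pos := fun r hr => (h.sp_root hg hr).2.2.2.1
    ρ_inj := fun r hr s hs e => by rw [← (h.sp_root hg hr).2.1, e, (h.sp_root hg hs).2.1]
    π_lt := fun i hi => (h.sp_node hg hi).1
    ρ_sim := fun i hi => (h.sp_node hg hi).2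
    f := f
    f_inj := fun r _ => by
      show Function.Injective (φ.toAddMonoidHom.comp _)
      rw [AddMonoidHom.coe_comp]
      refine φ.injective.comp ?_
      cases g.lon r
      · exact frobenius_inj F g.p
      · exact fun a b e => e
    σ_xG := hx
    σ_nG := fun i hi => by
      rw [Ok.nG, Ok.nG, hnt _ (h.sim_lt hi), (h.sp_node hg hi).2, one_pow, map_one]
    τ := τ
    σ_hHom := fun c => by
      have hG : ∀ c, h.hHom (F := F) c ∈ D.group F := fun c =>
        h.diagonal_le_group (h.mem_diagonal_iff.2 ⟨c, rfl⟩)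
      let l : (Fin P.rank → Fˣ) →* GL D.Idx F := σh.comp ((h.hHom (F := F)).codRestrict _ hG)
      have key : l = (h.hHom (F := F)).comp τ := by
        refine MonoidHom.pi_ext fun i t => ?_
        show σh ⟨h.hHom (Pi.mulSingle i t), _⟩ = h.hHom (τ (Pi.mulSingle i t))
        obtain ⟨h1, h2⟩ := h.sp_node hg i.isLt
        have e1 : τ (Pi.mulSingle i t) =
            Pi.mulSingle ⟨g.pp i, h1⟩ (Units.map φ.toMonoidHom (t ^ g.lam (P.sim i))) := by
          funext j
          show Units.map φ.toMonoidHom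
            (Pi.mulSingle (M := fun _ => Fˣ) i t _ ^ g.lam (P.sim (g.pp j))) = _
          by_cases ej : j = ⟨g.pp i, h1⟩
          · subst ej
            rw [show (⟨g.pp (g.pp i.val), _⟩ : Fin P.rank) = i from Fin.ext (h.pp_pp hg i.isLt),
              Pi.mulSingle_eq_same, Pi.mulSingle_eq_same, h.pp_pp hg i.isLt]
          · rw [Pi.mulSingle_eq_of_ne, Pi.mulSingle_eq_of_ne ej, one_pow, map_one]
            intro e
            exact ej (Fin.ext ((h.pp_pp hg j.isLt).symm.trans (congrArg g.pp (congrArg Fin.val e))))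
        rw [e1, ← hσ _ (hG _), h.hHom_single, h.hHom_single, Ok.ht,
          hmul _ (hntG _ _) _ (hntG _ _),
          hnt _ (h.sim_lt i.isLt), hnt _ (h.sim_lt i.isLt), h2, Ok.ht]
        have em : φ ((-1 : F) ^ g.lam (P.sim i)) = -1 := by
          have := hf (P.sim i) (-1)
          rw [← this, map_neg]
          rw [hf, one_pow, map_one]
        rw [em]
        simp
      rw [hσ _ (hG c)]
      exact DFunLike.congr_fun key c }

end Ok

end Cfsg.Agent.Chev
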