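/-
Words in root elements as integral operators, and signed Weyl actions.
-/
import Cfsg.Agent.Lib.Chev.SpecialTwist
import Cfsg.Agent.Lib.Chev.TwistExtra

set_option autoImplicit false

namespace Cfsg.Agent.Chev

open Cfsg.Lie
open scoped Matrix

/-- Image of a signed root under a word. -/
def nsg (P : Pk) : List ℕ → ℕ → ℕ × ℤ
  | [], r => (r, 1)
  | i :: l, r => (P.w i (nsg P l r).1, P.eta i (nsg P l r).1 * (nsg P l r).2)

/-- Column of the product of the basic monomial operators. -/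
def sigW (P : Pk) : List ℕ → ℕ → V
  | [], c => [(c, 1)]
  | i :: l, c => app (P.sigCol i) (sigW P l c)

/-- Column of a product of root operators. -/
def xW (P : Pk) : List (ℕ × ℤ) → ℕ → V
  | [], c => [(c, 1)]
  | g :: w, c => app (P.xcol g.1 g.2) (xW P w c)

/-- The residues of the coordinates. -/
def red (P : Pk) (p : ℕ) (v : V) : V := (List.range P.dim).map fun k => (k, cf v k % (p : ℤ))

/-- Column of a product of root operators, reduced at every step. -/
def xWm (P : Pk) (p : ℕ) : List (ℕ × ℤ) → ℕ → V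
  | [], c => [(c, 1)]
  | g :: w, c => red P p (app (P.xcol g.1 g.2) (xWm P p w c))

theorem cf_range_map (f : ℕ → ℤ) (k : ℕ) : ∀ n,
    cf ((List.range n).map fun j => (j, f j)) k = if k < n then f k else 0
  | 0 => by simp [cf]
  | n + 1 => by
    rw [List.range_succ, List.map_append, cf_append, cf_range_map f k n, List.map_cons, List.map_nil, cf_cons]
    rcases lt_trichotomy k n with e | e | e
    · simp [e, e.ne', Nat.lt_succ_of_lt e, cf]
    · subst e; simp [cf]
    · simp [e.ne, not_lt_of_gt e, cf, show ¬ k < n + 1 by omega]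

theorem red_cast {F : Type*} [Field F] {p : ℕ} [CharP F p] {P : Pk} {v : V} (hv : Valid P v) (k : ℕ) :
    (cf (red P p v) k : F) = cf v k := by
  rw [red, cf_range_map]
  split_ifs with hk
  · rw [← sub_eq_zero, ← Int.cast_sub]
    refine cast_mod (p := p) (Int.emod_eq_zero_of_dvd ?_)
    exact ⟨-(cf v k / p), by rw [Int.emod_def]; ring⟩
  · rw [cf_eq_zero fun q hq (e : q.1 = k) => hk (lt_of_eq_of_lt e.symm (hv q hq))]

/-- Congruence of sparse vectors. -/
def veqm (p : ℕ) (v w : V) : Bool := (v ++ w).all fun q => decide ((cf v q.1 - cf w q.1) % (p : ℤ) = 0)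

theorem veqm_cast {F : Type*} [Field F] {p : ℕ} [CharP F p] {v w : V} (e : veqm p v w = true) (k : ℕ) :
    (cf v k : F) = cf w k := by
  by_cases hk : ∀ q ∈ v ++ w, q.1 ≠ k
  · rw [cf_eq_zero fun q hq => hk q (List.mem_append_left _ hq),
      cf_eq_zero fun q hq => hk q (List.mem_append_right _ hq)]
  push_neg at hk
  obtain ⟨q, hq, rfl⟩ := hk
  simp only [veqm, List.all_eq_true, decide_eq_true_eq] at e
  rw [← sub_eq_zero, ← Int.cast_sub]
  exact cast_mod (e q hq)

namespace Ok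

variable {D : ChevalleyDatum} {P : Pk} {F : Type*} [Field F] (h : Ok D P)
include h

theorem nW_xG_sign : ∀ l, WordOk P l → ∀ r < P.nroots, ∀ t : F,
    (nsg P l r).1 = wl P l r ∧
      h.nW l * h.xG r t * (h.nW l)⁻¹ = h.xG (nsg P l r).1 (((nsg P l r).2 : F) * t)
  | [], _, r, _, t => ⟨rfl, by simp [nW_nil, nsg]⟩
  | i :: l, hl, r, hr, t => by
    obtain ⟨e1, e2⟩ := nW_xG_sign l hl.tail r hr t
    refine ⟨by rw [nsg, wl, e1], ?_⟩
    rw [h.nW_cons, show h.nG i * h.nW l * h.xG r t * (h.nG i * h.nW l)⁻¹ =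
      h.nG i * (h.nW l * h.xG r t * (h.nW l)⁻¹) * (h.nG i)⁻¹ by group, e2,
      h.nG_xG hl.head (e1 ▸ h.wl_lt l hl.tail r hr), nsg, Int.cast_mul, mul_assoc]

theorem valid_sigW : ∀ l, WordOk P l → ∀ c < P.dim, Valid P (sigW P l c)
  | [], _, c, hc => fun q hq => by
    simp only [sigW, List.mem_singleton] at hq; subst hq; exact hc
  | i :: l, hl, c, hc => fun q hq => by
    simp only [sigW, app, List.mem_flatMap, List.mem_map] at hq
    obtain ⟨a, ha, b, hb, rfl⟩ := hq
    exact h.valid_sig hl.head (valid_sigW l hl.tail c hc a ha) b hb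

theorem coe_nW : ∀ l, WordOk P l →
    ((h.nW l : GL D.Idx F) : Matrix D.Idx D.Idx F) = cM D F (opM D P (sigW P l))
  | [], _ => by
    rw [h.nW_nil, Units.val_one]
    have one : opM D P (fun c => [(c, (1 : ℤ))]) = 1 := by rw [← h.Ek_zero 0]; rfl
    rw [show sigW P [] = fun c => [(c, (1 : ℤ))] from rfl, one, map_one]
  | i :: l, hl => by
    rw [h.nW_cons, Units.val_mul, h.coe_nG hl.head, coe_nW l hl.tail, ← map_mul, Sg,
      h.opM_mul _ _ (h.valid_sigW l hl.tail)]
    rfl

theorem valid_xW : ∀ w : List (ℕ × ℤ), (∀ g ∈ w, g.1 < P.nroots) → ∀ c < P.dim, Valid P (xW P w c)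
  | [], _, c, hc => fun q hq => by
    simp only [xW, List.mem_singleton] at hq; subst hq; exact hc
  | g :: w, hw, c, hc => fun q hq => by
    simp only [xW, app, List.mem_flatMap, List.mem_map] at hq
    obtain ⟨a, ha, b, hb, rfl⟩ := hq
    exact h.valid_xcol (hw g List.mem_cons_self)
      (valid_xW w (fun x hx => hw x (List.mem_cons_of_mem _ hx)) c hc a ha) g.2 b hb

theorem coe_xW : ∀ w : List (ℕ × ℤ), (∀ g ∈ w, g.1 < P.nroots) →
    (((w.map fun g => h.xG g.1 (g.2 : F)).prod : GL D.Idx F) : Matrix D.Idx D.Idx F) =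
      cM D F (opM D P (xW P w))
  | [], _ => by
    rw [List.map_nil, List.prod_nil, Units.val_one]
    have one : opM D P (fun c => [(c, (1 : ℤ))]) = 1 := by rw [← h.Ek_zero 0]; rfl
    rw [show xW P [] = fun c => [(c, (1 : ℤ))] from rfl, one, map_one]
  | g :: w, hw => by
    have hg := hw g List.mem_cons_self
    have e : X D P g.1 (g.2 : F) = cM D F (X D P g.1 g.2) := (X_map (Int.castRingHom F) g.1 g.2).symm
    rw [List.map_cons, List.prod_cons, Units.val_mul, h.coe_xG' hg,
      coe_xW w (fun x hx => hw x (List.mem_cons_of_mem _ hx)), e, h.X_int hg, ← map_mul,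
      h.opM_mul _ _ (h.valid_xW w fun x hx => hw x (List.mem_cons_of_mem _ hx))]
    rfl

theorem xWm_spec {p : ℕ} [CharP F p] : ∀ w : List (ℕ × ℤ), (∀ g ∈ w, g.1 < P.nroots) → ∀ c < P.dim,
    Valid P (xWm P p w c) ∧ ∀ k, (cf (xWm P p w c) k : F) = cf (xW P w c) k
  | [], _, c, hc => ⟨fun q hq => by simp only [xWm, List.mem_singleton] at hq; subst hq; exact hc, fun _ => rfl⟩
  | g :: w, hw, c, hc => by
    have hw' := fun x hx => hw x (List.mem_cons_of_mem _ hx)
    obtain ⟨hv, he⟩ := xWm_spec w hw' c hc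
    have hva : Valid P (app (P.xcol g.1 g.2) (xWm P p w c)) := fun q hq => by
      simp only [app, List.mem_flatMap, List.mem_map] at hq
      obtain ⟨a, ha, b, hb, rfl⟩ := hq
      exact h.valid_xcol (hw g List.mem_cons_self) (hv a ha) g.2 b hb
    refine ⟨fun q hq => ?_, fun k => ?_⟩
    · simp only [xWm, red, List.mem_map, List.mem_range] at hq
      obtain ⟨j, hj, rfl⟩ := hq
      exact hj
    · rw [xWm, red_cast hva, h.cf_app _ hv, xW, h.cf_app _ (h.valid_xW w hw' c hc)]
      push_cast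
      simp only [he]

theorem coe_xWm {p : ℕ} [CharP F p] {w w' : List (ℕ × ℤ)} (hw : ∀ g ∈ w, g.1 < P.nroots)
    (hw' : ∀ g ∈ w', g.1 < P.nroots)
    (e : (P.allCodes.all fun c => veqm p (xWm P p w c) (xWm P p w' c)) = true) :
    (w.map fun g => h.xG g.1 (g.2 : F)).prod = (w'.map fun g => h.xG g.1 (g.2 : F)).prod := by
  apply Units.ext
  ext x y
  have hy := h.code_lt y
  rw [h.coe_xW w hw, h.coe_xW w' hw', cM_apply, cM_apply, opM_apply, opM_apply,
    ← (h.xWm_spec (p := p) w hw _ hy).2, ← (h.xWm_spec (p := p) w' hw' _ hy).2]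
  exact veqm_cast (List.all_eq_true.1 e _ ((Pk.mem_allCodes P).2 hy)) _

theorem nW_eq_of_veqm {p : ℕ} [CharP F p] {l l' : List ℕ} (hl : WordOk P l) (hl' : WordOk P l')
    (e : (P.allCodes.all fun c => veqm p (sigW P l c) (sigW P l' c)) = true) :
    h.nW (F := F) l = h.nW l' := by
  apply Units.ext
  ext x y
  rw [h.coe_nW l hl, h.coe_nW l' hl', cM_apply, cM_apply, opM_apply, opM_apply]
  exact veqm_cast (List.all_eq_true.1 e _ ((Pk.mem_allCodes P).2 (h.code_lt y))) _

theorem cword_one {r s : ℕ} (hC : P.ckComm = true) (hr : r < P.nroots) (hs : s < P.nroots) (hne : s ≠ r)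
    (hne' : s ≠ P.ng r) (t u : F) :
    h.xG s u * h.xG r t = h.xG r t * h.xG s u *
      ((P.cword r s).map fun g => h.xG g.1 ((g.2.1 : F) * t ^ g.2.2.1 * u ^ g.2.2.2)).prod := by
  apply Units.ext
  simp only [Units.val_mul, h.coe_xG' hr, h.coe_xG' hs, h.cword_prod hr hs]
  exact h.comm_formula hC hr hs hne hne' t u

variable {g : Sp} (hg : g.ckSp P = true) (hC : P.ckComm = true) [CharP F g.p] (hp : g.p.Prime) (φ : F →+* F)

theorem spTwist_xG {r : ℕ} (hr : r < P.nroots) (t : F) :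
    (h.spTwist hg hC hp φ).σ (h.xG r t) = h.xG (g.rr r) (φ (t ^ g.lam r)) := by
  rw [(h.spTwist hg hC hp φ).σ_xG r hr t]
  show h.xG (g.rr r) _ = _
  congr 1
  haveI := Fact.mk hp
  cases e : g.lon r <;> simp [spTwist, e, Sp.lam, frobenius_def]

theorem spTwist_tau (c : Fin P.rank → Fˣ) (j : Fin P.rank) :
    ((h.spTwist hg hC hp φ).τ c j : F) =
      φ ((c ⟨g.pp j, (h.sp_node hg j.isLt).1⟩ : F) ^ g.lam (P.sim (g.pp j))) := by
  simp [spTwist]

end Ok

end Cfsg.Agent.Chev
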