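/-
The fixed root groups of type ²F₄.
-/
import Cfsg.Agent.Lib.Chev.SpecialTools
import Cfsg.Agent.Lib.Chev.AllC
import Cfsg.Agent.Lib.Chev.Cent
import Cfsg.Agent.Lib.Chev.TwistStd
import Cfsg.Agent.Lib.Chev.Smith
import Cfsg.Prelude.Def_LieTwisted

set_option autoImplicit false
set_option maxHeartbeats 400000

namespace Cfsg.Agent.Chev.TwF4

open Cfsg.Lie
open scoped Matrix

/-- The two orbits with their longest words. -/
def orbsT : List (List ℕ × List ℕ) := [([0, 3], [0, 3]), ([1, 2], [1, 2, 1, 2])]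

theorem ckTw4 : ckTw F4.pk spF4.rr spF4.pp orbsT = true := by decide +kernel

/-- Orthogonal pairs of a short and a long root. -/
def pairs : List (ℕ × ℕ) := [(33, 24), (14, 23)]

/-- Root classes of type B₂. -/
def quads : List (ℕ × ℕ × ℕ × ℕ) := [(27, 25, 28, 30), (20, 22, 19, 17)]

theorem pair_facts : ∀ p ∈ pairs, (p.1 < 48 ∧ p.2 < 48) ∧ spF4.rr p.1 = p.2 ∧ spF4.rr p.2 = p.1 ∧
    spF4.lam p.1 = 2 ∧ spF4.lam p.2 = 1 ∧ ckOrth F4.pk p.1 p.2 = true := by decide +kernel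

theorem quad_facts : ∀ p ∈ quads, (p.1 < 48 ∧ p.2.1 < 48 ∧ p.2.2.1 < 48 ∧ p.2.2.2 < 48) ∧
    (spF4.rr p.1 = p.2.1 ∧ spF4.rr p.2.1 = p.1 ∧ spF4.rr p.2.2.1 = p.2.2.2 ∧ spF4.rr p.2.2.2 = p.2.2.1) ∧
    (spF4.lam p.1 = 2 ∧ spF4.lam p.2.1 = 1 ∧ spF4.lam p.2.2.1 = 2 ∧ spF4.lam p.2.2.2 = 1) ∧
    (F4.pk.comm2 p.1 p.2.2.1 = true ∧ F4.pk.comm2 p.1 p.2.2.2 = true ∧ F4.pk.comm2 p.2.1 p.2.2.1 = true ∧
      F4.pk.comm2 p.2.1 p.2.2.2 = true ∧ F4.pk.comm2 p.2.2.1 p.2.2.2 = true) ∧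
    (p.2.1 ≠ p.1 ∧ p.2.1 ≠ F4.pk.ng p.1) ∧
    (F4.pk.cword p.1 p.2.1).map (fun g => (g.1, g.2.1 % 2, g.2.2)) = [(p.2.2.1, 1, 1, 1), (p.2.2.2, 1, 2, 1)] := by
  decide +kernel

variable {K : Type*} [Field K] [CharP K 2]

instance charP_sp : CharP K spF4.p := ‹CharP K 2›

theorem two : (2 : K) = 0 := CharP.cast_eq_zero K 2

theorem neg_eq (a : K) : -a = a := CharTwo.neg_eq a

theorem odd_cast {z : ℤ} (h : z % 2 = 1) : (z : K) = 1 := by
  rw [← Int.mul_ediv_add_emod z 2, h]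
  push_cast
  rw [two, zero_mul, zero_add]

/-- Root elements of F₄. -/
noncomputable abbrev x (r : ℕ) (t : K) : GL chevF4.Idx K := F4.ok.xG r t

theorem xa (r : ℕ) (a b : K) : x r a * x r b = x r (a + b) := F4.ok.xG_add r a b

theorem x0 (r : ℕ) : x r (0 : K) = 1 := F4.ok.xG_zero r

/-- A product in the normal form of a class of type B₂. -/
noncomputable def nf (q : ℕ × ℕ × ℕ × ℕ) (A B C D : K) : GL chevF4.Idx K :=
  x q.1 A * x q.2.1 B * (x q.2.2.1 C * x q.2.2.2 D)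

section quad

variable {q : ℕ × ℕ × ℕ × ℕ} (hq : q ∈ quads)
include hq

theorem com_ac (t u : K) : Commute (x q.1 t) (x q.2.2.1 u) :=
  F4.ok.comm2_commute ckComm_F4 (quad_facts q hq).1.1 (quad_facts q hq).1.2.2.1 (quad_facts q hq).2.2.2.1.1 t u

theorem com_ad (t u : K) : Commute (x q.1 t) (x q.2.2.2 u) :=
  F4.ok.comm2_commute ckComm_F4 (quad_facts q hq).1.1 (quad_facts q hq).1.2.2.2 (quad_facts q hq).2.2.2.1.2.1 t u

theorem com_bc (t u : K) : Commute (x q.2.1 t) (x q.2.2.1 u) :=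
  F4.ok.comm2_commute ckComm_F4 (quad_facts q hq).1.2.1 (quad_facts q hq).1.2.2.1
    (quad_facts q hq).2.2.2.1.2.2.1 t u

theorem com_bd (t u : K) : Commute (x q.2.1 t) (x q.2.2.2 u) :=
  F4.ok.comm2_commute ckComm_F4 (quad_facts q hq).1.2.1 (quad_facts q hq).1.2.2.2
    (quad_facts q hq).2.2.2.1.2.2.2.1 t u

theorem com_cd (t u : K) : Commute (x q.2.2.1 t) (x q.2.2.2 u) :=
  F4.ok.comm2_commute ckComm_F4 (quad_facts q hq).1.2.2.1 (quad_facts q hq).1.2.2.2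
    (quad_facts q hq).2.2.2.1.2.2.2.2 t u

theorem swap (A B : K) :
    x q.2.1 B * x q.1 A = x q.1 A * x q.2.1 B * (x q.2.2.1 (A * B) * x q.2.2.2 (A ^ 2 * B)) := by
  obtain ⟨⟨ha, hb, -, -⟩, -, -, -, ⟨hn, hn'⟩, hw⟩ := quad_facts q hq
  rw [x, F4.ok.cword_one ckComm_F4 ha hb hn hn' A B]
  obtain ⟨g1, g2, h1, h2, e⟩ : ∃ g1 g2, (g1.1, g1.2.1 % 2, g1.2.2) = (q.2.2.1, (1 : ℤ), 1, 1) ∧
      (g2.1, g2.2.1 % 2, g2.2.2) = (q.2.2.2, (1 : ℤ), 2, 1) ∧ F4.pk.cword q.1 q.2.1 = [g1, g2] := by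
    match F4.pk.cword q.1 q.2.1, hw with
    | [g1, g2], hw =>
      simp only [List.map_cons, List.map_nil, List.cons.injEq, and_true] at hw
      exact ⟨g1, g2, hw.1, hw.2, rfl⟩
    | [], hw => simp at hw
    | [_], hw => simp at hw
    | _ :: _ :: _ :: _, hw => simp at hw
  simp only [Prod.mk.injEq] at h1 h2
  obtain ⟨a1, a2, a3⟩ := h1
  obtain ⟨b1, b2, b3⟩ := h2
  rw [e]
  simp [a1, a3, b1, b3, odd_cast (K := K) a2, odd_cast (K := K) b2]

theorem nf_mul (A B C D A' B' C' D' : K) : nf q A B C D * nf q A' B' C' D' =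
    nf q (A + A') (B + B') (C + C' + A' * B) (D + D' + A' ^ 2 * B) := by
  obtain ⟨a, b, c, d⟩ := q
  simp only [nf]
  have cd : ∀ C D C' D' : K, x c C * x d D * (x c C' * x d D') = x c (C + C') * x d (D + D') := fun C D C' D' => by
    rw [((com_cd hq C' D).symm).mul_mul_mul_comm, xa, xa]
  have cQ : ∀ r ∈ [a, b], ∀ T C D : K, Commute (x c C * x d D) (x r T) := by
    intro r hr T C D
    simp only [List.mem_cons, List.not_mem_nil, or_false] at hr
    rcases hr with rfl | rfl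
    exacts [((com_ac hq T C).symm).mul_left (com_ad hq T D).symm,
      ((com_bc hq T C).symm).mul_left (com_bd hq T D).symm]
  calc x a A * x b B * (x c C * x d D) * (x a A' * x b B' * (x c C' * x d D'))
      = x a A * x b B * ((x c C * x d D) * x a A') * x b B' * (x c C' * x d D') := by group
    _ = x a A * (x b B * x a A') * ((x c C * x d D) * x b B') * (x c C' * x d D') := by
        rw [(cQ a (by simp) A' C D).eq]; group
    _ = x a A * x a A' * x b B * ((x c (A' * B) * x d (A' ^ 2 * B)) * x b B') *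
          ((x c C * x d D) * (x c C' * x d D')) := by
        rw [swap hq, (cQ b (by simp) B' C D).eq]; group
    _ = x a A * x a A' * (x b B * x b B') *
          ((x c (A' * B) * x d (A' ^ 2 * B)) * ((x c C * x d D) * (x c C' * x d D'))) := by
        rw [(cQ b (by simp) B' (A' * B) (A' ^ 2 * B)).eq]; group
    _ = _ := by rw [cd, cd, xa, xa]; ring_nf

theorem nf_eq_swapped (A B C D : K) :
    x q.2.1 B * x q.1 A * (x q.2.2.1 C * x q.2.2.2 D) = nf q A B (C + A * B) (D + A ^ 2 * B) := by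
  rw [swap hq, nf, mul_assoc, ((com_cd hq C (A ^ 2 * B)).symm).mul_mul_mul_comm, xa, xa, add_comm (A * B),
    add_comm (A ^ 2 * B)]

end quad

variable (φ : K →+* K)

/-- The twist. -/
noncomputable abbrev T : Twist F4.ok K := F4.ok.spTwist ckSp_F4 ckComm_F4 Nat.prime_two φ

/-- The orbits. -/
noncomputable def O : (T φ).Orbits := ⟨orbsT, ckTw4⟩

theorem sigma_x {r : ℕ} (hr : r < 48) (t : K) :
    (T φ).σ (x r t) = x (spF4.rr r) (φ t ^ spF4.lam r) := by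
  rw [x, F4.ok.spTwist_xG ckSp_F4 ckComm_F4 Nat.prime_two φ (show r < F4.pk.nroots from hr), map_pow]

theorem mem_grp (r : ℕ) (t : K) : x r t ∈ chevF4.group K := F4.ok.mem_group_of_xG r t

theorem sigma_mul {a b : GL chevF4.Idx K} (ha : a ∈ chevF4.group K) (hb : b ∈ chevF4.group K) :
    (T φ).σ (a * b) = (T φ).σ a * (T φ).σ b := (T φ).map_mul' _ ha _ hb

/-- The fixed elements of an orthogonal pair. -/
noncomputable def pw (p : ℕ × ℕ) (t : K) : GL chevF4.Idx K := x p.1 (φ t) * x p.2 t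

/-- The fixed elements of a class of type B₂. -/
noncomputable def qw (q : ℕ × ℕ × ℕ × ℕ) (t u : K) : GL chevF4.Idx K := nf q (φ t) t (φ t * t + u) (φ u ^ 2)

theorem sigma_nf {q : ℕ × ℕ × ℕ × ℕ} (hq : q ∈ quads) (A B C D : K) :
    (T φ).σ (nf q A B C D) = nf q (φ B) (φ A ^ 2) (φ D + φ B * φ A ^ 2) (φ C ^ 2 + φ B ^ 2 * φ A ^ 2) := by
  obtain ⟨⟨ha, hb, hc, hd⟩, ⟨r1, r2, r3, r4⟩, ⟨l1, l2, l3, l4⟩, -, -, -⟩ := quad_facts q hq
  rw [nf, sigma_mul φ (mul_mem (mem_grp _ _) (mem_grp _ _)) (mul_mem (mem_grp _ _) (mem_grp _ _)),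
    sigma_mul φ (mem_grp _ _) (mem_grp _ _), sigma_mul φ (mem_grp _ _) (mem_grp _ _), sigma_x φ ha, sigma_x φ hb,
    sigma_x φ hc, sigma_x φ hd, r1, r2, r3, r4, l1, l2, l3, l4, (com_cd hq (φ D ^ 1) (φ C ^ 2)).symm.eq,
    nf_eq_swapped hq]
  simp only [pow_one]

variable (hφ : ∀ t, φ (φ t) ^ 2 = t)
include hφ

theorem key' (t : K) : φ (φ t ^ 2) = t := by rw [map_pow, hφ]

theorem pw_fixed {p : ℕ × ℕ} (hp : p ∈ pairs) (t : K) : pw φ p t ∈ (T φ).fixed := by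
  obtain ⟨⟨ha, hb⟩, r1, r2, l1, l2, ho⟩ := pair_facts p hp
  refine (T φ).mem_fixed.2 ⟨mul_mem (mem_grp _ _) (mem_grp _ _), ?_⟩
  rw [pw, sigma_mul φ (mem_grp _ _) (mem_grp _ _), sigma_x φ ha, sigma_x φ hb, r1, r2, l1, l2, hφ, pow_one]
  exact (F4.ok.commute_xG ckComm_F4 ho _ _).symm.eq

theorem qw_fixed {q : ℕ × ℕ × ℕ × ℕ} (hq : q ∈ quads) (t u : K) : qw φ q t u ∈ (T φ).fixed := by
  refine (T φ).mem_fixed.2 ⟨mul_mem (mul_mem (mem_grp _ _) (mem_grp _ _)) (mul_mem (mem_grp _ _) (mem_grp _ _)), ?_⟩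
  rw [qw, sigma_nf φ hq]
  congr 1
  · exact hφ t
  · rw [key' φ hφ, hφ]; ring
  · rw [map_add, map_mul, add_sq, two, zero_mul, zero_mul, add_zero, mul_pow, hφ]
    linear_combination (φ t ^ 2 * t) * two (K := K) + 0 * two (K := K)

theorem qw_mul {q : ℕ × ℕ × ℕ × ℕ} (hq : q ∈ quads) (t u t' u' : K) :
    qw φ q t u * qw φ q t' u' = qw φ q (t + t') (u + u' + φ t * t') := by
  rw [qw, qw, qw, nf_mul hq]
  congr 1
  · rw [map_add]
  · rw [map_add]; linear_combination -(φ t * t') * two (K := K)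
  · simp only [map_add, map_mul, add_sq, two, zero_mul, add_zero, mul_pow, hφ]; ring

omit hφ in
theorem qw_zero (q : ℕ × ℕ × ℕ × ℕ) : qw φ q 0 0 = 1 := by simp [qw, nf, x0]

omit hφ in
theorem qw_layer (q : ℕ × ℕ × ℕ × ℕ) (u : K) : qw φ q 0 u = x q.2.2.1 u * x q.2.2.2 (φ u ^ 2) := by
  simp [qw, nf, x0]

theorem pair_class {g : GL chevF4.Idx K}
    (hg : g ∈ F4.ok.genR (F := K) (fun r => r ∈ [(33 : ℕ), 24]) ⊓ (T φ).fixed) : ∃ t, g = pw φ (33, 24) t := by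
  obtain ⟨⟨ha, hb⟩, r1, r2, l1, l2, ho⟩ := pair_facts (33, 24) (by decide)
  obtain ⟨s, t, rfl⟩ := F4.ok.mem_pair ckComm_F4 ho hg.1
  have h := ((T φ).mem_fixed.1 hg.2).2
  rw [sigma_mul φ (mem_grp _ _) (mem_grp _ _), sigma_x φ ha, sigma_x φ hb, r1, r2, l1, l2, pow_one,
    (F4.ok.commute_xG ckComm_F4 ho _ _).symm.eq] at h
  obtain ⟨h1, -⟩ := Std.pair_unique (h := F4.ok) ckComm_F4 (by decide +kernel) (by decide +kernel) ho h
  exact ⟨t, by rw [pw, h1]⟩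

omit hφ in
theorem pw_inj {t t' : K} (e : pw φ (33, 24) t = pw φ (33, 24) t') : t = t' :=
  (Std.pair_unique (h := F4.ok) ckComm_F4 (by decide +kernel) (by decide +kernel) (pair_facts (33, 24) (by decide)).2.2.2.2.2 e).2

omit hφ in
theorem nf_unique {A B C D A' B' C' D' : K}
    (e : nf (27, 25, 28, 30) A B C D = nf (27, 25, 28, 30) A' B' C' D') : A = A' ∧ B = B' ∧ C = C' ∧ D = D' := by
  have hq : ((27, 25, 28, 30) : ℕ × ℕ × ℕ × ℕ) ∈ quads := by decide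
  have e' : ∀ A B C D : K, nf (27, 25, 28, 30) A B C D =
      x 25 B * x 27 A * (x 28 (C + A * B) * x 30 (D + A ^ 2 * B)) := fun A B C D => by
    rw [nf_eq_swapped hq, add_assoc, add_assoc, CharTwo.add_self_eq_zero, CharTwo.add_self_eq_zero, add_zero,
      add_zero]
  rw [e', e'] at e
  have h := F4.ok.prod_unique (F := K) [25, 27, 28, 30] (by simp) (by decide +kernel)
    (fun r => if r = 25 then B else if r = 27 then A else if r = 28 then C + A * B else D + A ^ 2 * B)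
    (fun r => if r = 25 then B' else if r = 27 then A' else if r = 28 then C' + A' * B' else D' + A' ^ 2 * B')
    (by simpa [x, mul_assoc] using e)
  have h1 := h 25 (by simp); have h2 := h 27 (by simp); have h3 := h 28 (by simp); have h4 := h 30 (by simp)
  simp at h1 h2 h3 h4
  subst h1; subst h2
  exact ⟨rfl, rfl, add_right_cancel h3, add_right_cancel h4⟩

omit hφ in
theorem qw_inj {t u t' u' : K} (e : qw φ (27, 25, 28, 30) t u = qw φ (27, 25, 28, 30) t' u') : t = t' ∧ u = u' := by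
  obtain ⟨-, rfl, h, -⟩ := nf_unique e
  exact ⟨rfl, add_left_cancel h⟩

theorem quad_class {g : GL chevF4.Idx K}
    (hg : g ∈ F4.ok.genR (F := K) (fun r => r ∈ [(25 : ℕ), 27, 28, 30]) ⊓ (T φ).fixed) :
    ∃ t u, g = qw φ (27, 25, 28, 30) t u := by
  have hq : ((27, 25, 28, 30) : ℕ × ℕ × ℕ × ℕ) ∈ quads := by decide
  have hcl : ClosedL F4.pk [25, 27, 28, 30] := by
    have : ∀ r ∈ [(25 : ℕ), 27, 28, 30], ∀ s ∈ [(25 : ℕ), 27, 28, 30],
        ((List.range (F4.pk.len r s)).all fun k => [(25 : ℕ), 27, 28, 30].any (Nat.beq (F4.pk.tgt r s k))) = true := by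
      decide +kernel
    intro r hr s hs k hk
    have h := List.all_eq_true.1 (this r hr s hs) k (List.mem_range.2 hk)
    obtain ⟨y, hy, e⟩ := List.any_eq_true.1 h
    rw [Nat.eq_of_beq_eq_true e]; exact hy
  obtain ⟨s, hs⟩ := F4.ok.exists_prod ckComm_F4 [25, 27, 28, 30] (by simp) (by decide +kernel) hcl g hg.1
  have e : g = nf (27, 25, 28, 30) (s 27) (s 25) (s 28 + s 27 * s 25) (s 30 + s 27 ^ 2 * s 25) := by
    rw [hs, ← nf_eq_swapped hq]; simp [x, mul_assoc]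
  generalize s 27 = A, s 25 = B, s 28 + s 27 * s 25 = C, s 30 + s 27 ^ 2 * s 25 = D at e
  subst e
  have h := ((T φ).mem_fixed.1 hg.2).2
  rw [sigma_nf φ hq] at h
  obtain ⟨h1, h2, h3, h4⟩ := nf_unique h
  subst h1
  rw [hφ] at h2 h3 h4
  refine ⟨B, C + φ B * B, ?_⟩
  have hC : φ B * B + (C + φ B * B) = C := by linear_combination (φ B * B) * two (K := K)
  rw [qw, hC]
  congr 1
  rw [map_add, map_mul, add_sq, two, zero_mul, zero_mul, add_zero, mul_pow, hφ, ← h4]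
  ring

end Cfsg.Agent.Chev.TwF4
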