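/-
The twisted groups of type ²F₄.
-/
import Cfsg.Agent.Lib.Chev.TwF4U
import Cfsg.Agent.Lib.Chev.TwistExtra

set_option autoImplicit false
set_option maxHeartbeats 400000

namespace Cfsg.Agent.Chev.TwF4

open Cfsg.Lie
open scoped Matrix

variable {K : Type*} [Field K] [CharP K 2]

theorem x_neg (r : ℕ) (t : K) : x r (-t) = x r t := by rw [neg_eq]

theorem xG_int {r : ℕ} : F4.ok.xG r ((1 : ℤ) : K) = x r (1 : K) := by rw [Int.cast_one]

theorem ckNegs : ckNeg F4.pk [0, 3] [24, 33] = true ∧ ckNeg F4.pk [1, 2, 1, 2] [25, 27, 28, 30] = true := by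
  decide +kernel

theorem nsgs : [14, 23].map (fun r => ((nsg F4.pk [0, 3] r).1, (nsg F4.pk [0, 3] r).2 % 2)) = [(33, 1), (24, 1)] ∧
    [20, 22, 19, 17].map (fun r => ((nsg F4.pk [1, 2, 1, 2] r).1, (nsg F4.pk [1, 2, 1, 2] r).2 % 2)) =
      [(27, 1), (25, 1), (28, 1), (30, 1)] := by decide +kernel

theorem sims : F4.pk.sim 0 = 33 ∧ F4.pk.sim 1 = 27 ∧ F4.pk.sim 2 = 25 ∧ F4.pk.sim 3 = 24 ∧
    F4.pk.ng 33 = 14 ∧ F4.pk.ng 24 = 23 := by decide +kernel

theorem wordOk_orb {l : List ℕ} (hl : l = [0, 3] ∨ l = [1, 2, 1, 2]) : WordOk F4.pk l := by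
  intro a ha
  rcases hl with rfl | rfl <;> simp only [List.mem_cons, List.not_mem_nil, or_false] at ha
  · rcases ha with rfl | rfl <;> decide +kernel
  · rcases ha with rfl | rfl | rfl | rfl <;> decide +kernel

theorem n_x {l : List ℕ} (hl : WordOk F4.pk l) {r s : ℕ} (hr : r < 48)
    (e : ((nsg F4.pk l r).1, (nsg F4.pk l r).2 % 2) = (s, (1 : ℤ))) (t : K) :
    F4.ok.nW l * x r t * (F4.ok.nW l)⁻¹ = x s t := by
  obtain ⟨-, h⟩ := F4.ok.nW_xG_sign l hl r hr t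
  rw [Prod.mk.injEq] at e
  rw [h, e.1, odd_cast e.2, one_mul]

variable (φ : K →+* K)

theorem n_pair (t : K) : F4.ok.nW [0, 3] * pw φ (14, 23) t * (F4.ok.nW [0, 3])⁻¹ = pw φ (33, 24) t := by
  have hl := wordOk_orb (l := [0, 3]) (Or.inl rfl)
  have h := nsgs.1
  simp only [List.map_cons, List.map_nil, List.cons.injEq, and_true] at h
  rw [← MulAut.conj_apply, pw, map_mul, MulAut.conj_apply, MulAut.conj_apply, n_x hl (by omega) h.1,
    n_x hl (by omega) h.2, pw]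

theorem n_quad (t u : K) : F4.ok.nW [1, 2, 1, 2] * qw φ (20, 22, 19, 17) t u * (F4.ok.nW [1, 2, 1, 2])⁻¹ =
    qw φ (27, 25, 28, 30) t u := by
  have hl := wordOk_orb (l := [1, 2, 1, 2]) (Or.inr rfl)
  have h := nsgs.2
  simp only [List.map_cons, List.map_nil, List.cons.injEq, and_true] at h
  obtain ⟨h1, h2, h3, h4⟩ := h
  rw [← MulAut.conj_apply, qw, nf, map_mul, map_mul, map_mul]
  simp only [MulAut.conj_apply]
  rw [n_x hl (by omega) h1, n_x hl (by omega) h2, n_x hl (by omega) h3, n_x hl (by omega) h4, qw, nf]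

/-- The torus map on four parameters. -/
noncomputable def hH : (Fin 4 → Kˣ) →* GL chevF4.Idx K := F4.ok.hHom

theorem hH_single (i : Fin 4) (t : Kˣ) :
    hH (Pi.mulSingle i t) = F4.ok.ht (F4.pk.sim i) (t : K) := F4.ok.hHom_single i t

theorem hH_mem (c : Fin 4 → Kˣ) : hH c ∈ chevF4.diagonalSubgroup K := F4.ok.mem_diagonal_iff.2 ⟨c, rfl⟩

theorem exists_hH {d : GL chevF4.Idx K} (hd : d ∈ chevF4.diagonalSubgroup K) : ∃ c : Fin 4 → Kˣ, d = hH c := by
  obtain ⟨c, hc⟩ := F4.ok.mem_diagonal_iff.1 hd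
  exact ⟨c, hc.symm⟩

theorem hH_x (c : Fin 4 → Kˣ) {r : ℕ} (hr : r < 48) (t : K) :
    hH c * x r t * (hH c)⁻¹ = x r (hchar F4.pk c r * t) := F4.ok.hHom_xG c hr t

/-- The action on torus parameters. -/
noncomputable def tauF (c : Fin 4 → Kˣ) : Fin 4 → Kˣ := (T φ).τ c

theorem tau_eqs (c : Fin 4 → Kˣ) : (tauF φ c 0 : K) = φ (c 3 : K) ∧ (tauF φ c 1 : K) = φ (c 2 : K) ∧
    (tauF φ c 2 : K) = φ (c 1 : K) ^ 2 ∧ (tauF φ c 3 : K) = φ (c 0 : K) ^ 2 := by
  have h : ∀ j : Fin 4, spF4.pp j = 3 - (j : ℕ) ∧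
      spF4.lam (F4.pk.sim (spF4.pp j)) = [1, 1, 2, 2].getD (j : ℕ) 0 := by decide +kernel
  have key : ∀ j : Fin 4, (tauF φ c j : K) = φ (c ⟨3 - (j : ℕ), by omega⟩ : K) ^ [1, 1, 2, 2].getD (j : ℕ) 0 := by
    intro j
    have e := F4.ok.spTwist_tau (F := K) ckSp_F4 ckComm_F4 Nat.prime_two φ c j
    rw [map_pow, (h j).2] at e
    refine e.trans ?_
    congr 4
    exact Fin.ext (h j).1
  exact ⟨by simpa using key 0, by simpa using key 1, by simpa using key 2, by simpa using key 3⟩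

/-- The parameters of the fixed torus. -/
def tor (z w : Kˣ) : Fin 4 → Kˣ := ![Units.map φ.toMonoidHom z, Units.map φ.toMonoidHom w, w, z]

omit [CharP K 2] in
theorem tor_mul (z w z' w' : Kˣ) : tor φ (z * z') (w * w') = tor φ z w * tor φ z' w' := by
  funext j; fin_cases j <;> simp [tor]

variable [Fintype K]

theorem hH_inj : Function.Injective (hH (K := K)) := F4.ok.hHom_injective smith_F4 (by decide +kernel)

variable (hφ : ∀ t, φ (φ t) ^ 2 = t)

include hφ in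
theorem diag_fixed_iff {d : GL chevF4.Idx K} :
    d ∈ chevF4.diagonalSubgroup K ⊓ (T φ).fixed ↔ ∃ z w, d = hH (tor φ z w) := by
  constructor
  · rintro ⟨hd, hf⟩
    obtain ⟨c, rfl⟩ := exists_hH hd
    have e : tauF φ c = c := hH_inj (((T φ).σ_hHom c).symm.trans ((T φ).mem_fixed.1 hf).2)
    obtain ⟨e0, e1, -, -⟩ := tau_eqs φ c
    rw [e] at e0 e1
    refine ⟨c 3, c 2, congrArg (hH (K := K)) ?_⟩
    funext j
    fin_cases j
    · exact Units.ext e0
    · exact Units.ext e1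
    · rfl
    · rfl
  · rintro ⟨z, w, rfl⟩
    have hd := hH_mem (tor φ z w)
    refine ⟨hd, (T φ).mem_fixed.2 ⟨F4.ok.diagonal_le_group hd, ((T φ).σ_hHom _).trans
      (congrArg (hH (K := K)) (?_ : tauF φ (tor φ z w) = tor φ z w))⟩⟩
    obtain ⟨e0, e1, e2, e3⟩ := tau_eqs φ (tor φ z w)
    funext j
    apply Units.ext
    fin_cases j
    · exact e0
    · exact e1
    · exact e2.trans (hφ w)
    · exact e3.trans (hφ z)

include hφ in
theorem card_diag_fixed :
    Nat.card ↥(chevF4.diagonalSubgroup K ⊓ (T φ).fixed) = (Fintype.card K - 1) ^ 2 := by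
  classical
  rw [← Fintype.card_units, sq, ← Nat.card_eq_fintype_card, ← Nat.card_prod]
  symm
  refine Nat.card_eq_of_bijective
    (fun p => ⟨hH (tor φ p.1 p.2), (diag_fixed_iff φ hφ).2 ⟨p.1, p.2, rfl⟩⟩) ⟨fun a b e => ?_, fun d => ?_⟩
  · have h := hH_inj (congrArg Subtype.val e)
    exact Prod.ext (congrFun h 3) (congrFun h 2)
  · obtain ⟨z, w, e⟩ := (diag_fixed_iff φ hφ).1 d.2
    exact ⟨(z, w), Subtype.ext e.symm⟩

variable (e : ℕ) (hφe : ∀ t, φ t = t ^ e)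

omit [CharP K 2] [Fintype K] in
include hφe in
theorem word_pair (p : ℕ × ℕ) {g : GL chevF4.Idx K} (t : K) :
    (g : Matrix chevF4.Idx chevF4.Idx K) = chevF4.wordMat K (f4PairWord e p.1 p.2 t) ↔ g = pw φ p t := by
  have h : ((pw φ p t : GL chevF4.Idx K) : Matrix chevF4.Idx chevF4.Idx K) =
      chevF4.wordMat K (f4PairWord e p.1 p.2 t) := by
    simp [ChevalleyDatum.wordMat, f4PairWord, pw, F4.ok.coe_xG, hφe]
  rw [← h]
  exact Units.ext_iff.symm

omit [CharP K 2] [Fintype K] in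
include hφe in
theorem word_quad (q : ℕ × ℕ × ℕ × ℕ) {g : GL chevF4.Idx K} (t u : K) :
    (g : Matrix chevF4.Idx chevF4.Idx K) = chevF4.wordMat K (b2ClassWord e q.1 q.2.1 q.2.2.1 q.2.2.2 t u) ↔
      g = qw φ q t u := by
  have h : ((qw φ q t u : GL chevF4.Idx K) : Matrix chevF4.Idx chevF4.Idx K) =
      chevF4.wordMat K (b2ClassWord e q.1 q.2.1 q.2.2.1 q.2.2.2 t u) := by
    rw [b2ClassWord, qw, nf, hφe, hφe, pow_succ t e, mul_comm 2 e, pow_mul]
    simp only [ChevalleyDatum.wordMat, List.map_cons, List.map_nil, List.prod_cons, List.prod_nil, mul_one,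
      Units.val_mul, F4.ok.coe_xG, mul_assoc]
  rw [← h]
  exact Units.ext_iff.symm

omit [Fintype K] in
include hφe in
theorem pw_mem {p : ℕ × ℕ} (hp : p ∈ pairs) (t : K) : pw φ p t ∈ twistedF4 K e := by
  refine Subgroup.subset_closure ⟨_, Or.inl ⟨t, ?_⟩, (word_pair φ e hφe p t).2 rfl⟩
  simp only [pairs, List.mem_cons, List.not_mem_nil, or_false] at hp
  rcases hp with rfl | rfl
  exacts [Or.inl rfl, Or.inr rfl]

omit [Fintype K] in
include hφe in
theorem qw_mem {q : ℕ × ℕ × ℕ × ℕ} (hq : q ∈ quads) (t u : K) : qw φ q t u ∈ twistedF4 K e := by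
  refine Subgroup.subset_closure ⟨_, Or.inr ⟨t, u, ?_⟩, (word_quad φ e hφe q t u).2 rfl⟩
  simp only [quads, List.mem_cons, List.not_mem_nil, or_false] at hq
  rcases hq with rfl | rfl
  exacts [Or.inl rfl, Or.inr rfl]

omit [Fintype K] in
include hφe in
theorem gens_le {S : Subgroup (GL chevF4.Idx K)} (h1 : ∀ p ∈ pairs, ∀ t, pw φ p t ∈ S)
    (h2 : ∀ q ∈ quads, ∀ t u, qw φ q t u ∈ S) : twistedF4 K e ≤ S := by
  refine (Subgroup.closure_le _).2 ?_
  rintro g ⟨w, ⟨t, rfl | rfl⟩ | ⟨t, u, rfl | rfl⟩, hw⟩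
  · rw [(word_pair φ e hφe (33, 24) t).1 hw]; exact h1 _ (by decide) t
  · rw [(word_pair φ e hφe (14, 23) t).1 hw]; exact h1 _ (by decide) t
  · rw [(word_quad φ e hφe (27, 25, 28, 30) t u).1 hw]; exact h2 _ (by decide) t u
  · rw [(word_quad φ e hφe (20, 22, 19, 17) t u).1 hw]; exact h2 _ (by decide) t u

omit [Fintype K] in
include hφe in
theorem nt_pair (t : K) : F4.ok.nt 33 (φ t) * F4.ok.nt 24 t ∈ twistedF4 K e := by
  obtain ⟨-, -, -, -, n1, n2⟩ := sims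
  have o : ckOrth F4.pk 33 24 = true ∧ ckOrth F4.pk (F4.pk.ng 33) 24 = true ∧
      ckOrth F4.pk 33 (F4.pk.ng 24) = true := by decide +kernel
  rw [F4.ok.nt_orth ckComm_F4 o.1 o.2.1 o.2.2, n1, n2, neg_eq (φ t)⁻¹, neg_eq t⁻¹, ← map_inv₀]
  exact mul_mem (mul_mem (pw_mem φ e hφe (p := (33, 24)) (by decide) t)
    (pw_mem φ e hφe (p := (14, 23)) (by decide) t⁻¹)) (pw_mem φ e hφe (p := (33, 24)) (by decide) t)

omit [Fintype K] in
include hφe in
theorem n1_mem : F4.ok.nW [0, 3] ∈ twistedF4 K e := by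
  obtain ⟨s0, -, -, s3, -, -⟩ := sims
  have h := nt_pair φ e hφe (1 : K)
  rw [map_one] at h
  simpa [F4.ok.nW_cons, F4.ok.nW_nil, Ok.nG, s0, s3] using h

/-- Column of a product of root operators, reduced modulo two and without zeros. -/
def xW2 : List (ℕ × ℤ) → ℕ → V
  | [], c => [(c, 1)]
  | g :: w, c => (red F4.pk 2 (app (F4.pk.xcol g.1 g.2) (xW2 w c))).filter fun q => !decide (q.2 = 0)

omit [Field K] [CharP K 2] [Fintype K] in
theorem cf_filter_ne (v : V) (k : ℕ) : cf (v.filter fun q => !decide (q.2 = 0)) k = cf v k := by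
  induction v with
  | nil => rfl
  | cons p v ih =>
    rw [List.filter_cons]
    by_cases h : p.2 = 0
    · rw [if_neg (by simp [h]), ih, cf_cons, h, ite_self, zero_add]
    · rw [if_pos (by simp [h]), cf_cons, cf_cons, ih]

omit [Fintype K] in
theorem xW2_spec : ∀ w : List (ℕ × ℤ), (∀ g ∈ w, g.1 < F4.pk.nroots) → ∀ c < F4.pk.dim,
    Valid F4.pk (xW2 w c) ∧ ∀ k, (cf (xW2 w c) k : K) = cf (xW F4.pk w c) k
  | [], _, c, hc => ⟨fun q hq => by simp only [xW2, List.mem_singleton] at hq; subst hq; exact hc, fun _ => rfl⟩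
  | g :: w, hw, c, hc => by
    have hw' := fun x hx => hw x (List.mem_cons_of_mem _ hx)
    obtain ⟨hv, he⟩ := xW2_spec w hw' c hc
    have hva : Valid F4.pk (app (F4.pk.xcol g.1 g.2) (xW2 w c)) := fun q hq => by
      simp only [app, List.mem_flatMap, List.mem_map] at hq
      obtain ⟨a, ha, b, hb, rfl⟩ := hq
      exact F4.ok.valid_xcol (hw g List.mem_cons_self) (hv a ha) g.2 b hb
    refine ⟨fun q hq => ?_, fun k => ?_⟩
    · simp only [xW2, red, List.mem_filter, List.mem_map, List.mem_range] at hq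
      obtain ⟨⟨j, hj, rfl⟩, -⟩ := hq
      exact hj
    · rw [xW2, cf_filter_ne, red_cast hva, xW, F4.ok.cf_app _ hv,
        F4.ok.cf_app _ (F4.ok.valid_xW w hw' c hc)]
      push_cast
      simp only [he]

omit [Fintype K] in
/-- A word congruent to a monomial word. -/
theorem word_eq_nW {w : List (ℕ × ℤ)} {l : List ℕ} (hw : ∀ g ∈ w, g.1 < F4.pk.nroots) (hl : WordOk F4.pk l)
    (ck : (F4.pk.allCodes.all fun c => veqm 2 (xW2 w c) (sigW F4.pk l c)) = true) :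
    (w.map fun g => F4.ok.xG g.1 (g.2 : K)).prod = F4.ok.nW l := by
  apply Units.ext
  ext a b
  have hb := F4.ok.code_lt b
  rw [F4.ok.coe_xW _ hw, F4.ok.coe_nW _ hl, cM_apply, cM_apply, opM_apply, opM_apply,
    ← (xW2_spec _ hw _ hb).2]
  exact veqm_cast (List.all_eq_true.1 ck _ ((Pk.mem_allCodes F4.pk).2 hb)) _

theorem n2_ck : (F4.pk.allCodes.all fun c => veqm 2
    (xW2 [(28, 1), (30, 1), (20, 1), (22, 1), (17, 1), (27, 1), (25, 1), (28, 1)] c)
    (sigW F4.pk [1, 2, 1, 2] c)) = true := by decide +kernel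

omit [Fintype K] in
theorem n2_word : x 28 (1 : K) * x 30 1 * (x 20 1 * x 22 1 * x 17 1) * (x 27 1 * x 25 1 * x 28 1) =
    F4.ok.nW [1, 2, 1, 2] := by
  have h := word_eq_nW (K := K) (w := [(28, 1), (30, 1), (20, 1), (22, 1), (17, 1), (27, 1), (25, 1), (28, 1)])
    (l := [1, 2, 1, 2]) (by decide +kernel) (wordOk_orb (Or.inr rfl)) n2_ck
  simp only [List.map_cons, List.map_nil, List.prod_cons, List.prod_nil, Int.cast_one, mul_one] at h
  rw [← h]
  simp only [x, mul_assoc]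

include hφe in
theorem n2_mem : F4.ok.nW [1, 2, 1, 2] ∈ twistedF4 K e := by
  rw [← n2_word]
  refine mul_mem (mul_mem ?_ ?_) ?_
  · convert qw_mem φ e hφe (q := (27, 25, 28, 30)) (by decide) (0 : K) 1 using 1
    simp [qw_layer]
  · convert qw_mem φ e hφe (q := (20, 22, 19, 17)) (by decide) (1 : K) 1 using 1
    simp [qw, nf, CharTwo.add_self_eq_zero, x0, mul_assoc]
  · convert qw_mem φ e hφe (q := (27, 25, 28, 30)) (by decide) (1 : K) 0 using 1
    simp [qw, nf, x0]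

theorem ht_eq_hH {r : ℕ} (hr : r < 48) (u : Kˣ) :
    F4.ok.ht r (u : K) = hH fun i => u ^ F4.pk.co r i := by
  obtain ⟨c, hc⟩ := exists_hH (F4.ok.ht_mem (F := K) (show r < F4.pk.nroots from hr) u.ne_zero)
  rw [hc]
  refine congrArg (hH (K := K)) (hH_inj ?_)
  rw [← hc]
  apply Units.ext
  rw [show (hH fun i => u ^ F4.pk.co r i) = F4.ok.hHom (fun i => u ^ F4.pk.co r i) from rfl, F4.ok.coe_hHom,
    F4.ok.ht_eq hr u.ne_zero, F4.ok.coe_dG]
  congr 1
  funext s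
  simp only [hchar, Units.val_zpow_eq_zpow_val, ← zpow_mul]
  rw [prod_zpow u.ne_zero, Pk.pair, ← List.sum_toFinset _ List.nodup_range]
  congr 1
  all_goals rw [show (List.range F4.pk.rank).toFinset = Finset.range F4.pk.rank by ext; simp,
    Fin.sum_univ_eq_sum_range (fun i => F4.pk.co r i * F4.pk.A i s)]

include hφe in
theorem tor_z_mem (z : Kˣ) : hH (tor φ z 1) ∈ twistedF4 K e := by
  have hc : tor φ z 1 = Pi.mulSingle 0 (Units.map φ.toMonoidHom z) * Pi.mulSingle 3 z := by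
    funext j; fin_cases j <;> simp [tor]
  obtain ⟨s0, -, -, s3, n1, n2⟩ := sims
  rw [hc, map_mul, hH_single, hH_single, show F4.pk.sim ((0 : Fin 4) : ℕ) = 33 from s0,
    show F4.pk.sim ((3 : Fin 4) : ℕ) = 24 from s3, Ok.ht, Ok.ht]
  have o : ckOrth F4.pk 33 24 = true ∧ ckOrth F4.pk (F4.pk.ng 33) 24 = true ∧
      ckOrth F4.pk 33 (F4.pk.ng 24) = true ∧ ckOrth F4.pk (F4.pk.ng 33) (F4.pk.ng 24) = true := by decide +kernel
  rw [(F4.ok.commute_nt ckComm_F4 o.1 o.2.1 o.2.2.1 o.2.2.2 (-1 : K) (z : K)).mul_mul_mul_comm]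
  refine mul_mem (nt_pair φ e hφe _) ?_
  have h := nt_pair φ e hφe (-1 : K)
  rwa [map_neg, map_one] at h

include hφ hφe in
theorem tor_mem (z w : Kˣ) : hH (tor φ z w) ∈ twistedF4 K e := by
  have hl := wordOk_orb (l := [1, 2, 1, 2]) (Or.inr rfl)
  have hd : (nsg F4.pk [1, 2, 1, 2] 14).1 = 10 ∧ (nsg F4.pk [1, 2, 1, 2] 23).1 = 15 ∧
      (nsg F4.pk [1, 2, 1, 2] 33).1 = 37 ∧ (nsg F4.pk [1, 2, 1, 2] 24).1 = 32 ∧
      (nsg F4.pk [1, 2, 1, 2] 14).2 % 2 = 1 ∧ (nsg F4.pk [1, 2, 1, 2] 23).2 % 2 = 1 ∧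
      (nsg F4.pk [1, 2, 1, 2] 33).2 % 2 = 1 ∧ (nsg F4.pk [1, 2, 1, 2] 24).2 % 2 = 1 ∧
      F4.pk.ng 37 = 10 ∧ F4.pk.ng 32 = 15 ∧
      (List.range 4).map (fun i => F4.pk.co 37 i) = [1, 2, 2, 0] ∧
      (List.range 4).map (fun i => F4.pk.co 32 i) = [0, 1, 2, 1] := by decide +kernel
  obtain ⟨a1, a2, a3, a4, b1, b2, b3, b4, m1, m2, c1, c2⟩ := hd
  set n := F4.ok.nW (F := K) [1, 2, 1, 2]
  have hn := n2_mem φ e hφe
  have hconj : ∀ t : K, n * F4.ok.nt 33 t * n⁻¹ = F4.ok.nt 37 t ∧ n * F4.ok.nt 24 t * n⁻¹ = F4.ok.nt 32 t := by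
    intro t
    obtain ⟨-, -, -, -, n1, n2⟩ := sims
    constructor <;>
      rw [← MulAut.conj_apply, Ok.nt, map_mul, map_mul, MulAut.conj_apply, MulAut.conj_apply, Ok.nt]
    · rw [n1, m1, n_x hl (show (33:ℕ) < 48 by omega) (Prod.ext a3 b3),
        n_x hl (show (14:ℕ) < 48 by omega) (Prod.ext a1 b1)]
    · rw [n2, m2, n_x hl (show (24:ℕ) < 48 by omega) (Prod.ext a4 b4),
        n_x hl (show (23:ℕ) < 48 by omega) (Prod.ext a2 b2)]
  have key : ∀ v : Kˣ, hH (tor φ v ((Units.map φ.toMonoidHom v * v) ^ 2)) ∈ twistedF4 K e := by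
    intro v
    have h := mul_mem (mul_mem hn (tor_z_mem φ e hφe v)) (inv_mem hn)
    convert h using 1
    have hc : tor φ v 1 = Pi.mulSingle 0 (Units.map φ.toMonoidHom v) * Pi.mulSingle 3 v := by
      funext j; fin_cases j <;> simp [tor]
    obtain ⟨s0, -, -, s3, -, -⟩ := sims
    rw [hc, map_mul, hH_single, hH_single, show F4.pk.sim ((0 : Fin 4) : ℕ) = 33 from s0,
      show F4.pk.sim ((3 : Fin 4) : ℕ) = 24 from s3, ← MulAut.conj_apply]
    simp only [Ok.ht, map_mul, MulAut.conj_apply]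
    rw [(hconj _).1, (hconj _).1, (hconj _).2, (hconj _).2]
    rw [← F4.ok.ht_eq_nt, ← F4.ok.ht_eq_nt, ht_eq_hH (by omega), ht_eq_hH (by omega), ← map_mul]
    refine congrArg (hH (K := K)) ?_
    simp only [List.range_succ, List.range_zero, List.nil_append, List.cons_append, List.map_cons, List.map_nil,
      List.cons.injEq, and_true] at c1 c2
    obtain ⟨p0, p1, p2, p3⟩ := c1
    obtain ⟨q0, q1, q2, q3⟩ := c2
    funext j
    fin_cases j <;> apply Units.ext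
    · simp [tor, p0, q0]
    · simp [tor, p1, q1, zpow_ofNat, map_mul, map_pow, mul_pow, hφ]; ring
    · simp [tor, p2, q2, zpow_ofNat, mul_pow]
    · simp [tor, p3, q3]
  have hbij : Function.Bijective fun v : Kˣ => (Units.map φ.toMonoidHom v * v) ^ 2 := by
    rw [← Finite.injective_iff_bijective]
    intro a b hab
    let ψ : Kˣ →* Kˣ :=
      { toFun := fun v => (Units.map φ.toMonoidHom v * v) ^ 2
        map_one' := by simp
        map_mul' := fun x y => by rw [map_mul, mul_mul_mul_comm, mul_pow] }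
    refine (injective_iff_map_eq_one ψ).2 (fun v hv => ?_) hab
    have h1 : ((φ (v : K) * v) ^ 2) = 1 := congrArg Units.val hv
    have h2 : φ (v : K) * v = 1 := CharTwo.sq_inj.1 (h1.trans (one_pow 2).symm)
    have h3 : φ (φ (v : K)) * φ (v : K) = 1 := by rw [← map_mul, h2, map_one]
    have h4 : (v : K) * φ (v : K) ^ 2 = 1 := by
      have := congrArg (· ^ 2) h3
      simp only [mul_pow, one_pow, hφ] at this
      exact this
    have h5 : φ (v : K) = 1 := by linear_combination h4 - φ (v : K) * h2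
    exact Units.ext (φ.injective (h5.trans (map_one φ).symm))
  obtain ⟨v, hv⟩ := hbij.2 w
  rw [show tor φ z w = tor φ (z * v⁻¹) 1 * tor φ v ((Units.map φ.toMonoidHom v * v) ^ 2) by
    rw [← tor_mul, inv_mul_cancel_right, one_mul]; exact congrArg _ hv.symm, map_mul]
  exact mul_mem (tor_z_mem φ e hφe _) (key v)

end Cfsg.Agent.Chev.TwF4
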