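/-
Order, (B,N)-pair, Weyl group and simplicity of ²F₄.
-/
import Cfsg.Agent.Lib.Chev.TwF4

set_option autoImplicit false
set_option maxHeartbeats 400000

namespace Cfsg.Agent.Chev.TwF4

open Cfsg.Lie
open scoped Matrix commutatorElement

/-- The words of the sixteen fixed Weyl elements, by increasing key. -/
def enumL : List (List ℕ) :=
  [[0, 1, 0, 1, 0], [1, 0, 1, 0], [1, 0, 1, 0, 1, 0], [0, 1, 0], [0, 1, 0, 1, 0, 1, 0], [1, 0],
    [0, 1, 0, 1, 0, 1, 0, 1], [0], [1, 0, 1, 0, 1, 0, 1], [], [0, 1, 0, 1, 0, 1], [1], [1, 0, 1, 0, 1], [0, 1],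
    [0, 1, 0, 1], [1, 0, 1]]

/-- The tree of keys. -/
def keysT : KTree :=
  .node (.node (.node (.node .leaf 35595016 .leaf) 36248840 (.node .leaf 68821513 .leaf)) 69803273
      (.node (.node .leaf 253303562 .leaf) 253698826 (.node .leaf 387322894 .leaf)))
    387588622
    (.node (.node (.node .leaf 404032801 .leaf) 404298529 (.node .leaf 537922597 .leaf)) 538317861
      (.node (.node .leaf 721818150 .leaf) 722799910 (.node .leaf 755372583 (.node .leaf 756026407 .leaf))))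

theorem ckE : ckEnum F4.pk orbsT enumL keysT = true := by decide +kernel

theorem cnts : (enumL.map fun w => cntL F4.pk (orbWord orbsT w)) =
    [14, 12, 18, 8, 20, 6, 24, 2, 22, 0, 18, 4, 16, 6, 12, 10] := by decide +kernel

theorem chain : ckChain F4.pk orbsT = true := by decide +kernel

/-- The matrix of the dihedral group of order sixteen. -/
def M8 : CoxeterMatrix (Fin 2) where
  M := !![1, 8; 8, 1]
  isSymm := Matrix.ext fun i j => by fin_cases i <;> fin_cases j <;> rfl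
  diagonal i := by fin_cases i <;> rfl
  off_diagonal i j h := by fin_cases i <;> fin_cases j <;> first | exact absurd rfl h | simp

theorem cox : ckCoxT F4.pk orbsT M8.M = true := by decide +kernel

/-- `N¹/H¹` as a dihedral group. -/
theorem exists_iso : ∃ f : M8.Group →* DihedralGroup 8, Function.Bijective f := by
  set cs := M8.toCoxeterSystem
  have hl : M8.IsLiftable ![DihedralGroup.sr (0 : ZMod 8), DihedralGroup.sr 1] := by
    intro i j; fin_cases i <;> fin_cases j <;> decide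
  let f := cs.lift ⟨_, hl⟩
  have f0 : f (cs.simple 0) = DihedralGroup.sr 0 := cs.lift_apply_simple hl 0
  have f1 : f (cs.simple 1) = DihedralGroup.sr 1 := cs.lift_apply_simple hl 1
  set a := cs.simple 0
  set b := cs.simple 1
  set c := a * b
  have ha : a * a = 1 := cs.simple_mul_simple_self 0
  have hb : b * b = 1 := cs.simple_mul_simple_self 1
  have hc : c ^ 8 = 1 := cs.simple_mul_simple_pow 0 1
  have hcs : ∀ i : ZMod 8, c ^ (1 + i).val = c * c ^ i.val := fun i => by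
    rw [← pow_succ', ZMod.val_add, pow_eq_pow_mod (i.val + 1) hc, show ZMod.val (1 : ZMod 8) = 1 from rfl, add_comm 1]
  let g : DihedralGroup 8 → M8.Group := fun y => match y with
    | .r i => c ^ i.val
    | .sr i => a * c ^ i.val
  have g0 : ∀ y, g (DihedralGroup.sr 0 * y) = a * g y := by
    rintro (i | i)
    · rw [DihedralGroup.sr_mul_r, zero_add]
    · rw [DihedralGroup.sr_mul_sr, sub_zero]; show c ^ i.val = a * (a * c ^ i.val)
      rw [← mul_assoc, ha, one_mul]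
  have g1 : ∀ y, g (DihedralGroup.sr 1 * y) = b * g y := by
    rintro (i | i)
    · rw [DihedralGroup.sr_mul_r]; show a * c ^ (1 + i).val = b * c ^ i.val
      rw [hcs, ← mul_assoc, show a * c = b by rw [← mul_assoc a a b, ha, one_mul]]
    · rw [DihedralGroup.sr_mul_sr]; show c ^ (i - 1).val = b * (a * c ^ i.val)
      have e := hcs (i - 1)
      rw [add_sub_cancel] at e
      rw [e, ← mul_assoc b a, ← mul_assoc, show b * a * c = 1 by
        rw [show b * a * c = b * (a * a) * b by simp only [c, mul_assoc], ha, mul_one, hb], one_mul]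
  refine ⟨f, Function.LeftInverse.injective (g := g) (fun w => ?_), fun y => ?_⟩
  · refine cs.simple_induction_left (p := fun w => g (f w) = w) w (by rw [map_one]; exact pow_zero c) fun w i hw => ?_
    rw [map_mul]
    fin_cases i
    · exact (congrArg (fun z => g (z * f w)) f0).trans ((g0 _).trans (by rw [hw]; rfl))
    · exact (congrArg (fun z => g (z * f w)) f1).trans ((g1 _).trans (by rw [hw]; rfl))
  · refine ⟨g y, ?_⟩
    have fc : ∀ n : ℕ, f (c ^ n) = DihedralGroup.r (n : ZMod 8) := fun n => by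
      rw [map_pow, map_mul, f0, f1, DihedralGroup.sr_mul_sr, sub_zero, DihedralGroup.r_one_pow]
    rcases y with i | i
    · show f (c ^ i.val) = _
      rw [fc, ZMod.natCast_zmod_val]
    · show f (a * c ^ i.val) = _
      rw [map_mul, fc, f0, DihedralGroup.sr_mul_r, zero_add, ZMod.natCast_zmod_val]

variable {K : Type*} [Field K] [CharP K 2] [Fintype K] (φ : K →+* K) (hφ : ∀ t, φ (φ t) ^ 2 = t)
  (e : ℕ) (hφe : ∀ t, φ t = t ^ e)

omit [Fintype K] in
include hφ in
theorem Uw_forms {o : List ℕ × List ℕ} (ho : o ∈ orbsT) {g : GL chevF4.Idx K}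
    (hg : g ∈ F4.ok.genR (negS F4.pk o.2) ⊓ (T φ).fixed) :
    (∃ t, g = pw φ (33, 24) t) ∨ ∃ t u, g = qw φ (27, 25, 28, 30) t u := by
  simp only [orbsT, List.mem_cons, List.not_mem_nil, or_false] at ho
  rcases ho with rfl | rfl
  · refine Or.inl (pair_class φ hφ ⟨?_, hg.2⟩)
    have h := hg.1
    rw [F4.ok.negS_eq ckNegs.1 (by decide +kernel)] at h
    exact F4.ok.genR_mono (fun r hr => by simp only [List.mem_cons, List.not_mem_nil, or_false] at hr ⊢; tauto) h
  · refine Or.inr (quad_class φ hφ ⟨?_, hg.2⟩)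
    have h := hg.1
    rwa [F4.ok.negS_eq ckNegs.2 (by decide +kernel)] at h

include hφ hφe in
theorem exists_grp : ∃ G : TwistGrp (T φ), G.G1 = twistedF4 K e ∧ G.O.orbs = orbsT := by
  refine ⟨⟨O φ, twistedF4 K e, gens_le φ e hφe (fun p hp t => pw_fixed φ hφ hp t)
    (fun q hq t u => qw_fixed φ hφ hq t u), fun o ho => ?_, fun o ho g hg => ?_, fun g hg => ?_⟩, rfl, rfl⟩
  · change o ∈ orbsT at ho
    simp only [orbsT, List.mem_cons, List.not_mem_nil, or_false] at ho
    rcases ho with rfl | rfl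
    exacts [n1_mem φ e hφe, n2_mem φ e hφe]
  · rcases Uw_forms φ hφ ho hg with ⟨t, rfl⟩ | ⟨t, u, rfl⟩
    exacts [pw_mem φ e hφe (by decide) t, qw_mem φ e hφe (by decide) t u]
  · obtain ⟨z, w, rfl⟩ := (diag_fixed_iff φ hφ).1 hg
    exact tor_mem φ hφ e hφe z w

variable (G : TwistGrp (T φ)) (hO : G.O.orbs = orbsT)

include hφ in
theorem card_Uw_pair : Nat.card (G.Uw [0, 3]) = Fintype.card K := by
  rw [← Nat.card_eq_fintype_card]
  symm
  refine Nat.card_eq_of_bijective (fun t => ⟨pw φ (33, 24) t, ?_⟩) ⟨fun a b e => ?_, fun g => ?_⟩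
  · refine ⟨?_, pw_fixed φ hφ (by decide) t⟩
    rw [F4.ok.negS_eq ckNegs.1 (by decide +kernel)]
    exact mul_mem (F4.ok.xG_mem_genR (by simp) _) (F4.ok.xG_mem_genR (by simp) _)
  · exact pw_inj φ (congrArg Subtype.val e)
  · have h := g.2.1
    rw [F4.ok.negS_eq ckNegs.1 (by decide +kernel)] at h
    obtain ⟨t, e⟩ := pair_class φ hφ (g := g.1)
      ⟨F4.ok.genR_mono (fun r hr => by simp only [List.mem_cons, List.not_mem_nil, or_false] at hr ⊢; tauto) h, g.2.2⟩
    exact ⟨t, Subtype.ext e.symm⟩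

include hφ in
theorem card_Uw_quad : Nat.card (G.Uw [1, 2, 1, 2]) = Fintype.card K ^ 2 := by
  rw [← Nat.card_eq_fintype_card, sq, ← Nat.card_prod]
  symm
  refine Nat.card_eq_of_bijective (fun p => ⟨qw φ (27, 25, 28, 30) p.1 p.2, ?_⟩) ⟨fun a b e => ?_, fun g => ?_⟩
  · refine ⟨?_, qw_fixed φ hφ (by decide) p.1 p.2⟩
    rw [F4.ok.negS_eq ckNegs.2 (by decide +kernel)]
    exact mul_mem (mul_mem (F4.ok.xG_mem_genR (by simp) _) (F4.ok.xG_mem_genR (by simp) _))
      (mul_mem (F4.ok.xG_mem_genR (by simp) _) (F4.ok.xG_mem_genR (by simp) _))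
  · obtain ⟨h1, h2⟩ := qw_inj φ (congrArg Subtype.val e)
    exact Prod.ext h1 h2
  · have h := g.2.1
    rw [F4.ok.negS_eq ckNegs.2 (by decide +kernel)] at h
    obtain ⟨t, u, e⟩ := quad_class φ hφ (g := g.1) ⟨h, g.2.2⟩
    exact ⟨(t, u), Subtype.ext e.symm⟩

theorem cnt_orbs : Twist.cnt F4.pk [0, 3] = 2 ∧ Twist.cnt F4.pk [1, 2, 1, 2] = 4 :=
  ⟨F4.ok.cnt_eq ckNegs.1 (by decide +kernel) (by decide +kernel),
    F4.ok.cnt_eq ckNegs.2 (by decide +kernel) (by decide +kernel)⟩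

include hφ hO in
theorem card_sq {l : List ℕ} (hl : WordOk F4.pk l) (hc : (T φ).Comm l) :
    Nat.card (G.Uw l) ^ 2 = Fintype.card K ^ Twist.cnt F4.pk l := by
  refine G.card_Uw ckComm_F4 (fun o ho => ?_) hl hc
  rw [hO] at ho
  simp only [orbsT, List.mem_cons, List.not_mem_nil, or_false] at ho
  rcases ho with rfl | rfl
  · rw [cnt_orbs.1, card_Uw_pair φ hφ]
  · rw [cnt_orbs.2, card_Uw_quad φ hφ, ← pow_mul]

include hφ hO in
theorem proper : G.Proper where
  disj o ho o' ho' j hj hj' := by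
    rw [hO] at ho ho'
    simp only [orbsT, List.mem_cons, List.not_mem_nil, or_false] at ho ho'
    rcases ho with rfl | rfl <;> rcases ho' with rfl | rfl <;> simp at hj hj' ⊢ <;> omega
  ne_nil o ho := by
    rw [hO] at ho
    simp only [orbsT, List.mem_cons, List.not_mem_nil, or_false] at ho
    rcases ho with rfl | rfl <;> simp
  ne_bot o ho hbot := by
    rw [hO] at ho
    simp only [orbsT, List.mem_cons, List.not_mem_nil, or_false] at ho
    have h1 := Fintype.one_lt_card (α := K)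
    rcases ho with rfl | rfl
    · have h := card_Uw_pair φ hφ G
      rw [show G.Uw [0, 3] = ⊥ from hbot, Subgroup.card_bot] at h
      omega
    · have h := card_Uw_quad φ hφ G
      rw [show G.Uw [1, 2, 1, 2] = ⊥ from hbot, Subgroup.card_bot] at h
      exact (Nat.one_lt_pow (by norm_num) h1).ne h

include hφ hO in
theorem card_pos : Nat.card ↥(chevF4.posUnipotent K ⊓ (T φ).fixed) = Fintype.card K ^ 12 := by
  obtain ⟨l, hl, hc, htop⟩ := TwistGrp.exists_top (T := T φ)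
  have e : negS F4.pk l = fun r => F4.pk.isPos r = true :=
    funext fun r => propext ⟨fun hr => hr.1, fun hr => ⟨hr, htop r hr⟩⟩
  have h := card_sq φ hφ G hO hl hc
  have hc24 : Twist.cnt F4.pk l = 24 := by
    rw [Twist.cnt, e, show {r | F4.pk.isPos r = true} = ↑(posL F4.pk).toFinset by ext; simp [mem_posL],
      Set.ncard_coe_finset, List.toFinset_card_of_nodup ((posL_sorted (P := F4.pk)).imp fun h => Nat.ne_of_lt h)]
    decide +kernel
  rw [hc24, show 24 = 12 * 2 from rfl, pow_mul] at h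
  have hU : G.Uw l = chevF4.posUnipotent K ⊓ (T φ).fixed := by
    show F4.ok.genR (negS F4.pk l) ⊓ _ = _
    rw [e, ← F4.ok.posUnipotent_eq]
  rw [hU] at h
  exact Nat.pow_left_injective (by norm_num) h

include hφ hO in
theorem card_G1 : Nat.card G.G1 = Fintype.card K ^ 12 * (Fintype.card K - 1) *
    (Fintype.card K ^ 3 + 1) * (Fintype.card K ^ 4 - 1) * (Fintype.card K ^ 6 + 1) := by
  set q := Fintype.card K
  rw [G.card_eq ckComm_F4 (fun n => Nat.sqrt (q ^ n)) (fun l hl hc => by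
      show _ = Nat.sqrt _
      rw [← card_sq φ hφ G hO hl hc, Nat.sqrt_eq']),
    card_pos φ hφ G hO, card_diag_fixed φ hφ, TwistGrp.sum_W1 G.O hO ckE (fun n => Nat.sqrt (q ^ n)),
    show (enumL.map fun w => Nat.sqrt (q ^ cntL F4.pk (orbWord orbsT w))) =
      (enumL.map fun w => cntL F4.pk (orbWord orbsT w)).map fun n => Nat.sqrt (q ^ n) from by rw [List.map_map]; rfl,
    cnts]
  have e : ∀ n k, n = k * 2 → Nat.sqrt (q ^ n) = q ^ k := fun n k h => by rw [h, pow_mul, Nat.sqrt_eq']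
  simp only [List.map_cons, List.map_nil, List.sum_cons, List.sum_nil]
  rw [e 14 7 rfl, e 12 6 rfl, e 18 9 rfl, e 8 4 rfl, e 20 10 rfl, e 6 3 rfl, e 24 12 rfl, e 2 1 rfl, e 22 11 rfl,
    e 0 0 rfl, e 4 2 rfl, e 16 8 rfl, e 10 5 rfl]
  obtain ⟨k, hk⟩ : ∃ k, q = k + 1 := ⟨q - 1, by have := Fintype.one_lt_card (α := K); omega⟩
  rw [show Fintype.card K = q from rfl, hk]
  have h : 1 ≤ (k + 1) ^ 4 := Nat.one_le_pow _ _ (by omega)
  zify [h]
  simp only [Nat.add_sub_cancel]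
  push_cast
  ring

include hφ hO in
theorem core : ((chevF4.borelSubgroup K ⊓ G.G1).subgroupOf G.G1).normalCore = ⊥ := by
  refine G.core_bot ckComm_F4 fun i hi => ?_
  have hq : ((27, 25, 28, 30) : ℕ × ℕ × ℕ × ℕ) ∈ quads := by decide
  have h1 : x 24 (1 : K) * x 33 1 ∈ (T φ).fixed := by
    have h := pw_fixed φ hφ (p := (33, 24)) (by decide) (1 : K)
    rwa [pw, map_one, (F4.ok.commute_xG ckComm_F4 (pair_facts (33, 24) (by decide)).2.2.2.2.2 _ _).eq] at h
  have h2 : x 25 (1 : K) * x 27 1 * x 30 1 ∈ (T φ).fixed := by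
    convert qw_fixed φ hφ hq (1 : K) 0 using 1
    rw [qw, map_one, map_zero, mul_one, add_zero, zero_pow two_ne_zero, nf, x0, mul_one,
      show x 25 (1 : K) * x 27 1 * x 30 1 = x 25 1 * x 27 1 * (x 28 0 * x 30 1) by rw [x0, one_mul],
      nf_eq_swapped hq, nf]
    simp [CharTwo.add_self_eq_zero, x0, mul_assoc]
  have hi' : i = 0 ∨ i = 1 ∨ i = 2 ∨ i = 3 := by
    have : i < 4 := hi
    omega
  obtain ⟨s0, s1, s2, s3, -, -⟩ := sims
  rcases hi' with rfl | rfl | rfl | rfl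
  · exact ⟨[24, 33], fun _ => 1, by simp, by decide +kernel, by rw [s0]; simp, one_ne_zero, by simpa using h1⟩
  · exact ⟨[25, 27, 30], fun _ => 1, by simp, by decide +kernel, by rw [s1]; simp, one_ne_zero,
      by simpa [mul_assoc] using h2⟩
  · exact ⟨[25, 27, 30], fun _ => 1, by simp, by decide +kernel, by rw [s2]; simp, one_ne_zero,
      by simpa [mul_assoc] using h2⟩
  · exact ⟨[24, 33], fun _ => 1, by simp, by decide +kernel, by rw [s3]; simp, one_ne_zero, by simpa using h1⟩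

omit [CharP K 2] [Fintype K] in
theorem tor_val (z w : Kˣ) : (tor φ z w 0 : K) = φ z ∧ (tor φ z w 1 : K) = φ w ∧ (tor φ z w 2 : K) = w ∧
    (tor φ z w 3 : K) = z := ⟨rfl, rfl, rfl, rfl⟩

theorem A_vals : [24, 33, 25, 27, 28, 30].map (fun r => (List.range 4).map fun i => F4.pk.A i r) =
    [[0, 0, -1, 2], [2, -1, 0, 0], [0, -2, 2, -1], [-1, 2, -1, 0], [-1, 0, 1, -1], [-2, 2, 0, -1]] := by
  decide +kernel

theorem chars (c : Fin 4 → Kˣ) :
    hchar F4.pk c 24 = (c 2 : K)⁻¹ * (c 3 : K) ^ 2 ∧ hchar F4.pk c 33 = (c 0 : K) ^ 2 * (c 1 : K)⁻¹ ∧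
    hchar F4.pk c 25 = ((c 1 : K) ^ 2)⁻¹ * (c 2 : K) ^ 2 * (c 3 : K)⁻¹ ∧
    hchar F4.pk c 27 = (c 0 : K)⁻¹ * (c 1 : K) ^ 2 * (c 2 : K)⁻¹ ∧
    hchar F4.pk c 28 = (c 0 : K)⁻¹ * (c 2 : K) * (c 3 : K)⁻¹ ∧
    hchar F4.pk c 30 = ((c 0 : K) ^ 2)⁻¹ * (c 1 : K) ^ 2 * (c 3 : K)⁻¹ := by
  have h : ∀ r, hchar F4.pk c r = (c 0 : K) ^ F4.pk.A 0 r * (c 1 : K) ^ F4.pk.A 1 r * (c 2 : K) ^ F4.pk.A 2 r *
      (c 3 : K) ^ F4.pk.A 3 r := fun r => Fin.prod_univ_four _
  have hA := A_vals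
  simp only [List.range_succ, List.range_zero, List.nil_append, List.cons_append, List.map_cons, List.map_nil,
    List.cons.injEq, and_true] at hA
  obtain ⟨⟨a0, a1, a2, a3⟩, ⟨b0, b1, b2, b3⟩, ⟨d0, d1, d2, d3⟩, ⟨f0, f1, f2, f3⟩, ⟨g0, g1, g2, g3⟩,
    ⟨k0, k1, k2, k3⟩⟩ := hA
  simp [h, a0, a1, a2, a3, b0, b1, b2, b3, d0, d1, d2, d3, f0, f1, f2, f3, g0, g1, g2, g3, k0, k1, k2, k3,
    zpow_neg, zpow_ofNat]

include hφ hO in
theorem perfect (hcard : 2 < Fintype.card K) (e : ℕ) (hφe : ∀ t, φ t = t ^ e) (hG : G.G1 = twistedF4 K e) :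
    commutator ↥G.G1 = ⊤ := by
  classical
  obtain ⟨z, hz0, hz1⟩ : ∃ z : K, z ≠ 0 ∧ z ≠ 1 := by
    by_contra hall
    push_neg at hall
    have hsub : (Finset.univ : Finset K) ⊆ {0, 1} := fun y _ => by
      by_cases h0 : y = 0
      · simp [h0]
      · simp [hall y h0]
    have h1 := (Finset.card_le_card hsub).trans Finset.card_le_two
    rw [Finset.card_univ] at h1
    omega
  set zu := Units.mk0 z hz0
  have hz' : φ z ≠ 0 := (map_ne_zero φ).2 hz0
  have hd : ∀ a b, hH (tor φ a b) ∈ G.G1 := fun a b => G.diag_mem ((diag_fixed_iff φ hφ).2 ⟨a, b, rfl⟩)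
  have hpm : ∀ p ∈ pairs, ∀ t, pw φ p t ∈ G.G1 := fun p hp t => hG ▸ pw_mem φ e hφe hp t
  have hqm : ∀ q ∈ quads, ∀ t u, qw φ q t u ∈ G.G1 := fun q hq t u => hG ▸ qw_mem φ e hφe hq t u
  have hq : ((27, 25, 28, 30) : ℕ × ℕ × ℕ × ℕ) ∈ quads := by decide
  have o := (pair_facts (33, 24) (by decide)).2.2.2.2.2
  have hpair : ∀ t, pw φ (33, 24) t ∈ ⁅G.G1, G.G1⁆ := by
    intro t
    set s := t / (z ^ 2 - 1)
    have hz2 : z ^ 2 - 1 ≠ 0 := fun h => hz1 (CharTwo.sq_inj.1 ((sub_eq_zero.1 h).trans (one_pow 2).symm))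
    have hs : (z ^ 2 - 1) * s = t := mul_div_cancel₀ _ hz2
    have h := G.mem_derived_of_comm (hd zu 1) (hpm (33, 24) (by decide) s)
    convert h using 1
    obtain ⟨c24, c33, -, -, -, -⟩ := chars (tor φ zu 1)
    simp [tor_val, zu] at c24 c33
    rw [commutatorElement_def, pw, pw, ← MulAut.conj_apply, map_mul, MulAut.conj_apply, MulAut.conj_apply,
      hH_x _ (by omega), hH_x _ (by omega), c24, c33, mul_inv_rev, F4.ok.xG_inv, F4.ok.xG_inv, mul_assoc,
      ← mul_assoc (x 24 (z ^ 2 * s)), xa, (F4.ok.commute_xG ckComm_F4 o _ _).symm.eq, ← mul_assoc, xa, ← hs]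
    congr 2
    · simp [map_mul, map_sub, map_pow]; ring
    · ring
  have hquad : ∀ t u, qw φ (27, 25, 28, 30) t u ∈ ⁅G.G1, G.G1⁆ := by
    set χ := z ^ 2 * (φ z ^ 2)⁻¹
    have hconj : ∀ t u, hH (tor φ 1 zu) * qw φ (27, 25, 28, 30) t u * (hH (tor φ 1 zu))⁻¹ =
        qw φ (27, 25, 28, 30) (χ * t) (z * u) := by
      intro t u
      obtain ⟨-, -, c25, c27, c28, c30⟩ := chars (tor φ 1 zu)
      simp [tor_val, zu] at c25 c27 c28 c30
      rw [← MulAut.conj_apply, qw, nf]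
      simp only [map_mul, MulAut.conj_apply]
      rw [hH_x _ (by omega), hH_x _ (by omega), hH_x _ (by omega), hH_x _ (by omega), c25, c27, c28, c30, qw, nf]
      simp only [χ, map_mul, map_pow, map_inv₀, hφ]
      congr 3 <;> field_simp <;> ring
    have hinv : ∀ t u, (qw φ (27, 25, 28, 30) t u)⁻¹ = qw φ (27, 25, 28, 30) t (u + φ t * t) := fun t u => by
      refine inv_eq_of_mul_eq_one_right ?_
      rw [qw_mul φ hφ hq, CharTwo.add_self_eq_zero, ← add_assoc, CharTwo.add_self_eq_zero, zero_add,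
        CharTwo.add_self_eq_zero, qw_zero]
    have hcomm : ∀ t u, ∃ u', ⁅hH (tor φ 1 zu), qw φ (27, 25, 28, 30) t u⁆ =
        qw φ (27, 25, 28, 30) (χ * t + t) u' ∧ (t = 0 → u' = z * u + u) := fun t u => by
      refine ⟨_, by rw [commutatorElement_def, hconj, hinv, qw_mul φ hφ hq], fun ht => ?_⟩
      subst ht; simp
    have hz2 : z + 1 ≠ 0 := fun h => hz1 (by rw [← CharTwo.neg_eq (1 : K)]; exact eq_neg_of_add_eq_zero_left h)
    have hχ : χ + 1 ≠ 0 := fun h => by
      have h1 : χ = 1 := by rw [← CharTwo.neg_eq (1 : K)]; exact eq_neg_of_add_eq_zero_left h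
      have h2 : z = φ z := by
        refine CharTwo.sq_inj.1 ?_
        simp only [χ] at h1
        field_simp at h1
        exact h1
      have h3 := hφ z
      rw [← h2, ← h2] at h3
      exact hz1 ((mul_eq_right₀ hz0).1 (by rwa [sq] at h3))
    have hlayer : ∀ u, qw φ (27, 25, 28, 30) 0 u ∈ ⁅G.G1, G.G1⁆ := by
      intro u
      obtain ⟨u', e', hu'⟩ := hcomm 0 (u / (z + 1))
      have h := G.mem_derived_of_comm (hd 1 zu) (hqm _ hq 0 (u / (z + 1)))
      rw [e', mul_zero, add_zero, hu' rfl] at h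
      convert h using 2
      field_simp
    intro t u
    obtain ⟨u', e', -⟩ := hcomm (t / (χ + 1)) 0
    have h := G.mem_derived_of_comm (hd 1 zu) (hqm _ hq (t / (χ + 1)) 0)
    rw [e', show χ * (t / (χ + 1)) + t / (χ + 1) = t by field_simp] at h
    have h4 := mul_mem h (hlayer (u - u'))
    rwa [qw_mul φ hφ hq, add_zero, mul_zero, add_zero, add_sub_cancel] at h4
  refine G.commutator_eq_top ?_
  conv_lhs => rw [hG]
  have hn : ∀ l, ([0, 3], [0, 3]) = l ∨ ([1, 2], [1, 2, 1, 2]) = l → F4.ok.nW (F := K) l.2 ∈ G.G1 := fun l hl =>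
    G.nW_mem l (by rw [hO]; rcases hl with rfl | rfl <;> simp [orbsT])
  refine gens_le φ e hφe (fun p hp t => ?_) (fun q hq' t u => ?_)
  · simp only [pairs, List.mem_cons, List.not_mem_nil, or_false] at hp
    rcases hp with rfl | rfl
    · exact hpair t
    · have h := G.derived_conj (inv_mem (hn _ (Or.inl rfl))) (hpair t)
      rwa [← n_pair, show ∀ n y : GL chevF4.Idx K, n⁻¹ * (n * y * n⁻¹) * n⁻¹⁻¹ = y by intros; group] at h
  · simp only [quads, List.mem_cons, List.not_mem_nil, or_false] at hq'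
    rcases hq' with rfl | rfl
    · exact hquad t u
    · have h := G.derived_conj (inv_mem (hn _ (Or.inr rfl))) (hquad t u)
      rwa [← n_quad, show ∀ n y : GL chevF4.Idx K, n⁻¹ * (n * y * n⁻¹) * n⁻¹⁻¹ = y by intros; group] at h

include hφ hO in
theorem simple (hcard : 2 < Fintype.card K) (e : ℕ) (hφe : ∀ t, φ t = t ^ e) (hG : G.G1 = twistedF4 K e) :
    IsSimpleGroup ↥G.G1 ∧ ¬ IsMulCommutative ↥G.G1 := by
  have hp := proper φ hφ G hO
  refine G.simple ckComm_F4 hp (perfect φ hφ G hO hcard e hφe hG)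
    (G.irreducible ckComm_F4 hp (hO ▸ chain)) (core φ hφ G hO) fun hbot => ?_
  have h := G.pos_fixed_le ckComm_F4 (F := K)
  rw [hbot, le_bot_iff] at h
  have h1 := card_pos φ hφ G hO
  rw [h, Subgroup.card_bot] at h1
  exact (Nat.one_lt_pow (by norm_num) (by omega : 1 < Fintype.card K)).ne h1

include hφ hO in
theorem weyl :
    ∃ f : ↥(chevF4.monomialSubgroup K ⊓ G.G1) →* DihedralGroup 8, Function.Surjective f ∧
      f.ker = (chevF4.diagonalSubgroup K ⊓ G.G1).subgroupOf (chevF4.monomialSubgroup K ⊓ G.G1) := by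
  obtain ⟨f, hf, hk⟩ := G.exists_phi ckComm_F4 (proper φ hφ G hO) (M := M8) (hO ▸ cox) (hO ▸ by decide)
  obtain ⟨i, hi⟩ := exists_iso
  refine ⟨i.comp f, hi.2.comp hf, ?_⟩
  rw [← hk]
  ext y
  simp only [MonoidHom.mem_ker, MonoidHom.comp_apply, map_eq_one_iff i hi.1]

/-- The field has characteristic two. -/
theorem charP_two {K : Type*} [Field K] [Fintype K] {m : ℕ} (hK : Fintype.card K = 2 ^ (2 * m + 1)) : CharP K 2 := by
  haveI := Fact.mk Nat.prime_two
  exact charP_of_card_eq_prime_pow (f := 2 * m + 1) hK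

/-- All the hypotheses are available. -/
theorem setup {K : Type*} [Field K] [CharP K 2] [Fintype K] {m : ℕ} (hK : Fintype.card K = 2 ^ (2 * m + 1)) :
    ∃ (φ : K →+* K) (G : TwistGrp (T φ)), (∀ t, φ t = t ^ 2 ^ m) ∧ (∀ t, φ (φ t) ^ 2 = t) ∧
      G.G1 = twistedF4 K (2 ^ m) ∧ G.O.orbs = orbsT := by
  haveI := Fact.mk Nat.prime_two
  refine ⟨iterateFrobenius K 2 m, ?_⟩
  have h1 : ∀ t : K, iterateFrobenius K 2 m t = t ^ 2 ^ m := iterateFrobenius_def 2 m
  have h2 : ∀ t : K, iterateFrobenius K 2 m (iterateFrobenius K 2 m t) ^ 2 = t := fun t => by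
    rw [h1, h1, ← pow_mul, ← pow_mul,
      show 2 ^ m * (2 ^ m * 2) = 2 ^ (2 * m + 1) by rw [pow_succ, two_mul, pow_add]; ring, ← hK]
    exact FiniteField.pow_card t
  obtain ⟨G, hG, hO⟩ := exists_grp _ h2 _ h1
  exact ⟨G, h1, h2, hG, hO⟩

end Cfsg.Agent.Chev.TwF4
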