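/-
The fixed unipotent group of type ²G₂.
-/
import Cfsg.Agent.Lib.Chev.SpecialTools
import Cfsg.Agent.Lib.Chev.AllC
import Cfsg.Agent.Lib.Chev.Smith
import Cfsg.Prelude.Def_LieTwisted

set_option autoImplicit false
set_option maxHeartbeats 400000

namespace Cfsg.Agent.Chev.TwRee

open Cfsg.Lie
open scoped Matrix

/-- The single orbit with its longest word. -/
def orbsT : List (List ℕ × List ℕ) := [([0, 1], [0, 1, 0, 1, 0, 1])]

theorem ckTwR : ckTw G2.pk spG2.rr spG2.pp orbsT = true := by decide +kernel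

theorem cwords : G2.pk.cword 6 7 = [(8, -1, 1, 1), (9, -1, 1, 2), (10, 1, 1, 3), (11, -2, 2, 3)] ∧
    G2.pk.cword 8 9 = [(11, -3, 1, 1)] := by decide +kernel

theorem orths : ckOrth G2.pk 8 10 = true ∧ ckOrth G2.pk 8 11 = true ∧ ckOrth G2.pk 9 10 = true ∧
    ckOrth G2.pk 9 11 = true ∧ ckOrth G2.pk 10 11 = true := by decide +kernel

theorem images : (List.range 12).map (fun r => (spG2.rr r, spG2.lam r)) =
    [(2, 1), (3, 1), (0, 3), (1, 3), (5, 3), (4, 1), (7, 1), (6, 3), (10, 3), (11, 3), (8, 1), (9, 1)] := by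
  decide +kernel

theorem posL_eq : posL G2.pk = [6, 7, 8, 9, 10, 11] := by decide +kernel

variable {K : Type*} [Field K] [CharP K 3]

instance charP_sp : CharP K spG2.p := ‹CharP K 3›

theorem three : (3 : K) = 0 := CharP.cast_eq_zero K 3

theorem neg_two : ((-2 : ℤ) : K) = 1 := by
  push_cast; linear_combination -(three (K := K))

/-- Root elements of G₂. -/
noncomputable abbrev x (r : ℕ) (t : K) : GL chevG2.Idx K := G2.ok.xG r t

/-- Elements of the group of the four highest roots. -/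
noncomputable def Q (a b c d : K) : GL chevG2.Idx K := x 8 a * x 9 b * x 10 c * x 11 d

theorem xa (r : ℕ) (a b : K) : x r a * x r b = x r (a + b) := G2.ok.xG_add r a b

theorem swap98 (a b : K) : x 9 b * x 8 a = x 8 a * x 9 b := by
  have h := G2.ok.cword_one (r := 8) (s := 9) ckComm_G2 (by decide +kernel) (by decide +kernel) (by omega)
    (by decide +kernel) a b
  rw [h, cwords.2]
  simp [show ((-3 : ℤ) : K) = 0 by push_cast; linear_combination -(three (K := K)), G2.ok.xG_zero]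

theorem swaps (a b : K) : x 10 b * x 8 a = x 8 a * x 10 b ∧ x 11 b * x 8 a = x 8 a * x 11 b ∧
    x 10 b * x 9 a = x 9 a * x 10 b ∧ x 11 b * x 9 a = x 9 a * x 11 b ∧ x 11 b * x 10 a = x 10 a * x 11 b := by
  obtain ⟨o1, o2, o3, o4, o5⟩ := orths
  exact ⟨(G2.ok.commute_xG ckComm_G2 o1 a b).symm.eq, (G2.ok.commute_xG ckComm_G2 o2 a b).symm.eq,
    (G2.ok.commute_xG ckComm_G2 o3 a b).symm.eq, (G2.ok.commute_xG ckComm_G2 o4 a b).symm.eq,
    (G2.ok.commute_xG ckComm_G2 o5 a b).symm.eq⟩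

theorem Q_mul (a b c d a' b' c' d' : K) :
    Q a b c d * Q a' b' c' d' = Q (a + a') (b + b') (c + c') (d + d') := by
  obtain ⟨s1, -, -, -, -⟩ := swaps (K := K) a' c
  simp only [Q, ← xa]
  calc x 8 a * x 9 b * x 10 c * x 11 d * (x 8 a' * x 9 b' * x 10 c' * x 11 d')
      = x 8 a * x 9 b * x 10 c * (x 11 d * x 8 a') * x 9 b' * x 10 c' * x 11 d' := by group
    _ = x 8 a * x 9 b * (x 10 c * x 8 a') * (x 11 d * x 9 b') * x 10 c' * x 11 d' := by
        rw [(swaps (K := K) a' d).2.1]; group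
    _ = x 8 a * (x 9 b * x 8 a') * (x 10 c * x 9 b') * (x 11 d * x 10 c') * x 11 d' := by
        rw [s1, (swaps (K := K) b' d).2.2.2.1]; group
    _ = x 8 a * x 8 a' * (x 9 b * x 9 b') * (x 10 c * x 10 c') * (x 11 d * x 11 d') := by
        rw [swap98, (swaps (K := K) b' c).2.2.1, (swaps (K := K) c' d).2.2.2.2]; group

theorem Q_zero : Q (0 : K) 0 0 0 = 1 := by simp [Q, x, G2.ok.xG_zero]

theorem Q_inv (a b c d : K) : (Q a b c d)⁻¹ = Q (-a) (-b) (-c) (-d) :=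
  inv_eq_of_mul_eq_one_right (by rw [Q_mul]; simp [Q_zero])

theorem swap76 (A B : K) :
    x 7 A * x 6 B = x 6 B * x 7 A * Q (-(B * A)) (-(B * A ^ 2)) (B * A ^ 3) (B ^ 2 * A ^ 3) := by
  rw [x, G2.ok.cword_one (r := 6) (s := 7) ckComm_G2 (by decide +kernel) (by decide +kernel) (by omega)
    (by decide +kernel) B A, cwords.1]
  simp only [List.map_cons, List.map_nil, List.prod_cons, List.prod_nil, neg_two, Q, x]
  push_cast
  simp [mul_assoc]

variable (φ : K →+* K)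

/-- The twist. -/
noncomputable abbrev T : Twist G2.ok K := G2.ok.spTwist ckSp_G2 ckComm_G2 Nat.prime_three φ

/-- The orbits. -/
noncomputable def O : (T φ).Orbits := ⟨orbsT, ckTwR⟩

theorem sigma_x {r : ℕ} (hr : r < 12) (t : K) :
    (T φ).σ (x r t) = x ([2, 3, 0, 1, 5, 4, 7, 6, 10, 11, 8, 9].getD r 0)
      (φ t ^ [1, 1, 3, 3, 3, 1, 1, 3, 3, 3, 1, 1].getD r 0) := by
  have e := images
  have e1 : (spG2.rr r, spG2.lam r) = ([2, 3, 0, 1, 5, 4, 7, 6, 10, 11, 8, 9].getD r 0,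
      [1, 1, 3, 3, 3, 1, 1, 3, 3, 3, 1, 1].getD r 0) := by
    rw [← getD_map_range (fun r => (spG2.rr r, spG2.lam r)) (d := (0, 0)) hr, e]
    interval_cases r <;> rfl
  rw [Prod.mk.injEq] at e1
  rw [x, G2.ok.spTwist_xG ckSp_G2 ckComm_G2 Nat.prime_three φ (show r < G2.pk.nroots from hr), map_pow, e1.1, e1.2]

theorem sigma_mul {a b : GL chevG2.Idx K} (ha : a ∈ chevG2.group K) (hb : b ∈ chevG2.group K) :
    (T φ).σ (a * b) = (T φ).σ a * (T φ).σ b := (T φ).map_mul' _ ha _ hb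

theorem mem_grp (r : ℕ) (t : K) : x r t ∈ chevG2.group K := G2.ok.mem_group_of_xG r t

theorem sigma_nf (a b c d f g : K) :
    (T φ).σ (x 6 a * x 7 b * Q c d f g) = x 6 (φ b ^ 3) * x 7 (φ a) *
      Q (φ f - φ b ^ 3 * φ a) (φ g - φ b ^ 3 * φ a ^ 2) (φ c ^ 3 + φ b ^ 3 * φ a ^ 3)
        (φ d ^ 3 + (φ b ^ 3) ^ 2 * φ a ^ 3) := by
  have hm : ∀ r t, x (K := K) r t ∈ chevG2.group K := mem_grp
  rw [Q, sigma_mul φ (mul_mem (hm _ _) (hm _ _)) (mul_mem (mul_mem (mul_mem (hm _ _) (hm _ _)) (hm _ _)) (hm _ _)),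
    sigma_mul φ (hm _ _) (hm _ _), sigma_mul φ (mul_mem (mul_mem (hm _ _) (hm _ _)) (hm _ _)) (hm _ _),
    sigma_mul φ (mul_mem (hm _ _) (hm _ _)) (hm _ _), sigma_mul φ (hm _ _) (hm _ _)]
  simp only [sigma_x φ (show (6 : ℕ) < 12 by omega), sigma_x φ (show (7 : ℕ) < 12 by omega),
    sigma_x φ (show (8 : ℕ) < 12 by omega), sigma_x φ (show (9 : ℕ) < 12 by omega),
    sigma_x φ (show (10 : ℕ) < 12 by omega), sigma_x φ (show (11 : ℕ) < 12 by omega)]
  simp only [List.getD_cons_succ, List.getD_cons_zero, pow_one]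
  rw [swap76, show ∀ p q r s : K, x 10 p * x 11 q * x 8 r * x 9 s = Q r s p q from fun p q r s => by
    rw [show x 10 p * x 11 q * x 8 r * x 9 s = Q 0 0 p q * Q r s 0 0 by simp [Q, x, G2.ok.xG_zero, mul_assoc],
      Q_mul]; simp, mul_assoc, Q_mul]
  ring_nf

/-- The fixed elements in normal form. -/
noncomputable def srt (t u v : K) : GL chevG2.Idx K :=
  x 6 t * x 7 (φ t) * Q (φ u) (φ v) (φ t ^ 3 * t + u) (φ t ^ 3 * t ^ 2 + v)

theorem nf_unique {a b c d f g a' b' c' d' f' g' : K}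
    (e : x 6 a * x 7 b * Q c d f g = x 6 a' * x 7 b' * Q c' d' f' g') :
    a = a' ∧ b = b' ∧ c = c' ∧ d = d' ∧ f = f' ∧ g = g' := by
  have h := G2.ok.prod_unique (F := K) [6, 7, 8, 9, 10, 11] (by simp) (by decide +kernel)
    (fun r => [0, 0, 0, 0, 0, 0, a, b, c, d, f, g].getD r 0)
    (fun r => [0, 0, 0, 0, 0, 0, a', b', c', d', f', g'].getD r 0)
    (by simpa [Q, x, mul_assoc] using e)
  exact ⟨h 6 (by simp), h 7 (by simp), h 8 (by simp), h 9 (by simp), h 10 (by simp), h 11 (by simp)⟩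

theorem srt_inj {t u v t' u' v' : K} (e : srt φ t u v = srt φ t' u' v') : t = t' ∧ u = u' ∧ v = v' := by
  obtain ⟨rfl, -, -, -, h5, h6⟩ := nf_unique e
  exact ⟨rfl, add_left_cancel h5, add_left_cancel h6⟩

theorem nf_form {g : GL chevG2.Idx K} (hg : g ∈ chevG2.posUnipotent K) :
    ∃ a b c d f e : K, g = x 6 a * x 7 b * Q c d f e := by
  obtain ⟨t, rfl⟩ := G2.ok.pos_normal_form ckComm_G2 hg
  exact ⟨t 6, t 7, t 8, t 9, t 10, t 11, by simp [posL_eq, Q, x, mul_assoc]⟩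

theorem srt_pos (t u v : K) : srt φ t u v ∈ chevG2.posUnipotent K := by
  have h : ∀ r ∈ [(6 : ℕ), 7, 8, 9, 10, 11], ∀ s : K, x r s ∈ chevG2.posUnipotent K := fun r hr s =>
    G2.ok.xG_mem_pos (by rw [← mem_posL, posL_eq]; exact hr) s
  exact mul_mem (mul_mem (h 6 (by simp) _) (h 7 (by simp) _))
    (mul_mem (mul_mem (mul_mem (h 8 (by simp) _) (h 9 (by simp) _)) (h 10 (by simp) _)) (h 11 (by simp) _))

variable (hφ : ∀ t, φ (φ t) ^ 3 = t)

include hφ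

theorem key' (t : K) : φ (φ t ^ 3) = t := by rw [map_pow, hφ]

theorem srt_fixed (t u v : K) : srt φ t u v ∈ (T φ).fixed := by
  refine (T φ).mem_fixed.2 ⟨G2.ok.borel_le_group (Subgroup.mem_sup_left (srt_pos φ t u v)), ?_⟩
  rw [srt, sigma_nf]
  simp only [hφ, map_add, map_mul, map_pow]
  ring_nf

theorem pos_fixed_iff {g : GL chevG2.Idx K} :
    g ∈ chevG2.posUnipotent K ⊓ (T φ).fixed ↔ ∃ t u v, g = srt φ t u v := by
  refine ⟨fun ⟨hp, hf⟩ => ?_, fun ⟨t, u, v, e⟩ => e ▸ ⟨srt_pos φ t u v, srt_fixed φ hφ t u v⟩⟩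
  obtain ⟨a, b, c, d, f, e, rfl⟩ := nf_form hp
  have h := ((T φ).mem_fixed.1 hf).2
  rw [sigma_nf] at h
  obtain ⟨h1, h2, h3, h4, -, -⟩ := nf_unique h
  refine ⟨a, f - φ a ^ 3 * a, e - φ a ^ 3 * a ^ 2, ?_⟩
  rw [srt]
  have h2' : b = φ a := h2.symm
  subst h2'
  congr 2
  · rw [map_sub, map_mul, map_pow, hφ, ← h3, hφ]
  · rw [map_sub, map_mul, map_pow, map_pow, hφ, ← h4, hφ]
  · ring
  · ring

theorem card_pos_fixed : Nat.card ↥(chevG2.posUnipotent K ⊓ (T φ).fixed) = Nat.card K ^ 3 := by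
  rw [show Nat.card K ^ 3 = Nat.card (K × K × K) by rw [Nat.card_prod, Nat.card_prod]; ring]
  symm
  refine Nat.card_eq_of_bijective (fun p => ⟨srt φ p.1 p.2.1 p.2.2, srt_pos φ _ _ _, srt_fixed φ hφ _ _ _⟩)
    ⟨fun p q e => ?_, fun g => ?_⟩
  · obtain ⟨h1, h2, h3⟩ := srt_inj φ (congrArg Subtype.val e)
    exact Prod.ext h1 (Prod.ext h2 h3)
  · obtain ⟨t, u, v, e⟩ := (pos_fixed_iff φ hφ).1 g.2
    exact ⟨(t, u, v), Subtype.ext e.symm⟩

omit hφ in
theorem ree_form (t u v : K) :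
    x 7 (φ t) * x 6 t * Q (φ t * t + φ u) (φ t ^ 2 * t + φ v) u v = srt φ t u v := by
  rw [swap76, mul_assoc, Q_mul, srt]
  ring_nf

omit hφ in
theorem srt_layer (u v : K) : srt φ 0 u v = Q (φ u) (φ v) u v := by
  simp [srt, x, G2.ok.xG_zero]

omit hφ in
theorem srt_shift (t u v u' v' : K) : srt φ t u v * srt φ 0 u' v' = srt φ t (u + u') (v + v') := by
  rw [srt_layer, srt, mul_assoc, Q_mul, srt]
  simp only [map_add, add_assoc]

omit hφ in
/-- The product of two normal forms adds the first coordinates. -/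
theorem nf_mul (a b c d f g a' b' c' d' f' g' : K) : ∃ C D F G : K,
    (x 6 a * x 7 b * Q c d f g) * (x 6 a' * x 7 b' * Q c' d' f' g') =
      x 6 (a + a') * x 7 (b + b') * Q C D F G := by
  let N : Subgroup (GL chevG2.Idx K) :=
    { carrier := {g | ∃ a b c d, g = Q a b c d}
      one_mem' := ⟨0, 0, 0, 0, Q_zero.symm⟩
      mul_mem' := by
        rintro p q ⟨a, b, c, d, rfl⟩ ⟨a', b', c', d', rfl⟩
        exact ⟨_, _, _, _, Q_mul a b c d a' b' c' d'⟩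
      inv_mem' := by
        rintro p ⟨a, b, c, d, rfl⟩
        exact ⟨_, _, _, _, Q_inv a b c d⟩ }
  let S : ℕ → Prop := fun r => r ∈ [(8 : ℕ), 9, 10, 11]
  have hle : G2.ok.genR (F := K) S ≤ N := G2.ok.genR_le fun r hr t => by
    simp only [S, List.mem_cons, List.not_mem_nil, or_false] at hr
    rcases hr with rfl | rfl | rfl | rfl
    exacts [⟨t, 0, 0, 0, by simp [Q, x, G2.ok.xG_zero]⟩, ⟨0, t, 0, 0, by simp [Q, x, G2.ok.xG_zero]⟩,
      ⟨0, 0, t, 0, by simp [Q, x, G2.ok.xG_zero]⟩, ⟨0, 0, 0, t, by simp [Q, x, G2.ok.xG_zero]⟩]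
  have hQ : ∀ c d f g : K, Q c d f g ∈ G2.ok.genR (F := K) S := fun c d f g =>
    mul_mem (mul_mem (mul_mem (G2.ok.xG_mem_genR (by simp [S]) _) (G2.ok.xG_mem_genR (by simp [S]) _))
      (G2.ok.xG_mem_genR (by simp [S]) _)) (G2.ok.xG_mem_genR (by simp [S]) _)
  have hck : ∀ r ∈ [(6 : ℕ), 7], ∀ s ∈ [(8 : ℕ), 9, 10, 11],
      s ≠ G2.pk.ng r ∧ ∀ c ∈ G2.pk.cterms r s, c.1 ∈ [(8 : ℕ), 9, 10, 11] := by decide +kernel
  have hmove : ∀ r ∈ [(6 : ℕ), 7], ∀ (t : K) (n : GL chevG2.Idx K), n ∈ G2.ok.genR S →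
      ∃ n' ∈ G2.ok.genR (F := K) S, n * x r t = x r t * n' := fun r hr t n hn =>
    ⟨(x r t)⁻¹ * n * x r t, by
      have h := G2.ok.genR_normalizer ckComm_G2 (S := S) (fun s hs => by
        simp only [S, List.mem_cons, List.not_mem_nil, or_false] at hs
        rcases hs with rfl | rfl | rfl | rfl <;> decide +kernel) (r := r)
        (by simp only [List.mem_cons, List.not_mem_nil, or_false] at hr
            rcases hr with rfl | rfl <;> decide +kernel) (fun s hs => Or.inr (hck r hr s hs)) t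
      have h2 := (Subgroup.mem_normalizer_iff.1 (inv_mem h) n).1 hn
      simpa using h2, by group⟩
  obtain ⟨n1, h1, e1⟩ := hmove 6 (by simp) a' _ (hQ c d f g)
  obtain ⟨n2, h2, e2⟩ := hmove 7 (by simp) b' _
    (mul_mem (hQ (-(a' * b)) (-(a' * b ^ 2)) (a' * b ^ 3) (a' ^ 2 * b ^ 3)) h1)
  obtain ⟨C, D, F, G, e⟩ := hle (mul_mem h2 (hQ c' d' f' g'))
  refine ⟨C, D, F, G, ?_⟩
  calc x 6 a * x 7 b * Q c d f g * (x 6 a' * x 7 b' * Q c' d' f' g')
      = x 6 a * x 7 b * (Q c d f g * x 6 a') * x 7 b' * Q c' d' f' g' := by group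
    _ = x 6 a * (x 7 b * x 6 a') * n1 * x 7 b' * Q c' d' f' g' := by rw [e1]; group
    _ = x 6 a * x 6 a' * x 7 b * ((Q (-(a' * b)) (-(a' * b ^ 2)) (a' * b ^ 3) (a' ^ 2 * b ^ 3) * n1) * x 7 b') *
          Q c' d' f' g' := by rw [swap76]; group
    _ = x 6 a * x 6 a' * (x 7 b * x 7 b') * (n2 * Q c' d' f' g') := by rw [e2]; group
    _ = _ := by rw [xa, xa, e]

theorem srt_mul (t u v t' u' v' : K) : ∃ u'' v'', srt φ t u v * srt φ t' u' v' = srt φ (t + t') u'' v'' := by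
  obtain ⟨t'', u'', v'', e⟩ := (pos_fixed_iff φ hφ).1
    (mul_mem (s := chevG2.posUnipotent K ⊓ (T φ).fixed) ⟨srt_pos φ t u v, srt_fixed φ hφ t u v⟩
      ⟨srt_pos φ t' u' v', srt_fixed φ hφ t' u' v'⟩)
  obtain ⟨C, D, F, G, e'⟩ := nf_mul t (φ t) (φ u) (φ v) (φ t ^ 3 * t + u) (φ t ^ 3 * t ^ 2 + v)
    t' (φ t') (φ u') (φ v') (φ t' ^ 3 * t' + u') (φ t' ^ 3 * t' ^ 2 + v')
  have h : srt φ t u v * srt φ t' u' v' = x 6 (t + t') * x 7 (φ t + φ t') * Q C D F G := e'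
  rw [e, srt] at h
  exact ⟨u'', v'', by rw [e, (nf_unique h).1]⟩

end Cfsg.Agent.Chev.TwRee
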