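/-
The twisted groups of type ²G₂.
-/
import Cfsg.Agent.Lib.Chev.TwReeU

set_option autoImplicit false
set_option maxHeartbeats 400000

namespace Cfsg.Agent.Chev.TwRee

open Cfsg.Lie
open scoped Matrix

variable {K : Type*} [Field K] [CharP K 3]

/-- The longest word. -/
def w0 : List ℕ := [0, 1, 0, 1, 0, 1]

theorem w0_ok : WordOk G2.pk w0 := by
  intro a ha
  simp only [w0, List.mem_cons, List.not_mem_nil, or_false] at ha
  rcases ha with rfl | rfl | rfl | rfl | rfl | rfl <;> decide +kernel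

theorem ckNeg0 : ckNeg G2.pk w0 [6, 7, 8, 9, 10, 11] = true := by decide +kernel

theorem nsg0 : (List.range 12).map (nsg G2.pk w0) = (List.range 12).map fun r => (11 - r, -1) := by
  decide +kernel

/-- The representative of the nontrivial fixed Weyl element. -/
noncomputable def n0 : GL chevG2.Idx K := G2.ok.nW w0

theorem n0_xG {r : ℕ} (hr : r < 12) (t : K) : n0 * x r t * n0⁻¹ = x (11 - r) (-t) := by
  obtain ⟨-, h⟩ := G2.ok.nW_xG_sign w0 w0_ok r hr t
  have e := List.map_inj_left.1 nsg0 r (List.mem_range.2 hr)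
  rw [show n0 = G2.ok.nW (F := K) w0 from rfl, h, e]
  simp

theorem genR_w0 : G2.ok.genR (F := K) (negS G2.pk w0) = chevG2.posUnipotent K := by
  rw [G2.ok.negS_eq ckNeg0 (by decide +kernel), ← G2.ok.genR_posL, posL_eq]

theorem n0_neg {g : GL chevG2.Idx K} (hg : g ∈ chevG2.posUnipotent K) :
    n0 * g * n0⁻¹ ∈ chevG2.negUnipotent K := by
  have h := G2.ok.uminus_conj (F := K) w0_ok (one_mem _) (u := g) (by rw [genR_w0]; exact hg)
  rwa [mul_one (G2.ok.nW (F := K) w0)] at h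

/-- A torus element with given value. -/
noncomputable def hH : (Fin 2 → Kˣ) →* GL chevG2.Idx K := G2.ok.hHom

theorem hH_x (c : Fin 2 → Kˣ) {r : ℕ} (hr : r < 12) (t : K) :
    hH c * x r t * (hH c)⁻¹ = x r (hchar G2.pk c r * t) := G2.ok.hHom_xG c hr t

theorem hH_single (i : Fin 2) (t : Kˣ) :
    hH (Pi.mulSingle i t) = G2.ok.ht (G2.pk.sim i) (t : K) := G2.ok.hHom_single i t

theorem hH_mem (c : Fin 2 → Kˣ) : hH c ∈ chevG2.diagonalSubgroup K := G2.ok.mem_diagonal_iff.2 ⟨c, rfl⟩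

theorem exists_hH {d : GL chevG2.Idx K} (hd : d ∈ chevG2.diagonalSubgroup K) : ∃ c : Fin 2 → Kˣ, d = hH c := by
  obtain ⟨c, hc⟩ := G2.ok.mem_diagonal_iff.1 hd
  exact ⟨c, hc.symm⟩

theorem hchar_eq (c : Fin 2 → Kˣ) (r : ℕ) :
    hchar G2.pk c r = (c 0 : K) ^ G2.pk.A 0 r * (c 1 : K) ^ G2.pk.A 1 r := Fin.prod_univ_two _

theorem cartan : [6, 7, 8, 9, 10, 11].map (fun r => (G2.pk.A 0 r, G2.pk.A 1 r)) =
    [(-3, 2), (2, -1), (-1, 1), (1, 0), (3, -1), (0, 1)] ∧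
    ∀ i < 2, G2.pk.A i (11 - G2.pk.sim 0) = -G2.pk.A i (G2.pk.sim 0) ∧
      G2.pk.A i (11 - G2.pk.sim 1) = -G2.pk.A i (G2.pk.sim 1) := by decide +kernel

theorem chars (c : Fin 2 → Kˣ) :
    hchar G2.pk c 6 = ((c 0 : K) ^ 3)⁻¹ * (c 1 : K) ^ 2 ∧ hchar G2.pk c 7 = (c 0 : K) ^ 2 * (c 1 : K)⁻¹ ∧
    hchar G2.pk c 8 = (c 0 : K)⁻¹ * c 1 ∧ hchar G2.pk c 9 = (c 0 : K) ∧
    hchar G2.pk c 10 = (c 0 : K) ^ 3 * (c 1 : K)⁻¹ ∧ hchar G2.pk c 11 = (c 1 : K) := by
  have h := cartan.1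
  simp only [List.map_cons, List.map_nil, List.cons.injEq, Prod.mk.injEq, and_true] at h
  obtain ⟨⟨a, a'⟩, ⟨b, b'⟩, ⟨d, d'⟩, ⟨f, f'⟩, ⟨g, g'⟩, ⟨k, k'⟩⟩ := h
  simp [hchar_eq, a, a', b, b', d, d', f, f', g, g', k, k', zpow_neg, zpow_ofNat]

variable (φ : K →+* K)

theorem n0_fixed : n0 ∈ (T φ).fixed := by
  refine (T φ).mem_fixed.2 ⟨G2.ok.monomial_le_group (G2.ok.nW_mem _ w0_ok), ?_⟩
  rw [n0, (T φ).map_nW w0 w0_ok]
  show G2.ok.nW (F := K) (w0.map spG2.pp) = G2.ok.nW w0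
  exact G2.ok.nW_eq_of_veqm (p := 3) (by
    intro a ha
    obtain ⟨i, hi, rfl⟩ := List.mem_map.1 ha
    simp only [w0, List.mem_cons, List.not_mem_nil, or_false] at hi
    rcases hi with rfl | rfl | rfl | rfl | rfl | rfl <;> decide +kernel) w0_ok (by decide +kernel)

theorem trichotomy {l : List ℕ} (hl : WordOk G2.pk l) (hc : (T φ).Comm l) :
    (∀ r < G2.pk.nroots, wl G2.pk l r = r) ∨ ∀ r < G2.pk.nroots, wl G2.pk l r = wl G2.pk w0 r := by
  have h01 : G2.pk.isPos (wl G2.pk l (G2.pk.sim 1)) = G2.pk.isPos (wl G2.pk l (G2.pk.sim 0)) :=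
    Twist.Comm.sim (T φ) hl hc (i := 0) (by decide +kernel)
  cases e : G2.pk.isPos (wl G2.pk l (G2.pk.sim 0))
  · refine Or.inr fun r hr => ?_
    have hw : WordOk G2.pk (l ++ w0) := fun a ha => by
      rcases List.mem_append.1 ha with a' | a'
      exacts [hl a a', w0_ok a a']
    have hneg : ∀ i < G2.pk.rank, G2.pk.isPos (wl G2.pk l (G2.pk.sim i)) = false := fun i hi => by
      have : i = 0 ∨ i = 1 := by have : i < 2 := hi; omega
      rcases this with rfl | rfl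
      exacts [e, h01.trans e]
    have hid := G2.ok.wl_eq_id (l ++ w0).length (l ++ w0) le_rfl hw fun i hi => by
      have hs := G2.ok.sim_lt hi
      obtain ⟨hp, e'⟩ : G2.pk.isPos (G2.pk.ng (wl G2.pk w0 (G2.pk.sim i))) = true ∧
          wl G2.pk w0 (G2.pk.sim i) < 12 := by
        have : i = 0 ∨ i = 1 := by have : i < 2 := hi; omega
        rcases this with rfl | rfl <;> decide +kernel
      have h1 := G2.ok.neg_of_simple (J := [0, 1]) hl (fun j _ hj => hneg j hj)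
        (r := G2.pk.ng (wl G2.pk w0 (G2.pk.sim i))) (inJ_iff.2 fun m hm hm' => absurd (by
          have : m < 2 := hm
          simp only [List.mem_cons, List.not_mem_nil, or_false]; omega) hm') hp
      rw [G2.ok.wl_ng l hl _ e', G2.ok.isPos_ng (G2.ok.wl_lt l hl _ e')] at h1
      rw [wl_append]
      simpa using h1
    have h2 := hid (wl G2.pk w0 r) (G2.ok.wl_lt w0 w0_ok r hr)
    rw [wl_append] at h2
    have hinv : ∀ s < 12, wl G2.pk w0 (wl G2.pk w0 s) = s := by decide +kernel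
    rwa [hinv r hr] at h2
  · refine Or.inl (G2.ok.wl_eq_id l.length l le_rfl hl fun i hi => ?_)
    have : i = 0 ∨ i = 1 := by have : i < 2 := hi; omega
    rcases this with rfl | rfl
    exacts [e, h01.trans e]

variable [Fintype K]

theorem hH_inj : Function.Injective (hH (K := K)) := G2.ok.hHom_injective smith_G2 (by decide +kernel)

/-- The action on torus parameters. -/
noncomputable def tauF (c : Fin 2 → Kˣ) : Fin 2 → Kˣ := (T φ).τ c

omit [Fintype K] in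
theorem tau0 (c : Fin 2 → Kˣ) : (tauF φ c 0 : K) = φ (c 1 : K) := by
  have h : spG2.lam (G2.pk.sim (spG2.pp 0)) = 1 := by decide +kernel
  have := G2.ok.spTwist_tau (F := K) ckSp_G2 ckComm_G2 Nat.prime_three φ c ⟨0, by decide +kernel⟩
  rw [h, pow_one] at this
  exact this

omit [Fintype K] in
theorem tau1 (c : Fin 2 → Kˣ) : (tauF φ c 1 : K) = φ (c 0 : K) ^ 3 := by
  have h : spG2.lam (G2.pk.sim (spG2.pp 1)) = 3 := by decide +kernel
  have := G2.ok.spTwist_tau (F := K) ckSp_G2 ckComm_G2 Nat.prime_three φ c ⟨1, by decide +kernel⟩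
  rw [h, map_pow] at this
  exact this

variable (hφ : ∀ t, φ (φ t) ^ 3 = t)

/-- The parameters of the fixed torus. -/
def tor (z : Kˣ) : Fin 2 → Kˣ := ![Units.map φ.toMonoidHom z, z]

omit [CharP K 3] [Fintype K] in
theorem tor_val (z : Kˣ) : ((tor φ z 0 : Kˣ) : K) = φ z ∧ ((tor φ z 1 : Kˣ) : K) = z := ⟨rfl, rfl⟩

include hφ in
theorem diag_fixed_iff {d : GL chevG2.Idx K} :
    d ∈ chevG2.diagonalSubgroup K ⊓ (T φ).fixed ↔ ∃ z, d = hH (tor φ z) := by
  constructor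
  · rintro ⟨hd, hf⟩
    obtain ⟨c, rfl⟩ := exists_hH hd
    have e : tauF φ c = c := hH_inj (((T φ).σ_hHom c).symm.trans ((T φ).mem_fixed.1 hf).2)
    refine ⟨c 1, congrArg (hH (K := K)) ?_⟩
    funext j
    have e0 : c 0 = Units.map φ.toMonoidHom (c 1) := Units.ext (by
      have := tau0 φ c; rw [e] at this; exact this)
    fin_cases j
    · exact e0
    · rfl
  · rintro ⟨z, rfl⟩
    have hd := hH_mem (tor φ z)
    refine ⟨hd, (T φ).mem_fixed.2 ⟨G2.ok.diagonal_le_group hd, ((T φ).σ_hHom _).trans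
      (congrArg (hH (K := K)) (?_ : tauF φ (tor φ z) = tor φ z))⟩⟩
    funext j
    apply Units.ext
    fin_cases j
    · exact tau0 φ _
    · exact (tau1 φ _).trans (hφ z)

include hφ in
theorem card_diag_fixed : Nat.card ↥(chevG2.diagonalSubgroup K ⊓ (T φ).fixed) = Fintype.card K - 1 := by
  classical
  rw [← Fintype.card_units, ← Nat.card_eq_fintype_card]
  symm
  refine Nat.card_eq_of_bijective (fun z => ⟨hH (tor φ z), (diag_fixed_iff φ hφ).2 ⟨z, rfl⟩⟩)
    ⟨fun a b e => congrFun (hH_inj (congrArg Subtype.val e)) 1, fun d => ?_⟩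
  obtain ⟨z, e⟩ := (diag_fixed_iff φ hφ).1 d.2
  exact ⟨z, Subtype.ext e.symm⟩

theorem n0_hH (c : Fin 2 → Kˣ) : n0 * hH c * n0⁻¹ = hH c⁻¹ := by
  obtain ⟨c', e⟩ := exists_hH ((Subgroup.mem_normalizer_iff.1 (G2.ok.nW_normalizer (F := K) w0 w0_ok) _).1
      (hH_mem c))
  have e' : n0 * hH c * n0⁻¹ = hH c' := e
  refine e'.trans (congrArg (hH (K := K)) (mul_inv_eq_one.1 (hH_inj ?_)))
  rw [map_one]
  refine G2.ok.hHom_eq_one_of fun k hk => ?_
  have hk' : k = 0 ∨ k = 1 := by have : k < 2 := hk; omega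
  have hr : G2.pk.sim k < 12 := G2.ok.sim_lt hk
  have e1 : ∀ r < 12, hchar G2.pk c' r = hchar G2.pk c (11 - r) := by
    intro r hr'
    have h1 := hH_x c' hr' (1 : K)
    have h2 : n0⁻¹ * x r (1 : K) * n0 = x (11 - r) (-1) := by
      have h := n0_xG (K := K) (show 11 - r < 12 by omega) (-1)
      rw [neg_neg, show 11 - (11 - r) = r by omega] at h
      rw [← h]; group
    rw [← e', show n0 * hH c * n0⁻¹ * x r (1 : K) * (n0 * hH c * n0⁻¹)⁻¹ =
      n0 * (hH c * (n0⁻¹ * x r 1 * n0) * (hH c)⁻¹) * n0⁻¹ by group, h2, hH_x c (by omega), n0_xG (by omega),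
      show 11 - (11 - r) = r by omega, mul_one, mul_neg, mul_one, neg_neg] at h1
    exact (G2.ok.xG_inj_param (r := r) hr' h1).symm
  have e2 : hchar G2.pk c' (G2.pk.sim k) * hchar G2.pk c (G2.pk.sim k) = (1 : K) := by
    rw [e1 _ hr, hchar_eq, hchar_eq]
    obtain ⟨a0, a1⟩ := cartan.2 0 (by omega)
    obtain ⟨b0, b1⟩ := cartan.2 1 (by omega)
    rcases hk' with rfl | rfl <;>
      simp only [a0, a1, b0, b1, zpow_neg] <;> field_simp
  apply Units.ext
  rw [Units.coe_prod, Units.val_one, ← e2]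
  rw [hchar_eq, hchar_eq]
  refine (Fin.prod_univ_two _).trans ?_
  simp [Units.val_zpow_eq_zpow_val, mul_zpow]
  ring

omit [Fintype K] in
theorem wordR (e : ℕ) (hφe : ∀ t, φ t = t ^ e) {g : GL chevG2.Idx K} (t u v : K) :
    (g : Matrix chevG2.Idx chevG2.Idx K) = chevG2.wordMat K (reeWordU e t u v) ↔ g = srt φ t u v := by
  have h : ((srt φ t u v : GL chevG2.Idx K) : Matrix chevG2.Idx chevG2.Idx K) =
      chevG2.wordMat K (reeWordU e t u v) := by
    rw [← ree_form]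
    simp [ChevalleyDatum.wordMat, reeWordU, Q, g2a, g2b, g2ab, g2aab, g2aaab, g2aaabb, G2.ok.coe_xG, hφe,
      mul_assoc, pow_succ, pow_mul, two_mul, pow_add]
  rw [← h]
  exact Units.ext_iff.symm

omit [Fintype K] in
theorem wordV (e : ℕ) (hφe : ∀ t, φ t = t ^ e) {g : GL chevG2.Idx K} (t u v : K) :
    (g : Matrix chevG2.Idx chevG2.Idx K) = chevG2.wordMat K (reeWordV e t u v) ↔
      g = n0 * srt φ t u v * n0⁻¹ := by
  have h : ((n0 * srt φ t u v * n0⁻¹ : GL chevG2.Idx K) : Matrix chevG2.Idx chevG2.Idx K) =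
      chevG2.wordMat K (reeWordV e t u v) := by
    rw [← ree_form, ← MulAut.conj_apply]
    simp only [Q, map_mul, MulAut.conj_apply]
    rw [n0_xG (by omega), n0_xG (by omega), n0_xG (by omega), n0_xG (by omega), n0_xG (by omega), n0_xG (by omega)]
    have hn : chevG2.negIdx.getD 6 0 = 5 ∧ chevG2.negIdx.getD 7 0 = 4 ∧ chevG2.negIdx.getD 8 0 = 3 ∧
        chevG2.negIdx.getD 9 0 = 2 ∧ chevG2.negIdx.getD 10 0 = 1 ∧ chevG2.negIdx.getD 11 0 = 0 := by decide +kernel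
    simp only [reeWordV, reeWordU, ChevalleyDatum.negWord, List.map_cons, List.map_nil, g2a, g2b, g2ab, g2aab, g2aaab,
      g2aaabb, hn.1, hn.2.1, hn.2.2.1, hn.2.2.2.1, hn.2.2.2.2.1, hn.2.2.2.2.2]
    simp [ChevalleyDatum.wordMat, G2.ok.coe_xG, hφe, mul_assoc, pow_succ, pow_mul, two_mul, pow_add]
  rw [← h]
  exact Units.ext_iff.symm

theorem involution : x 7 (1 : K) * x 6 1 * x 8 1 * x 9 1 * (x 3 1 * x 1 1) * (x 2 1 * x 0 1) * (x 9 1 * x 11 1) *
    (x 3 1 * x 1 1) = hH ![-1, -1] := by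
  have h := G2.ok.coe_xWm (F := K) (p := 3) (w := [7, 6, 8, 9, 3, 1, 2, 0, 9, 11, 3, 1].map fun r => (r, 1))
    (w' := [(7, -1), (4, 1), (7, -1), (7, -1), (4, 1), (7, -1), (6, -1), (5, 1), (6, -1), (6, -1), (5, 1), (6, -1)])
    (by decide +kernel) (by decide +kernel) (by decide +kernel)
  have hc : (![-1, -1] : Fin 2 → Kˣ) = Pi.mulSingle 0 (-1) * Pi.mulSingle 1 (-1) := by
    funext j; fin_cases j <;> simp
  rw [hc, map_mul]
  rw [hH_single, hH_single]
  rw [show G2.pk.sim ((0 : Fin 2) : ℕ) = 7 from rfl, show G2.pk.sim ((1 : Fin 2) : ℕ) = 6 from rfl]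
  simp only [List.map_cons, List.map_nil, List.prod_cons, List.prod_nil, Int.cast_one, Int.cast_neg, mul_one] at h
  have hng : G2.pk.ng 7 = 4 ∧ G2.pk.ng 6 = 5 := by decide +kernel
  simpa [Ok.ht, Ok.nt, hng.1, hng.2, x, mul_assoc] using h

end Cfsg.Agent.Chev.TwRee
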