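/-
Order, (B,N)-pair and simplicity of ²G₂.
-/
import Cfsg.Agent.Lib.Chev.TwRee
import Cfsg.Agent.Lib.Chev.TwistExtra

set_option autoImplicit false
set_option maxHeartbeats 400000

namespace Cfsg.Agent.Chev.TwRee

open Cfsg.Lie
open scoped Matrix commutatorElement

variable {K : Type*} [Field K] [CharP K 3] [Fintype K] (φ : K →+* K) (hφ : ∀ t, φ (φ t) ^ 3 = t)

theorem ckE : ckEnum G2.pk orbsT [[0], []] (.node .leaf 1284 (.node .leaf 1543 .leaf)) = true ∧
    cntL G2.pk (orbWord orbsT [0]) = 6 ∧ cntL G2.pk (orbWord orbsT []) = 0 := by decide +kernel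

/-- The fixed group as a twisted group. -/
noncomputable def Gf : TwistGrp (T φ) where
  O := O φ
  G1 := (T φ).fixed
  le_fixed := le_rfl
  nW_mem o ho := by
    obtain rfl : o = ([0, 1], w0) := by simpa [O, orbsT, w0] using ho
    exact n0_fixed φ
  root_mem _ _ := inf_le_right
  diag_mem := inf_le_right

theorem Uw_w0 (G : TwistGrp (T φ)) : G.Uw w0 = chevG2.posUnipotent K ⊓ (T φ).fixed := by
  show G2.ok.genR (negS G2.pk w0) ⊓ _ = _
  rw [genR_w0]

theorem n0_inv_mem : (n0 : GL chevG2.Idx K) * n0 ∈ chevG2.diagonalSubgroup K :=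
  (Gf (K := K) (RingHom.id K)).sq_diag (o := ([0, 1], w0)) (by simp [Gf, O, orbsT, w0])

/-- Fixed monomial elements lie in two cosets. -/
theorem fixed_rep {l : List ℕ} (hl : WordOk G2.pk l) (hc : (T φ).Comm l) {d : GL chevG2.Idx K}
    (hd : d ∈ chevG2.diagonalSubgroup K) (hf : G2.ok.nW l * d ∈ (T φ).fixed) :
    G2.ok.nW l * d ∈ chevG2.diagonalSubgroup K ⊓ (T φ).fixed ∨
      ∃ k ∈ chevG2.diagonalSubgroup K ⊓ (T φ).fixed, G2.ok.nW l * d = k * n0 := by
  rcases trichotomy φ hl hc with h | h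
  · exact Or.inl ⟨mul_mem (G2.ok.nW_mem_diagonal hl h) hd, hf⟩
  · refine Or.inr ⟨G2.ok.nW l * d * n0⁻¹, ⟨?_, (T φ).fixed.mul_mem hf ((T φ).fixed.inv_mem (n0_fixed φ))⟩, by group⟩
    have h1 := G2.ok.mem_diagonal_of_wl_eq (F := K) w0_ok hl fun r hr => (h r hr).symm
    rw [show G2.ok.nW (F := K) l * d * n0⁻¹ = n0 * ((n0⁻¹ * G2.ok.nW l) * d) * n0⁻¹ by group]
    exact (Subgroup.mem_normalizer_iff.1 (G2.ok.nW_normalizer w0 w0_ok) _).1 (mul_mem h1 hd)

variable (e : ℕ) (hφe : ∀ t, φ t = t ^ e)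

include hφe in
theorem srt_mem (t u v : K) : srt φ t u v ∈ twistedG2 K e :=
  Subgroup.subset_closure ⟨_, ⟨t, u, v, Or.inl rfl⟩, (wordR φ e hφe t u v).2 rfl⟩

include hφe in
theorem neg_mem (t u v : K) : n0 * srt φ t u v * n0⁻¹ ∈ twistedG2 K e :=
  Subgroup.subset_closure ⟨_, ⟨t, u, v, Or.inr rfl⟩, (wordV φ e hφe t u v).2 rfl⟩

include hφe in
theorem gens_le {S : Subgroup (GL chevG2.Idx K)} (h1 : ∀ t u v, srt φ t u v ∈ S)
    (h2 : ∀ t u v, n0 * srt φ t u v * n0⁻¹ ∈ S) : twistedG2 K e ≤ S := by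
  refine (Subgroup.closure_le _).2 ?_
  rintro g ⟨w, ⟨t, u, v, rfl | rfl⟩, hw⟩
  · rw [(wordR φ e hφe t u v).1 hw]; exact h1 t u v
  · rw [(wordV φ e hφe t u v).1 hw]; exact h2 t u v

include hφ hφe in
theorem conj_tor (z : Kˣ) {g : GL chevG2.Idx K} (hg : g ∈ twistedG2 K e) :
    hH (tor φ z) * g * (hH (tor φ z))⁻¹ ∈ twistedG2 K e := by
  have key : ∀ c : Fin 2 → Kˣ, hH c ∈ (T φ).fixed → ∀ t u v,
      hH c * srt φ t u v * (hH c)⁻¹ ∈ twistedG2 K e := by
    intro c hc t u v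
    obtain ⟨t', u', v', e'⟩ := (pos_fixed_iff φ hφ).1 (⟨
      (Subgroup.mem_normalizer_iff.1 (G2.ok.diagonal_normalizes (hH_mem c)) _).1 (srt_pos φ t u v),
      (T φ).fixed.mul_mem ((T φ).fixed.mul_mem hc (srt_fixed φ hφ t u v)) ((T φ).fixed.inv_mem hc)⟩ :
        hH c * srt φ t u v * (hH c)⁻¹ ∈ chevG2.posUnipotent K ⊓ (T φ).fixed)
    rw [e']
    exact srt_mem φ e hφe _ _ _
  have hz := ((diag_fixed_iff φ hφ).2 ⟨z, rfl⟩).2
  have hle : twistedG2 K e ≤ (twistedG2 K e).comap (MulAut.conj (hH (tor φ z))).toMonoidHom := by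
    refine gens_le φ e hφe (fun t u v => ?_) (fun t u v => ?_) <;>
      rw [Subgroup.mem_comap, MulEquiv.toMonoidHom_eq_coe, MonoidHom.coe_coe, MulAut.conj_apply]
    · exact key _ hz t u v
    · have hi := n0_hH (K := K) (tor φ z)
      rw [map_inv] at hi
      obtain ⟨t', u', v', e'⟩ : ∃ t' u' v', hH (tor φ z⁻¹) * srt φ t u v * (hH (tor φ z⁻¹))⁻¹ = srt φ t' u' v' := by
        have hz' := ((diag_fixed_iff φ hφ).2 ⟨z⁻¹, rfl⟩).2
        exact (pos_fixed_iff φ hφ).1 ⟨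
          (Subgroup.mem_normalizer_iff.1 (G2.ok.diagonal_normalizes (hH_mem _)) _).1 (srt_pos φ t u v),
          (T φ).fixed.mul_mem ((T φ).fixed.mul_mem hz' (srt_fixed φ hφ t u v)) ((T φ).fixed.inv_mem hz')⟩
      have einv : hH (tor φ z⁻¹) = (hH (tor φ z))⁻¹ := by
        rw [← map_inv]; refine congrArg (hH (K := K)) ?_
        funext j; fin_cases j <;> simp [tor]
      rw [einv] at e'
      have hnd : n0⁻¹ * hH (tor φ z) * n0 = (hH (tor φ z))⁻¹ := by
        have h2 := n0_hH (K := K) (tor φ z)⁻¹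
        rw [inv_inv, map_inv] at h2
        calc n0⁻¹ * hH (tor φ z) * n0 = n0⁻¹ * (n0 * (hH (tor φ z))⁻¹ * n0⁻¹) * n0 := by rw [h2]
          _ = _ := by group
      rw [show hH (tor φ z) * (n0 * srt φ t u v * n0⁻¹) * (hH (tor φ z))⁻¹ =
        n0 * ((n0⁻¹ * hH (tor φ z) * n0) * srt φ t u v * (n0⁻¹ * hH (tor φ z) * n0)⁻¹) * n0⁻¹ by group, hnd, e']
      exact neg_mem φ e hφe _ _ _
  have := hle hg
  simpa using this

include hφ hφe in
theorem exists_rep_mem : ∃ k ∈ chevG2.diagonalSubgroup K ⊓ (T φ).fixed, k * n0 ∈ twistedG2 K e := by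
  set v0 := n0 * srt φ 1 0 0 * n0⁻¹
  have hv0 : v0 ∈ (T φ).fixed := mul_mem (mul_mem (n0_fixed φ) (srt_fixed φ hφ _ _ _)) ((T φ).fixed.inv_mem (n0_fixed φ))
  obtain ⟨l, hl, hc, n, hn, d, hd, en, b, hb, u, hu, eq⟩ := (Gf φ).decomp ckComm_G2 hv0
  obtain ⟨v, hv, k₁, hk₁, rfl⟩ := TwistGrp.borel_fixed (T := T φ) ckComm_G2 hb.1 ((T φ).mem_fixed.1 hb.2).2
  have hu' : u ∈ chevG2.posUnipotent K ⊓ (T φ).fixed := ⟨G2.ok.negS_le_pos _ hu.1, hu.2⟩
  obtain ⟨t1, u1, v1, rfl⟩ := (pos_fixed_iff φ hφ).1 hv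
  obtain ⟨t2, u2, v2, rfl⟩ := (pos_fixed_iff φ hφ).1 hu'
  subst en
  rcases fixed_rep φ hl hc hd hn with h | ⟨k, hk, h⟩
  · exfalso
    have hB : v0 ∈ chevG2.borelSubgroup K := by
      rw [eq]
      exact mul_mem (mul_mem (mul_mem (Subgroup.mem_sup_left (srt_pos φ _ _ _)) (Subgroup.mem_sup_right hk₁.1))
        (Subgroup.mem_sup_right h.1)) (Subgroup.mem_sup_left (srt_pos φ _ _ _))
    have h1 := Subgroup.mem_inf.2 ⟨hB, n0_neg (srt_pos φ 1 0 0)⟩
    rw [G2.ok.borel_inf_neg, Subgroup.mem_bot, conj_eq_one_iff] at h1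
    have h0 : srt φ (0 : K) 0 0 = 1 := by rw [srt_layer]; simp [Q_zero]
    exact one_ne_zero (srt_inj φ (h1.trans h0.symm)).1
  · refine ⟨k₁ * k, mul_mem hk₁ hk, ?_⟩
    rw [h] at eq
    rw [show k₁ * k * n0 = (srt φ t1 u1 v1)⁻¹ * v0 * (srt φ t2 u2 v2)⁻¹ by rw [eq]; group]
    exact mul_mem (mul_mem (inv_mem (srt_mem φ e hφe _ _ _)) (neg_mem φ e hφe _ _ _))
      (inv_mem (srt_mem φ e hφe _ _ _))

include hφ hφe in
theorem minus_mem : hH ![-1, -1] ∈ twistedG2 K e := by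
  rw [← involution (K := K)]
  have h1 : ∀ r, x (K := K) r 0 = 1 := fun r => G2.ok.xG_zero r
  have e1 : x 7 (1 : K) * x 6 1 * x 8 1 * x 9 1 = srt φ 1 0 0 := by
    rw [← ree_form]; simp [Q, h1, mul_assoc]
  have e2 : x 3 (1 : K) * x 1 1 = n0 * srt φ 0 (-1) 0 * n0⁻¹ := by
    rw [← MulAut.conj_apply, srt_layer, Q]
    simp only [map_mul, MulAut.conj_apply, n0_xG (show (8:ℕ) < 12 by omega), n0_xG (show (9:ℕ) < 12 by omega),
      n0_xG (show (10:ℕ) < 12 by omega), n0_xG (show (11:ℕ) < 12 by omega)]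
    simp [h1]
  have e3 : x 2 (1 : K) * x 0 1 = n0 * srt φ 0 0 (-1) * n0⁻¹ := by
    rw [← MulAut.conj_apply, srt_layer, Q]
    simp only [map_mul, MulAut.conj_apply, n0_xG (show (8:ℕ) < 12 by omega), n0_xG (show (9:ℕ) < 12 by omega),
      n0_xG (show (10:ℕ) < 12 by omega), n0_xG (show (11:ℕ) < 12 by omega)]
    simp [h1]
  have e4 : x 9 (1 : K) * x 11 1 = srt φ 0 0 1 := by rw [srt_layer]; simp [Q, h1]
  rw [e1, e2, e3, e4]
  exact mul_mem (mul_mem (mul_mem (mul_mem (srt_mem φ e hφe _ _ _) (neg_mem φ e hφe _ _ _))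
    (neg_mem φ e hφe _ _ _)) (srt_mem φ e hφe _ _ _)) (neg_mem φ e hφe _ _ _)

include hφ hφe in
theorem diag_le {m : ℕ} (hK : Fintype.card K = 3 ^ (2 * m + 1)) :
    chevG2.diagonalSubgroup K ⊓ (T φ).fixed ≤ twistedG2 K e := by
  obtain ⟨k, hk, hkn⟩ := exists_rep_mem φ hφ e hφe
  obtain ⟨z₀, rfl⟩ := (diag_fixed_iff φ hφ).1 hk
  let M : Subgroup Kˣ :=
    { carrier := {z | hH (tor φ z) ∈ twistedG2 K e}
      one_mem' := by
        show hH (tor φ 1) ∈ twistedG2 K e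
        rw [show tor φ 1 = (1 : Fin 2 → Kˣ) by funext j; fin_cases j <;> simp [tor], map_one]
        exact one_mem _
      mul_mem' := fun {a b} ha hb => by
        show hH (tor φ (a * b)) ∈ twistedG2 K e
        rw [show tor φ (a * b) = tor φ a * tor φ b by funext j; fin_cases j <;> simp [tor], map_mul]
        exact mul_mem ha hb
      inv_mem' := fun {a} ha => by
        show hH (tor φ a⁻¹) ∈ twistedG2 K e
        rw [show tor φ a⁻¹ = (tor φ a)⁻¹ by funext j; fin_cases j <;> simp [tor], map_inv]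
        exact inv_mem ha }
  have hsq : ∀ z : Kˣ, z ^ 2 ∈ M := by
    intro z
    show hH (tor φ (z ^ 2)) ∈ twistedG2 K e
    have hc := conj_tor φ hφ e hφe z hkn
    have hi := n0_hH (K := K) (tor φ z)⁻¹
    rw [inv_inv, map_inv] at hi
    have : hH (tor φ (z ^ 2)) = hH (tor φ z) * (hH (tor φ z₀) * n0) * (hH (tor φ z))⁻¹ * (hH (tor φ z₀) * n0)⁻¹ := by
      rw [show hH (tor φ z) * (hH (tor φ z₀) * n0) * (hH (tor φ z))⁻¹ * (hH (tor φ z₀) * n0)⁻¹ =
          hH (tor φ z) * hH (tor φ z₀) * (n0 * (hH (tor φ z))⁻¹ * n0⁻¹) * (hH (tor φ z₀))⁻¹ by group, hi,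
        ← map_mul, ← map_mul, ← map_inv, ← map_mul]
      refine congrArg (hH (K := K)) ?_
      funext j; fin_cases j <;> simp [tor, pow_two, mul_comm, mul_left_comm]
    rw [this]
    exact mul_mem hc (inv_mem hkn)
  have hneg : (-1 : Kˣ) ∈ M := by
    show hH (tor φ (-1)) ∈ twistedG2 K e
    rw [show tor φ (-1) = ![-1, -1] by
      funext j; fin_cases j
      · exact Units.ext (by simp [tor])
      · rfl]
    exact minus_mem φ hφ e hφe
  intro g hg
  obtain ⟨z, rfl⟩ := (diag_fixed_iff φ hφ).1 hg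
  show z ∈ M
  classical
  obtain ⟨j, hj⟩ : ∃ j, Fintype.card Kˣ = 4 * j + 2 := by
    have h3 : 3 ^ (2 * m + 1) % 4 = 3 := by
      rw [pow_succ, pow_mul]
      simp [Nat.mul_mod, Nat.pow_mod]
    refine ⟨3 ^ (2 * m + 1) / 4, ?_⟩
    rw [Fintype.card_units, hK]
    omega
  have h1 : z ^ (2 * j + 1) ∈ M := by
    have h2 : (z ^ (2 * j + 1)) ^ 2 = 1 := by
      rw [← pow_mul, show (2 * j + 1) * 2 = 4 * j + 2 by ring, ← hj, pow_card_eq_one]
    have h3 := congrArg Units.val h2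
    rw [Units.val_pow_eq_pow_val, Units.val_one, sq_eq_one_iff] at h3
    rcases h3 with h3 | h3
    · rw [show z ^ (2 * j + 1) = 1 from Units.ext h3]; exact one_mem _
    · rw [show z ^ (2 * j + 1) = -1 from Units.ext h3]; exact hneg
  rw [show z = (z ^ (j + 1)) ^ 2 * (z ^ (2 * j + 1))⁻¹ by
    rw [← pow_mul, show (j + 1) * 2 = (2 * j + 1) + 1 by ring, pow_succ' z (2 * j + 1), mul_inv_cancel_right]]
  exact mul_mem (hsq _) (inv_mem h1)

include hφ hφe in
theorem exists_grp {m : ℕ} (hK : Fintype.card K = 3 ^ (2 * m + 1)) :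
    ∃ G : TwistGrp (T φ), G.G1 = twistedG2 K e ∧ G.O.orbs = orbsT := by
  obtain ⟨k, hk, hkn⟩ := exists_rep_mem φ hφ e hφe
  refine ⟨⟨O φ, twistedG2 K e, gens_le φ e hφe (fun t u v => srt_fixed φ hφ t u v) (fun t u v =>
    mul_mem (mul_mem (n0_fixed φ) (srt_fixed φ hφ t u v)) ((T φ).fixed.inv_mem (n0_fixed φ))), fun o ho => ?_,
    fun o _ g hg => ?_, diag_le φ hφ e hφe hK⟩, rfl, rfl⟩
  · obtain rfl : o = ([0, 1], w0) := by simpa [O, orbsT, w0] using ho
    have := mul_mem (inv_mem (diag_le φ hφ e hφe hK hk)) hkn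
    rwa [inv_mul_cancel_left] at this
  · obtain ⟨t, u, v, rfl⟩ := (pos_fixed_iff φ hφ).1 ⟨G2.ok.negS_le_pos _ hg.1, hg.2⟩
    exact srt_mem φ e hφe t u v

variable (G : TwistGrp (T φ)) (hO : G.O.orbs = orbsT)

include hφ hO in
theorem proper : G.Proper where
  disj o ho o' ho' _ _ _ := by
    rw [hO] at ho ho'
    simp only [orbsT, List.mem_cons, List.not_mem_nil, or_false] at ho ho'
    rw [ho, ho']
  ne_nil o ho := by
    rw [hO] at ho
    simp only [orbsT, List.mem_cons, List.not_mem_nil, or_false] at ho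
    rw [ho]; simp
  ne_bot o ho hbot := by
    rw [hO] at ho
    simp only [orbsT, List.mem_cons, List.not_mem_nil, or_false] at ho
    subst ho
    have h : srt φ 1 0 0 ∈ G.Uw w0 := by
      rw [Uw_w0]; exact ⟨srt_pos φ _ _ _, srt_fixed φ hφ _ _ _⟩
    rw [show G.Uw w0 = ⊥ from hbot, Subgroup.mem_bot] at h
    have h0 : srt φ (0 : K) 0 0 = 1 := by rw [srt_layer]; simp [Q_zero]
    exact one_ne_zero (srt_inj φ (h.trans h0.symm)).1

include hφ hO in
theorem card_G1 : Nat.card G.G1 =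
    Fintype.card K ^ 3 * (Fintype.card K - 1) * (Fintype.card K ^ 3 + 1) := by
  set q := Fintype.card K
  have hcard : ∀ o ∈ G.O.orbs, Nat.card (G.Uw o.2) ^ 2 = q ^ Twist.cnt G2.pk o.2 := by
    intro o ho
    rw [hO] at ho
    simp only [orbsT, List.mem_cons, List.not_mem_nil, or_false] at ho
    subst ho
    show Nat.card (G.Uw w0) ^ 2 = q ^ Twist.cnt G2.pk w0
    rw [Uw_w0, card_pos_fixed φ hφ, G2.ok.cnt_eq ckNeg0 (by decide +kernel) (by decide +kernel),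
      Nat.card_eq_fintype_card, ← pow_mul]
    rfl
  rw [G.card_eq ckComm_G2 (fun n => Nat.sqrt (q ^ n)) (fun l hl hc => by
      show _ = Nat.sqrt _
      rw [← G.card_Uw ckComm_G2 hcard hl hc, Nat.sqrt_eq']),
    card_pos_fixed φ hφ, card_diag_fixed φ hφ, TwistGrp.sum_W1 G.O hO ckE.1 (fun n => Nat.sqrt (q ^ n)), Nat.card_eq_fintype_card]
  have e : Nat.sqrt (q ^ 6) = q ^ 3 := by rw [show q ^ 6 = (q ^ 3) ^ 2 by ring, Nat.sqrt_eq']
  simp [ckE.2.1, ckE.2.2, e, q, add_comm]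

include hφ in
theorem core : ((chevG2.borelSubgroup K ⊓ G.G1).subgroupOf G.G1).normalCore = ⊥ := by
  refine G.core_bot ckComm_G2 fun i hi => ⟨[6, 7, 8, 9, 10, 11],
    fun r => [0, 0, 0, 0, 0, 0, 1, 1, 0, 0, 1, 1].getD r 0, by simp, by decide +kernel, ?_, ?_, ?_⟩
  · have : i = 0 ∨ i = 1 := by have : i < 2 := hi; omega
    rcases this with rfl | rfl <;> decide +kernel
  · have : i = 0 ∨ i = 1 := by have : i < 2 := hi; omega
    rcases this with rfl | rfl
    · rw [show G2.pk.sim 0 = 7 from rfl]; simp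
    · rw [show G2.pk.sim 1 = 6 from rfl]; simp
  · convert srt_fixed φ hφ 1 0 0 using 1
    simp [srt, Q, x, G2.ok.xG_zero, mul_assoc]

theorem exists_unit {m : ℕ} (hm : 1 ≤ m) (hK : Fintype.card K = 3 ^ (2 * m + 1)) :
    ∃ z : K, z ≠ 0 ∧ z ≠ 1 ∧ z ^ 2 ≠ 1 := by
  classical
  by_contra hall
  push_neg at hall
  have hsub : (Finset.univ : Finset K) ⊆ {0, 1, -1} := fun z _ => by
    by_cases h0 : z = 0
    · simp [h0]
    · by_cases h1 : z = 1
      · simp [h1]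
      · rcases sq_eq_one_iff.1 (hall z h0 h1) with e | e <;> simp [e]
  have h1 := (Finset.card_le_card hsub).trans Finset.card_le_three
  rw [Finset.card_univ, hK] at h1
  have h2 : 3 ^ 3 ≤ 3 ^ (2 * m + 1) := Nat.pow_le_pow_right (by norm_num) (by omega)
  omega

include hφ hO in
theorem perfect {m : ℕ} (hm : 1 ≤ m) (hK : Fintype.card K = 3 ^ (2 * m + 1))
    (e : ℕ) (hφe : ∀ t, φ t = t ^ e) (hG : G.G1 = twistedG2 K e) : commutator ↥G.G1 = ⊤ := by
  obtain ⟨z, hz0, hz1, hz2⟩ := exists_unit hm hK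
  set zu := Units.mk0 z hz0
  set d := hH (tor φ zu)
  have hd : d ∈ G.G1 := G.diag_mem ((diag_fixed_iff φ hφ).2 ⟨zu, rfl⟩)
  have hs : ∀ t u v, srt φ t u v ∈ G.G1 := fun t u v => G.pos_fixed_le ckComm_G2 ⟨srt_pos φ t u v, srt_fixed φ hφ t u v⟩
  obtain ⟨c6, c7, c8, c9, c10, c11⟩ := chars (tor φ zu)
  simp only [show ((tor φ zu 0 : Kˣ) : K) = φ z from rfl, show ((tor φ zu 1 : Kˣ) : K) = z from rfl] at c6 c7 c8 c9 c10 c11
  have hz' : φ z ≠ 0 := (map_ne_zero φ).2 hz0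
  set χ : ℕ → K := hchar G2.pk (tor φ zu)
  have hconj : ∀ a b c f g k : K, d * (x 6 a * x 7 b * Q c f g k) * d⁻¹ =
      x 6 (χ 6 * a) * x 7 (χ 7 * b) * Q (χ 8 * c) (χ 9 * f) (χ 10 * g) (χ 11 * k) := by
    intro a b c f g k
    rw [← MulAut.conj_apply, Q]
    simp only [map_mul, MulAut.conj_apply]
    simp only [d, hH_x _ (show (6:ℕ) < 12 by omega), hH_x _ (show (7:ℕ) < 12 by omega),
      hH_x _ (show (8:ℕ) < 12 by omega), hH_x _ (show (9:ℕ) < 12 by omega), hH_x _ (show (10:ℕ) < 12 by omega),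
      hH_x _ (show (11:ℕ) < 12 by omega)]
    rfl
  have e8 : χ 8 = φ (χ 10) := by
    rw [c8, c10, map_mul, map_inv₀, map_pow, hφ, mul_comm]
  have e9 : χ 9 = φ (χ 11) := by rw [c9, c11]
  have h10 : χ 10 - 1 ≠ 0 := by
    rw [c10, sub_ne_zero]
    intro h
    have h1 : φ z ^ 3 = z := by field_simp at h; exact h
    have h2 : φ z = z := by
      conv_lhs => rw [← h1]
      rw [map_pow, hφ]
    rw [h2] at h1
    apply hz2
    have : z * (z ^ 2 - 1) = 0 := by linear_combination h1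
    rcases mul_eq_zero.1 this with h3 | h3
    · exact absurd h3 hz0
    · exact sub_eq_zero.1 h3
  have h11 : χ 11 - 1 ≠ 0 := by rw [c11, sub_ne_zero]; exact hz1
  have h6 : χ 6 - 1 ≠ 0 := by
    rw [c6, sub_ne_zero]
    intro h
    have h1 : z ^ 2 = φ z ^ 3 := by field_simp at h; exact h
    have h2 : φ z ^ 2 = z := by
      have := congrArg φ h1
      rwa [map_pow, map_pow, hφ] at this
    have h3 : φ z ^ 3 * (φ z - 1) = 0 := by
      have : φ z ^ 4 = φ z ^ 3 := by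
        rw [← h1, show φ z ^ 4 = (φ z ^ 2) ^ 2 by ring, h2]
      linear_combination this
    rcases mul_eq_zero.1 h3 with h4 | h4
    · exact hz' (pow_eq_zero_iff (n := 3) (by norm_num) |>.1 h4)
    · rw [sub_eq_zero] at h4
      rw [h4, one_pow] at h2
      exact hz1 h2.symm
  have hlayer : ∀ u v, srt φ 0 u v ∈ ⁅G.G1, G.G1⁆ := by
    intro u v
    have h := G.mem_derived_of_comm hd (hs 0 (u / (χ 10 - 1)) (v / (χ 11 - 1)))
    convert h using 1
    rw [commutatorElement_def]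
    simp only [srt, map_zero]
    rw [hconj, mul_zero, mul_zero]
    simp only [x, G2.ok.xG_zero, one_mul, Q_inv, Q_mul, zero_pow (show 3 ≠ 0 by norm_num), zero_mul, mul_zero,
      zero_add, e8, e9, ← map_mul, ← map_neg, ← map_add]
    congr 2 <;> field_simp <;> ring
  have htop : ∀ t u v, srt φ t u v ∈ ⁅G.G1, G.G1⁆ := by
    intro t u v
    set s := t / (χ 6 - 1)
    have h := G.mem_derived_of_comm hd (hs s 0 0)
    have hfix : ⁅d, srt φ s 0 0⁆ ∈ chevG2.posUnipotent K ⊓ (T φ).fixed := by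
      refine ⟨?_, ?_⟩
      · rw [commutatorElement_def]
        exact (chevG2.posUnipotent K).mul_mem
          ((Subgroup.mem_normalizer_iff.1 (G2.ok.diagonal_normalizes (hH_mem _)) _).1 (srt_pos φ _ _ _))
          ((chevG2.posUnipotent K).inv_mem (srt_pos φ _ _ _))
      · exact G.le_fixed (by
          rw [commutatorElement_def]
          exact mul_mem (mul_mem (mul_mem hd (hs _ _ _)) (inv_mem hd)) (inv_mem (hs _ _ _)))
    obtain ⟨t', u', v', ec⟩ := (pos_fixed_iff φ hφ).1 hfix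
    have et : t' = t := by
      obtain ⟨u'', v'', em⟩ := srt_mul φ hφ t' u' v' s 0 0
      have h1 : srt φ t' u' v' * srt φ s 0 0 = d * srt φ s 0 0 * d⁻¹ := by
        rw [← ec, commutatorElement_def]; group
      rw [em, srt, srt, hconj] at h1
      have h2 := (nf_unique h1).1
      have h3 : (χ 6 - 1) * s = t := mul_div_cancel₀ _ h6
      linear_combination h2 + h3
    subst et
    rw [ec] at h
    have h4 := mul_mem h (hlayer (u - u') (v - v'))
    rwa [srt_shift, add_sub_cancel, add_sub_cancel] at h4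
  refine G.commutator_eq_top ?_
  conv_lhs => rw [hG]
  have hn : n0 ∈ G.G1 := G.nW_mem ([0, 1], w0) (by rw [hO]; simp [orbsT, w0])
  exact gens_le φ e hφe htop fun t u v => G.derived_conj hn (htop t u v)

include hφ hO in
theorem simple {m : ℕ} (hm : 1 ≤ m) (hK : Fintype.card K = 3 ^ (2 * m + 1))
    (e : ℕ) (hφe : ∀ t, φ t = t ^ e) (hG : G.G1 = twistedG2 K e) :
    IsSimpleGroup ↥G.G1 ∧ ¬ IsMulCommutative ↥G.G1 := by
  have hp := proper φ hφ G hO
  refine G.simple ckComm_G2 hp (perfect φ hφ G hO hm hK e hφe hG)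
    (G.irreducible ckComm_G2 hp (by rw [hO]; decide +kernel)) (core φ hφ G) fun hbot => ?_
  have h : srt φ 1 0 0 ∈ G.G1 := G.pos_fixed_le ckComm_G2 ⟨srt_pos φ _ _ _, srt_fixed φ hφ _ _ _⟩
  rw [hbot, Subgroup.mem_bot] at h
  have h0 : srt φ (0 : K) 0 0 = 1 := by rw [srt_layer]; simp [Q_zero]
  exact one_ne_zero (srt_inj φ (h.trans h0.symm)).1

/-- `N¹/H¹` has order two. -/
theorem weyl :
    ∃ f : ↥(chevG2.monomialSubgroup K ⊓ G.G1) →* Multiplicative (ZMod 2), Function.Surjective f ∧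
      f.ker = (chevG2.diagonalSubgroup K ⊓ G.G1).subgroupOf (chevG2.monomialSubgroup K ⊓ G.G1) := by
  classical
  set D := (chevG2.diagonalSubgroup K ⊓ G.G1).subgroupOf (chevG2.monomialSubgroup K ⊓ G.G1)
  have hm : ∀ n : ↥(chevG2.monomialSubgroup K ⊓ G.G1), n ∈ D ↔ (n : GL chevG2.Idx K) ∈ chevG2.diagonalSubgroup K :=
    fun n => ⟨fun h => (Subgroup.mem_subgroupOf.1 h).1, fun h => Subgroup.mem_subgroupOf.2 ⟨h, n.2.2⟩⟩
  have hrep : ∀ n : ↥(chevG2.monomialSubgroup K ⊓ G.G1), n ∉ D →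
      ∃ k ∈ chevG2.diagonalSubgroup K, (n : GL chevG2.Idx K) = k * n0 := by
    intro n hn
    obtain ⟨l, hl, hc, d, hd, e⟩ := G.monomial_comm n.2
    have hf : G2.ok.nW l * d ∈ (T φ).fixed := e ▸ G.le_fixed n.2.2
    rcases fixed_rep φ hl hc hd hf with h | ⟨k, hk, h⟩
    · exact absurd ((hm n).2 (e ▸ h.1)) hn
    · exact ⟨k, hk.1, e.trans h⟩
  let f : ↥(chevG2.monomialSubgroup K ⊓ G.G1) →* Multiplicative (ZMod 2) :=
    MonoidHom.mk' (fun n => if n ∈ D then 1 else Multiplicative.ofAdd 1) fun a b => by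
      show (if a * b ∈ D then 1 else Multiplicative.ofAdd 1) = _
      by_cases ha : a ∈ D
      · by_cases hb : b ∈ D
        · simp [ha, hb, D.mul_mem ha hb]
        · simp [ha, hb, show a * b ∉ D from fun h => hb ((D.mul_mem_cancel_left ha).1 h)]
      · by_cases hb : b ∈ D
        · simp [ha, hb, show a * b ∉ D from fun h => ha ((D.mul_mem_cancel_right hb).1 h)]
        · have hab : a * b ∈ D := by
            obtain ⟨k, hk, ea⟩ := hrep a ha
            obtain ⟨k', hk', eb⟩ := hrep b hb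
            rw [hm, Subgroup.coe_mul, ea, eb, show k * n0 * (k' * n0) = k * (n0 * k' * n0⁻¹) * (n0 * n0) by group]
            exact mul_mem (mul_mem hk
              ((Subgroup.mem_normalizer_iff.1 (G2.ok.nW_normalizer w0 w0_ok) _).1 hk')) n0_inv_mem
          rw [if_pos hab, if_neg ha, if_neg hb]
          rfl
  obtain ⟨o, ho, hi⟩ := G.O.cover (i := 0) (by decide +kernel)
  have hex : ∃ n : ↥(chevG2.monomialSubgroup K ⊓ G.G1), n ∉ D := by
    refine ⟨⟨_, G.nW_monomial ho⟩, fun h => ?_⟩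
    obtain ⟨hw, hJ, -, -⟩ := G.O.spec ho
    have h1 := (hJ 0 hi).2.1
    have hid := G2.ok.wl_eq_of_mem (F := K) (l := []) (fun _ hh => absurd hh List.not_mem_nil) hw.1
      (by rw [G2.ok.nW_nil, inv_one, one_mul]; exact (hm _).1 h) (G2.ok.sim_lt (hJ 0 hi).1)
    rw [← hid] at h1
    simp [wl, G2.ok.sim_pos (hJ 0 hi).1] at h1
  refine ⟨f, fun y => ?_, ?_⟩
  · obtain ⟨n, hn⟩ := hex
    obtain rfl | rfl : y = 1 ∨ y = Multiplicative.ofAdd 1 := by
      revert y; decide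
    · exact ⟨1, map_one f⟩
    · exact ⟨n, if_neg hn⟩
  · ext n
    rw [MonoidHom.mem_ker]
    show (if n ∈ D then 1 else Multiplicative.ofAdd 1) = 1 ↔ _
    split_ifs with h <;> simp [h]

/-- The field has characteristic three. -/
theorem charP_three {K : Type*} [Field K] [Fintype K] {m : ℕ} (hK : Fintype.card K = 3 ^ (2 * m + 1)) : CharP K 3 := by
  haveI := Fact.mk Nat.prime_three
  exact charP_of_card_eq_prime_pow (f := 2 * m + 1) hK

/-- All the hypotheses are available. -/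
theorem setup {K : Type*} [Field K] [CharP K 3] [Fintype K] {m : ℕ} (hK : Fintype.card K = 3 ^ (2 * m + 1)) :
    ∃ (φ : K →+* K) (G : TwistGrp (T φ)), (∀ t, φ t = t ^ 3 ^ m) ∧ (∀ t, φ (φ t) ^ 3 = t) ∧
      G.G1 = twistedG2 K (3 ^ m) ∧ G.O.orbs = orbsT := by
  haveI := Fact.mk Nat.prime_three
  refine ⟨iterateFrobenius K 3 m, ?_⟩
  have h1 : ∀ t : K, iterateFrobenius K 3 m t = t ^ 3 ^ m := iterateFrobenius_def 3 m
  have h2 : ∀ t : K, iterateFrobenius K 3 m (iterateFrobenius K 3 m t) ^ 3 = t := fun t => by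
    rw [h1, h1, ← pow_mul, ← pow_mul,
      show 3 ^ m * (3 ^ m * 3) = 3 ^ (2 * m + 1) by rw [pow_succ, two_mul, pow_add]; ring, ← hK]
    exact FiniteField.pow_card t
  obtain ⟨G, hG, hO⟩ := exists_grp _ h2 _ h1 hK
  exact ⟨G, h1, h2, hG, hO⟩

end Cfsg.Agent.Chev.TwRee
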