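/-
Parabolic subgroups and their Levi decomposition.
-/
import Cfsg.Agent.Lib.Chev.Bruhat

set_option autoImplicit false

namespace Cfsg.Agent.Chev

open Cfsg.Lie
open scoped Matrix

/-- The root `r` has support in `J`. -/
def InJ (P : Pk) (J : Set ℕ) (r : ℕ) : Prop := r < P.nroots ∧ ∀ m < P.rank, m ∉ J → P.rv r m = 0

/-- The total coordinate outside `J`. -/
noncomputable def wtJ (P : Pk) (J : Set ℕ) (r : ℕ) : ℤ := by
  classical exact ∑ m ∈ (Finset.range P.rank).filter (fun m => m ∉ J), P.rv r m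

/-- The weight of a coordinate. -/
noncomputable def wtX {D : ChevalleyDatum} (P : Pk) (J : Set ℕ) (x : D.Idx) : ℤ :=
  if code P x < P.nroots then wtJ P J (code P x) else 0

/-- The matrix preserves the weights. -/
def Graded {D : ChevalleyDatum} (P : Pk) (J : Set ℕ) {R : Type*} [Zero R] (M : Matrix D.Idx D.Idx R) : Prop :=
  ∀ row col, M row col ≠ 0 → wtX P J row = wtX P J col

variable {D : ChevalleyDatum} {P : Pk} {F : Type*} [Field F]

theorem Graded.mul {J : Set ℕ} {M N : Matrix D.Idx D.Idx F} (hM : Graded P J M) (hN : Graded P J N) :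
    Graded P J (M * N) := by
  intro row col hne
  rw [Matrix.mul_apply] at hne
  obtain ⟨x, -, hx⟩ := Finset.exists_ne_zero_of_sum_ne_zero hne
  exact (hM row x (left_ne_zero_of_mul hx)).trans (hN x col (right_ne_zero_of_mul hx))

theorem graded_diagonal {J : Set ℕ} (χ : D.Idx → F) : Graded P J (Matrix.diagonal χ) := by
  intro row col hne
  rcases eq_or_ne row col with rfl | e
  · rfl
  · exact absurd (Matrix.diagonal_apply_ne _ e) hne

namespace Ok

variable (h : Ok D P)
include h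

theorem exists_descent {p : ℕ} (hp : P.isPos p = true) :
    ∃ i < P.rank, 0 < P.A i p ∧ 0 < P.co p i := by
  have hpn := (P.isPos_iff.1 hp).2
  have := h.roots
  simp only [Pk.ckRoots, List.all_eq_true, Pk.mem_allRoots, Bool.and_eq_true, List.mem_range,
    decide_eq_true_eq] at this
  have hco : ∀ i < P.rank, 0 ≤ P.co p i := fun i hi => by
    have hb := ((this p hpn).1.1 i hi).1.2
    simp [hp] at hb
    exact hb.2
  have hpair := (this p hpn).1.2
  rw [Pk.pair, ← List.sum_toFinset _ List.nodup_range] at hpair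
  obtain ⟨i, hi, hpos⟩ : ∃ i ∈ (List.range P.rank).toFinset, 0 < P.co p i * P.A i p := by
    by_contra hall
    push_neg at hall
    have := Finset.sum_nonpos hall
    omega
  have hi' : i < P.rank := by simpa using hi
  refine ⟨i, hi', ?_, ?_⟩
  · exact pos_of_mul_pos_right hpos (hco i hi')
  · rcases (hco i hi').lt_or_eq with e | e
    · exact e
    · rw [← e, zero_mul] at hpos; omega

theorem descent_step {p : ℕ} (hp : P.isPos p = true) {i : ℕ} (hi : i < P.rank) (hA : 0 < P.A i p) :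
    p = P.sim i ∨ (P.isPos (P.w i p) = true ∧ P.ht (P.w i p) < P.ht p) := by
  have hpn := (P.isPos_iff.1 hp).2
  rcases (h.w_spec hi hpn).2.2.2.2.2.2.1 with e | e | e
  · exact Or.inl e
  · rw [e, h.ng_pos_iff (h.sim_lt hi), h.sim_pos hi] at hp; simp at hp
  · refine Or.inr ⟨by rw [← e]; exact hp, ?_⟩
    simp only [Pk.ht, ← List.sum_toFinset _ List.nodup_range]
    refine Finset.sum_lt_sum (fun m hm => ?_) ⟨i, by simpa using hi, ?_⟩
    · rw [((h.w_spec hi hpn).2.2.2.2.2.1 m (by simpa using hm)).1]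
      split_ifs <;> omega
    · rw [((h.w_spec hi hpn).2.2.2.2.2.1 i hi).1, if_pos rfl]; omega

/-- Root and coroot have the same support. -/
theorem rv_zero_iff_co {r : ℕ} (hr : r < P.nroots) {m : ℕ} (hm : m < P.rank) :
    P.rv r m = 0 ↔ P.co r m = 0 := by
  have main : ∀ (n : ℕ) (p : ℕ), P.isPos p = true → (P.ht p).toNat ≤ n →
      (P.rv p m = 0 ↔ P.co p m = 0) := by
    intro n
    induction n using Nat.strong_induction_on with
    | _ n ih =>
      intro p hp hn
      have hpn := (P.isPos_iff.1 hp).2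
      obtain ⟨i, hi, hA, hco⟩ := h.exists_descent hp
      rcases h.descent_step hp hi hA with rfl | ⟨hwp, hlt⟩
      · rw [h.rv_sim hi hm, h.co_sim hi hm]
      · have hwn := h.w_lt hi hpn
        have hih := ih (P.ht (P.w i p)).toNat (by have := h.ht_pos hwp; omega) _ hwp le_rfl
        obtain ⟨e1, e2⟩ := (h.w_spec hi hpn).2.2.2.2.2.1 m hm
        by_cases e : m = i
        · subst e
          rw [if_pos rfl] at e1
          have h1 := (h.rv_sign hwn hm).1 hwp
          refine iff_of_false (by omega) (by omega)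
        · rw [if_neg e, sub_zero] at e1
          have e3 : P.co (P.w i p) m = P.co p m := by rw [e2, if_neg e, sub_zero]
          rw [e1, e3] at hih
          exact hih
  cases hp : P.isPos r
  · have := main _ (P.ng r) ((h.ng_pos_iff hr).2 hp) le_rfl
    rw [h.rv_ng hr hm, h.co_ng hr hm, neg_eq_zero, neg_eq_zero] at this
    exact this
  · exact main _ r hp le_rfl

theorem inRootSub_iff (J : Set ℕ) (r : ℕ) : D.InRootSub J r ↔ InJ P J r := by
  unfold ChevalleyDatum.InRootSub InJ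
  rw [h.nroots, h.rank]
  refine and_congr_right fun hr => forall₂_congr fun m hm => forall_congr' fun _ => ?_
  rw [h.coroot_eq hr hm, h.rv_zero_iff_co hr hm]

theorem out_iff (J : Set ℕ) (r : ℕ) :
    Out P (fun m => m ∈ J) r ↔ P.isPos r = true ∧ ¬ InJ P J r := by
  constructor
  · rintro ⟨hr, m, hm, hmJ, hpos⟩
    refine ⟨h.pos_of_rv hr hm hpos, fun e => ?_⟩
    rw [e.2 m hm hmJ] at hpos
    omega
  · rintro ⟨hp, hn⟩
    have hr := (P.isPos_iff.1 hp).2
    refine ⟨hr, ?_⟩
    by_contra hall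
    push_neg at hall
    exact hn ⟨hr, fun m hm hmJ => le_antisymm (hall m hm hmJ) ((h.rv_sign hr hm).1 hp)⟩

theorem radical_eq (J : Set ℕ) :
    D.unipotentRadical F J = h.genR (Out P (fun m => m ∈ J)) := by
  unfold ChevalleyDatum.unipotentRadical genR
  congr 1
  ext g
  simp only [Set.mem_setOf_eq, h.isPosRoot_iff, h.inRootSub_iff, h.eq_xG_iff, h.out_iff, and_assoc]

theorem levi_eq (J : Set ℕ) :
    D.leviSubgroup F J = D.diagonalSubgroup F ⊔ h.genR (InJ P J) := by
  unfold ChevalleyDatum.leviSubgroup genR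
  congr 2
  ext g
  simp only [Set.mem_setOf_eq, h.inRootSub_iff, h.eq_xG_iff]

theorem inJ_mem_parabolic (J : Set ℕ) {r : ℕ} (hr : InJ P J r) (t : F) :
    h.xG r t ∈ D.parabolicSubgroup F J := by
  set M := D.parabolicSubgroup F J
  have hU : ∀ r t, P.isPos r = true → h.xG (F := F) r t ∈ M := fun r t hr =>
    Subgroup.mem_sup_left (Subgroup.mem_sup_left (h.xG_mem_pos hr t))
  have hn : ∀ i ∈ J, i < P.rank → h.nG (F := F) i ∈ M := fun i hiJ hi =>
    Subgroup.mem_sup_right (Subgroup.subset_closure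
      ⟨i, hiJ, h.rank ▸ hi, by rw [h.simple_eq hi]; exact h.coe_nt (h.sim_lt hi) 1⟩)
  have main : ∀ (n : ℕ) (p : ℕ), P.isPos p = true → (P.ht p).toNat ≤ n → InJ P J p →
      ∀ t : F, h.xG (P.ng p) t ∈ M := by
    intro n
    induction n using Nat.strong_induction_on with
    | _ n ih =>
      intro p hp hn' hJ t
      obtain ⟨i, hi, hA, hco⟩ := h.exists_descent hp
      have hiJ : i ∈ J := by
        by_contra e
        rw [(h.rv_zero_iff_co hJ.1 hi).1 (hJ.2 i hi e)] at hco
        omega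
      have hη : ∀ s, (P.eta i s : F) * P.eta i s = 1 := fun s => by
        rw [← Int.cast_mul, eta_sq, Int.cast_one]
      rcases h.descent_step hp hi hA with rfl | ⟨hwp, hlt⟩
      · have e := h.nG_sim hi ((P.eta i (P.sim i) : F) * t)
        rw [← mul_assoc, hη, one_mul] at e
        exact e ▸ mul_mem (mul_mem (hn i hiJ hi) (hU _ _ (h.sim_pos hi))) (inv_mem (hn i hiJ hi))
      · have hwJ : InJ P J (P.w i p) := ⟨h.w_lt hi hJ.1, fun m hm hmJ => by
          rw [((h.w_spec hi hJ.1).2.2.2.2.2.1 m hm).1, if_neg (fun e => hmJ (by rw [e]; exact hiJ)), hJ.2 m hm hmJ,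
            sub_zero]⟩
        have h1 := ih (P.ht (P.w i p)).toNat (by have := h.ht_pos hwp; omega) _ hwp le_rfl hwJ
        have e := h.nG_xG (F := F) hi (ng_lt (h.w_lt hi hJ.1)) ((P.eta i (P.ng (P.w i p)) : F) * t)
        rw [← mul_assoc, hη, one_mul, h.w_ng hi (h.w_lt hi hJ.1), h.w_w hi hJ.1] at e
        exact e ▸ mul_mem (mul_mem (hn i hiJ hi) (h1 _)) (inv_mem (hn i hiJ hi))
  cases hp : P.isPos r
  · have := main _ (P.ng r) ((h.ng_pos_iff hr.1).2 hp) le_rfl
      ⟨ng_lt hr.1, fun m hm hmJ => by rw [h.rv_ng hr.1 hm, hr.2 m hm hmJ, neg_zero]⟩ t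
    rwa [ng_ng hr.1] at this
  · exact hU r t hp

theorem nG_mem_levi (J : Set ℕ) {i : ℕ} (hiJ : i ∈ J) (hi : i < P.rank) :
    h.nG i ∈ h.genR (F := F) (InJ P J) := by
  have hp : InJ P J (P.sim i) := ⟨h.sim_lt hi, fun m hm hmJ => by
    rw [h.rv_sim hi hm, if_neg]; rintro rfl; exact hmJ hiJ⟩
  have hn : InJ P J (P.ng (P.sim i)) := ⟨ng_lt (h.sim_lt hi), fun m hm hmJ => by
    rw [h.rv_ng (h.sim_lt hi) hm, hp.2 m hm hmJ, neg_zero]⟩
  exact mul_mem (mul_mem (h.xG_mem_genR hp _) (h.xG_mem_genR hn _)) (h.xG_mem_genR hp _)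

theorem parabolic_eq_levi (J : Set ℕ) :
    D.parabolicSubgroup F J = h.genR (Out P (fun m => m ∈ J)) ⊔ D.leviSubgroup F J := by
  rw [h.levi_eq]
  refine le_antisymm (sup_le (sup_le (h.posUnipotent_le fun r hr t => ?_)
    (le_sup_left.trans le_sup_right)) ((Subgroup.closure_le _).2 ?_))
    (sup_le (h.genR_le fun r hr t => Subgroup.mem_sup_left (Subgroup.mem_sup_left (h.xG_mem_pos ((h.out_iff J r).1 hr).1 t)))
      (sup_le (le_sup_right.trans le_sup_left) (h.genR_le fun r hr t => h.inJ_mem_parabolic J hr t)))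
  · by_cases e : InJ P J r
    · exact Subgroup.mem_sup_right (Subgroup.mem_sup_right (h.xG_mem_genR e t))
    · exact Subgroup.mem_sup_left (h.xG_mem_genR ((h.out_iff J r).2 ⟨hr, e⟩) t)
  · rintro g ⟨j, hjJ, hj, hg⟩
    have hj' : j < P.rank := h.rank ▸ hj
    rw [h.simple_eq hj', ← h.coe_nt (h.sim_lt hj')] at hg
    rw [Units.ext hg]
    exact Subgroup.mem_sup_right (Subgroup.mem_sup_right (h.nG_mem_levi J hjJ hj'))

theorem parabolic_gen (J : Set ℕ) :
    D.parabolicSubgroup F J = D.diagonalSubgroup F ⊔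
      Subgroup.closure {g : GL D.Idx F | ∃ (r : ℕ) (t : F), (D.IsPosRoot r ∨ D.InRootSub J r) ∧
        (g : Matrix D.Idx D.Idx F) = D.x F r t} := by
  refine le_antisymm ?_ (sup_le (le_sup_right.trans le_sup_left) ((Subgroup.closure_le _).2 ?_))
  · rw [h.parabolic_eq_levi, h.levi_eq]
    refine sup_le (h.genR_le fun r hr t => Subgroup.mem_sup_right (Subgroup.subset_closure
      ⟨r, t, Or.inl ((h.isPosRoot_iff r).2 ((h.out_iff J r).1 hr).1), h.coe_xG r t⟩))
      (sup_le le_sup_left (h.genR_le fun r hr t => Subgroup.mem_sup_right (Subgroup.subset_closure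
        ⟨r, t, Or.inr ((h.inRootSub_iff J r).2 hr), h.coe_xG r t⟩)))
  · rintro g ⟨r, t, hr, hg⟩
    rw [h.eq_xG_iff.1 hg]
    rcases hr with hr | hr
    · exact Subgroup.mem_sup_left (Subgroup.mem_sup_left (h.xG_mem_pos ((h.isPosRoot_iff r).1 hr) t))
    · exact h.inJ_mem_parabolic J ((h.inRootSub_iff J r).1 hr) t

theorem radical_normal (hC : P.ckComm = true) (J : Set ℕ) :
    D.parabolicSubgroup F J ≤ Subgroup.normalizer (D.unipotentRadical F J : Set (GL D.Idx F)) := by
  rw [h.parabolic_eq_levi, h.levi_eq, h.radical_eq]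
  refine sup_le Subgroup.le_normalizer (sup_le ?_ (h.genR_le fun r hr t => h.out_normalizer hC _ hr.1 hr.2 t))
  intro g hg
  obtain ⟨c, rfl⟩ := h.mem_diagonal_iff.1 hg
  refine mem_normalizer_closure ?_ ?_ <;> rintro _ ⟨r, t, hr, rfl⟩
  · rw [h.hHom_xG c hr.1]; exact h.xG_mem_genR hr _
  · have := h.hHom_xG (F := F) c⁻¹ hr.1 t
    rw [map_inv, inv_inv] at this
    rw [this]; exact h.xG_mem_genR hr _

theorem X_graded {J : Set ℕ} {r : ℕ} (hr : InJ P J r) (t : F) : Graded P J (X D P r t) := by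
  classical
  intro row col hne
  have hr0 : wtJ P J r = 0 := by
    unfold wtJ
    exact Finset.sum_eq_zero fun m hm => hr.2 m (Finset.mem_range.1 (Finset.mem_filter.1 hm).1) (Finset.mem_filter.1 hm).2
  rcases eq_or_ne row col with rfl | e
  · rfl
  obtain ⟨k, hk, hz⟩ := (h.X_entry hr.1 t row col).2 e hne
  have hng : wtJ P J (P.ng r) = 0 := by
    unfold wtJ
    exact Finset.sum_eq_zero fun m hm => by
      rw [h.rv_ng hr.1 (Finset.mem_range.1 (Finset.mem_filter.1 hm).1),
        hr.2 m (Finset.mem_range.1 (Finset.mem_filter.1 hm).1) (Finset.mem_filter.1 hm).2, neg_zero]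
  unfold wtX
  rcases h.colL_entry hk hr.1 hz with ⟨h1, h2⟩ | ⟨h1, h2 | h2⟩ | ⟨h1, h2, h3, h4, h5⟩
  · rw [if_neg (not_lt.2 h1), h2, if_pos hr.1, hr0]
  · rw [h1, if_pos (ng_lt hr.1), if_neg (not_lt.2 h2), hng]
  · rw [h1, if_pos (ng_lt hr.1), h2, if_pos hr.1, hr0, hng]
  · rw [h5, if_pos (h.tgt_lt hr.1 h1 h4), if_pos h1]
    unfold wtJ at hr0 ⊢
    rw [Finset.sum_congr rfl fun m hm => h.rv_additive hr.1 h1 h4 (Finset.mem_range.1 (Finset.mem_filter.1 hm).1),
      Finset.sum_add_distrib, ← Finset.mul_sum, hr0, mul_zero, zero_add]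

theorem graded_levi {J : Set ℕ} {g : GL D.Idx F} (hg : g ∈ D.leviSubgroup F J) :
    Graded P J (g : Matrix D.Idx D.Idx F) := by
  rw [h.levi_eq, genR, ← Subgroup.closure_eq (D.diagonalSubgroup F), ← Subgroup.closure_union] at hg
  induction hg using Subgroup.closure_induction'' with
  | one => rw [Units.val_one, ← Matrix.diagonal_one]; exact graded_diagonal _
  | mem x hx =>
    rcases hx with hx | ⟨r, t, hr, rfl⟩
    · obtain ⟨χ, e⟩ := h.coe_diag hx
      rw [e]; exact graded_diagonal _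
    · rw [h.coe_xG' hr.1]; exact h.X_graded hr t
  | inv_mem x hx =>
    rcases hx with hx | ⟨r, t, hr, rfl⟩
    · obtain ⟨χ, e⟩ := h.coe_diag (inv_mem hx)
      rw [e]; exact graded_diagonal _
    · rw [h.xG_inv, h.coe_xG' hr.1]; exact h.X_graded hr _
  | mul a b _ _ iha ihb => rw [Units.val_mul]; exact iha.mul ihb

/-- The coroot entries of an ordered product give its first parameter. -/
theorem head_entry {a : ℕ} {L : List ℕ} (hsort : (a :: L).Pairwise (· < ·))
    (hpos : ∀ r ∈ a :: L, P.isPos r = true) (f : ℕ → F) {i : ℕ} (hi : i < P.rank) :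
    (((a :: L).map fun r => h.xG r (f r)).prod : GL D.Idx F).val (h.hIdx i hi)
      (h.rootIdx (P.ng a) (ng_lt (P.isPos_iff.1 (hpos a List.mem_cons_self)).2)) = f a * (P.co a i : F) := by
  have han := (P.isPos_iff.1 (hpos a List.mem_cons_self)).2
  have hgt := (List.pairwise_cons.1 hsort).1
  have hraise : ∀ L' : List ℕ, (∀ x ∈ L', x ∈ L) →
      Raise P (P.ng a) (((L'.map fun r => h.xG r (f r)).prod : GL D.Idx F) : Matrix D.Idx D.Idx F) := by
    intro L'
    induction L' with
    | nil => intro _; simpa using raise_one _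
    | cons x L' ih =>
      intro hx
      simp only [List.map_cons, List.prod_cons, Units.val_mul]
      have hxL := hx x List.mem_cons_self
      have hxp := hpos x (List.mem_cons_of_mem _ hxL)
      rw [h.coe_xG' (P.isPos_iff.1 hxp).2]
      refine Raise.mul (h.X_raise hxp ?_ _) (ih fun y hy => hx y (List.mem_cons_of_mem _ hy))
      have := hgt x hxL
      have := (P.isPos_iff.1 hxp).2
      simp only [Pk.ng]; omega
  have hr := hraise L fun _ hx => hx
  set col := h.rootIdx (P.ng a) (ng_lt han)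
  have hcol : code P col = P.ng a := rfl
  simp only [List.map_cons, List.prod_cons]
  rw [Units.val_mul, Matrix.mul_apply, Finset.sum_eq_single col,
    ((hr col col (hcol ▸ ng_lt han) hcol.ge).1 rfl), mul_one, h.coe_xG' han, h.X_coroot han _ hi]
  · intro x _ hx
    by_contra hne
    obtain ⟨h1, h2⟩ := (hr x col (hcol ▸ ng_lt han) hcol.ge).2 hx fun e' => hne (by rw [e', mul_zero])
    have hc : code P (h.hIdx i hi) = P.nroots + i := rfl
    have hx' : X D P a (f a) (h.hIdx i hi) x = 0 := by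
      by_contra hz
      have := ((h.X_raise (hpos a List.mem_cons_self) (m := P.ng a + 1) (Nat.lt_succ_self _) (f a))
        (h.hIdx i hi) x h1 (by omega)).2 (fun e' => by rw [← e', hc] at h1; omega) hz
      omega
    exact hne (by rw [h.coe_xG' han, hx', zero_mul])
  · simp

theorem radical_inf_levi (hC : P.ckComm = true) (J : Set ℕ) :
    D.unipotentRadical F J ⊓ D.leviSubgroup F J = ⊥ := by
  classical
  rw [eq_bot_iff]
  intro g hg
  obtain ⟨hgU, hgL⟩ := Subgroup.mem_inf.1 hg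
  rw [h.radical_eq] at hgU
  set L := (posL P).filter fun r => decide (¬ InJ P J r)
  have hmem : ∀ r, r ∈ L ↔ Out P (fun m => m ∈ J) r := fun r => by
    simp [L, mem_posL, h.out_iff]
  have hsort : L.Pairwise (· < ·) := posL_sorted.filter _
  have hpos : ∀ r ∈ L, P.isPos r = true := fun r hr => ((h.out_iff J r).1 ((hmem r).1 hr)).1
  have hcl : ClosedL P L := by
    intro r hr s hs k hk
    obtain ⟨hrn, m, hm, hmJ, hp⟩ := (hmem r).1 hr
    obtain ⟨hsn, -, -, -, -⟩ := (hmem s).1 hs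
    refine (hmem _).2 ⟨h.tgt_lt hrn hsn hk, m, hm, hmJ, ?_⟩
    rw [h.rv_additive hrn hsn hk hm]
    have := (h.rv_sign hsn hm).1 (hpos s hs)
    nlinarith
  obtain ⟨f, rfl⟩ := h.exists_prod hC L hsort hpos hcl g (h.genR_mono (fun r hr => (hmem r).2 hr) hgU)
  have hgr := h.graded_levi hgL
  rw [Subgroup.mem_bot]
  have key : ∀ L' : List ℕ, L'.Pairwise (· < ·) → (∀ r ∈ L', r ∈ L) →
      Graded P J ((L'.map fun r => h.xG r (f r)).prod : GL D.Idx F).val →
      (L'.map fun r => h.xG r (f r)).prod = 1 := by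
    intro L'
    induction L' with
    | nil => intros; rfl
    | cons a L' ih =>
      intro hs hsub hgr'
      have hp' : ∀ r ∈ a :: L', P.isPos r = true := fun r hr => hpos r (hsub r hr)
      have han := (P.isPos_iff.1 (hp' a List.mem_cons_self)).2
      obtain ⟨-, m, hm, hmJ, hpm⟩ := (hmem a).1 (hsub a List.mem_cons_self)
      have hwt : 0 < wtJ P J a := by
        unfold wtJ
        exact Finset.sum_pos' (fun k hk => (h.rv_sign han (Finset.mem_range.1 (Finset.mem_filter.1 hk).1)).1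
          (hp' a List.mem_cons_self)) ⟨m, Finset.mem_filter.2 ⟨Finset.mem_range.2 hm, hmJ⟩, hpm⟩
      have hfa : f a = 0 := by
        obtain ⟨i, hi, hne⟩ := h.co_cast_ne (F := F) han
        have he := h.head_entry hs hp' f hi
        by_contra hfne
        have h2 := hgr' _ _ (he ▸ mul_ne_zero hfne hne)
        have hc1 : code P (h.hIdx i hi) = P.nroots + i := rfl
        have hc2 : code P (h.rootIdx (P.ng a) (ng_lt han)) = P.ng a := rfl
        unfold wtX at h2
        rw [if_neg (by rw [hc1]; omega), if_pos (by rw [hc2]; exact ng_lt han), hc2] at h2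
        have : wtJ P J (P.ng a) = -wtJ P J a := by
          unfold wtJ
          rw [← Finset.sum_neg_distrib]
          exact Finset.sum_congr rfl fun k hk => h.rv_ng han (Finset.mem_range.1 (Finset.mem_filter.1 hk).1)
        omega
      simp only [List.map_cons, List.prod_cons, hfa, h.xG_zero, one_mul] at hgr' ⊢
      exact ih (List.pairwise_cons.1 hs).2 (fun r hr => hsub r (List.mem_cons_of_mem _ hr)) hgr'
  exact key L hsort (fun _ hr => hr) hgr

theorem normalizer_radical (hC : P.ckComm = true) (J : Set ℕ) :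
    Subgroup.normalizer (D.unipotentRadical F J : Set (GL D.Idx F)) ⊓ D.group F = D.parabolicSubgroup F J := by
  have hPG : D.parabolicSubgroup F J ≤ D.group F := by
    refine sup_le h.borel_le_group ((Subgroup.closure_le _).2 ?_)
    rintro g ⟨j, -, hj, hg⟩
    have hj' : j < P.rank := h.rank ▸ hj
    rw [h.simple_eq hj', ← h.coe_nt (h.sim_lt hj')] at hg
    rw [Units.ext hg]
    exact h.monomial_le_group (h.nG_mem hj')
  refine le_antisymm ?_ (le_inf (h.radical_normal hC J) hPG)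
  intro g hg
  obtain ⟨hg, hgG⟩ := Subgroup.mem_inf.1 hg
  set M := (Subgroup.normalizer (D.unipotentRadical F J : Set (GL D.Idx F))).subgroupOf (D.group F)
  have hBM : (h.bnPair (F := F) hC).B ≤ M := fun x hx => by
    rw [Subgroup.mem_subgroupOf]
    exact h.radical_normal hC J (Subgroup.mem_sup_left (Subgroup.mem_subgroupOf.1 hx))
  have hle : M ≤ (D.parabolicSubgroup F J).subgroupOf (D.group F) := by
    rw [BN.eq_parabolic (h.bnPair (F := F) hC) hBM]
    refine sup_le (fun x hx => ?_) ((Subgroup.closure_le _).2 ?_)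
    · exact Subgroup.mem_subgroupOf.2 (Subgroup.mem_sup_left (Subgroup.mem_subgroupOf.1 hx))
    · rintro _ ⟨⟨i, rfl⟩, hiM⟩
      have hiM' : h.nG i.val ∈ Subgroup.normalizer (D.unipotentRadical F J : Set (GL D.Idx F)) :=
        Subgroup.mem_subgroupOf.1 hiM
      have hiJ : i.val ∈ J := by
        by_contra hiJ
        have hout : Out P (fun m => m ∈ J) (P.sim i) :=
          ⟨h.sim_lt i.isLt, i, i.isLt, hiJ, by rw [h.rv_sim i.isLt i.isLt, if_pos rfl]; omega⟩
        have h1 : h.xG (P.sim i.val) (1 : F) ∈ D.unipotentRadical F J := by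
          rw [h.radical_eq]; exact h.xG_mem_genR hout _
        have h2 := (Subgroup.mem_normalizer_iff.1 hiM' _).1 h1
        refine h.nG_not_conj (F := F) i.isLt (Subgroup.mem_sup_left ?_)
        rw [h.radical_eq] at h2
        exact h.genR_le (fun r hr t => h.xG_mem_pos ((h.out_iff J r).1 hr).1 t) h2
      exact Subgroup.mem_subgroupOf.2 (Subgroup.mem_sup_right (Subgroup.subset_closure
        ⟨i, hiJ, i.isLt.trans_eq h.rank.symm, by rw [h.simple_eq i.isLt]; exact h.coe_nt (h.sim_lt i.isLt) 1⟩))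
  exact Subgroup.mem_subgroupOf.1 (hle (show (⟨g, hgG⟩ : D.group F) ∈ M from Subgroup.mem_subgroupOf.2 hg))

/-- Elements of `H` conjugate in the group are conjugate in `N`. -/
theorem diagonal_fusion (hC : P.ckComm = true) {h₁ h₂ g : GL D.Idx F} (h1 : h₁ ∈ D.diagonalSubgroup F)
    (h2 : h₂ ∈ D.diagonalSubgroup F) (hg : g ∈ D.group F) (hc : g * h₁ * g⁻¹ = h₂) :
    ∃ n ∈ D.monomialSubgroup F, n * h₁ * n⁻¹ = h₂ := by
  obtain ⟨b, hb, l, hl, u, hu, rfl⟩ := h.bruhat_exists hC hg
  refine ⟨h.nW l, h.nW_mem l hl, ?_⟩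
  set n := h.nW (F := F) l
  have hn1 : n * h₁ * n⁻¹ ∈ D.diagonalSubgroup F :=
    (Subgroup.mem_normalizer_iff.1 (h.nW_normalizer l hl) h₁).1 h1
  have hu' : h₁⁻¹ * u * h₁ ∈ h.genR (negS P l) := by
    obtain ⟨c, hc'⟩ := h.mem_diagonal_iff.1 (inv_mem h1)
    have : h.genR (F := F) (negS P l) ≤ (h.genR (negS P l)).comap (MulAut.conj (h₁⁻¹)).toMonoidHom := by
      refine h.genR_le fun r hr t => ?_
      rw [Subgroup.mem_comap, MulEquiv.toMonoidHom_eq_coe, MonoidHom.coe_coe, MulAut.conj_apply, ← hc',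
        h.hHom_xG c (P.isPos_iff.1 hr.1).2]
      exact h.xG_mem_genR hr _
    simpa using this hu
  have e : b * (n * h₁ * n⁻¹) * (n * 1) * (h₁⁻¹ * u * h₁) = h₂ * b * (n * 1) * u := by
    rw [← hc]; group
  obtain ⟨eb, -⟩ := h.bruhat_factor hl (one_mem _) (mul_mem hb (Subgroup.mem_sup_right hn1))
    (mul_mem (Subgroup.mem_sup_right h2) hb) hu' hu e
  obtain ⟨v, hv, d, hd, rfl⟩ := h.mem_borel hb
  have hv' : h₂ * v * h₂⁻¹ ∈ D.posUnipotent F :=
    (Subgroup.mem_normalizer_iff.1 (h.diagonal_normalizes h2) v).1 hv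
  have e2 : v⁻¹ * (h₂ * v * h₂⁻¹) = d * (n * h₁ * n⁻¹) * (h₂ * d)⁻¹ := by
    rw [show v⁻¹ * (h₂ * v * h₂⁻¹) = v⁻¹ * (h₂ * (v * d)) * (h₂ * d)⁻¹ by group, ← eb]; group
  have h3 : v⁻¹ * (h₂ * v * h₂⁻¹) ∈ D.posUnipotent F ⊓ D.diagonalSubgroup F :=
    Subgroup.mem_inf.2 ⟨mul_mem (inv_mem hv) hv', (by rw [e2]; exact mul_mem (mul_mem hd hn1) (inv_mem (mul_mem h2 hd)))⟩
  rw [h.pos_inf_diagonal, Subgroup.mem_bot] at h3
  rw [h3, eq_comm, mul_inv_eq_one] at e2
  have hcomm : h₂ * d = d * h₂ := by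
    obtain ⟨a, rfl⟩ := h.mem_diagonal_iff.1 h2
    obtain ⟨c, rfl⟩ := h.mem_diagonal_iff.1 hd
    rw [← map_mul, ← map_mul, mul_comm]
  rw [hcomm] at e2
  exact mul_left_cancel e2

end Ok

end Cfsg.Agent.Chev
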