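/-
Connectedness and perfectness checks for the seven data; simplicity.
-/
import Cfsg.Agent.Lib.Chev.Simple

set_option autoImplicit false

namespace Cfsg.Agent.Chev

open Cfsg.Lie

theorem ckConn_B2 : B2.pk.ckConn = true := by decide +kernel
theorem ckConn_G2 : G2.pk.ckConn = true := by decide +kernel
theorem ckConn_D4 : D4.pk.ckConn = true := by decide +kernel
theorem ckConn_F4 : F4.pk.ckConn = true := by decide +kernel
theorem ckConn_E6 : E6.pk.ckConn = true := by decide +kernel
theorem ckConn_E7 : E7.pk.ckConn = true := by decide +kernel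
theorem ckConn_E8 : E8.pk.ckConn = true := by decide +kernel

theorem ckPerf_B2 : B2.pk.ckPerfOdd = true := by decide +kernel
theorem ckPerf_G2 : G2.pk.ckPerfOdd = true := by decide +kernel
theorem ckPerf_D4 : D4.pk.ckPerfAll = true := by decide +kernel
theorem ckPerf_F4 : F4.pk.ckPerfAll = true := by decide +kernel
theorem ckPerf_E6 : E6.pk.ckPerfAll = true := by decide +kernel
theorem ckPerf_E7 : E7.pk.ckPerfAll = true := by decide +kernel
theorem ckPerf_E8 : E8.pk.ckPerfAll = true := by decide +kernel

end Cfsg.Agent.Chev
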