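/-
The homomorphism from SL₂ onto the subgroup generated by two opposite root groups.
-/
import Cfsg.Agent.Lib.Chev.BN
import Cfsg.Agent.Lib.Chev.AllR

set_option autoImplicit false

namespace Cfsg.Agent.Chev

open Cfsg.Lie
open scoped MatrixGroups

section generic

variable {F : Type*} [Field F] {G : Type*} [Group G]

/-- Upper unipotent element of `SL₂`. -/
def sU (t : F) : SL(2, F) := ⟨!![1, t; 0, 1], by simp [Matrix.det_fin_two_of]⟩

/-- Lower unipotent element of `SL₂`. -/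
def sL (t : F) : SL(2, F) := ⟨!![1, 0; t, 1], by simp [Matrix.det_fin_two_of]⟩

/-- The Weyl element of `SL₂`. -/
def sW : SL(2, F) := ⟨!![0, 1; -1, 0], by simp [Matrix.det_fin_two_of]⟩

theorem coe_sU (t : F) : (sU t : SL(2, F)).1 = !![1, t; 0, 1] := rfl

theorem coe_sL (t : F) : (sL t : SL(2, F)).1 = !![1, 0; t, 1] := rfl

theorem coe_sW : (sW : SL(2, F)).1 = !![0, 1; -1, 0] := rfl

/-- The monomial elements of `SL₂`. -/
def sN (t : F) (ht : t ≠ 0) : SL(2, F) := ⟨!![0, t; -t⁻¹, 0], by simp [Matrix.det_fin_two_of, ht]⟩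

theorem coe_sN (t : F) (ht : t ≠ 0) : (sN t ht).1 = !![0, t; -t⁻¹, 0] := rfl

theorem sW_eq : (sW : SL(2, F)) = sU 1 * sL (-1) * sU 1 := by
  apply Subtype.ext
  simp [Matrix.SpecialLinearGroup.coe_mul, coe_sW, coe_sU, coe_sL, Matrix.mul_fin_two]

theorem sl2_induction {p : SL(2, F) → Prop} (one : p 1) (hu : ∀ t g, p g → p (sU t * g))
    (hw : ∀ g, p g → p (sW * g)) (g : SL(2, F)) : p g := by
  have hl : ∀ t g, p g → p (sL t * g) := by
    intro t g hg
    have e : (sL t : SL(2, F)) = sW * sU (-t) * (sW * (sW * sW)) := by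
      apply Subtype.ext; simp [Matrix.SpecialLinearGroup.coe_mul, coe_sW, coe_sU, coe_sL, Matrix.mul_fin_two]
    rw [e]
    simp only [mul_assoc]
    exact hw _ (hu _ _ (hw _ (hw _ (hw _ hg))))
  have hd : ∀ (t : F) (ht : t ≠ 0) g, p g → p (sN t ht * g) := by
    intro t ht g hg
    have e : sN t ht = sU t * sL (-t⁻¹) * sU t := by
      apply Subtype.ext
      simp [Matrix.SpecialLinearGroup.coe_mul, coe_sN, coe_sU, coe_sL, Matrix.mul_fin_two, ht]
    rw [e, mul_assoc, mul_assoc]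
    exact hu _ _ (hl _ _ (hu _ _ hg))
  have big : ∀ g : SL(2, F), g.1 1 0 ≠ 0 → p g := by
    intro g hc
    have hdet : g.1 0 0 * g.1 1 1 - g.1 0 1 * g.1 1 0 = 1 := by
      rw [← Matrix.det_fin_two]; exact g.2
    have ht : -(g.1 1 0)⁻¹ ≠ 0 := neg_ne_zero.2 (inv_ne_zero hc)
    have e : g = sU (g.1 0 0 / g.1 1 0) *
        (sN (-(g.1 1 0)⁻¹) ht *
          (sU (g.1 1 1 / g.1 1 0) * 1)) := by
      apply Subtype.ext
      ext i j
      fin_cases i <;> fin_cases j <;> simp [Matrix.SpecialLinearGroup.coe_mul, coe_sU, coe_sN, Matrix.mul_apply, Fin.sum_univ_two] <;> field_simp <;>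
        linear_combination -hdet
    rw [e]
    exact hu _ _ (hd _ ht _ (hu _ _ one))
  by_cases hc : g.1 1 0 = 0
  · have ha : g.1 0 0 ≠ 0 := by
      intro e
      have := g.2
      rw [Matrix.det_fin_two, e, hc] at this
      simp at this
    have h4 : (sW : SL(2, F)) * (sW * (sW * sW)) = 1 := by
      apply Subtype.ext; simp [Matrix.SpecialLinearGroup.coe_mul, coe_sW, Matrix.mul_fin_two, Matrix.one_fin_two]
    have h1 : p (sW * g) := big _ (by simp [Matrix.SpecialLinearGroup.coe_mul, coe_sW, Matrix.mul_apply, Fin.sum_univ_two, ha])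
    have := hw _ (hw _ (hw _ h1))
    rw [← mul_assoc, ← mul_assoc, ← mul_assoc, mul_assoc (sW * sW : SL(2, F)), mul_assoc (sW : SL(2, F)) sW,
      h4, one_mul] at this
    exact this
  · exact big g hc

/-- A pair of one-parameter subgroups satisfying the rank-one relations gives a representation of `SL₂`. -/
theorem sl2_hom (x y : F → G) (n hh : F → G)
    (hx : ∀ a b, x a * x b = x (a + b)) (hy : ∀ a b, y a * y b = y (a + b))
    (hn : ∀ t, n t = x t * y (-t⁻¹) * x t)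
    (hh1 : ∀ t, t ≠ 0 → n t = hh t * n 1)
    (hhm : ∀ a b, a ≠ 0 → b ≠ 0 → hh a * hh b = hh (a * b))
    (hhx : ∀ a t, a ≠ 0 → hh a * x t * (hh a)⁻¹ = x (a * a * t))
    (hnx : ∀ t, n 1 * x t * (n 1)⁻¹ = y (-t))
    (hnh : ∀ a, a ≠ 0 → n 1 * hh a = hh a⁻¹ * n 1)
    (hsq : n 1 * n 1 = hh (-1)) :
    ∃ φ : SL(2, F) →* G, (∀ t, φ (sU t) = x t) ∧ (∀ t, φ (sL t) = y t) ∧
      ∀ g, φ g ∈ Subgroup.closure (Set.range x ∪ Set.range y) := by
  classical
  have x0 : x 0 = 1 := by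
    have := hx 0 0; rw [add_zero] at this; exact mul_eq_left.1 this
  have y0 : y 0 = 1 := by
    have := hy 0 0; rw [add_zero] at this; exact mul_eq_left.1 this
  have h10 : hh 1 = 1 := by
    have := hhm 1 1 one_ne_zero one_ne_zero; rw [mul_one] at this; exact mul_eq_left.1 this
  have hxh : ∀ a t, a ≠ 0 → x t * hh a = hh a * x (t / (a * a)) := by
    intro a t ha
    have := hhx a (t / (a * a)) ha
    rw [mul_div_cancel₀ _ (mul_ne_zero ha ha), mul_inv_eq_iff_eq_mul] at this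
    exact this.symm
  have hy' : ∀ s, s ≠ 0 → y (-s) = x (-s⁻¹) * n s⁻¹ * x (-s⁻¹) := by
    intro s hs
    have e1 : x s⁻¹ * x (-s⁻¹) = 1 := by rw [hx, add_neg_cancel, x0]
    have e2 : x (-s⁻¹) * x s⁻¹ = 1 := by rw [hx, neg_add_cancel, x0]
    rw [hn, inv_inv]
    calc y (-s) = 1 * y (-s) * 1 := by rw [one_mul, mul_one]
      _ = (x (-s⁻¹) * x s⁻¹) * y (-s) * (x s⁻¹ * x (-s⁻¹)) := by rw [e1, e2]
      _ = _ := by simp only [mul_assoc]
  let φ : SL(2, F) → G := fun g =>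
    if g.1 1 0 = 0 then x (g.1 0 1 * g.1 0 0) * hh (g.1 0 0)
    else x (g.1 0 0 / g.1 1 0) * n (-(g.1 1 0)⁻¹) * x (g.1 1 1 / g.1 1 0)
  have hφu : ∀ t g, φ (sU t * g) = x t * φ g := by
    intro t g
    have hdet : g.1 0 0 * g.1 1 1 - g.1 0 1 * g.1 1 0 = 1 := by
      rw [← Matrix.det_fin_two]; exact g.2
    have e : (sU t * g).1 = !![g.1 0 0 + t * g.1 1 0, g.1 0 1 + t * g.1 1 1; g.1 1 0, g.1 1 1] := by
      ext i j; fin_cases i <;> fin_cases j <;> simp [Matrix.SpecialLinearGroup.coe_mul, coe_sU, Matrix.mul_apply, Fin.sum_univ_two]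
    simp only [φ, e]
    simp only [Matrix.of_apply, Matrix.cons_val', Matrix.cons_val_zero, Matrix.cons_val_one,
      Matrix.empty_val', Matrix.cons_val_fin_one]
    by_cases hc : g.1 1 0 = 0
    · rw [if_pos hc, if_pos hc, ← mul_assoc, hx, hc, mul_zero, add_zero]
      rw [hc, mul_zero, sub_zero] at hdet
      congr 2
      linear_combination t * hdet
    · rw [if_neg hc, if_neg hc, ← mul_assoc, ← mul_assoc, hx, add_div, mul_div_assoc, div_self hc, mul_one,
        add_comm]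
  have hφw : ∀ g, φ (sW * g) = n 1 * φ g := by
    intro g
    have hdet : g.1 0 0 * g.1 1 1 - g.1 0 1 * g.1 1 0 = 1 := by
      rw [← Matrix.det_fin_two]; exact g.2
    have e : (sW * g).1 = !![g.1 1 0, g.1 1 1; -g.1 0 0, -g.1 0 1] := by
      ext i j; fin_cases i <;> fin_cases j <;> simp [Matrix.SpecialLinearGroup.coe_mul, coe_sW, Matrix.mul_apply, Fin.sum_univ_two]
    simp only [φ, e]
    simp only [Matrix.of_apply, Matrix.cons_val', Matrix.cons_val_zero, Matrix.cons_val_one,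
      Matrix.empty_val', Matrix.cons_val_fin_one]
    generalize g.1 0 0 = a at hdet ⊢
    generalize g.1 0 1 = b at hdet ⊢
    generalize g.1 1 0 = c at hdet ⊢
    generalize g.1 1 1 = d at hdet ⊢
    by_cases hc : c = 0
    · subst hc
      have ha : a ≠ 0 := by rintro rfl; simp at hdet
      rw [if_neg (neg_ne_zero.2 ha), if_pos rfl, inv_neg, neg_neg, zero_div, x0, one_mul,
        hh1 _ (inv_ne_zero ha), ← hnh a ha, hxh a _ ha, mul_assoc]
      congr 3
      field_simp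
    · by_cases ha : a = 0
      · subst ha
        rw [neg_zero, if_pos rfl, if_neg hc, zero_div, x0, one_mul,
          hh1 _ (neg_ne_zero.2 (inv_ne_zero hc)), ← mul_assoc, ← mul_assoc,
          hnh _ (neg_ne_zero.2 (inv_ne_zero hc)), mul_assoc (hh _) (n 1), hsq, inv_neg, inv_inv,
          hhm _ _ (neg_ne_zero.2 hc) (neg_ne_zero.2 one_ne_zero), mul_neg, mul_one, neg_neg,
          hxh c (d * c) hc]
        congr 2
        field_simp
      · rw [if_neg (neg_ne_zero.2 ha), if_neg hc]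
        have h1 : n 1 * x (a / c) = y (-(a / c)) * n 1 := by
          rw [← hnx, inv_mul_cancel_right]
        have hne : a / c ≠ 0 := div_ne_zero ha hc
        have h2 : n 1 * n (-c⁻¹) = hh c := by
          rw [hh1 _ (neg_ne_zero.2 (inv_ne_zero hc)), ← mul_assoc, hnh _ (neg_ne_zero.2 (inv_ne_zero hc)),
            mul_assoc, hsq, inv_neg, inv_inv, hhm _ _ (neg_ne_zero.2 hc) (neg_ne_zero.2 one_ne_zero)]
          congr 1; ring
        have h3 : n (a / c)⁻¹ * hh c = n a⁻¹ := by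
          rw [hh1 _ (inv_ne_zero hne), mul_assoc, hnh c hc, ← mul_assoc,
            hhm _ _ (inv_ne_zero hne) (inv_ne_zero hc), hh1 _ (inv_ne_zero ha)]
          congr 2; field_simp
        have h4 : x (-(a / c)⁻¹) * hh c = hh c * x (-(a / c)⁻¹ / (c * c)) := hxh c _ hc
        symm
        calc n 1 * (x (a / c) * n (-c⁻¹) * x (d / c))
            = y (-(a / c)) * (n 1 * n (-c⁻¹)) * x (d / c) := by
              rw [show n 1 * (x (a / c) * n (-c⁻¹) * x (d / c)) = (n 1 * x (a / c)) * n (-c⁻¹) * x (d / c) by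
                simp only [mul_assoc], h1]
              simp only [mul_assoc]
          _ = x (-(a / c)⁻¹) * n (a / c)⁻¹ * (x (-(a / c)⁻¹) * hh c) * x (d / c) := by
              rw [h2, hy' _ hne]; simp only [mul_assoc]
          _ = x (-(a / c)⁻¹) * (n (a / c)⁻¹ * hh c) * (x (-(a / c)⁻¹ / (c * c)) * x (d / c)) := by
              rw [h4]; simp only [mul_assoc]
          _ = x (c / -a) * n (-(-a)⁻¹) * x (-b / -a) := by
              rw [h3, hx, inv_neg, neg_neg]
              congr 2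
              · congr 1; field_simp
              · field_simp
                linear_combination hdet
  have hone : φ 1 = 1 := by simp [φ, x0, h10]
  have hmul : ∀ g g' : SL(2, F), φ (g * g') = φ g * φ g' := by
    intro g g'
    induction g using sl2_induction with
    | one => rw [one_mul, hone, one_mul]
    | hu t g ih => rw [mul_assoc, hφu, ih, hφu, mul_assoc]
    | hw g ih => rw [mul_assoc, hφw, ih, hφw, mul_assoc]
  let Φ : SL(2, F) →* G := { toFun := φ, map_one' := hone, map_mul' := hmul }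
  have hU : ∀ t, Φ (sU t) = x t := fun t => by
    show φ (sU t) = x t
    have := hφu t 1
    rwa [mul_one, hone, mul_one] at this
  have hW : Φ sW = n 1 := by
    show φ sW = n 1
    have := hφw 1
    rwa [mul_one, hone, mul_one] at this
  refine ⟨Φ, hU, fun t => ?_, fun g => ?_⟩
  · have e : (sL t : SL(2, F)) = sW * sU (-t) * sW⁻¹ := by
      rw [eq_mul_inv_iff_mul_eq]
      apply Subtype.ext; simp [Matrix.SpecialLinearGroup.coe_mul, coe_sW, coe_sU, coe_sL, Matrix.mul_fin_two]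
    rw [e, map_mul, map_mul, map_inv, hU, hW, hnx, neg_neg]
  · induction g using sl2_induction with
    | one => rw [map_one]; exact one_mem _
    | hu t g ih => rw [map_mul, hU]; exact mul_mem (Subgroup.subset_closure (Or.inl ⟨t, rfl⟩)) ih
    | hw g ih =>
      rw [map_mul, hW, hn]
      exact mul_mem (mul_mem (mul_mem (Subgroup.subset_closure (Or.inl ⟨_, rfl⟩))
        (Subgroup.subset_closure (Or.inr ⟨_, rfl⟩))) (Subgroup.subset_closure (Or.inl ⟨_, rfl⟩))) ih

end generic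

variable {D : ChevalleyDatum} {P : Pk} {F : Type*} [Field F]

namespace Ok

variable (h : Ok D P)
include h

theorem nt_xG (hR : P.ckRefl = true) {r : ℕ} (hr : r < P.nroots) :
    ∀ t : F, h.nt r 1 * h.xG r t * (h.nt r 1)⁻¹ = h.xG (P.ng r) (-t) := by
  refine h.root_induction (Q := fun r => ∀ t : F, h.nt r 1 * h.xG r t * (h.nt r 1)⁻¹ = h.xG (P.ng r) (-t))
    (fun i hi t => ?_) (fun i hi r hr hm t => ?_) r hr
  · rw [show h.nt (P.sim i) (1 : F) = h.nG i from rfl, h.nG_sim hi, h.eta_sim hR hi]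
    norm_num
  · have hη : (P.eta i r : F) * P.eta i r = 1 := by rw [← Int.cast_mul, eta_sq, Int.cast_one]
    have hη0 : (P.eta i r : F) ≠ 0 := left_ne_zero_of_mul_eq_one hη
    have e1 : h.nG i * h.nt r ((P.eta i r : F)) * (h.nG i)⁻¹ = h.nt (P.w i r) 1 := by
      rw [h.nG_nt hi hr, hη]
    obtain ⟨c, hc⟩ := h.mem_diagonal_iff.1 (h.ht_mem (F := F) hr hη0)
    have hc2 : hchar P c (P.ng r) = 1 := by
      have e := h.hHom_xG c (ng_lt hr) (1 : F)
      rw [hc, h.ht_eq hr hη0, h.dG_xG _ (ng_lt hr)] at e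
      have e2 := h.xG_inj_param (ng_lt hr) e
      have h1 := (h.isChar_pair (r := r) hη0).neg r hr
      have hro := h.roots
      simp only [Pk.ckRoots, List.all_eq_true, Pk.mem_allRoots, Bool.and_eq_true, decide_eq_true_eq] at hro
      simp only [(hro r hr).1.2, zpow_ofNat, pow_two, hη, inv_one] at h1
      rw [h1, one_mul, mul_one] at e2
      exact e2.symm
    have hm' : ∀ s : F, h.nt r ((P.eta i r : F)) * h.xG r s * (h.nt r ((P.eta i r : F)))⁻¹ =
        h.xG (P.ng r) (-s) := by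
      intro s
      rw [h.nt_eq_ht_mul r, mul_inv_rev, ← hc]
      rw [show h.hHom c * h.nt r 1 * h.xG r s * ((h.nt r 1)⁻¹ * (h.hHom c)⁻¹) =
        h.hHom c * (h.nt r 1 * h.xG r s * (h.nt r 1)⁻¹) * (h.hHom c)⁻¹ by group, hm s,
        h.hHom_xG c (ng_lt hr), hc2, one_mul]
    have e2 := h.nG_xG (F := F) hi hr ((P.eta i r : F) * t)
    rw [← mul_assoc, hη, one_mul] at e2
    rw [← e1, ← e2]
    rw [show h.nG i * h.nt r (P.eta i r : F) * (h.nG i)⁻¹ * (h.nG i * h.xG r ((P.eta i r : F) * t) * (h.nG i)⁻¹) *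
        (h.nG i * h.nt r (P.eta i r : F) * (h.nG i)⁻¹)⁻¹ =
      h.nG i * (h.nt r (P.eta i r : F) * h.xG r ((P.eta i r : F) * t) * (h.nt r (P.eta i r : F))⁻¹) * (h.nG i)⁻¹ by
      group]
    rw [hm', h.nG_xG hi (ng_lt hr), h.w_ng hi hr, h.eta_ng hi hr]
    congr 1
    rw [mul_neg, ← mul_assoc, hη, one_mul]

theorem exists_sl2 (hR : P.ckRefl = true) {r : ℕ} (hr : r < P.nroots) :
    ∃ φ : SL(2, F) →* GL D.Idx F, φ.range = D.rootSubgroup F r ⊔ D.rootSubgroup F (P.ng r) ∧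
      (∀ t, φ (sU t) = h.xG r t) ∧ ∀ t, φ (sL t) = h.xG (P.ng r) t := by
  have hro := h.roots
  simp only [Pk.ckRoots, List.all_eq_true, Pk.mem_allRoots, Bool.and_eq_true, decide_eq_true_eq] at hro
  have hng := ng_lt (P := P) hr
  have hA : ∀ a : F, a ≠ 0 → h.ht (P.ng r) a = h.ht r a⁻¹ := by
    intro a ha
    rw [h.ht_eq hng ha, h.ht_eq hr (inv_ne_zero ha)]
    apply Units.ext
    rw [h.coe_dG, h.coe_dG, dM, dM]
    congr 1
    funext x
    rcases x with i | s
    · rfl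
    · show a ^ P.pair (P.ng r) s.val = a⁻¹ ^ P.pair r s.val
      rw [inv_zpow, ← zpow_neg]
      congr 1
      simp only [Pk.pair, ← List.sum_toFinset _ List.nodup_range, ← Finset.sum_neg_distrib]
      exact Finset.sum_congr rfl fun j hj => by rw [h.co_ng hr (by simpa using hj)]; ring
  have hhm : ∀ a b : F, a ≠ 0 → b ≠ 0 → h.ht r a * h.ht r b = h.ht r (a * b) := by
    intro a b ha hb
    rw [h.ht_eq hr ha, h.ht_eq hr hb, h.ht_eq hr (mul_ne_zero ha hb)]
    exact h.dG_mul _ _ _ fun s _ => mul_zpow a b _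
  have hh0 : h.ht r (1 : F) = 1 := by
    have := hhm 1 1 one_ne_zero one_ne_zero
    rw [mul_one] at this
    exact mul_eq_left.1 this
  have hm1 : h.ht r (-1 : F) * h.ht r (-1) = 1 := by
    rw [hhm _ _ (neg_ne_zero.2 one_ne_zero) (neg_ne_zero.2 one_ne_zero), neg_mul_neg, one_mul, hh0]
  have hsq : h.nt r (1 : F) * h.nt r 1 = h.ht r (-1) := by
    have e : h.ht r (-1 : F) = (h.nt r 1 * h.nt r 1)⁻¹ := by rw [ht, h.nt_neg, mul_inv_rev]
    rw [e, eq_inv_iff_mul_eq_one]
    rw [e] at hm1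
    rwa [← mul_inv_rev, inv_eq_one] at hm1
  have conjy : ∀ t : F, h.nt r 1 * h.xG (P.ng r) t * (h.nt r 1)⁻¹ = h.xG r (-t) := by
    intro t
    have h1 := h.nt_xG hR hr (-t)
    rw [neg_neg] at h1
    rw [← h1, show h.nt r 1 * (h.nt r 1 * h.xG r (-t) * (h.nt r 1)⁻¹) * (h.nt r 1)⁻¹ =
      (h.nt r 1 * h.nt r 1) * h.xG r (-t) * (h.nt r 1 * h.nt r 1)⁻¹ by group, hsq,
      h.ht_eq hr (neg_ne_zero.2 one_ne_zero), h.dG_xG _ hr]
    congr 1
    simp only [(hro r hr).1.2, zpow_ofNat]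
    ring
  obtain ⟨φ, hU, hL, hmem⟩ := sl2_hom (F := F) (fun t => h.xG r t) (fun t => h.xG (P.ng r) t)
    (fun t => h.nt r t) (fun t => h.ht r t) (h.xG_add r) (h.xG_add (P.ng r)) (fun _ => rfl)
    (fun t _ => h.nt_eq_ht_mul r t) hhm
    (fun a t ha => by
      rw [h.ht_eq hr ha, h.dG_xG _ hr]
      congr 1
      simp only [(hro r hr).1.2, zpow_ofNat]
      ring)
    (h.nt_xG hR hr)
    (fun a ha => by
      have key : ∀ b : F, h.nt r 1 * h.nt r b * (h.nt r 1)⁻¹ = h.nt (P.ng r) (-b) := fun b => by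
        rw [show h.nt r b = h.xG r b * h.xG (P.ng r) (-b⁻¹) * h.xG r b from rfl,
          show h.nt r 1 * (h.xG r b * h.xG (P.ng r) (-b⁻¹) * h.xG r b) * (h.nt r 1)⁻¹ =
            (h.nt r 1 * h.xG r b * (h.nt r 1)⁻¹) * (h.nt r 1 * h.xG (P.ng r) (-b⁻¹) * (h.nt r 1)⁻¹) *
              (h.nt r 1 * h.xG r b * (h.nt r 1)⁻¹) by group,
          h.nt_xG hR hr, conjy, nt, ng_ng hr, inv_neg]
      have e : h.nt r 1 * h.ht r a * (h.nt r 1)⁻¹ = h.ht r a⁻¹ := by
        rw [show h.ht r a = h.nt r a * h.nt r (-1) from rfl,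
          show h.nt r 1 * (h.nt r a * h.nt r (-1)) * (h.nt r 1)⁻¹ =
            (h.nt r 1 * h.nt r a * (h.nt r 1)⁻¹) * (h.nt r 1 * h.nt r (-1) * (h.nt r 1)⁻¹) by group,
          key, key, neg_neg]
        have e1 : h.nt (P.ng r) (-a) = h.ht (P.ng r) (-a) * h.nt (P.ng r) 1 := h.nt_eq_ht_mul _ _
        have e2 : h.nt (P.ng r) (1 : F) * h.nt (P.ng r) 1 = h.ht (P.ng r) (-1) := by
          have f : h.ht (P.ng r) (-1 : F) = (h.nt (P.ng r) 1 * h.nt (P.ng r) 1)⁻¹ := by
            rw [ht, h.nt_neg, mul_inv_rev]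
          have g1 : h.ht (P.ng r) (-1 : F) * h.ht (P.ng r) (-1) = 1 := by
            rw [hA _ (neg_ne_zero.2 one_ne_zero), inv_neg, inv_one, hm1]
          rw [f, eq_inv_iff_mul_eq_one]
          rw [f] at g1
          rwa [← mul_inv_rev, inv_eq_one] at g1
        rw [e1, mul_assoc, e2, hA _ (neg_ne_zero.2 ha), hA _ (neg_ne_zero.2 one_ne_zero),
          hhm _ _ (inv_ne_zero (neg_ne_zero.2 ha)) (inv_ne_zero (neg_ne_zero.2 one_ne_zero))]
        congr 1
        rw [inv_neg, inv_neg, inv_one, neg_mul_neg, mul_one]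
      rw [← e, inv_mul_cancel_right])
    hsq
  refine ⟨φ, le_antisymm ?_ (sup_le ?_ ?_), hU, hL⟩
  · rintro _ ⟨g, rfl⟩
    refine (Subgroup.closure_le _).2 ?_ (hmem g)
    rintro x (⟨t, rfl⟩ | ⟨t, rfl⟩)
    · exact Subgroup.mem_sup_left (h.mem_rootSubgroup t)
    · exact Subgroup.mem_sup_right (h.mem_rootSubgroup t)
  · intro x hx
    rw [← SetLike.mem_coe, h.rootSubgroup_eq] at hx
    obtain ⟨t, rfl⟩ := hx
    exact ⟨sU t, hU t⟩
  · intro x hx
    rw [← SetLike.mem_coe, h.rootSubgroup_eq] at hx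
    obtain ⟨t, rfl⟩ := hx
    exact ⟨sL t, hL t⟩

end Ok

end Cfsg.Agent.Chev
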