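/-
The Poincaré polynomial of W(E7).
-/
import Cfsg.Agent.Lib.Chev.Weyl
import Cfsg.Agent.Lib.Chev.AllC

set_option autoImplicit false

namespace Cfsg.Agent.Chev

theorem ckOrb_E7 : E7.pk.ckOrb [6, 5, 4, 3, 2, 1, 0] = true := by decide +kernel
theorem poinP_E7 : E7.pk.poinP [6, 5, 4, 3, 2, 1, 0] = pgeom [2, 6, 8, 10, 12, 14, 18] := by decide +kernel

end Cfsg.Agent.Chev
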