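/-
The Poincaré polynomial of W(E8).
-/
import Cfsg.Agent.Lib.Chev.Weyl
import Cfsg.Agent.Lib.Chev.AllC

set_option autoImplicit false
set_option Elab.async false

namespace Cfsg.Agent.Chev

/-- Part of the orbit of the last fundamental functional. -/
def orbE8a : List (List ℤ) := [[0, 0, 0, 0, 0, 0, 0, 1], [0, 0, 0, 0, 0, 0, 1, -1], [0, 0, 0, 0, 0, 1, -1, 0], [0, 0, 0, 0, 1, -1, 0, 0], [0, 0, 0, 1, -1, 0, 0, 0], [0, 1, 1, -1, 0, 0, 0, 0], [0, -1, 1, 0, 0, 0, 0, 0], [1, 1, -1, 0, 0, 0, 0, 0], [-1, 1, 0, 0, 0, 0, 0, 0], [1, -1, -1, 1, 0, 0, 0, 0], [1, 0, 0, -1, 1, 0, 0, 0], [-1, -1, 0, 1, 0, 0, 0, 0], [-1, 0, 1, -1, 1, 0, 0, 0], [1, 0, 0, 0, -1, 1, 0, 0], [1, 0, 0, 0, 0, -1, 1, 0], [0, 0, -1, 0, 1, 0, 0, 0], [-1, 0, 1, 0, -1, 1, 0, 0], [0, 0, -1, 1, -1, 1, 0, 0], [-1, 0, 1, 0, 0, -1, 1, 0], [1, 0, 0, 0, 0, 0,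 -1, 1], [1, 0, 0, 0, 0, 0, 0, -1], [-1, 0, 1, 0, 0, 0, -1, 1], [0, 1, 0, -1, 0, 1, 0, 0], [0, 0, -1, 1, 0, -1, 1, 0], [0, -1, 0, 0, 0, 1, 0, 0], [0, 1, 0, -1, 1, -1, 1, 0], [0, 0, -1, 1, 0, 0, -1, 1], [-1, 0, 1, 0, 0, 0, 0, -1], [0, 0, -1, 1, 0, 0, 0, -1], [0, 1, 0, 0, -1, 0, 1, 0]]

/-- Part of the orbit of the last fundamental functional. -/
def orbE8b : List (List ℤ) := [[0, 1, 0, -1, 1, 0, -1, 1], [0, -1, 0, 0, 1, -1, 1, 0], [0, -1, 0, 0, 1, 0, -1, 1], [0, -1, 0, 1, -1, 0, 1, 0], [0, 1, 0, 0, -1, 1, -1, 1], [0, 1, 0, -1, 1, 0, 0, -1], [0, 1, 0, 0, 0, -1, 0, 1], [0, 1, 0, 0, -1, 1, 0, -1], [0, 0, 1, -1, 0, 0, 1, 0], [0, -1, 0, 1, -1, 1, -1, 1], [0, -1, 0, 0, 1, 0, 0, -1], [1, 0, -1, 0, 0, 0, 1, 0], [0, 0, 1, -1, 0, 1, -1, 1], [0, -1, 0, 1, -1, 1, 0, -1], [0, -1, 0, 1, 0, -1, 0, 1], [0, 1, 0, 0, 0, -1, 1,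 -1], [0, 1, 0, 0, 0, 0, -1, 0], [0, -1, 0, 1, 0, -1, 1, -1], [0, 0, 1, -1, 1, -1, 0, 1], [0, 0, 1, -1, 0, 1, 0, -1], [-1, 0, 0, 0, 0, 0, 1, 0], [1, 0, -1, 0, 0, 1, -1, 1], [-1, 0, 0, 0, 0, 1, -1, 1], [1, 0, -1, 0, 0, 1, 0, -1], [1, 0, -1, 0, 1, -1, 0, 1], [0, 0, 1, 0, -1, 0, 0, 1], [0, 0, 1, -1, 1, -1, 1, -1], [0, -1, 0, 1, 0, 0, -1, 0], [0, 0, 1, -1, 1, 0, -1, 0], [0, 0, 1, 0, -1, 0, 1, -1]]

/-- Part of the orbit of the last fundamental functional. -/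
def orbE8c : List (List ℤ) := [[1, 0, -1, 1, -1, 0, 0, 1], [1, 0, -1, 0, 1, -1, 1, -1], [-1, 0, 0, 0, 1, -1, 0, 1], [-1, 0, 0, 0, 0, 1, 0, -1], [-1, 0, 0, 0, 1, -1, 1, -1], [-1, 0, 0, 1, -1, 0, 0, 1], [1, 1, 0, -1, 0, 0, 0, 1], [1, 0, -1, 1, -1, 0, 1, -1], [1, 0, -1, 0, 1, 0, -1, 0], [0, 0, 1, 0, -1, 1, -1, 0], [0, 0, 1, 0, 0, -1, 0, 0], [1, 0, -1, 1, -1, 1, -1, 0], [1, -1, 0, 0, 0, 0, 0, 1], [1, 1, 0, -1, 0, 0, 1, -1], [-1, 1, 1, -1, 0, 0, 0, 1], [-1, 0, 0, 1, -1, 0, 1, -1], [-1, 0, 0, 0, 1, 0, -1, 0], [0, 1, -1, 0, 0, 0, 0, 1], [-1, 1, 1, -1, 0, 0, 1, -1], [-1, -1, 1, 0, 0, 0, 0, 1], [1, -1, 0, 0, 0, 0, 1, -1], [-1, 0, 0, 1, -1, 1, -1, 0], [1, 1, 0, -1, 0, 1, -1, 0], [1, 0, -1, 1, 0, -1, 0, 0], [1, 1, 0, -1, 1, -1, 0, 0], [-1, 0, 0, 1, 0, -1, 0, 0], [1, -1, 0, 0, 0, 1, -1, 0], [-1, -1, 1, 0, 0, 0, 1, -1],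 [-1, 1, 1, -1, 0, 1, -1, 0], [0, -1, -1, 1, 0, 0, 0, 1]]

/-- Part of the orbit of the last fundamental functional. -/
def orbE8d : List (List ℤ) := [[0, 1, -1, 0, 0, 0, 1, -1], [0, 0, 0, -1, 1, 0, 0, 1], [0, 1, -1, 0, 0, 1, -1, 0], [0, -1, -1, 1, 0, 0, 1, -1], [-1, -1, 1, 0, 0, 1, -1, 0], [-1, 1, 1, -1, 1, -1, 0, 0], [1, -1, 0, 0, 1, -1, 0, 0], [1, 1, 0, 0, -1, 0, 0, 0], [1, -1, 0, 1, -1, 0, 0, 0], [-1, 1, 1, 0, -1, 0, 0, 0], [-1, -1, 1, 0, 1, -1, 0, 0], [0, -1, -1, 1, 0, 1, -1, 0], [0, 1, -1, 0, 1, -1, 0, 0], [0, 0, 0, 0, -1, 1, 0, 1], [0, 0, 0, -1, 1, 0, 1, -1], [0, 0, 0, 0, 0, -1, 1, 1], [0, 0, 0, 0, -1, 1, 1, -1], [0, 0, 0, -1, 1, 1, -1, 0], [0, -1, -1, 1, 1, -1, 0, 0], [0, 1, -1, 1, -1, 0, 0, 0], [-1, -1, 1, 1, -1, 0, 0, 0], [1, 0, 1, -1, 0, 0, 0, 0], [2, 0, -1, 0, 0, 0, 0, 0], [-1, 0, 2, -1, 0, 0, 0,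 0], [0, 2, 0, -1, 0, 0, 0, 0], [0, -1, -1, 2, -1, 0, 0, 0], [0, 0, 0, -1, 2, -1, 0, 0], [0, 0, 0, 0, -1, 2, -1, 0], [0, 0, 0, 0, 0, 0, -1, 2], [0, 0, 0, 0, 0, -1, 2, -1]]

/-- Part of the orbit of the last fundamental functional. -/
def orbE8e : List (List ℤ) := [[0, 0, 0, 0, 0, 1, -2, 1], [0, 0, 0, 0, 0, 0, 1, -2], [0, 0, 0, 0, 1, -2, 1, 0], [0, 0, 0, 1, -2, 1, 0, 0], [0, 1, 1, -2, 1, 0, 0, 0], [0, -2, 0, 1, 0, 0, 0, 0], [1, 0, -2, 1, 0, 0, 0, 0], [-2, 0, 1, 0, 0, 0, 0, 0], [-1, 0, -1, 1, 0, 0, 0, 0], [0, -1, 1, -1, 1, 0, 0, 0], [1, 1, -1, -1, 1, 0, 0, 0], [0, 1, 1, -1, -1, 1, 0, 0], [0, 0, 0, 1, -1, -1, 1, 0], [0, 0, 0, 0, 1, -1, -1, 1], [0, 0, 0, 0, 0, 1, -1, -1], [0, 0, 0, 0, 1, -1, 0, -1], [0, 0, 0, 1, -1, 0, -1, 1], [0, 1, 1, -1, 0, -1, 1, 0], [1, 1, -1, 0, -1, 1, 0, 0], [1, -1, -1, 0, 1, 0, 0, 0], [0,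 -1, 1, 0, -1, 1, 0, 0], [-1, 1, 0, -1, 1, 0, 0, 0], [-1, -1, 0, 0, 1, 0, 0, 0], [-1, 1, 0, 0, -1, 1, 0, 0], [1, -1, -1, 1, -1, 1, 0, 0], [0, -1, 1, 0, 0, -1, 1, 0], [1, 1, -1, 0, 0, -1, 1, 0], [0, 1, 1, -1, 0, 0, -1, 1], [0, 0, 0, 1, -1, 0, 0, -1], [0, 1, 1, -1, 0, 0, 0, -1]]

/-- Part of the orbit of the last fundamental functional. -/
def orbE8f : List (List ℤ) := [[1, 1, -1, 0, 0, 0, -1, 1], [0, -1, 1, 0, 0, 0, -1, 1], [1, 0, 0, -1, 0, 1, 0, 0], [1, -1, -1, 1, 0, -1, 1, 0], [-1, 1, 0, 0, 0, -1, 1, 0], [-1, -1, 0, 1, -1, 1, 0, 0], [-1, -1, 0, 1, 0, -1, 1, 0], [-1, 0, 1, -1, 0, 1, 0, 0], [1, 0, 0, -1, 1, -1, 1, 0], [-1, 1, 0, 0, 0, 0, -1, 1], [1, -1, -1, 1, 0, 0, -1, 1], [0, -1, 1, 0, 0, 0, 0, -1], [1, 1, -1, 0, 0, 0, 0, -1], [1, -1, -1, 1, 0, 0, 0, -1], [-1, 1, 0, 0, 0, 0, 0, -1], [1, 0, 0, 0, -1, 0, 1,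 0], [1, 0, 0, -1, 1, 0, -1, 1], [0, 0, -1, 0, 0, 1, 0, 0], [-1, 0, 1, -1, 1, -1, 1, 0], [-1, -1, 0, 1, 0, 0, -1, 1], [0, 0, -1, 0, 1, -1, 1, 0], [-1, 0, 1, -1, 1, 0, -1, 1], [-1, 0, 1, 0, -1, 0, 1, 0], [1, 0, 0, 0, -1, 1, -1, 1], [-1, -1, 0, 1, 0, 0, 0, -1], [1, 0, 0, -1, 1, 0, 0, -1], [1, 0, 0, 0, 0, -1, 0, 1], [1, 0, 0, 0, -1, 1, 0, -1], [-1, 0, 1, 0, -1, 1, -1, 1], [-1, 0, 1, -1, 1, 0, 0, -1]]

/-- Part of the orbit of the last fundamental functional. -/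
def orbE8g : List (List ℤ) := [[0, 0, -1, 1, -1, 0, 1, 0], [0, 0, -1, 0, 1, 0, -1, 1], [0, 1, 0, -1, 0, 0, 1, 0], [0, 0, -1, 0, 1, 0, 0, -1], [0, 0, -1, 1, -1, 1, -1, 1], [-1, 0, 1, 0, -1, 1, 0, -1], [-1, 0, 1, 0, 0, -1, 0, 1], [1, 0, 0, 0, 0, -1, 1, -1], [1, 0, 0, 0, 0, 0, -1, 0], [-1, 0, 1, 0, 0, -1, 1, -1], [0, 0, -1, 1, 0, -1, 0, 1], [0, 0, -1, 1, -1, 1, 0, -1], [0, -1, 0, 0, 0, 0, 1, 0], [0, 1, 0, -1, 0, 1, -1, 1], [0, -1, 0, 0, 0, 1, -1, 1], [0, 1, 0, -1, 0, 1, 0, -1], [0, 1, 0, -1, 1, -1, 0, 1], [0, 0, -1, 1, 0, -1, 1, -1], [-1, 0, 1, 0, 0, 0, -1, 0], [0, 0, -1, 1, 0, 0, -1, 0], [0, 1, 0, 0, -1, 0, 0, 1], [0, 1, 0, -1, 1, -1, 1, -1], [0, -1, 0, 0, 1, -1, 0, 1], [0, -1, 0, 0, 0, 1, 0, -1], [0, -1, 0, 0, 1, -1, 1, -1], [0, -1, 0, 1, -1, 0, 0, 1], [0, 1, 0, 0, -1, 0, 1, -1], [0, 1, 0, -1, 1, 0, -1, 0],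 [0, 1, 0, 0, -1, 1, -1, 0], [0, 0, 1, -1, 0, 0, 0, 1]]

/-- Part of the orbit of the last fundamental functional. -/
def orbE8h : List (List ℤ) := [[0, -1, 0, 1, -1, 0, 1, -1], [0, -1, 0, 0, 1, 0, -1, 0], [1, 0, -1, 0, 0, 0, 0, 1], [0, 0, 1, -1, 0, 0, 1, -1], [0, -1, 0, 1, -1, 1, -1, 0], [0, 1, 0, 0, 0, -1, 0, 0], [0, -1, 0, 1, 0, -1, 0, 0], [0, 0, 1, -1, 0, 1, -1, 0], [-1, 0, 0, 0, 0, 0, 0, 1], [1, 0, -1, 0, 0, 0, 1, -1], [-1, 0, 0, 0, 0, 0, 1, -1], [1, 0, -1, 0, 0, 1, -1, 0], [0, 0, 1, -1, 1, -1, 0, 0], [0, 0, 1, 0, -1, 0, 0, 0], [1, 0, -1, 0, 1, -1, 0, 0], [-1, 0, 0, 0, 0, 1, -1, 0], [-1, 0, 0, 0, 1, -1, 0, 0], [1, 0, -1, 1, -1, 0, 0, 0], [1, 1, 0, -1, 0, 0, 0, 0], [-1, 0, 0, 1, -1, 0, 0, 0], [-1, 1, 1, -1, 0, 0, 0, 0], [1, -1, 0, 0, 0, 0, 0, 0], [-1, -1, 1, 0, 0, 0, 0, 0], [0, 1, -1, 0, 0, 0, 0, 0], [0,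 -1, -1, 1, 0, 0, 0, 0], [0, 0, 0, -1, 1, 0, 0, 0], [0, 0, 0, 0, -1, 1, 0, 0], [0, 0, 0, 0, 0, -1, 1, 0], [0, 0, 0, 0, 0, 0, -1, 1], [0, 0, 0, 0, 0, 0, 0, -1]]

/-- The orbit of the last fundamental functional, in breadth-first order. -/
def orbE8 : List (List ℤ) :=
  orbE8a ++ (orbE8b ++ (orbE8c ++ (orbE8d ++ (orbE8e ++ (orbE8f ++ (orbE8g ++ (orbE8h)))))))

/-- A breadth-first state. -/
def stE8 (n p : ℕ) : List (List ℤ) × List (List ℤ) := (orbE8.take n, (orbE8.take n).drop p)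

theorem orbIt_add (P : Pk) (J : List ℕ) (j a b : ℕ) :
    P.orbIt J j (a + b) = (P.orbStep J)^[b] (P.orbIt J j a) := by
  induction b with
  | zero => rfl
  | succ b ih => rw [Function.iterate_succ_apply', ← ih]; rfl

theorem all_step {α : Type*} {l : List α} {f : α → Bool} {a k : ℕ} (h1 : ((l.drop a).take k).all f = true)
    (h2 : (l.drop (a + k)).all f = true) : (l.drop a).all f = true := by
  rw [← List.take_append_drop k (l.drop a), List.all_append, h1, List.drop_drop, h2]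
  rfl

theorem map_step {α β : Type*} {l : List α} {f : α → β} {a k : ℕ} {c d : List β}
    (h1 : ((l.drop a).take k).map f = c) (h2 : (l.drop (a + k)).map f = d) : (l.drop a).map f = c ++ d := by
  rw [← List.take_append_drop k (l.drop a), List.map_append, h1, List.drop_drop, h2]

theorem orb_at_0 : E8.pk.orbIt [7, 6, 5, 4, 3, 2, 1, 0] 7 0 = stE8 1 0 := by decide +kernel
theorem orb_step_0 : (E8.pk.orbStep [7, 6, 5, 4, 3, 2, 1, 0])^[5] (stE8 1 0) = stE8 6 5 := by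
  decide +kernel
theorem orb_at_5 : E8.pk.orbIt [7, 6, 5, 4, 3, 2, 1, 0] 7 5 = stE8 6 5 := by
  rw [show 5 = 0 + 5 from rfl, orbIt_add, orb_at_0, orb_step_0]
theorem orb_step_5 : (E8.pk.orbStep [7, 6, 5, 4, 3, 2, 1, 0])^[5] (stE8 6 5) = stE8 17 14 := by
  decide +kernel
theorem orb_at_10 : E8.pk.orbIt [7, 6, 5, 4, 3, 2, 1, 0] 7 10 = stE8 17 14 := by
  rw [show 10 = 5 + 5 from rfl, orbIt_add, orb_at_5, orb_step_5]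
theorem orb_step_10 : (E8.pk.orbStep [7, 6, 5, 4, 3, 2, 1, 0])^[5] (stE8 17 14) = stE8 36 32 := by
  decide +kernel
theorem orb_at_15 : E8.pk.orbIt [7, 6, 5, 4, 3, 2, 1, 0] 7 15 = stE8 36 32 := by
  rw [show 15 = 10 + 5 from rfl, orbIt_add, orb_at_10, orb_step_10]
theorem orb_step_15 : (E8.pk.orbStep [7, 6, 5, 4, 3, 2, 1, 0])^[5] (stE8 36 32) = stE8 64 58 := by
  decide +kernel
theorem orb_at_20 : E8.pk.orbIt [7, 6, 5, 4, 3, 2, 1, 0] 7 20 = stE8 64 58 := by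
  rw [show 20 = 15 + 5 from rfl, orbIt_add, orb_at_15, orb_step_15]
theorem orb_step_20 : (E8.pk.orbStep [7, 6, 5, 4, 3, 2, 1, 0])^[5] (stE8 64 58) = stE8 98 91 := by
  decide +kernel
theorem orb_at_25 : E8.pk.orbIt [7, 6, 5, 4, 3, 2, 1, 0] 7 25 = stE8 98 91 := by
  rw [show 25 = 20 + 5 from rfl, orbIt_add, orb_at_20, orb_step_20]
theorem orb_step_25 : (E8.pk.orbStep [7, 6, 5, 4, 3, 2, 1, 0])^[5] (stE8 98 91) = stE8 135 128 := by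
  decide +kernel
theorem orb_at_30 : E8.pk.orbIt [7, 6, 5, 4, 3, 2, 1, 0] 7 30 = stE8 135 128 := by
  rw [show 30 = 25 + 5 from rfl, orbIt_add, orb_at_25, orb_step_25]
theorem orb_step_30 : (E8.pk.orbStep [7, 6, 5, 4, 3, 2, 1, 0])^[5] (stE8 135 128) = stE8 170 163 := by
  decide +kernel
theorem orb_at_35 : E8.pk.orbIt [7, 6, 5, 4, 3, 2, 1, 0] 7 35 = stE8 170 163 := by
  rw [show 35 = 30 + 5 from rfl, orbIt_add, orb_at_30, orb_step_30]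
theorem orb_step_35 : (E8.pk.orbStep [7, 6, 5, 4, 3, 2, 1, 0])^[5] (stE8 170 163) = stE8 199 194 := by
  decide +kernel
theorem orb_at_40 : E8.pk.orbIt [7, 6, 5, 4, 3, 2, 1, 0] 7 40 = stE8 199 194 := by
  rw [show 40 = 35 + 5 from rfl, orbIt_add, orb_at_35, orb_step_35]
theorem orb_step_40 : (E8.pk.orbStep [7, 6, 5, 4, 3, 2, 1, 0])^[5] (stE8 199 194) = stE8 220 216 := by
  decide +kernel
theorem orb_at_45 : E8.pk.orbIt [7, 6, 5, 4, 3, 2, 1, 0] 7 45 = stE8 220 216 := by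
  rw [show 45 = 40 + 5 from rfl, orbIt_add, orb_at_40, orb_step_40]
theorem orb_step_45 : (E8.pk.orbStep [7, 6, 5, 4, 3, 2, 1, 0])^[5] (stE8 220 216) = stE8 232 230 := by
  decide +kernel
theorem orb_at_50 : E8.pk.orbIt [7, 6, 5, 4, 3, 2, 1, 0] 7 50 = stE8 232 230 := by
  rw [show 50 = 45 + 5 from rfl, orbIt_add, orb_at_45, orb_step_45]
theorem orb_step_50 : (E8.pk.orbStep [7, 6, 5, 4, 3, 2, 1, 0])^[5] (stE8 232 230) = stE8 238 237 := by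
  decide +kernel
theorem orb_at_55 : E8.pk.orbIt [7, 6, 5, 4, 3, 2, 1, 0] 7 55 = stE8 238 237 := by
  rw [show 55 = 50 + 5 from rfl, orbIt_add, orb_at_50, orb_step_50]
theorem orb_step_55 : (E8.pk.orbStep [7, 6, 5, 4, 3, 2, 1, 0])^[3] (stE8 238 237) = stE8 240 240 := by
  decide +kernel
theorem orb_at_58 : E8.pk.orbIt [7, 6, 5, 4, 3, 2, 1, 0] 7 58 = stE8 240 240 := by
  rw [show 58 = 55 + 3 from rfl, orbIt_add, orb_at_55, orb_step_55]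
theorem orb_last : stE8 240 240 = (orbE8, []) := by decide +kernel

theorem nroots_E8 : E8.pk.nroots = 240 := by decide +kernel

theorem orbit_E8 : E8.pk.orbit [7, 6, 5, 4, 3, 2, 1, 0] 7 = orbE8 := by
  have hfix : ∀ b : ℕ, (E8.pk.orbStep [7, 6, 5, 4, 3, 2, 1, 0])^[b] (orbE8, []) = (orbE8, []) := by
    intro b
    induction b with
    | zero => rfl
    | succ b ih =>
      rw [Function.iterate_succ_apply', ih]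
      simp [Pk.orbStep]
  rw [Pk.orbit, nroots_E8, show 240 = 58 + 182 from rfl, orbIt_add, orb_at_58, orb_last, hfix]

/-- Closure of the orbit at one functional. -/
def clE8 (v : List ℤ) : Bool := [7, 6, 5, 4, 3, 2, 1, 0].all fun m => orbE8.any fun w => w == E8.pk.vstep m v

theorem cl_E8_0 : ((orbE8.drop 0).take 30).all clE8 = true := by decide +kernel
theorem cl_E8_30 : ((orbE8.drop 30).take 30).all clE8 = true := by decide +kernel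
theorem cl_E8_60 : ((orbE8.drop 60).take 30).all clE8 = true := by decide +kernel
theorem cl_E8_90 : ((orbE8.drop 90).take 30).all clE8 = true := by decide +kernel
theorem cl_E8_120 : ((orbE8.drop 120).take 30).all clE8 = true := by decide +kernel
theorem cl_E8_150 : ((orbE8.drop 150).take 30).all clE8 = true := by decide +kernel
theorem cl_E8_180 : ((orbE8.drop 180).take 30).all clE8 = true := by decide +kernel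
theorem cl_E8_210 : (orbE8.drop 210).all clE8 = true := by decide +kernel
theorem cnt_E8_0 : ((orbE8.drop 0).take 30).map (E8.pk.vcnt [7, 6, 5, 4, 3, 2, 1, 0]) = [0, 1, 2, 3, 4, 5, 6, 6, 7, 7, 8, 8, 9, 9, 10, 10, 10, 11, 11, 11, 12, 12, 12, 12, 13, 13, 13, 13, 14, 14] := by decide +kernel
theorem cnt_E8_30 : ((orbE8.drop 30).take 30).map (E8.pk.vcnt [7, 6, 5, 4, 3, 2, 1, 0]) = [14, 14, 15, 15, 15, 15, 16, 16, 16, 16, 16, 17, 17, 17, 17, 17, 18, 18, 18, 18, 18, 18, 19, 19, 19, 19, 19, 19, 20, 20] := by decide +kernel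
theorem cnt_E8_60 : ((orbE8.drop 60).take 30).map (E8.pk.vcnt [7, 6, 5, 4, 3, 2, 1, 0]) = [20, 20, 20, 20, 21, 21, 21, 21, 21, 21, 22, 22, 22, 22, 22, 22, 22, 23, 23, 23, 23, 23, 23, 23, 24, 24, 24, 24, 24, 24] := by decide +kernel
theorem cnt_E8_90 : ((orbE8.drop 90).take 30).map (E8.pk.vcnt [7, 6, 5, 4, 3, 2, 1, 0]) = [24, 25, 25, 25, 25, 25, 25, 25, 26, 26, 26, 26, 26, 26, 26, 27, 27, 27, 27, 27, 27, 27, 28, 28, 28, 28, 28, 28, 28, 28] := by decide +kernel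
theorem cnt_E8_120 : ((orbE8.drop 120).take 30).map (E8.pk.vcnt [7, 6, 5, 4, 3, 2, 1, 0]) = [29, 29, 29, 29, 29, 29, 29, 29, 30, 30, 30, 30, 30, 30, 30, 31, 31, 31, 31, 31, 31, 31, 32, 32, 32, 32, 32, 32, 32, 33] := by decide +kernel
theorem cnt_E8_150 : ((orbE8.drop 150).take 30).map (E8.pk.vcnt [7, 6, 5, 4, 3, 2, 1, 0]) = [33, 33, 33, 33, 33, 33, 34, 34, 34, 34, 34, 34, 34, 35, 35, 35, 35, 35, 35, 35, 36, 36, 36, 36, 36, 36, 37, 37, 37, 37] := by decide +kernel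
theorem cnt_E8_180 : ((orbE8.drop 180).take 30).map (E8.pk.vcnt [7, 6, 5, 4, 3, 2, 1, 0]) = [37, 37, 38, 38, 38, 38, 38, 38, 39, 39, 39, 39, 39, 39, 40, 40, 40, 40, 40, 41, 41, 41, 41, 41, 42, 42, 42, 42, 43, 43] := by decide +kernel
theorem cnt_E8_210 : (orbE8.drop 210).map (E8.pk.vcnt [7, 6, 5, 4, 3, 2, 1, 0]) = [43, 43, 44, 44, 44, 44, 45, 45, 45, 45, 46, 46, 46, 47, 47, 47, 48, 48, 49, 49, 50, 50, 51, 51, 52, 53, 54, 55, 56, 57] := by decide +kernel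
theorem cl_E8 : orbE8.all clE8 = true :=
  (all_step (a := 0) (k := 30) cl_E8_0 (all_step (a := 30) (k := 30) cl_E8_30 (all_step (a := 60) (k := 30) cl_E8_60 (all_step (a := 90) (k := 30) cl_E8_90 (all_step (a := 120) (k := 30) cl_E8_120 (all_step (a := 150) (k := 30) cl_E8_150 (all_step (a := 180) (k := 30) cl_E8_180 cl_E8_210)))))))

theorem cnt_E8 : orbE8.map (E8.pk.vcnt [7, 6, 5, 4, 3, 2, 1, 0]) = [0, 1, 2, 3, 4, 5, 6, 6, 7, 7, 8, 8, 9, 9, 10, 10, 10, 11, 11, 11, 12, 12, 12, 12, 13, 13, 13, 13, 14, 14] ++ ([14, 14, 15, 15, 15, 15, 16, 16, 16, 16, 16, 17, 17, 17, 17, 17, 18, 18, 18, 18, 18, 18, 19, 19, 19, 19, 19, 19, 20, 20] ++ ([20, 20, 20, 20, 21, 21, 21, 21, 21, 21, 22, 22, 22, 22, 22, 22, 22, 23, 23, 23, 23, 23, 23, 23, 24, 24, 24, 24, 24, 24] ++ ([24, 25, 25, 25, 25, 25, 25, 25, 26, 26, 26, 26, 26,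 26, 26, 27, 27, 27, 27, 27, 27, 27, 28, 28, 28, 28, 28, 28, 28, 28] ++ ([29, 29, 29, 29, 29, 29, 29, 29, 30, 30, 30, 30, 30, 30, 30, 31, 31, 31, 31, 31, 31, 31, 32, 32, 32, 32, 32, 32, 32, 33] ++ ([33, 33, 33, 33, 33, 33, 34, 34, 34, 34, 34, 34, 34, 35, 35, 35, 35, 35, 35, 35, 36, 36, 36, 36, 36, 36, 37, 37, 37, 37] ++ ([37, 37, 38, 38, 38, 38, 38, 38, 39, 39, 39, 39, 39, 39, 40, 40, 40, 40, 40, 41, 41, 41, 41, 41, 42, 42, 42, 42, 43, 43] ++ ([43, 43, 44, 44, 44, 44, 45, 45, 45, 45, 46, 46, 46, 47, 47, 47, 48, 48, 49, 49, 50, 50, 51, 51, 52, 53, 54, 55, 56, 57]))))))) :=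
  (map_step (a := 0) (k := 30) cnt_E8_0 (map_step (a := 30) (k := 30) cnt_E8_30 (map_step (a := 60) (k := 30) cnt_E8_60 (map_step (a := 90) (k := 30) cnt_E8_90 (map_step (a := 120) (k := 30) cnt_E8_120 (map_step (a := 150) (k := 30) cnt_E8_150 (map_step (a := 180) (k := 30) cnt_E8_180 cnt_E8_210)))))))

theorem nodup_E8 : decide orbE8.Nodup = true := by decide +kernel

theorem ckOrb_E8_sub : E8.pk.ckOrb [6, 5, 4, 3, 2, 1, 0] = true := by decide +kernel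

theorem ckOrb_E8 : E8.pk.ckOrb [7, 6, 5, 4, 3, 2, 1, 0] = true := by
  have h1 : (Nat.blt 7 E8.pk.rank && (!([6, 5, 4, 3, 2, 1, 0].any fun i => Nat.beq i 7))) = true := by decide +kernel
  have h2 := cl_E8
  unfold clE8 at h2
  rw [Pk.ckOrb]
  simp only [orbit_E8]
  rw [h1, h2, nodup_E8, ckOrb_E8_sub]
  rfl

theorem poinP_E8_num : pmul (psum ([0, 1, 2, 3, 4, 5, 6, 6, 7, 7, 8, 8, 9, 9, 10, 10, 10, 11, 11, 11, 12, 12, 12, 12, 13, 13, 13, 13, 14, 14] ++ ([14, 14, 15, 15, 15, 15, 16, 16, 16, 16, 16, 17, 17, 17, 17, 17, 18, 18, 18, 18, 18, 18, 19, 19, 19, 19, 19, 19, 20, 20] ++ ([20, 20, 20, 20, 21, 21, 21, 21, 21, 21, 22, 22, 22, 22, 22, 22, 22, 23, 23, 23, 23, 23, 23, 23, 24, 24, 24, 24, 24, 24] ++ ([24, 25, 25, 25, 25, 25, 25, 25, 26, 26, 26, 26, 26, 26, 26, 27, 27, 27, 27, 27, 27, 27, 28, 28, 28, 28, 28, 28,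 28, 28] ++ ([29, 29, 29, 29, 29, 29, 29, 29, 30, 30, 30, 30, 30, 30, 30, 31, 31, 31, 31, 31, 31, 31, 32, 32, 32, 32, 32, 32, 32, 33] ++ ([33, 33, 33, 33, 33, 33, 34, 34, 34, 34, 34, 34, 34, 35, 35, 35, 35, 35, 35, 35, 36, 36, 36, 36, 36, 36, 37, 37, 37, 37] ++ ([37, 37, 38, 38, 38, 38, 38, 38, 39, 39, 39, 39, 39, 39, 40, 40, 40, 40, 40, 41, 41, 41, 41, 41, 42, 42, 42, 42, 43, 43] ++ ([43, 43, 44, 44, 44, 44, 45, 45, 45, 45, 46, 46, 46, 47, 47, 47, 48, 48, 49, 49, 50, 50, 51, 51, 52, 53, 54, 55, 56, 57]))))))))) (E8.pk.poinP [6, 5, 4, 3, 2, 1, 0]) =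
    pgeom [2, 8, 12, 14, 18, 20, 24, 30] := by decide +kernel

theorem poinP_E8 : E8.pk.poinP [7, 6, 5, 4, 3, 2, 1, 0] = pgeom [2, 8, 12, 14, 18, 20, 24, 30] := by
  rw [Pk.poinP, orbit_E8, cnt_E8, poinP_E8_num]

end Cfsg.Agent.Chev
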