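import Cfsg.Agent.Lib.Chev.Normal

/-! Groups of closed sets of positive roots. -/

set_option autoImplicit false

namespace Cfsg.Agent.Chev

open Cfsg.Lie

/-- A closed set of positive roots. -/
def ClosedP (P : Pk) (S : ℕ → Prop) : Prop :=
  (∀ r, S r → P.isPos r = true) ∧ ∀ r s, S r → S s → ∀ k < P.len r s, S (P.tgt r s k)

theorem ClosedP.inter {P : Pk} {S T : ℕ → Prop} (hS : ClosedP P S) (hT : ClosedP P T) :
    ClosedP P (fun r => S r ∧ T r) :=
  ⟨fun r hr => hS.1 r hr.1, fun r s hr hs k hk => ⟨hS.2 r s hr.1 hs.1 k hk, hT.2 r s hr.2 hs.2 k hk⟩⟩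

namespace Ok

variable {D : ChevalleyDatum} {P : Pk} {F : Type*} [Field F] (h : Ok D P)
include h

/-- The coordinates of an element of a closed set vanish outside it. -/
theorem exists_supported (hC : P.ckComm = true) {S : ℕ → Prop} (hS : ClosedP P S) {g : GL D.Idx F}
    (hg : g ∈ h.genR S) :
    ∃ t : ℕ → F, (∀ r, ¬ S r → t r = 0) ∧ g = ((posL P).map fun r => h.xG r (t r)).prod := by
  classical
  set L := (posL P).filter fun r => decide (S r) with hL
  have hmem : ∀ r, r ∈ L ↔ S r := fun r => by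
    simp only [hL, List.mem_filter, mem_posL, decide_eq_true_eq]
    exact ⟨fun e => e.2, fun e => ⟨hS.1 r e, e⟩⟩
  obtain ⟨t, ht⟩ := h.exists_prod hC L (posL_sorted.filter _) (fun r hr => hS.1 r ((hmem r).1 hr))
    (fun r hr s hs k hk => (hmem _).2 (hS.2 r s ((hmem r).1 hr) ((hmem s).1 hs) k hk)) g
    (h.genR_mono (fun r hr => (hmem r).2 hr) hg)
  refine ⟨fun r => if S r then t r else 0, fun r hr => if_neg hr, ht.trans ?_⟩
  have key : ∀ M : List ℕ, ((M.filter fun r => decide (S r)).map fun r => h.xG r (t r)).prod =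
      (M.map fun r => h.xG r (if S r then t r else 0)).prod := by
    intro M
    induction M with
    | nil => rfl
    | cons a M ih =>
      by_cases ha : S a
      · simp [List.filter_cons, ha, ih]
      · simp [List.filter_cons, ha, ih, h.xG_zero]
  exact key _

/-- Two closed sets of positive roots meet in the group of the common roots. -/
theorem genR_inter (hC : P.ckComm = true) {S T : ℕ → Prop} (hS : ClosedP P S) (hT : ClosedP P T) {g : GL D.Idx F}
    (hgS : g ∈ h.genR S) (hgT : g ∈ h.genR T) : g ∈ h.genR (fun r => S r ∧ T r) := by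
  obtain ⟨t, ht0, ht⟩ := h.exists_supported hC hS hgS
  obtain ⟨u, hu0, hu⟩ := h.exists_supported hC hT hgT
  have e := h.prod_unique _ posL_sorted (fun r hr => mem_posL.1 hr) t u (ht.symm.trans hu)
  rw [ht]
  refine list_prod_mem fun x hx => ?_
  obtain ⟨r, hr, rfl⟩ := List.mem_map.1 hx
  by_cases hne : t r = 0
  · rw [hne, h.xG_zero]; exact one_mem _
  · exact h.xG_mem_genR ⟨by_contra fun e' => hne (ht0 r e'), by_contra fun e' => hne ((e r hr).trans (hu0 r e'))⟩ _

/-- A Weyl representative carries the group of a set of roots to that of its image. -/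
theorem nW_genR {l : List ℕ} (hl : WordOk P l) {S T : ℕ → Prop} (hS : ∀ r, S r → r < P.nroots)
    (hT : ∀ r, S r → T (wl P l r)) {z : GL D.Idx F} (hz : z ∈ h.genR S) :
    h.nW l * z * (h.nW l)⁻¹ ∈ h.genR T := by
  have : h.genR (F := F) S ≤ (h.genR T).comap (MulAut.conj (h.nW l)).toMonoidHom := by
    refine h.genR_le fun r hr t => ?_
    obtain ⟨e, -, hx⟩ := h.nW_xG (F := F) l hl r (hS r hr)
    show h.nW l * h.xG r t * (h.nW l)⁻¹ ∈ h.genR T
    rw [(hx t).1]
    exact h.xG_mem_genR (hT r hr) _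
  exact this hz

/-- A positive root with positive image. -/
theorem closedP_pos_image {l : List ℕ} (hl : WordOk P l) :
    ClosedP P (fun r => P.isPos r = true ∧ P.isPos (wl P l r) = true) := by
  refine ⟨fun r hr => hr.1, fun r s hr hs k hk => ?_⟩
  have hrn := (P.isPos_iff.1 hr.1).2
  have hsn := (P.isPos_iff.1 hs.1).2
  have htp := (h.pos_tgt hr.1 hs.1 hk).1
  have htn := h.tgt_lt hrn hsn hk
  refine ⟨htp, ?_⟩
  obtain ⟨j, hj, hjp⟩ := h.exists_pos_coord hs.2
  refine h.pos_of_rv (h.wl_lt l hl _ htn) hj ?_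
  rw [h.rv_wl l hl _ htn j hj]
  have hr0 := (h.rv_sign (h.wl_lt l hl r hrn) hj).1 hr.2
  rw [h.rv_wl l hl r hrn j hj] at hr0
  rw [h.rv_wl l hl s hsn j hj] at hjp
  have : ∀ i ∈ Finset.range P.rank, P.rv (P.tgt r s k) i * P.rv (wl P l (P.sim i)) j =
      ((k : ℤ) + 1) * (P.rv r i * P.rv (wl P l (P.sim i)) j) + P.rv s i * P.rv (wl P l (P.sim i)) j := fun i hi => by
    rw [h.rv_additive hrn hsn hk (Finset.mem_range.1 hi)]; ring
  rw [Finset.sum_congr rfl this, Finset.sum_add_distrib, ← Finset.mul_sum]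
  positivity

end Ok

end Cfsg.Agent.Chev
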