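import Cfsg.Agent.Lib.Chev.Weyl
import Mathlib.Analysis.Real.Sqrt
import Mathlib.Topology.Algebra.Ring.Real

/-! Real coweights and the invariant quadratic form given by the roots. -/

set_option autoImplicit false

namespace Cfsg.Agent.Chev

open Cfsg.Lie

/-- The value of a root at a coweight. -/
noncomputable def cval (P : Pk) (v : Fin P.rank → ℝ) (r : ℕ) : ℝ := ∑ i : Fin P.rank, (P.rv r i : ℝ) * v i

/-- A coweight transported by a word. -/
noncomputable def cwl (P : Pk) (l : List ℕ) (v : Fin P.rank → ℝ) : Fin P.rank → ℝ :=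
  fun k => cval P v (wl P l (P.sim k))

/-- The sum of the squares of the root values. -/
noncomputable def qf (P : Pk) (v : Fin P.rank → ℝ) : ℝ := ∑ r ∈ Finset.range P.nroots, cval P v r ^ 2

theorem cval_comb (P : Pk) (a b : ℝ) (v w : Fin P.rank → ℝ) (r : ℕ) :
    cval P (a • v + b • w) r = a * cval P v r + b * cval P w r := by
  simp only [cval, Finset.mul_sum, ← Finset.sum_add_distrib, Pi.add_apply, Pi.smul_apply, smul_eq_mul]
  exact Finset.sum_congr rfl fun i _ => by ring

theorem qf_parallelogram (P : Pk) (v w : Fin P.rank → ℝ) :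
    qf P ((1 / 2 : ℝ) • v + (1 / 2 : ℝ) • w) + qf P ((1 / 2 : ℝ) • v + (-(1 / 2) : ℝ) • w) =
      (qf P v + qf P w) / 2 := by
  simp only [qf, cval_comb, ← Finset.sum_add_distrib, Finset.sum_div]
  exact Finset.sum_congr rfl fun r _ => by ring

namespace Ok

variable {D : ChevalleyDatum} {P : Pk} (h : Ok D P)
include h

theorem cval_sim (v : Fin P.rank → ℝ) (k : Fin P.rank) : cval P v (P.sim k) = v k := by
  rw [cval, Finset.sum_eq_single k]
  · rw [h.rv_sim k.isLt k.isLt, if_pos rfl, Int.cast_one, one_mul]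
  · intro i _ hne
    rw [h.rv_sim k.isLt i.isLt, if_neg (fun e => hne (Fin.ext e.symm)), Int.cast_zero, zero_mul]
  · simp

theorem cval_cwl {l : List ℕ} (hl : WordOk P l) (v : Fin P.rank → ℝ) {r : ℕ} (hr : r < P.nroots) :
    cval P (cwl P l v) r = cval P v (wl P l r) := by
  simp only [cval, cwl, Finset.mul_sum]
  rw [Finset.sum_comm]
  refine Finset.sum_congr rfl fun j _ => ?_
  rw [h.rv_wl l hl r hr j j.isLt, Finset.sum_range fun k => P.rv r k * P.rv (wl P l (P.sim k)) (j : ℕ),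
    Int.cast_sum, Finset.sum_mul]
  exact Finset.sum_congr rfl fun k _ => by push_cast; ring

theorem qf_cwl {l : List ℕ} (hl : WordOk P l) (v : Fin P.rank → ℝ) : qf P (cwl P l v) = qf P v := by
  unfold qf
  refine Finset.sum_nbij' (wl P l) (wl P l.reverse) ?_ ?_ ?_ ?_ ?_
  · intro r hr; exact Finset.mem_range.2 (h.wl_lt l hl r (Finset.mem_range.1 hr))
  · intro r hr
    exact Finset.mem_range.2 (h.wl_lt _ (fun x hx => hl x (List.mem_reverse.1 hx)) r (Finset.mem_range.1 hr))
  · intro r hr; exact h.wl_reverse l hl r (Finset.mem_range.1 hr)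
  · intro r hr; exact h.wl_reverse' hl (Finset.mem_range.1 hr)
  · intro r hr; rw [h.cval_cwl hl v (Finset.mem_range.1 hr)]

theorem sq_le_qf (v : Fin P.rank → ℝ) (k : Fin P.rank) : v k ^ 2 ≤ qf P v := by
  have := Finset.single_le_sum (f := fun r => cval P v r ^ 2) (fun r _ => sq_nonneg _)
    (Finset.mem_range.2 (h.sim_lt k.isLt))
  simpa only [h.cval_sim, qf] using this

theorem qf_eq_zero {v : Fin P.rank → ℝ} (e : qf P v = 0) : v = 0 := funext fun k => by
  have := h.sq_le_qf v k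
  rw [e] at this
  exact pow_eq_zero_iff two_ne_zero |>.1 (le_antisymm this (sq_nonneg _))

theorem cval_nonneg {v : Fin P.rank → ℝ} (hv : ∀ k, 0 ≤ v k) {r : ℕ} (hr : P.isPos r = true) :
    0 ≤ cval P v r :=
  Finset.sum_nonneg fun i _ => mul_nonneg (by exact_mod_cast (h.rv_sign (P.isPos_iff.1 hr).2 i.isLt).1 hr) (hv i)

theorem cval_nonpos {v : Fin P.rank → ℝ} (hv : ∀ k, 0 ≤ v k) {r : ℕ} (hr : r < P.nroots)
    (hn : P.isPos r = false) : cval P v r ≤ 0 :=
  Finset.sum_nonpos fun i _ => mul_nonpos_of_nonpos_of_nonneg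
    (by exact_mod_cast (h.rv_sign hr i.isLt).2 hn) (hv i)

theorem cval_ng (v : Fin P.rank → ℝ) {r : ℕ} (hr : r < P.nroots) : cval P v (P.ng r) = -cval P v r := by
  simp only [cval, ← Finset.sum_neg_distrib]
  exact Finset.sum_congr rfl fun i _ => by rw [h.rv_ng hr i.isLt]; push_cast; ring

theorem cval_tgt (v : Fin P.rank → ℝ) {r s k : ℕ} (hr : r < P.nroots) (hs : s < P.nroots) (hk : k < P.len r s) :
    cval P v (P.tgt r s k) = ((k : ℝ) + 1) * cval P v r + cval P v s := by
  simp only [cval, Finset.mul_sum, ← Finset.sum_add_distrib]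
  exact Finset.sum_congr rfl fun i _ => by rw [h.rv_additive hr hs hk i.isLt]; push_cast; ring

/-- Every coweight is transported into the dominant chamber by some word. -/
theorem exists_dominant (v : Fin P.rank → ℝ) : ∃ l, WordOk P l ∧ ∀ k, 0 ≤ cwl P l v k := by
  classical
  let pos := (Finset.range P.nroots).filter fun r => P.isPos r = true
  let W : Finset (Fin P.nroots → Fin P.nroots) :=
    Finset.univ.filter fun f => ∃ l, WordOk P l ∧ ∀ r : Fin P.nroots, (f r : ℕ) = wl P l r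
  let sc : (Fin P.nroots → Fin P.nroots) → ℝ := fun f =>
    ∑ r ∈ Finset.univ.filter (fun r : Fin P.nroots => P.isPos r = true), cval P v (f r)
  have hmem : ∀ l, ∀ hl : WordOk P l, (fun r : Fin P.nroots => (⟨wl P l r, h.wl_lt l hl r r.isLt⟩ : Fin P.nroots)) ∈ W :=
    fun l hl => Finset.mem_filter.2 ⟨Finset.mem_univ _, l, hl, fun r => rfl⟩
  obtain ⟨f, hf, hmax⟩ := W.exists_max_image sc ⟨_, hmem [] fun _ hx => absurd hx List.not_mem_nil⟩
  obtain ⟨l, hl, hfl⟩ := (Finset.mem_filter.1 hf).2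
  refine ⟨l, hl, fun k => ?_⟩
  by_contra hk
  push_neg at hk
  set ν := cwl P l v
  have hlk : WordOk P (l ++ [(k : ℕ)]) := fun x hx => by
    rcases List.mem_append.1 hx with e | e
    · exact hl x e
    · simp at e; exact e ▸ k.isLt
  have hle := hmax _ (hmem _ hlk)
  let σ : Fin P.nroots → Fin P.nroots := fun r => ⟨P.w k r, h.w_lt k.isLt r.isLt⟩
  have hs : (⟨P.sim k, h.sim_lt k.isLt⟩ : Fin P.nroots) ∈ Finset.univ.filter (fun r : Fin P.nroots => P.isPos r = true) :=
    Finset.mem_filter.2 ⟨Finset.mem_univ _, h.sim_pos k.isLt⟩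
  have e1 : sc f = ∑ r ∈ Finset.univ.filter (fun r : Fin P.nroots => P.isPos r = true), cval P ν r :=
    Finset.sum_congr rfl fun r _ => by rw [hfl, h.cval_cwl hl v r.isLt]
  have e2 : sc (fun r => ⟨wl P (l ++ [(k : ℕ)]) r, h.wl_lt _ hlk r r.isLt⟩) =
      ∑ r ∈ Finset.univ.filter (fun r : Fin P.nroots => P.isPos r = true), cval P ν (σ r) :=
    Finset.sum_congr rfl fun r _ => by
      show cval P v (wl P (l ++ [(k : ℕ)]) r) = _
      rw [wl_append, h.cval_cwl hl v (h.w_lt k.isLt r.isLt)]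
      rfl
  rw [e1, e2, ← Finset.add_sum_erase _ _ hs, ← Finset.add_sum_erase _ _ hs] at hle
  have hstep : ∀ r : Fin P.nroots, r ∈ (Finset.univ.filter (fun r : Fin P.nroots => P.isPos r = true)).erase
      ⟨P.sim k, h.sim_lt k.isLt⟩ → σ r ∈ (Finset.univ.filter (fun r : Fin P.nroots => P.isPos r = true)).erase
      ⟨P.sim k, h.sim_lt k.isLt⟩ := by
    intro r hr
    obtain ⟨hne, hr⟩ := Finset.mem_erase.1 hr
    have hp := (Finset.mem_filter.1 hr).2
    rcases (h.w_spec k.isLt r.isLt).2.2.2.2.2.2.1 with e | e | e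
    · exact absurd (Fin.ext e) hne
    · rw [e, h.ng_pos_iff (h.sim_lt k.isLt), h.sim_pos k.isLt] at hp; simp at hp
    · refine Finset.mem_erase.2 ⟨fun e' => ?_, Finset.mem_filter.2 ⟨Finset.mem_univ _, e ▸ hp⟩⟩
      have h2 : (r : ℕ) = P.ng (P.sim k) := by
        rw [← h.w_w k.isLt r.isLt, show P.w k r = P.sim k from congrArg Fin.val e', h.w_sim k.isLt]
      rw [h2, h.ng_pos_iff (h.sim_lt k.isLt), h.sim_pos k.isLt] at hp; simp at hp
  have hσσ : ∀ r, σ (σ r) = r := fun r => Fin.ext (h.w_w k.isLt r.isLt)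
  rw [Finset.sum_nbij' (t := (Finset.univ.filter (fun r : Fin P.nroots => P.isPos r = true)).erase
      ⟨P.sim k, h.sim_lt k.isLt⟩) (g := fun r : Fin P.nroots => cval P ν r) σ σ hstep hstep (fun r _ => hσσ r)
      (fun r _ => hσσ r) (fun r _ => rfl)] at hle
  have e3 : cval P ν (σ ⟨P.sim k, h.sim_lt k.isLt⟩) = -ν k := by
    show cval P ν (P.w k (P.sim k)) = _
    rw [h.w_sim k.isLt, h.cval_ng ν (h.sim_lt k.isLt), h.cval_sim]
  rw [e3] at hle
  simp only [h.cval_sim] at hle
  linarith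

end Ok

end Cfsg.Agent.Chev
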