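import Cfsg.Agent.Lib.Chev.Parabolic
import Cfsg.Agent.Lib.Chev.RootSets
import Cfsg.Agent.Lib.Chev.Coweight
import Mathlib.Topology.MetricSpace.ProperSpace
import Mathlib.Topology.Order.Compact
import Mathlib.Analysis.Normed.Group.Constructions

/-!
The theorem of Borel and Tits for finite Chevalley groups, by the optimal coweight: two optimal pairs share an
apartment, and the midpoint of their coweights is admissible.
-/

set_option autoImplicit false

namespace Cfsg.Agent.Chev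

open Cfsg.Lie

/-- The roots of value at least one. -/
def SS (P : Pk) (v : Fin P.rank → ℝ) (r : ℕ) : Prop := r < P.nroots ∧ 1 ≤ cval P v r

/-- The simple roots vanishing on a coweight. -/
def zeroJ (P : Pk) (v : Fin P.rank → ℝ) : Set ℕ := {i | ∃ hi : i < P.rank, v ⟨i, hi⟩ = 0}

namespace Ok

variable {D : ChevalleyDatum} {P : Pk} {F : Type*} [Field F] (h : Ok D P)
include h

theorem SS_pos {v : Fin P.rank → ℝ} (hv : ∀ k, 0 ≤ v k) {r : ℕ} (hr : SS P v r) : P.isPos r = true := by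
  by_contra e
  have := h.cval_nonpos hv hr.1 (by simpa using e)
  linarith [hr.2]

theorem SS_closed {v : Fin P.rank → ℝ} (hv : ∀ k, 0 ≤ v k) : ClosedP P (SS P v) := by
  refine ⟨fun r hr => h.SS_pos hv hr, fun r s hr hs k hk => ⟨h.tgt_lt hr.1 hs.1 hk, ?_⟩⟩
  rw [h.cval_tgt v hr.1 hs.1 hk]
  nlinarith [hr.2, hs.2, Nat.cast_nonneg (α := ℝ) k]

theorem borel_normalizes_SS (hC : P.ckComm = true) {v : Fin P.rank → ℝ} (hv : ∀ k, 0 ≤ v k) :
    D.borelSubgroup F ≤ Subgroup.normalizer (h.genR (F := F) (SS P v) : Set (GL D.Idx F)) := by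
  refine sup_le (h.posUnipotent_le fun r hr t => ?_) fun g hg => ?_
  · have hrn := (P.isPos_iff.1 hr).2
    have hr0 := h.cval_nonneg hv hr
    refine h.genR_normalizer hC (fun s hs => hs.1) hrn (fun s hs => Or.inr ⟨?_, fun c hc => ?_⟩) t
    · intro e
      have := h.SS_pos hv hs
      rw [e, h.ng_pos_iff hrn, hr] at this
      exact absurd this (by simp)
    · refine h.cterms_ind (T := SS P v) hrn hs.1 ?_ ?_ ?_ ?_ c hc
      · intro k hk
        refine ⟨h.tgt_lt hrn hs.1 hk, ?_⟩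
        rw [h.cval_tgt v hrn hs.1 hk]
        nlinarith [hs.2, Nat.cast_nonneg (α := ℝ) k]
      · intro k hk
        refine ⟨h.tgt_lt hs.1 hrn hk, ?_⟩
        rw [h.cval_tgt v hs.1 hrn hk]
        nlinarith [hs.2, Nat.cast_nonneg (α := ℝ) k]
      · intro a ha hT k hk
        refine ⟨h.tgt_lt ha hs.1 hk, ?_⟩
        rw [h.cval_tgt v ha hs.1 hk]
        nlinarith [hs.2, hT.2, Nat.cast_nonneg (α := ℝ) k]
      · intro a ha hT k hk
        refine ⟨h.tgt_lt ha hrn hk, ?_⟩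
        rw [h.cval_tgt v ha hrn hk]
        nlinarith [hT.2, Nat.cast_nonneg (α := ℝ) k]
  · obtain ⟨c, rfl⟩ := h.mem_diagonal_iff.1 hg
    refine mem_normalizer_closure ?_ ?_ <;> rintro _ ⟨r, t, hr, rfl⟩
    · rw [h.hHom_xG c hr.1]; exact h.xG_mem_genR hr _
    · have := h.hHom_xG (F := F) c⁻¹ hr.1 t
      rw [map_inv, inv_inv] at this
      rw [this]; exact h.xG_mem_genR hr _

theorem nG_mem_parabolicSubgroup {J : Set ℕ} {i : ℕ} (hiJ : i ∈ J) (hi : i < P.rank) :
    h.nG (F := F) i ∈ D.parabolicSubgroup F J :=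
  Subgroup.mem_sup_right (Subgroup.subset_closure
    ⟨i, hiJ, h.rank ▸ hi, by rw [h.simple_eq hi]; exact h.coe_nt (h.sim_lt hi) 1⟩)

/-- Two dominant coweights in one orbit are equal, and the transporter lies in their parabolic subgroup. -/
theorem dominant_unique {v w : Fin P.rank → ℝ} (hv : ∀ k, 0 ≤ v k) (hw : ∀ k, 0 ≤ w k) :
    ∀ (n : ℕ) (l : List ℕ), l.length ≤ n → WordOk P l →
      (∀ r < P.nroots, cval P v (wl P l r) = cval P w r) →
      v = w ∧ h.nW (F := F) l ∈ D.parabolicSubgroup F (zeroJ P w) := by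
  have hdiag : ∀ (J : Set ℕ) (d : GL D.Idx F), d ∈ D.diagonalSubgroup F → d ∈ D.parabolicSubgroup F J :=
    fun J d hd => Subgroup.mem_sup_left (Subgroup.mem_sup_right hd)
  intro n
  induction n with
  | zero =>
    intro l hl hok he
    rw [List.length_eq_zero_iff.1 (Nat.le_zero.1 hl)] at he ⊢
    refine ⟨funext fun k => ?_, by rw [h.nW_nil]; exact one_mem _⟩
    rw [← h.cval_sim v k, ← h.cval_sim w k]
    exact he _ (h.sim_lt k.isLt)
  | succ n ih =>
    intro l hl hok he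
    by_cases hall : ∀ i < P.rank, P.isPos (wl P l (P.sim i)) = true
    · have hid := fun r hr => h.wl_eq_id l.length l le_rfl hok hall r hr
      refine ⟨funext fun k => ?_, hdiag _ _ (h.nW_mem_diagonal hok hid)⟩
      have := he _ (h.sim_lt k.isLt)
      rwa [hid _ (h.sim_lt k.isLt), h.cval_sim, h.cval_sim] at this
    · push_neg at hall
      obtain ⟨i, hi, hneg⟩ := hall
      have hneg' : P.isPos (wl P l (P.sim i)) = false := by simpa using hneg
      have hwi : w ⟨i, hi⟩ = 0 := by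
        have h1 := he _ (h.sim_lt hi)
        rw [h.cval_sim w ⟨i, hi⟩] at h1
        have h2 := h.cval_nonpos hv (h.wl_lt l hok _ (h.sim_lt hi)) hneg'
        exact le_antisymm (h1 ▸ h2) (hw _)
      obtain ⟨a, j, b, e, ⟨d, hd, hnW⟩, hwl⟩ := h.nW_shorten (F := F) hok hi hneg'
      have hab : WordOk P (a ++ b) := fun x hx => hok x (by rw [e]; simp at hx ⊢; tauto)
      have hlen : (a ++ b).length ≤ n := by rw [e] at hl; simp at hl ⊢; omega
      have hwval : ∀ r < P.nroots, cval P w (P.w i r) = cval P w r := by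
        intro r hr
        simp only [cval]
        refine Finset.sum_congr rfl fun m _ => ?_
        rw [((h.w_spec hi hr).2.2.2.2.2.1 m m.isLt).1]
        split_ifs with hm
        · have : m = ⟨i, hi⟩ := Fin.ext hm
          rw [this, hwi, mul_zero, mul_zero]
        · rw [sub_zero]
      obtain ⟨hvw, hmem⟩ := ih (a ++ b) hlen hab fun r hr => by
        rw [← hwl r hr, wl_append, he _ (h.wl_lt [i] (fun x hx => by simp at hx; exact hx ▸ hi) r hr)]
        exact hwval r hr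
      refine ⟨hvw, ?_⟩
      have h3 : h.nW (F := F) l = h.nW (a ++ b) * d * (h.nG i)⁻¹ := by
        rw [← hnW, h.nW_append, h.nW_cons, h.nW_nil, mul_one, mul_inv_cancel_right]
      rw [h3]
      exact mul_mem (mul_mem hmem (hdiag _ _ hd)) (inv_mem (h.nG_mem_parabolicSubgroup ⟨hi, hwi⟩ hi))

variable (V : Subgroup (GL D.Idx F))

/-- An admissible pair. -/
def Feas (g : GL D.Idx F) (v : Fin P.rank → ℝ) : Prop :=
  g ∈ D.group F ∧ (∀ k, 0 ≤ v k) ∧ ∀ x ∈ V, g⁻¹ * x * g ∈ h.genR (SS P v)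

theorem feas_borel (hC : P.ckComm = true) {g b : GL D.Idx F} {v : Fin P.rank → ℝ} (hb : b ∈ D.borelSubgroup F)
    (hf : h.Feas V g v) : h.Feas V (g * b) v := by
  refine ⟨mul_mem hf.1 (h.borel_le_group hb), hf.2.1, fun x hx => ?_⟩
  have := (Subgroup.mem_normalizer_iff.1 (h.borel_normalizes_SS hC hf.2.1 (inv_mem hb)) _).1 (hf.2.2 x hx)
  rw [show (g * b)⁻¹ * x * (g * b) = b⁻¹ * (g⁻¹ * x * g) * b⁻¹⁻¹ by group]
  exact this

theorem optimal_unique (hC : P.ckComm = true) {g g₁ : GL D.Idx F} {v v₁ : Fin P.rank → ℝ}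
    (hf : h.Feas V g v) (hf₁ : h.Feas V g₁ v₁) (hmin : ∀ x u, h.Feas V x u → qf P v ≤ qf P u)
    (heq : qf P v₁ = qf P v) : v = v₁ ∧ g⁻¹ * g₁ ∈ D.parabolicSubgroup F (zeroJ P v₁) := by
  obtain ⟨b, hb, l, hl, u, hu, e⟩ := h.bruhat_exists hC (mul_mem (inv_mem hf.1) hf₁.1)
  have huB : u ∈ D.borelSubgroup F := Subgroup.mem_sup_left (h.negS_le_pos l hu)
  have hl' : WordOk P l.reverse := fun x hx => hl x (List.mem_reverse.1 hx)
  have ha := h.feas_borel V hC hb hf
  have hc := h.feas_borel V hC (inv_mem huB) hf₁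
  have egc : g₁ * u⁻¹ = g * b * h.nW l := by
    rw [show g₁ = g * (g⁻¹ * g₁) by group, e]; group
  set v' := cwl P l.reverse v₁
  set ν := (1 / 2 : ℝ) • v + (1 / 2 : ℝ) • v'
  have hkey : ∀ x ∈ V, (g * b)⁻¹ * x * (g * b) ∈ h.genR (SS P ν) := by
    intro x hx
    set y := (g * b)⁻¹ * x * (g * b) with hy
    have h1 : y ∈ h.genR (SS P v) := ha.2.2 x hx
    set z := (g₁ * u⁻¹)⁻¹ * x * (g₁ * u⁻¹) with hz
    have h2 : z ∈ h.genR (SS P v₁) := hc.2.2 x hx
    have hyz : h.nW l * z * (h.nW l)⁻¹ = y := by rw [hz, hy, egc]; group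
    have hle : ∀ w : Fin P.rank → ℝ, (∀ k, 0 ≤ w k) → h.genR (F := F) (SS P w) ≤ D.posUnipotent F := fun w hw =>
      h.genR_le fun r hr t => h.xG_mem_pos (h.SS_pos hw hr) t
    have hzA := h.pos_part_of_conj hC hl (hle v₁ hc.2.1 h2) (by rw [hyz]; exact hle v ha.2.1 h1)
    have h3 := h.genR_inter hC (h.closedP_pos_image hl) (h.SS_closed hc.2.1) hzA h2
    have h4 : y ∈ h.genR (fun s => (P.isPos s = true ∧ P.isPos (wl P l.reverse s) = true) ∧ SS P v' s) := by
      rw [← hyz]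
      refine h.nW_genR hl (fun r hr => hr.2.1) (fun r hr => ?_) h3
      have hrn := hr.2.1
      have hback := h.wl_reverse l hl r hrn
      refine ⟨⟨hr.1.2, by rw [hback]; exact hr.1.1⟩, h.wl_lt l hl r hrn, ?_⟩
      rw [h.cval_cwl hl' v₁ (h.wl_lt l hl r hrn), hback]
      exact hr.2.2
    have hT : ClosedP P (fun s => (P.isPos s = true ∧ P.isPos (wl P l.reverse s) = true) ∧ SS P v' s) := by
      refine ⟨fun s hs => hs.1.1, fun r s hr hs k hk => ⟨(h.closedP_pos_image hl').2 r s hr.1 hs.1 k hk,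
        h.tgt_lt hr.2.1 hs.2.1 hk, ?_⟩⟩
      rw [h.cval_tgt v' hr.2.1 hs.2.1 hk]
      nlinarith [hr.2.2, hs.2.2, Nat.cast_nonneg (α := ℝ) k]
    refine h.genR_mono (fun s hs => ?_) (h.genR_inter hC (h.SS_closed ha.2.1) hT h1 h4)
    exact ⟨hs.1.1, by rw [cval_comb]; linarith [hs.1.2, hs.2.2.2]⟩
  obtain ⟨m, hm, hdom⟩ := h.exists_dominant ν
  have hm' : WordOk P m.reverse := fun x hx => hm x (List.mem_reverse.1 hx)
  have hfν : h.Feas V (g * b * (h.nW m.reverse)⁻¹) (cwl P m ν) := by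
    refine ⟨mul_mem ha.1 (inv_mem (h.monomial_le_group (h.nW_mem _ hm'))), hdom, fun x hx => ?_⟩
    rw [show (g * b * (h.nW m.reverse)⁻¹)⁻¹ * x * (g * b * (h.nW m.reverse)⁻¹) =
      h.nW m.reverse * ((g * b)⁻¹ * x * (g * b)) * (h.nW m.reverse)⁻¹ by group]
    refine h.nW_genR hm' (fun r hr => hr.1) (fun r hr => ⟨h.wl_lt _ hm' r hr.1, ?_⟩) (hkey x hx)
    rw [h.cval_cwl hm ν (h.wl_lt _ hm' r hr.1), h.wl_reverse' hm hr.1]
    exact hr.2
  have h5 := hmin _ _ hfν
  rw [h.qf_cwl hm] at h5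
  have h6 := qf_parallelogram P v v'
  rw [h.qf_cwl hl', heq] at h6
  have h7 : qf P ((1 / 2 : ℝ) • v + (-(1 / 2) : ℝ) • v') = 0 := le_antisymm (by linarith)
    (Finset.sum_nonneg fun r _ => sq_nonneg _)
  have h8 : v = v' := funext fun k => by
    have := congrFun (h.qf_eq_zero h7) k
    simp only [Pi.add_apply, Pi.smul_apply, smul_eq_mul, Pi.zero_apply] at this
    linarith
  obtain ⟨hvv, hmem⟩ := h.dominant_unique (F := F) hf.2.1 hf₁.2.1 l.length l le_rfl hl fun r hr => by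
    rw [h8, h.cval_cwl hl' v₁ (h.wl_lt l hl r hr), h.wl_reverse l hl r hr]
  refine ⟨hvv, ?_⟩
  rw [e]
  exact mul_mem (mul_mem (Subgroup.mem_sup_left hb) hmem) (Subgroup.mem_sup_left huB)

/-- An optimal pair. -/
theorem exists_optimal [Fintype F] (p : ℕ) [Fact p.Prime] [CharP F p] (hC : P.ckComm = true)
    (hVG : V ≤ D.group F) (hV : IsPGroup p ↥V) :
    ∃ g v, h.Feas V g v ∧ ∀ x u, h.Feas V x u → qf P v ≤ qf P u := by
  classical
  obtain ⟨S, hS⟩ := h.pos_sylow (F := F) p hC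
  obtain ⟨S', hS'⟩ := (hV.comap_subtype (K := D.group F)).exists_le_sylow
  obtain ⟨c, hc⟩ := MulAction.exists_smul_eq ↥(D.group F) S S'
  have h0 : h.Feas V (c : GL D.Idx F) (fun _ => 1) := by
    refine ⟨c.2, fun _ => zero_le_one, fun x hx => ?_⟩
    have hx' : (⟨x, hVG hx⟩ : ↥(D.group F)) ∈ (S' : Subgroup ↥(D.group F)) := hS' (show x ∈ V from hx)
    rw [← hc, Sylow.coe_subgroup_smul, Subgroup.mem_pointwise_smul_iff_inv_smul_mem, hS,
      Subgroup.mem_subgroupOf] at hx'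
    have hle : D.posUnipotent F ≤ h.genR (SS P (fun _ : Fin P.rank => (1 : ℝ))) := by
      refine h.posUnipotent_le fun r hr t => h.xG_mem_genR ⟨(P.isPos_iff.1 hr).2, ?_⟩ t
      obtain ⟨j, hj, hjp⟩ := h.exists_pos_coord hr
      have h1 := Finset.single_le_sum (f := fun i : Fin P.rank => (P.rv r i : ℝ) * 1)
        (fun i _ => by
          have := (h.rv_sign (P.isPos_iff.1 hr).2 i.isLt).1 hr
          simpa using (Int.cast_nonneg this : (0 : ℝ) ≤ (P.rv r i : ℝ)))
        (Finset.mem_univ (⟨j, hj⟩ : Fin P.rank))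
      have h2 : (1 : ℝ) ≤ (P.rv r j : ℝ) := by exact_mod_cast hjp
      simp only [cval, mul_one] at h1 ⊢
      linarith
    refine hle ?_
    simpa [MulAut.smul_def, MulAut.inv_def, mul_assoc] using hx'
  -- a closed set of coweights
  let poly : Finset (Fin P.nroots) → Set (Fin P.rank → ℝ) := fun T =>
    {u | (∀ k, 0 ≤ u k) ∧ ∀ r ∈ T, 1 ≤ cval P u (r : ℕ)}
  have hcval : ∀ r, Continuous fun u : Fin P.rank → ℝ => cval P u r := fun r => by unfold cval; fun_prop
  have hclosed : ∀ T, IsClosed (poly T) := fun T => by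
    simp only [poly, Set.setOf_and, Set.setOf_forall]
    exact (isClosed_iInter fun k => isClosed_le continuous_const (continuous_apply k)).inter
      (isClosed_iInter fun r => isClosed_iInter fun _ => isClosed_le continuous_const (hcval r))
  let good : Finset (Fin P.nroots) → Prop := fun T =>
    ∃ g ∈ D.group F, ∀ x ∈ V, g⁻¹ * x * g ∈ h.genR (fun r => ∃ hr : r < P.nroots, (⟨r, hr⟩ : Fin P.nroots) ∈ T)
  set K : Set (Fin P.rank → ℝ) := ⋃ T ∈ {T | good T}, poly T
  have hK : ∀ u, u ∈ K ↔ ∃ g, h.Feas V g u := by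
    intro u
    simp only [K, Set.mem_iUnion₂, Set.mem_setOf_eq, exists_prop]
    constructor
    · rintro ⟨T, ⟨g, hg, hT⟩, hu, hu1⟩
      exact ⟨g, hg, hu, fun x hx => h.genR_mono (fun r ⟨hr, hr'⟩ => ⟨hr, hu1 ⟨r, hr⟩ hr'⟩) (hT x hx)⟩
    · rintro ⟨g, hg, hu, hx⟩
      exact ⟨Finset.univ.filter fun r : Fin P.nroots => 1 ≤ cval P u (r : ℕ),
        ⟨g, hg, fun x hxV => h.genR_mono (fun r hr => ⟨hr.1, by simpa using hr.2⟩) (hx x hxV)⟩,
        hu, fun r hr => by simpa using hr⟩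
  have hKc : IsClosed K := Set.Finite.isClosed_biUnion (Set.toFinite _) fun T _ => hclosed T
  set Q0 := qf P (fun _ : Fin P.rank => (1 : ℝ))
  have hqc : Continuous (qf P) := continuous_finsetSum _ fun r _ => (hcval r).pow 2
  have hb : IsCompact (K ∩ {u | qf P u ≤ Q0}) := by
    refine Metric.isCompact_of_isClosed_isBounded (hKc.inter (isClosed_le hqc continuous_const)) ?_
    refine (Metric.isBounded_closedBall (x := (0 : Fin P.rank → ℝ)) (r := Real.sqrt Q0)).subset fun u hu => ?_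
    rw [mem_closedBall_zero_iff, pi_norm_le_iff_of_nonneg (Real.sqrt_nonneg _)]
    intro k
    rw [Real.norm_eq_abs]
    exact Real.abs_le_sqrt (le_trans (h.sq_le_qf u k) hu.2)
  obtain ⟨v, hv, hmin⟩ := hb.exists_isMinOn ⟨_, (hK _).2 ⟨_, h0⟩, show qf P (fun _ : Fin P.rank => (1 : ℝ)) ≤ Q0 from le_rfl⟩ hqc.continuousOn
  obtain ⟨g, hg⟩ := (hK v).1 hv.1
  refine ⟨g, v, hg, fun x u hu => ?_⟩
  by_cases hle : qf P u ≤ Q0
  · exact hmin ⟨(hK u).2 ⟨x, hu⟩, hle⟩
  · exact le_trans hv.2 (le_of_lt (not_le.1 hle))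

/-- Borel–Tits. -/
theorem borel_tits [Fintype F] (p : ℕ) [Fact p.Prime] [CharP F p] (hC : P.ckComm = true)
    (hVG : V ≤ D.group F) (hV : IsPGroup p ↥V) (hne : V ≠ ⊥) :
    ∃ g ∈ D.group F, ∃ J : Set ℕ, (∃ i, i < P.rank ∧ i ∉ J) ∧
      Subgroup.normalizer (V : Set (GL D.Idx F)) ⊓ D.group F ≤
        (D.parabolicSubgroup F J).map (MulAut.conj g).toMonoidHom ∧
      V ≤ (D.unipotentRadical F J).map (MulAut.conj g).toMonoidHom := by
  obtain ⟨g, v, hf, hmin⟩ := h.exists_optimal V p hC hVG hV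
  refine ⟨g, hf.1, zeroJ P v, ?_, ?_, ?_⟩
  · by_contra hall
    push_neg at hall
    refine hne ((Subgroup.eq_bot_iff_forall V).2 fun x hx => ?_)
    have hbot : h.genR (F := F) (SS P v) ≤ ⊥ := h.genR_le fun r hr => by
      exfalso
      have h1 : cval P v r = 0 := Finset.sum_eq_zero fun i _ => by
        obtain ⟨hi, hvi⟩ := hall i i.isLt
        rw [show v i = 0 from hvi, mul_zero]
      linarith [hr.2]
    have h2 := Subgroup.mem_bot.1 (hbot (hf.2.2 x hx))
    rw [show x = g * (g⁻¹ * x * g) * g⁻¹ by group, h2]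
    group
  · rintro n hn
    obtain ⟨hn, hnG⟩ := Subgroup.mem_inf.1 hn
    have hf' : h.Feas V (n * g) v := ⟨mul_mem hnG hf.1, hf.2.1, fun x hx => by
      rw [show (n * g)⁻¹ * x * (n * g) = g⁻¹ * (n⁻¹ * x * n) * g by group]
      exact hf.2.2 _ ((Subgroup.mem_normalizer_iff''.1 hn x).1 hx)⟩
    have := (h.optimal_unique V hC hf hf' hmin rfl).2
    refine ⟨_, this, ?_⟩
    rw [MulEquiv.toMonoidHom_eq_coe, MonoidHom.coe_coe, MulAut.conj_apply]
    group
  · intro x hx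
    refine ⟨g⁻¹ * x * g, ?_, ?_⟩
    · rw [h.radical_eq]
      refine h.genR_mono (fun r hr => ?_) (hf.2.2 x hx)
      refine ⟨hr.1, ?_⟩
      by_contra hall
      push_neg at hall
      have h1 : cval P v r = 0 := Finset.sum_eq_zero fun i _ => by
        by_cases hi : (i : ℕ) ∈ zeroJ P v
        · obtain ⟨hi', hvi⟩ := hi
          rw [show v i = 0 from hvi, mul_zero]
        · have h2 := hall i i.isLt hi
          have h3 := (h.rv_sign hr.1 i.isLt).1 (h.SS_pos hf.2.1 hr)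
          rw [show P.rv r i = 0 by omega, Int.cast_zero, zero_mul]
      linarith [hr.2]
    · rw [MulEquiv.toMonoidHom_eq_coe, MonoidHom.coe_coe, MulAut.conj_apply]
      group

end Ok

end Cfsg.Agent.Chev
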