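/-
Bruhat cells of the standard parabolic subgroups and their cosets.
-/
import Cfsg.Agent.Lib.Chev.Parabolic
import Cfsg.Agent.Lib.Chev.Order

set_option autoImplicit false

namespace Cfsg.Agent.Chev

open Cfsg.Lie

/-- The fundamental roots that a word keeps positive. -/
def asc (P : Pk) (l : List ℕ) : Finset ℕ :=
  (Finset.range P.rank).filter fun i => P.isPos (wl P l (P.sim i)) = true

theorem mem_asc {P : Pk} {l : List ℕ} {i : ℕ} :
    i ∈ asc P l ↔ i < P.rank ∧ P.isPos (wl P l (P.sim i)) = true := by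
  simp [asc]

theorem wordIn_of_mem {P : Pk} {K : Finset ℕ} (hK : K ⊆ Finset.range P.rank) {v : List ℕ}
    (hv : ∀ i ∈ v, i ∈ K) : WordIn P K.toList v :=
  ⟨fun i hi => Finset.mem_range.1 (hK (hv i hi)), fun i hi => Finset.mem_toList.2 (hv i hi)⟩

theorem wordOk_append {P : Pk} {a b : List ℕ} (ha : WordOk P a) (hb : WordOk P b) : WordOk P (a ++ b) :=
  fun x hx => (List.mem_append.1 hx).elim (ha x) (hb x)

theorem wordOk_reverse {P : Pk} {a : List ℕ} (ha : WordOk P a) : WordOk P a.reverse :=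
  fun x hx => ha x (List.mem_reverse.1 hx)

theorem wordOk_single {P : Pk} {i : ℕ} (hi : i < P.rank) : WordOk P [i] :=
  fun x hx => by rw [List.mem_singleton.1 hx]; exact hi

variable {D : ChevalleyDatum} {P : Pk} {F : Type*} [Field F]

namespace Ok

variable (h : Ok D P)
include h

/-- The cell of a word. -/
def Cell (l : List ℕ) (g : GL D.Idx F) : Prop :=
  ∃ b ∈ D.borelSubgroup F, ∃ b' ∈ D.borelSubgroup F, g = b * h.nW l * b'

theorem cell_self (l : List ℕ) : h.Cell (F := F) l (h.nW l) :=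
  ⟨1, one_mem _, 1, one_mem _, by simp⟩

theorem cell_mul {l : List ℕ} {g : GL D.Idx F} (hg : h.Cell l g) {b b' : GL D.Idx F}
    (hb : b ∈ D.borelSubgroup F) (hb' : b' ∈ D.borelSubgroup F) : h.Cell l (b * g * b') := by
  obtain ⟨c, hc, c', hc', rfl⟩ := hg
  exact ⟨b * c, mul_mem hb hc, c' * b', mul_mem hc' hb', by group⟩

theorem cell_congr {l l' : List ℕ} (hl : WordOk P l) (hl' : WordOk P l')
    (e : ∀ r < P.nroots, wl P l r = wl P l' r) {g : GL D.Idx F} (hg : h.Cell l g) : h.Cell l' g := by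
  obtain ⟨c, hc, c', hc', rfl⟩ := hg
  refine ⟨c, hc, ((h.nW l)⁻¹ * h.nW l')⁻¹ * c',
    mul_mem (inv_mem (Subgroup.mem_sup_right (h.mem_diagonal_of_wl_eq hl hl' e))) hc', ?_⟩
  group

theorem cell_unique (hC : P.ckComm = true) {l l' : List ℕ} (hl : WordOk P l) (hl' : WordOk P l')
    {g : GL D.Idx F} (hg : h.Cell l g) (hg' : h.Cell l' g) :
    ∀ r < P.nroots, wl P l r = wl P l' r := by
  obtain ⟨b, hb, b', hb', rfl⟩ := hg
  obtain ⟨c, hc, c', hc', e⟩ := hg'
  obtain ⟨u, hu, d, hd, rfl⟩ := h.mem_borel hb'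
  obtain ⟨u', hu', d', hd', rfl⟩ := h.mem_borel hc'
  have hn : ∀ {x d : GL D.Idx F}, x ∈ D.posUnipotent F → d ∈ D.diagonalSubgroup F →
      d⁻¹ * x * d ∈ D.posUnipotent F := fun {x d} hx hd => by
    simpa using (Subgroup.mem_normalizer_iff.1 (h.diagonal_normalizes (inv_mem hd)) x).1 hx
  have e' : b * (h.nW l * d) * (d⁻¹ * u * d) = c * (h.nW l' * d') * (d'⁻¹ * u' * d') := by
    calc b * (h.nW l * d) * (d⁻¹ * u * d) = b * h.nW l * (u * d) := by group
      _ = c * h.nW l' * (u' * d') := e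
      _ = _ := by group
  exact fun r hr => h.wl_eq_of_mem hl hl'
    (h.bruhat_unique hC hb hc hl hl' hd hd' (hn hu hd) (hn hu' hd') e') hr

theorem asc_congr {l l' : List ℕ} (e : ∀ r < P.nroots, wl P l r = wl P l' r) : asc P l = asc P l' := by
  ext i
  simp only [mem_asc]
  exact and_congr_right fun hi => by rw [e _ (h.sim_lt hi)]

theorem nW_reverse_mul {l : List ℕ} (hl : WordOk P l) :
    h.nW (F := F) l.reverse * h.nW l ∈ D.diagonalSubgroup F := by
  rw [← h.nW_append]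
  exact h.nW_mem_diagonal (wordOk_append (wordOk_reverse hl) hl) fun r hr => by
    rw [wl_append, h.wl_reverse l hl r hr]

theorem cell_inv {l : List ℕ} (hl : WordOk P l) {g : GL D.Idx F} (hg : h.Cell l g) :
    h.Cell l.reverse g⁻¹ := by
  obtain ⟨c, hc, c', hc', rfl⟩ := hg
  refine ⟨c'⁻¹ * (h.nW l.reverse * h.nW l)⁻¹,
    mul_mem (inv_mem hc') (inv_mem (Subgroup.mem_sup_right (h.nW_reverse_mul hl))), c⁻¹, inv_mem hc, ?_⟩
  group

theorem exists_cell (hC : P.ckComm = true) {g : GL D.Idx F} (hg : g ∈ D.group F) :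
    ∃ l, WordOk P l ∧ h.Cell l g := by
  obtain ⟨b, hb, l, hl, u, hu, e⟩ := h.bruhat_exists hC hg
  exact ⟨l, hl, b, hb, u, Subgroup.mem_sup_left (h.negS_le_pos l hu), e⟩

theorem parabolic_le_group (hC : P.ckComm = true) (J : Set ℕ) :
    D.parabolicSubgroup F J ≤ D.group F := by
  rw [← h.normalizer_radical hC J]
  exact inf_le_right

theorem nG_mem_parabolic {J : Set ℕ} {i : ℕ} (hiJ : i ∈ J) (hi : i < P.rank) :
    h.nG (F := F) i ∈ D.parabolicSubgroup F J :=
  Subgroup.mem_sup_right (Subgroup.subset_closure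
    ⟨i, hiJ, h.rank ▸ hi, by rw [h.simple_eq hi]; exact h.coe_nt (h.sim_lt hi) 1⟩)

theorem nW_mem_parabolic {K : Finset ℕ} (hK : K ⊆ Finset.range P.rank) :
    ∀ v : List ℕ, (∀ i ∈ v, i ∈ K) → h.nW (F := F) v ∈ D.parabolicSubgroup F (↑K : Set ℕ)
  | [], _ => by rw [h.nW_nil]; exact one_mem _
  | i :: v, hv => by
    rw [h.nW_cons]
    exact mul_mem (h.nG_mem_parabolic (Finset.mem_coe.2 (hv i List.mem_cons_self))
      (Finset.mem_range.1 (hK (hv i List.mem_cons_self))))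
      (nW_mem_parabolic hK v fun x hx => hv x (List.mem_cons_of_mem _ hx))

/-- The elements of a parabolic subgroup lie in the cells of its Weyl group. -/
theorem parabolic_cell (hC : P.ckComm = true) {K : Finset ℕ} (hK : K ⊆ Finset.range P.rank)
    {p : GL D.Idx F} (hp : p ∈ D.parabolicSubgroup F (↑K : Set ℕ)) :
    ∃ v, (∀ i ∈ v, i ∈ K) ∧ h.Cell v p := by
  have hborel : ∀ {b : GL D.Idx F}, b ∈ D.borelSubgroup F → ∀ {y : GL D.Idx F},
      (∃ v, (∀ i ∈ v, i ∈ K) ∧ h.Cell v y) → ∃ v, (∀ i ∈ v, i ∈ K) ∧ h.Cell v (b * y) := by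
    rintro b hb y ⟨v, hv, hy⟩
    exact ⟨v, hv, by simpa using h.cell_mul hy hb (one_mem _)⟩
  have hstep : ∀ {i : ℕ}, i ∈ K → ∀ {y : GL D.Idx F},
      (∃ v, (∀ i ∈ v, i ∈ K) ∧ h.Cell v y) → ∃ v, (∀ i ∈ v, i ∈ K) ∧ h.Cell v (h.nG i * y) := by
    rintro i hiK y ⟨v, hv, c, hc, c', hc', rfl⟩
    have hi := Finset.mem_range.1 (hK hiK)
    have hvok := (wordIn_of_mem hK hv).1
    obtain ⟨b₁, hb₁, b₂, hb₂, e | e⟩ := h.bruhat_step hC hi (h.nW_mem v hvok) hc
    · refine ⟨i :: v, List.forall_mem_cons.2 ⟨hiK, hv⟩, b₁, hb₁, b₂ * c', mul_mem hb₂ hc', ?_⟩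
      rw [h.nW_cons, show h.nG i * (c * h.nW v * c') = h.nG i * c * h.nW v * c' by group, e]
      group
    · refine ⟨v, hv, b₁, hb₁, b₂ * c', mul_mem hb₂ hc', ?_⟩
      rw [show h.nG i * (c * h.nW v * c') = h.nG i * c * h.nW v * c' by group, e]
      group
  have hgen : ∀ {g : GL D.Idx F}, g ∈ {g : GL D.Idx F | ∃ j ∈ (↑K : Set ℕ), j < D.rank ∧
      (g : Matrix D.Idx D.Idx F) = D.nMat F (D.simple j) 1} → ∃ i ∈ K, g = h.nG i := by
    rintro g ⟨j, hjK, hj, hg⟩
    have hj' : j < P.rank := h.rank ▸ hj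
    rw [h.simple_eq hj', ← h.coe_nt (h.sim_lt hj')] at hg
    exact ⟨j, Finset.mem_coe.1 hjK, Units.ext hg⟩
  rw [ChevalleyDatum.parabolicSubgroup, ← Subgroup.closure_eq (D.borelSubgroup F),
    ← Subgroup.closure_union] at hp
  induction hp using Subgroup.closure_induction_left with
  | one => exact ⟨[], fun _ hx => absurd hx List.not_mem_nil, 1, one_mem _, 1, one_mem _, by simp [h.nW_nil]⟩
  | mul_left x hx y _ ih =>
    rcases hx with hx | hx
    · exact hborel hx ih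
    · obtain ⟨i, hi, rfl⟩ := hgen hx
      exact hstep hi ih
  | inv_mul_cancel x hx y _ ih =>
    rcases hx with hx | hx
    · exact hborel (inv_mem hx) ih
    · obtain ⟨i, hi, rfl⟩ := hgen hx
      rw [show (h.nG i)⁻¹ * y = h.nG i * ((h.nG i * h.nG i)⁻¹ * y) by group]
      exact hstep hi (hborel (inv_mem (Subgroup.mem_sup_right
        (h.nG_sq (Finset.mem_range.1 (hK hi))))) ih)

/-- Multiplying a cell that is minimal for `K` by a cell of `W_K`. -/
theorem min_join (hC : P.ckComm = true) {K : Finset ℕ} (hK : K ⊆ Finset.range P.rank) {l v : List ℕ}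
    (hl : WordOk P l) (hmin : K ⊆ asc P l) (hv : ∀ i ∈ v, i ∈ K) {b : GL D.Idx F}
    (hb : b ∈ D.borelSubgroup F) : h.Cell (l ++ v) (h.nW l * b * h.nW v) := by
  have hvok := (wordIn_of_mem hK hv).1
  obtain ⟨u, hu, d, hd, rfl⟩ := h.mem_borel hb
  obtain ⟨a, ha, c, hc, rfl⟩ := h.split_pos hC (fun r => P.isPos (wl P l r) = true)
    (fun r => P.isPos (wl P l r) = false) (fun r _ => by cases P.isPos (wl P l r) <;> simp) hu
  have ha' : h.nW l * a * (h.nW l)⁻¹ ∈ D.posUnipotent F := by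
    simpa using h.uplus_conj hl (one_mem (D.diagonalSubgroup F)) ha
  have hc' : c ∈ D.unipotentRadical F (↑K : Set ℕ) := by
    rw [h.radical_eq]
    refine h.genR_mono (fun r hr => (h.out_iff _ r).2 ⟨hr.1, fun hin => ?_⟩) hc
    have hrJ : inJ P K.toList r = true :=
      inJ_iff.2 fun m hm hmK => hin.2 m hm fun hh => hmK (Finset.mem_toList.2 (Finset.mem_coe.1 hh))
    rw [h.pos_of_simple hl (fun i hi _ => (mem_asc.1 (hmin (Finset.mem_toList.1 hi))).2) hrJ hr.1] at hr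
    exact absurd hr.2 (by simp)
  have hc'' : (h.nW v)⁻¹ * c * h.nW v ∈ D.unipotentRadical F (↑K : Set ℕ) := by
    simpa using (Subgroup.mem_normalizer_iff.1
      (inv_mem (h.radical_normal hC _ (h.nW_mem_parabolic (F := F) hK v hv))) c).1 hc'
  have hrad : D.unipotentRadical F (↑K : Set ℕ) ≤ D.posUnipotent F := by
    rw [h.radical_eq]
    exact h.genR_le fun r hr t => h.xG_mem_pos ((h.out_iff _ r).1 hr).1 t
  have hd' : (h.nW v)⁻¹ * d * h.nW v ∈ D.diagonalSubgroup F := by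
    simpa using (Subgroup.mem_normalizer_iff.1 (inv_mem (h.nW_normalizer (F := F) v hvok)) d).1 hd
  refine ⟨h.nW l * a * (h.nW l)⁻¹, Subgroup.mem_sup_left ha',
    ((h.nW v)⁻¹ * c * h.nW v) * ((h.nW v)⁻¹ * d * h.nW v),
    mul_mem (Subgroup.mem_sup_left (hrad hc'')) (Subgroup.mem_sup_right hd'), ?_⟩
  rw [h.nW_append]
  group

/-- A word in `K` keeping the fundamental roots of `K` positive is trivial. -/
theorem word_trivial {K : Finset ℕ} (hK : K ⊆ Finset.range P.rank) {v : List ℕ}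
    (hv : ∀ i ∈ v, i ∈ K) (hp : ∀ i ∈ K, P.isPos (wl P v (P.sim i)) = true) :
    ∀ r < P.nroots, wl P v r = r := by
  have hw := wordIn_of_mem hK hv
  refine fun r hr => h.wl_eq_id v.length v le_rfl hw.1 (fun i hi => ?_) r hr
  by_cases hiK : i ∈ K
  · exact hp i hiK
  · refine h.pos_of_rv (h.wl_lt v hw.1 _ (h.sim_lt hi)) hi ?_
    rw [h.wl_outside hw (h.sim_lt hi) hi fun hh => hiK (Finset.mem_toList.1 hh), h.rv_sim hi hi, if_pos rfl]
    omega

/-- Two minimal words differing by an element of `W_K` act equally. -/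
theorem min_unique {K : Finset ℕ} (hK : K ⊆ Finset.range P.rank) {l v : List ℕ} (hl : WordOk P l)
    (hmin : K ⊆ asc P l) (hv : ∀ i ∈ v, i ∈ K) (hmin' : K ⊆ asc P (l ++ v)) :
    ∀ r < P.nroots, wl P v r = r := by
  refine h.word_trivial hK hv fun i hiK => ?_
  by_contra hneg
  have hw := wordIn_of_mem hK hv
  have hi := Finset.mem_range.1 (hK hiK)
  have hlt := h.wl_lt v hw.1 _ (h.sim_lt hi)
  have hin : inJ P K.toList (P.ng (wl P v (P.sim i))) = true := by
    rw [← h.wl_ng v hw.1 _ (h.sim_lt hi), h.inJ_wl hw (ng_lt (h.sim_lt hi))]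
    refine inJ_iff.2 fun m hm hmK => ?_
    rw [h.rv_ng (h.sim_lt hi) hm, h.rv_sim hi hm, if_neg, neg_zero]
    rintro rfl; exact hmK (Finset.mem_toList.2 hiK)
  have h1 := h.pos_of_simple hl (fun j hj _ => (mem_asc.1 (hmin (Finset.mem_toList.1 hj))).2) hin
    ((h.ng_pos_iff hlt).2 (by simpa using hneg))
  have h2 := (mem_asc.1 (hmin' hiK)).2
  rw [h.wl_ng l hl _ hlt, h.ng_pos_iff (h.wl_lt l hl _ hlt), ← wl_append, h2] at h1
  exact absurd h1 (by simp)

theorem invJ_all (l : List ℕ) (hl : WordOk P l) : invJ P (List.range P.rank) (act P l) =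
    (Finset.univ.filter fun r : Fin P.nroots =>
      P.isPos r.val = true ∧ P.isPos (wl P l r.val) = false).card := by
  rw [invJ_def]
  congr 1
  refine Finset.filter_congr fun r _ => ?_
  rw [h.act_val hl]
  simp [inJ_iff.2 (fun m hm hn => absurd (List.mem_range.2 hm) hn : ∀ m < P.rank,
    m ∉ List.range P.rank → P.rv r.val m = 0)]

theorem invJ_reverse {l : List ℕ} (hl : WordOk P l) :
    invJ P (List.range P.rank) (act P l.reverse) = invJ P (List.range P.rank) (act P l) := by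
  have hr := wordOk_reverse hl
  rw [h.invJ_all _ hr, h.invJ_all _ hl]
  refine Finset.card_bij' (fun r _ => ⟨P.ng (wl P l.reverse r.val), ng_lt (h.wl_lt _ hr _ r.isLt)⟩)
    (fun r _ => ⟨P.ng (wl P l r.val), ng_lt (h.wl_lt _ hl _ r.isLt)⟩) ?_ ?_ ?_ ?_
  · intro r hrm
    simp only [Finset.mem_filter, Finset.mem_univ, true_and] at hrm ⊢
    have hlt := h.wl_lt _ hr _ r.isLt
    refine ⟨(h.ng_pos_iff hlt).2 hrm.2, ?_⟩
    rw [h.wl_ng l hl _ hlt, h.wl_reverse' hl r.isLt, ← Bool.not_eq_true, h.ng_pos_iff r.isLt, hrm.1]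
    simp
  · intro r hrm
    simp only [Finset.mem_filter, Finset.mem_univ, true_and] at hrm ⊢
    have hlt := h.wl_lt _ hl _ r.isLt
    refine ⟨(h.ng_pos_iff hlt).2 hrm.2, ?_⟩
    rw [h.wl_ng _ hr _ hlt, h.wl_reverse l hl _ r.isLt, ← Bool.not_eq_true, h.ng_pos_iff r.isLt, hrm.1]
    simp
  · intro r _
    refine Fin.ext ?_
    show P.ng (wl P l (P.ng (wl P l.reverse r.val))) = r.val
    rw [h.wl_ng l hl _ (h.wl_lt _ hr _ r.isLt), h.wl_reverse' hl r.isLt, ng_ng r.isLt]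
  · intro r _
    refine Fin.ext ?_
    show P.ng (wl P l.reverse (P.ng (wl P l r.val))) = r.val
    rw [h.wl_ng _ hr _ (h.wl_lt _ hl _ r.isLt), h.wl_reverse l hl _ r.isLt, ng_ng r.isLt]

/-- Every coset of `W_K` has a minimal word. -/
theorem exists_min_right {K : Finset ℕ} (hK : K ⊆ Finset.range P.rank) :
    ∀ (n : ℕ) (l : List ℕ), WordOk P l → invJ P (List.range P.rank) (act P l) ≤ n →
      ∃ x, (∀ i ∈ x, i ∈ K) ∧ K ⊆ asc P (l ++ x) := by
  intro n
  induction n using Nat.strong_induction_on with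
  | _ n ih =>
    intro l hl hn
    by_cases hmin : K ⊆ asc P l
    · exact ⟨[], fun _ hx => absurd hx List.not_mem_nil, by simpa using hmin⟩
    obtain ⟨i, hiK, hi'⟩ := Finset.not_subset.1 hmin
    have hi := Finset.mem_range.1 (hK hiK)
    have hneg : P.isPos (wl P l (P.sim i)) = false := by simpa [mem_asc, hi] using hi'
    have hlt := h.invJ_lt (J := List.range P.rank) hl hi (List.mem_range.2 hi) hneg
    obtain ⟨x, hx, hx'⟩ := ih _ (lt_of_lt_of_le hlt hn) _ (wordOk_append hl (wordOk_single hi)) le_rfl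
    exact ⟨i :: x, List.forall_mem_cons.2 ⟨hiK, hx⟩, by
      rwa [show l ++ i :: x = l ++ [i] ++ x by simp]⟩

/-- Two minimal cells in the same coset of a parabolic subgroup coincide. -/
theorem min_coset (hC : P.ckComm = true) {K : Finset ℕ} (hK : K ⊆ Finset.range P.rank)
    {l l' : List ℕ} (hl : WordOk P l) (hl' : WordOk P l') (hmin : K ⊆ asc P l) (hmin' : K ⊆ asc P l')
    {g g' : GL D.Idx F} (hg : h.Cell l g) (hg' : h.Cell l' g')
    (hp : g⁻¹ * g' ∈ D.parabolicSubgroup F (↑K : Set ℕ)) : g⁻¹ * g' ∈ D.borelSubgroup F := by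
  obtain ⟨v, hv, e₁, he₁, e₂, he₂, hp'⟩ := h.parabolic_cell hC hK hp
  obtain ⟨c, hc, c', hc', rfl⟩ := hg
  have hvok := (wordIn_of_mem hK hv).1
  have hok := wordOk_append hl hvok
  have hjoin : h.Cell (l ++ v) g' := by
    have e : g' = c * (h.nW l * (c' * e₁) * h.nW v) * e₂ := by
      rw [show g' = c * h.nW l * c' * ((c * h.nW l * c')⁻¹ * g') by group, hp']
      group
    rw [e]
    exact h.cell_mul (h.min_join hC hK hl hmin hv (mul_mem hc' he₁)) hc he₂
  have hact := h.cell_unique hC hok hl' hjoin hg'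
  have htriv := h.min_unique hK hl hmin hv (by rw [h.asc_congr hact]; exact hmin')
  rw [hp']
  exact mul_mem (mul_mem he₁ (Subgroup.mem_sup_right (h.nW_mem_diagonal hvok htriv))) he₂

end Ok

end Cfsg.Agent.Chev
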