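/-
The centralizer of a root element at a root of greatest height in its orbit lies in a parabolic subgroup.
-/
import Cfsg.Agent.Lib.Chev.Normal
import Cfsg.Agent.Lib.Chev.SteinCells
import Cfsg.Agent.Lib.Chev.Aut.ParabolicFitting

set_option autoImplicit false
set_option linter.unusedSectionVars false
set_option Elab.async false

namespace Cfsg.Agent.Chev

open Cfsg.Lie

/-- The roots above a dominant root have no sums. -/
def ckDom (P : Pk) : Bool :=
  P.allRoots.all fun b =>
    !(P.isPos b && (List.range P.rank).all fun i => decide (0 ≤ P.A i b)) ||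
    (P.allRoots.all fun r => !((List.range P.rank).all fun i => decide (P.rv b i ≤ P.rv r i)) ||
      P.allRoots.all fun s => !((List.range P.rank).all fun i => decide (P.rv b i ≤ P.rv s i)) ||
        Nat.beq (P.len r s) 0)

theorem ckDom_B2 : ckDom B2.pk = true := by decide +kernel
theorem ckDom_G2 : ckDom G2.pk = true := by decide +kernel
theorem ckDom_D4 : ckDom D4.pk = true := by decide +kernel
theorem ckDom_F4 : ckDom F4.pk = true := by decide +kernel
theorem ckDom_E6 : ckDom E6.pk = true := by decide +kernel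
theorem ckDom_E7 : ckDom E7.pk = true := by decide +kernel
theorem ckDom_E8 : ckDom E8.pk = true := by decide +kernel

theorem exists_ok_dom {D : ChevalleyDatum}
    (hD : D ∈ [chevG2, chevB2, chevD4, chevF4, chevE6, chevE7, chevE8]) :
    ∃ P, Ok D P ∧ P.ckComm = true ∧ Aut.ckFit P = true ∧ ckDom P = true := by
  simp only [List.mem_cons, List.not_mem_nil, or_false] at hD
  rcases hD with rfl | rfl | rfl | rfl | rfl | rfl | rfl
  · exact ⟨_, G2.ok, ckComm_G2, Aut.ckFit_G2, ckDom_G2⟩
  · exact ⟨_, B2.ok, ckComm_B2, Aut.ckFit_B2, ckDom_B2⟩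
  · exact ⟨_, D4.ok, ckComm_D4, Aut.ckFit_D4, ckDom_D4⟩
  · exact ⟨_, F4.ok, ckComm_F4, Aut.ckFit_F4, ckDom_F4⟩
  · exact ⟨_, E6.ok, ckComm_E6, Aut.ckFit_E6, ckDom_E6⟩
  · exact ⟨_, E7.ok, ckComm_E7, Aut.ckFit_E7, ckDom_E7⟩
  · exact ⟨_, E8.ok, ckComm_E8, Aut.ckFit_E8, ckDom_E8⟩

/-- The positive roots above `b`. -/
def above (P : Pk) (b : ℕ) : List ℕ :=
  (posL P).filter fun r => (List.range P.rank).all fun i => decide (P.rv b i ≤ P.rv r i)

theorem mem_above {P : Pk} {b r : ℕ} :
    r ∈ above P b ↔ P.isPos r = true ∧ ∀ i < P.rank, P.rv b i ≤ P.rv r i := by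
  simp [above, mem_posL]

variable {D : ChevalleyDatum} {P : Pk} {F : Type*} [Field F]

namespace Ok

variable (h : Ok D P)
include h

theorem ht_w {i r : ℕ} (hi : i < P.rank) (hr : r < P.nroots) : P.ht (P.w i r) = P.ht r - P.A i r := by
  unfold Pk.ht
  have hset : (List.range P.rank).toFinset = Finset.range P.rank := by ext; simp
  rw [← List.sum_toFinset _ List.nodup_range, ← List.sum_toFinset _ List.nodup_range, hset,
    Finset.sum_congr rfl fun j hj => ((h.w_spec hi hr).2.2.2.2.2.1 j (Finset.mem_range.1 hj)).1,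
    Finset.sum_sub_distrib, Finset.sum_ite_eq' (Finset.range P.rank) i fun _ => P.A i r,
    if_pos (Finset.mem_range.2 hi)]

theorem A_nonneg {b : ℕ} (hb : b < P.nroots)
    (hmax : ∀ l, WordOk P l → P.ht (wl P l b) ≤ P.ht b) {i : ℕ} (hi : i < P.rank) : 0 ≤ P.A i b := by
  have := hmax [i] (wordOk_single hi)
  simp only [wl] at this
  rw [h.ht_w hi hb] at this
  omega

theorem above_len (hD : ckDom P = true) {b : ℕ} (hb : P.isPos b = true)
    (hdom : ∀ i < P.rank, 0 ≤ P.A i b) {r s : ℕ} (hr : r ∈ above P b) (hs : s ∈ above P b) :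
    P.len r s = 0 := by
  obtain ⟨hr1, hr2⟩ := mem_above.1 hr
  obtain ⟨hs1, hs2⟩ := mem_above.1 hs
  simp only [ckDom, List.all_eq_true, Pk.mem_allRoots, Bool.or_eq_true, Bool.not_eq_true',
    Bool.and_eq_false_iff, nbeq, decide_eq_true_eq] at hD
  rcases hD b (P.isPos_iff.1 hb).2 with e | e
  · rcases e with e | e
    · rw [hb] at e; simp at e
    · rw [← Bool.not_eq_true, List.all_eq_true] at e
      exact absurd (fun i hi => decide_eq_true (hdom i (List.mem_range.1 hi))) e
  rcases e r (P.isPos_iff.1 hr1).2 with e | e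
  · rw [← Bool.not_eq_true, List.all_eq_true] at e
    exact absurd (fun i hi => decide_eq_true (hr2 i (List.mem_range.1 hi))) e
  rcases e s (P.isPos_iff.1 hs1).2 with e | e
  · rw [← Bool.not_eq_true, List.all_eq_true] at e
    exact absurd (fun i hi => decide_eq_true (hs2 i (List.mem_range.1 hi))) e
  · exact e

theorem xG_commute (hC : P.ckComm = true) {r s : ℕ} (hr : P.isPos r = true) (hs : P.isPos s = true)
    (h1 : P.len r s = 0) (h2 : P.len s r = 0) (t u : F) : Commute (h.xG s u) (h.xG r t) := by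
  have hrn := (P.isPos_iff.1 hr).2
  have hsn := (P.isPos_iff.1 hs).2
  by_cases e : s = r
  · subst e
    show _ * _ = _ * _
    rw [h.xG_add, h.xG_add, add_comm]
  have hne : s ≠ P.ng r := by
    intro e
    rw [e, h.ng_pos_iff hrn, hr] at hs
    simp at hs
  have hempty : P.cterms r s = [] := by
    refine List.eq_nil_iff_forall_not_mem.2 fun c hc => ?_
    refine h.cterms_ind (T := fun _ => False) hrn hsn ?_ ?_ ?_ ?_ c hc
    · intro k hk; omega
    · intro k hk; omega
    · intro a _ hT; exact hT.elim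
    · intro a _ hT; exact hT.elim
  apply Units.ext
  simp only [Units.val_mul, h.coe_xG' hrn, h.coe_xG' hsn, h.comm_formula hC hrn hsn e hne]
  simp [Pk.cword, hempty, monWord]

/-- Pairwise commuting root elements in the standard order. -/
theorem prod_ext {I : List ℕ} (hnd : I.Nodup) (hp : ∀ r ∈ I, P.isPos r = true) (φ : ℕ → F)
    (hcomm : ∀ r ∈ I, ∀ s ∈ I, Commute (h.xG r (φ r)) (h.xG s (φ s))) :
    (I.map fun r => h.xG r (φ r)).prod =
      ((posL P).map fun r => h.xG r (if decide (r ∈ I) then φ r else 0)).prod := by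
  rw [Aut.prod_filter h (fun r => decide (r ∈ I)) φ (posL P)]
  refine List.Perm.prod_eq' (List.Perm.map _ ?_) ?_
  · refine (List.perm_ext_iff_of_nodup hnd ((posL_sorted (P := P)).imp (fun hh => Nat.ne_of_lt hh) |>.filter _)).2
      fun r => ?_
    simp only [List.mem_filter, mem_posL, decide_eq_true_eq]
    exact ⟨fun hr => ⟨hp r hr, hr⟩, fun hr => hr.2⟩
  · exact List.pairwise_map.2 (hnd.imp_of_mem fun ha hb _ => hcomm _ ha _ hb)

section Above

variable (hC : P.ckComm = true) (hD : ckDom P = true) {b : ℕ} (hb : P.isPos b = true)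
  (hmax : ∀ l, WordOk P l → P.ht (wl P l b) ≤ P.ht b)

include hC hD hb hmax in
theorem above_commute {r s : ℕ} (hr : r ∈ above P b) (hs : s ∈ above P b) (t u : F) :
    Commute (h.xG r t) (h.xG s u) := by
  have hdom := fun i hi => h.A_nonneg (P.isPos_iff.1 hb).2 hmax (i := i) hi
  exact h.xG_commute hC (mem_above.1 hs).1 (mem_above.1 hr).1 (h.above_len hD hb hdom hs hr)
    (h.above_len hD hb hdom hr hs) u t

include hC in
theorem above_normalized : D.borelSubgroup F ≤
    Subgroup.normalizer (h.genR (F := F) (· ∈ above P b) : Set (GL D.Idx F)) := by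
  refine sup_le (h.posUnipotent_le fun r hr t => h.genR_normalizer hC
    (fun s hs => (P.isPos_iff.1 (mem_above.1 hs).1).2) (P.isPos_iff.1 hr).2 (fun s hs => ?_) t) ?_
  · by_cases hsr : s = r
    · exact Or.inl hsr
    obtain ⟨hs1, hs2⟩ := mem_above.1 hs
    have hrn := (P.isPos_iff.1 hr).2
    have hsn := (P.isPos_iff.1 hs1).2
    refine Or.inr ⟨?_, fun c hc => ?_⟩
    · intro e
      rw [e, h.ng_pos_iff hrn, hr] at hs1
      simp at hs1
    · refine h.cterms_ind (T := fun c => c ∈ above P b) hrn hsn ?_ ?_ ?_ ?_ c hc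
      · intro k hk
        refine mem_above.2 ⟨(h.pos_tgt hr hs1 hk).1, fun i hi => ?_⟩
        rw [h.rv_additive hrn hsn hk hi]
        have := (h.rv_sign hrn hi).1 hr
        have := hs2 i hi
        nlinarith
      · intro k hk
        refine mem_above.2 ⟨(h.pos_tgt hs1 hr hk).1, fun i hi => ?_⟩
        rw [h.rv_additive hsn hrn hk hi]
        have := (h.rv_sign hrn hi).1 hr
        have := (h.rv_sign hsn hi).1 hs1
        have := hs2 i hi
        nlinarith
      · intro a ha hT k hk
        refine mem_above.2 ⟨(h.pos_tgt (mem_above.1 hT).1 hs1 hk).1, fun i hi => ?_⟩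
        rw [h.rv_additive ha hsn hk hi]
        have := (h.rv_sign ha hi).1 (mem_above.1 hT).1
        have := hs2 i hi
        nlinarith
      · intro a ha hT k hk
        refine mem_above.2 ⟨(h.pos_tgt (mem_above.1 hT).1 hr hk).1, fun i hi => ?_⟩
        rw [h.rv_additive ha hrn hk hi]
        have := (h.rv_sign hrn hi).1 hr
        have := (h.rv_sign ha hi).1 (mem_above.1 hT).1
        have := (mem_above.1 hT).2 i hi
        nlinarith
  · intro d hd
    obtain ⟨c, rfl⟩ := h.mem_diagonal_iff.1 hd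
    refine mem_normalizer_closure ?_ ?_ <;> rintro _ ⟨s, u, hs, rfl⟩
    · rw [h.hHom_xG c (P.isPos_iff.1 (mem_above.1 hs).1).2]
      exact h.xG_mem_genR hs _
    · have := h.hHom_xG (F := F) c⁻¹ (P.isPos_iff.1 (mem_above.1 hs).1).2 u
      rw [map_inv, inv_inv] at this
      rw [this]
      exact h.xG_mem_genR hs _

include hC hD hb hmax in
/-- Conjugates of the root element under the Borel subgroup. -/
theorem borel_conj_root {v : GL D.Idx F} (hv : v ∈ D.borelSubgroup F) :
    ∃ f : ℕ → F, f b ≠ 0 ∧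
      v * h.xG b (1 : F) * v⁻¹ = ((above P b).map fun r => h.xG r (f r)).prod := by
  classical
  have hbn := (P.isPos_iff.1 hb).2
  have hbT : b ∈ above P b := mem_above.2 ⟨hb, fun i _ => le_rfl⟩
  have hsort : (above P b).Pairwise (· < ·) := posL_sorted.filter _
  have hdom := fun i hi => h.A_nonneg hbn hmax (i := i) hi
  have hcl : ClosedL P (above P b) := fun r hr s hs k hk => by
    rw [h.above_len hD hb hdom hr hs] at hk; omega
  obtain ⟨f, hf⟩ := h.exists_prod hC _ hsort (fun r hr => (mem_above.1 hr).1) hcl _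
    ((Subgroup.mem_normalizer_iff.1 (h.above_normalized hC hv) _).1 (h.xG_mem_genR hbT (1 : F)))
  refine ⟨f, ?_, hf⟩
  obtain ⟨u, hu, d, hd, rfl⟩ := h.mem_borel hv
  obtain ⟨c, rfl⟩ := h.mem_diagonal_iff.1 hd
  have hc0 := (h.isChar_hchar (F := F) c).ne b hbn
  set c0 := hchar P c b
  have e0 : u * h.hHom c * h.xG b (1 : F) * (u * h.hHom c)⁻¹ = u * h.xG b c0 * u⁻¹ := by
    rw [show u * h.hHom c * h.xG b (1 : F) * (u * h.hHom c)⁻¹ =
      u * (h.hHom c * h.xG b (1 : F) * (h.hHom c)⁻¹) * u⁻¹ by group, h.hHom_xG c hbn, mul_one]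
  rw [e0] at hf
  set L' := (above P b).erase b
  have hperm : (above P b).Perm (b :: L') := List.perm_cons_erase hbT
  have hprod : ((above P b).map fun r => h.xG r (f r)).prod =
      h.xG b (f b) * (L'.map fun r => h.xG r (f r)).prod := by
    rw [← List.prod_cons, ← List.map_cons (f := fun r => h.xG r (f r))]
    refine List.Perm.prod_eq' (hperm.map _) ?_
    exact List.pairwise_map.2 (hsort.imp_of_mem fun ha hb' _ => h.above_commute hC hD hb hmax ha hb' _ _)
  have hrest : (L'.map fun r => h.xG r (f r)).prod ∈ h.uFil (F := F) (P.ht b + 1) := by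
    refine list_prod_mem fun x hx => ?_
    obtain ⟨r, hr, rfl⟩ := List.mem_map.1 hx
    have hnd : (above P b).Nodup := hsort.imp fun hh => Nat.ne_of_lt hh
    obtain ⟨hne, hr'⟩ := (hnd.mem_erase_iff).1 hr
    obtain ⟨hr1, hr2⟩ := mem_above.1 hr'
    refine h.xG_mem_genR ⟨hr1, ?_⟩ _
    by_contra hlt
    refine hne (h.rv_inj (P.isPos_iff.1 hr1).2 hbn fun i hi => ?_)
    have hsum : ∑ j ∈ Finset.range P.rank, (P.rv r j - P.rv b j) = 0 := by
      refine le_antisymm ?_ (Finset.sum_nonneg fun j hj => sub_nonneg.2 (hr2 j (Finset.mem_range.1 hj)))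
      have hset : (List.range P.rank).toFinset = Finset.range P.rank := by ext; simp
      have h1 : P.ht r ≤ P.ht b := by omega
      rw [Pk.ht, Pk.ht, ← List.sum_toFinset _ List.nodup_range, ← List.sum_toFinset _ List.nodup_range,
        hset] at h1
      rw [Finset.sum_sub_distrib]
      omega
    have := (Finset.sum_eq_zero_iff_of_nonneg fun j hj => sub_nonneg.2 (hr2 j (Finset.mem_range.1 hj))).1
      hsum i (Finset.mem_range.2 hi)
    omega
  have hk : u * h.xG b c0 * u⁻¹ * (h.xG b c0)⁻¹ ∈ h.uFil (F := F) (P.ht b + 1) := by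
    have h1 := inv_mem (h.uFil_comm (F := F) hC (P.ht b)
      (Subgroup.commutator_mem_commutator (g₁ := h.xG b c0) (g₂ := u) (h.xG_mem_genR ⟨hb, le_rfl⟩ _) hu))
    rwa [commutatorElement_inv, commutatorElement_def] at h1
  have key : h.xG b (f b - c0) ∈ h.uFil (F := F) (P.ht b + 1) := by
    rw [hf, hprod] at hk
    have h2 : h.xG b (f b) * (L'.map fun r => h.xG r (f r)).prod * (h.xG b c0)⁻¹ =
        h.xG b (f b - c0) * (L'.map fun r => h.xG r (f r)).prod := by
      have hcm : Commute (h.xG b (-c0)) (L'.map fun r => h.xG r (f r)).prod := by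
        refine Commute.list_prod_right _ _ fun x hx => ?_
        obtain ⟨r, hr, rfl⟩ := List.mem_map.1 hx
        exact h.above_commute hC hD hb hmax hbT (List.mem_of_mem_erase hr) _ _
      rw [h.xG_inv, mul_assoc, ← hcm.eq, ← mul_assoc, h.xG_add, sub_eq_add_neg]
    rw [h2] at hk
    have := mul_mem hk (inv_mem hrest)
    rwa [mul_inv_cancel_right] at this
  rw [sub_eq_zero.1 (Aut.uFil_xG h hC hb (by omega) key)]
  exact hc0

include hmax in
/-- The stabiliser of the root lies in the parabolic subgroup of the roots orthogonal to it. -/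
theorem nW_mem_stab (hb : P.isPos b = true) :
    ∀ (n : ℕ) (l : List ℕ), WordOk P l → invJ P (List.range P.rank) (act P l) ≤ n → wl P l b = b →
      h.nW (F := F) l ∈ D.parabolicSubgroup F {i | P.A i b = 0} := by
  have hbn := (P.isPos_iff.1 hb).2
  intro n
  induction n using Nat.strong_induction_on with
  | _ n ih =>
    intro l hl hn hfix
    by_cases hid : ∀ i < P.rank, P.isPos (wl P l (P.sim i)) = true
    · exact Subgroup.mem_sup_left (Subgroup.mem_sup_right
        (h.nW_mem_diagonal hl fun r hr => h.wl_eq_id l.length l le_rfl hl hid r hr))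
    push Not at hid
    obtain ⟨i, hi, hneg⟩ := hid
    have hneg' : P.isPos (wl P l (P.sim i)) = false := by simpa using hneg
    have hA : P.A i b = 0 := by
      refine le_antisymm ?_ (h.A_nonneg hbn hmax hi)
      have hlt := h.wl_lt l hl _ (h.sim_lt hi)
      rw [← h.pair_sim hi, ← h.pair_wl l hl _ (h.sim_lt hi) b hbn, hfix, Pk.pair,
        ← List.sum_toFinset _ List.nodup_range]
      refine Finset.sum_nonpos fun k hk => mul_nonpos_of_nonpos_of_nonneg ?_
        (h.A_nonneg hbn hmax (by simpa using hk))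
      have hk' : k < P.rank := by simpa using hk
      have hpos := (h.ng_pos_iff hlt).2 hneg'
      have := (h.roots_spec (Ok.ng_lt hlt)).1 k hk'
      have h2 := h.co_ng hlt hk'
      have h3 := this.2.2
      rw [hpos] at h3
      simp only [if_true] at h3
      omega
    have hwb : P.w i b = b := by
      refine h.rv_inj (h.w_lt hi hbn) hbn fun m hm => ?_
      rw [((h.w_spec hi hbn).2.2.2.2.2.1 m hm).1, hA]
      simp
    have hok := wordOk_append hl (wordOk_single hi)
    have hlt := h.invJ_lt (J := List.range P.rank) hl hi (List.mem_range.2 hi) hneg'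
    have h1 := ih _ (lt_of_lt_of_le hlt hn) _ hok le_rfl (by
      rw [wl_append]; show wl P l (P.w i b) = b; rw [hwb, hfix])
    have h2 : h.nG (F := F) i ∈ D.parabolicSubgroup F {i | P.A i b = 0} := h.nG_mem_parabolic hA hi
    have e : h.nW (F := F) (l ++ [i]) = h.nW l * h.nG i := by rw [h.nW_append, h.nW_cons, h.nW_nil, mul_one]
    rw [e] at h1
    simpa using mul_mem h1 (inv_mem h2)

include hC hD hb hmax in
theorem centralizer_le_parabolic {g : GL D.Idx F} (hg : g ∈ D.group F)
    (hgx : g * h.xG b (1 : F) = h.xG b (1 : F) * g) :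
    g ∈ D.parabolicSubgroup F {i | P.A i b = 0} := by
  classical
  obtain ⟨v, hv, l, hl, u, hu, rfl⟩ := h.bruhat_exists hC hg
  have hbn := (P.isPos_iff.1 hb).2
  have hbT : b ∈ above P b := mem_above.2 ⟨hb, fun i _ => le_rfl⟩
  have huB : u ∈ D.borelSubgroup F := Subgroup.mem_sup_left (h.negS_le_pos l hu)
  obtain ⟨f, hfb, hf⟩ := h.borel_conj_root hC hD hb hmax huB
  obtain ⟨f', -, hf'⟩ := h.borel_conj_root hC hD hb hmax (inv_mem hv)
  rw [inv_inv] at hf'
  have hmid : h.nW l * (u * h.xG b (1 : F) * u⁻¹) * (h.nW l)⁻¹ = v⁻¹ * h.xG b (1 : F) * v := by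
    rw [show h.nW l * (u * h.xG b (1 : F) * u⁻¹) * (h.nW l)⁻¹ =
      v⁻¹ * ((v * h.nW l * u) * h.xG b (1 : F)) * (v * h.nW l * u)⁻¹ * v by group, hgx]
    group
  rw [hf, hf'] at hmid
  set T := above P b
  have hsort : T.Pairwise (· < ·) := posL_sorted.filter _
  have hnd : T.Nodup := hsort.imp fun hh => Nat.ne_of_lt hh
  have hTpos : ∀ r ∈ T, P.isPos r = true := fun r hr => (mem_above.1 hr).1
  have hcomm := fun r (hr : r ∈ T) s (hs : s ∈ T) (t t' : F) => h.above_commute hC hD hb hmax hr hs t t'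
  have hUmem : ∀ g : ℕ → F, (T.map fun r => h.xG r (g r)).prod ∈ D.posUnipotent F := fun g => by
    refine list_prod_mem fun x hx => ?_
    obtain ⟨r, hr, rfl⟩ := List.mem_map.1 hx
    exact h.xG_mem_pos (hTpos r hr) _
  -- the coefficients at the roots turned negative vanish
  let neg : ℕ → Bool := fun r => !P.isPos (wl P l r)
  have hsplit : (T.map fun r => h.xG r (f r)).prod =
      ((T.filter fun r => !neg r).map fun r => h.xG r (f r)).prod *
        ((T.filter neg).map fun r => h.xG r (f r)).prod := by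
    rw [← List.prod_append, ← List.map_append]
    refine List.Perm.prod_eq' (List.Perm.map _ ?_) ?_
    · exact (List.filter_append_perm neg T).symm.trans List.perm_append_comm
    · exact List.pairwise_map.2 (hnd.imp_of_mem fun ha hb' _ => hcomm _ ha _ hb' _ _)
  have hzero : ((T.filter neg).map fun r => h.xG r (f r)).prod = 1 := by
    set a := ((T.filter fun r => !neg r).map fun r => h.xG r (f r)).prod
    set c := ((T.filter neg).map fun r => h.xG r (f r)).prod
    have ha : h.nW l * a * (h.nW l)⁻¹ ∈ D.posUnipotent F := by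
      have ha' : a ∈ h.genR (fun r => P.isPos r = true ∧ P.isPos (wl P l r) = true) := by
        refine list_prod_mem fun x hx => ?_
        obtain ⟨r, hr, rfl⟩ := List.mem_map.1 hx
        obtain ⟨hr1, hr2⟩ := List.mem_filter.1 hr
        exact h.xG_mem_genR ⟨hTpos r hr1, by simpa [neg] using hr2⟩ _
      simpa using h.uplus_conj hl (one_mem _) ha'
    have hc : h.nW l * c * (h.nW l)⁻¹ ∈ D.negUnipotent F := by
      have hc' : c ∈ h.genR (negS P l) := by
        refine list_prod_mem fun x hx => ?_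
        obtain ⟨r, hr, rfl⟩ := List.mem_map.1 hx
        obtain ⟨hr1, hr2⟩ := List.mem_filter.1 hr
        exact h.xG_mem_genR (S := negS P l) ⟨hTpos r hr1, by simpa [neg] using hr2⟩ _
      simpa using h.uminus_conj hl (one_mem _) hc'
    have h3 : h.nW l * c * (h.nW l)⁻¹ ∈ D.borelSubgroup F ⊓ D.negUnipotent F := by
      refine Subgroup.mem_inf.2 ⟨Subgroup.mem_sup_left ?_, hc⟩
      rw [hsplit] at hmid
      have := mul_mem (inv_mem ha) (hUmem f')
      rw [← hmid] at this
      convert this using 1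
      group
    rwa [h.borel_inf_neg, Subgroup.mem_bot, conj_eq_one_iff] at h3
  have hf0 : ∀ r ∈ T, neg r = true → f r = 0 := fun r hr hn =>
    h.prod_unique (T.filter neg) (hsort.filter _) (fun x hx => hTpos x (List.mem_filter.1 hx).1) f
      (fun _ => 0) (by rw [hzero]; simp [h.xG_zero]) r (List.mem_filter.2 ⟨hr, hn⟩)
  have hwb : P.isPos (wl P l b) = true := by
    by_contra hh
    exact hfb (hf0 b hbT (by simpa [neg] using hh))
  -- compare the coefficients of the images
  set T₁ := T.filter fun r => !neg r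
  set I := T₁.map (wl P l)
  rw [hsplit, hzero, mul_one] at hmid
  have hT₁ : ∀ r ∈ T₁, r ∈ T ∧ P.isPos (wl P l r) = true := fun r hr => by
    obtain ⟨hr1, hr2⟩ := List.mem_filter.1 hr
    exact ⟨hr1, by simpa [neg] using hr2⟩
  have hex : ∀ r, ∃ e : F, r ∈ T → e ≠ 0 ∧
      ∀ t : F, h.nW l * h.xG r t * (h.nW l)⁻¹ = h.xG (wl P l r) (e * t) := fun r => by
    by_cases hr : r ∈ T
    · obtain ⟨e, he, hx⟩ := h.conj_nW hl (one_mem (D.diagonalSubgroup F)) (P.isPos_iff.1 (hTpos r hr)).2
      exact ⟨e, fun _ => ⟨he, fun t => by simpa using hx t⟩⟩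
    · exact ⟨0, fun hh => absurd hh hr⟩
  choose e he using hex
  let φ : ℕ → F := fun s => e (wl P l.reverse s) * f (wl P l.reverse s)
  have hφ : ∀ r ∈ T, φ (wl P l r) = e r * f r := fun r hr => by
    simp only [φ, h.wl_reverse l hl r (P.isPos_iff.1 (hTpos r hr)).2]
  have himg : h.nW l * (T₁.map fun r => h.xG r (f r)).prod * (h.nW l)⁻¹ =
      (I.map fun s => h.xG s (φ s)).prod := by
    rw [← MulAut.conj_apply, map_list_prod, List.map_map, List.map_map]
    congr 1
    refine List.map_congr_left fun r hr => ?_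
    simp only [Function.comp, MulAut.conj_apply, (he r (hT₁ r hr).1).2, hφ r (hT₁ r hr).1]
  have hIpos : ∀ s ∈ I, P.isPos s = true := fun s hs => by
    obtain ⟨r, hr, rfl⟩ := List.mem_map.1 hs
    exact (hT₁ r hr).2
  have hInd : I.Nodup := by
    refine (hnd.filter _).map_on fun r hr s hs e' => ?_
    have h1 := congrArg (wl P l.reverse) e'
    rwa [h.wl_reverse l hl r (P.isPos_iff.1 (hTpos r (hT₁ r hr).1)).2,
      h.wl_reverse l hl s (P.isPos_iff.1 (hTpos s (hT₁ s hs).1)).2] at h1
  have hIcomm : ∀ s ∈ I, ∀ s' ∈ I, Commute (h.xG s (φ s)) (h.xG s' (φ s')) := fun s hs s' hs' => by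
    obtain ⟨r, hr, rfl⟩ := List.mem_map.1 hs
    obtain ⟨r', hr', rfl⟩ := List.mem_map.1 hs'
    have := (hcomm r (hT₁ r hr).1 r' (hT₁ r' hr').1 (f r) (f r')).map (MulAut.conj (h.nW l))
    simpa [(he r (hT₁ r hr).1).2, (he r' (hT₁ r' hr').1).2, hφ r (hT₁ r hr).1, hφ r' (hT₁ r' hr').1]
      using this
  rw [himg, h.prod_ext hInd hIpos φ hIcomm,
    h.prod_ext hnd hTpos f' fun r hr s hs => hcomm r hr s hs _ _] at hmid
  have hwT : wl P l b ∈ T := by
    have h1 := h.prod_unique (posL P) posL_sorted (fun r hr => mem_posL.1 hr) _ _ hmid (wl P l b)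
      (mem_posL.2 hwb)
    by_contra hn
    simp only [decide_eq_true_eq, if_neg hn] at h1
    rw [if_pos (List.mem_map.2 ⟨b, List.mem_filter.2 ⟨hbT, by simpa [neg] using hwb⟩, rfl⟩), hφ b hbT] at h1
    exact mul_ne_zero (he b hbT).1 hfb h1
  have hfix : wl P l b = b := by
    obtain ⟨h1, h2⟩ := mem_above.1 hwT
    refine h.rv_inj (P.isPos_iff.1 h1).2 hbn fun i hi => ?_
    have hsum : ∑ j ∈ Finset.range P.rank, (P.rv (wl P l b) j - P.rv b j) = 0 := by
      refine le_antisymm ?_ (Finset.sum_nonneg fun j hj => sub_nonneg.2 (h2 j (Finset.mem_range.1 hj)))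
      have hset : (List.range P.rank).toFinset = Finset.range P.rank := by ext; simp
      have h3 := hmax l hl
      rw [Pk.ht, Pk.ht, ← List.sum_toFinset _ List.nodup_range, ← List.sum_toFinset _ List.nodup_range,
        hset] at h3
      rw [Finset.sum_sub_distrib]
      omega
    have := (Finset.sum_eq_zero_iff_of_nonneg fun j hj => sub_nonneg.2 (h2 j (Finset.mem_range.1 hj))).1
      hsum i (Finset.mem_range.2 hi)
    omega
  exact mul_mem (mul_mem (Subgroup.mem_sup_left hv) (h.nW_mem_stab hmax hb _ l hl le_rfl hfix))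
    (Subgroup.mem_sup_left huB)

end Above

end Ok

end Cfsg.Agent.Chev
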