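/-
The Steinberg character on the Borel subgroup.
-/
import Cfsg.Agent.Lib.Chev.SteinCells
import Cfsg.Prelude.Def_ParabolicCharacters

set_option autoImplicit false

namespace Cfsg.Agent.Chev

open Cfsg.Lie

/-- An alternating sum of counts keeps the terms with empty index set. -/
theorem alt_sum_card {α : Type*} [Finite α] (A : α → Finset ℕ) (R : Finset ℕ) (hA : ∀ a, A a ⊆ R)
    (p : α → Prop) :
    ∑ K ∈ R.powerset, (-1 : ℂ) ^ K.card * (Nat.card {a // p a ∧ K ⊆ A a} : ℂ) =
      (Nat.card {a // p a ∧ A a = ∅} : ℂ) := by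
  classical
  haveI := Fintype.ofFinite α
  have hc : ∀ q : α → Prop, (Nat.card {a // q a} : ℂ) = ∑ a, if q a then (1 : ℂ) else 0 := fun q => by
    rw [Nat.card_eq_fintype_card, Fintype.card_subtype, Finset.sum_boole]
  simp only [hc, Finset.mul_sum]
  rw [Finset.sum_comm]
  refine Finset.sum_congr rfl fun a _ => ?_
  by_cases hp : p a
  · simp only [hp, true_and, mul_ite, mul_one, mul_zero]
    rw [← Finset.sum_filter, show R.powerset.filter (fun K => K ⊆ A a) = (A a).powerset from ?_]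
    · have := congrArg (Int.cast : ℤ → ℂ) (Finset.sum_powerset_neg_one_pow_card (x := A a))
      simpa using this
    · ext K
      simp only [Finset.mem_filter, Finset.mem_powerset]
      exact ⟨fun e => e.2, fun e => ⟨e.trans (hA a), e⟩⟩
  · simp [hp]

/-- Fixed cosets of a larger subgroup, counted by a set of representatives among the smaller cosets. -/
theorem card_fixed_of_reps {G : Type*} [Group G] {B M : Subgroup G} (hle : B ≤ M) (Q : G ⧸ B → Prop)
    {b : G} (hQ : ∀ y, Q y → Q (b • y))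
    (hinj : ∀ g g' : G, Q (QuotientGroup.mk g) → Q (QuotientGroup.mk g') → g⁻¹ * g' ∈ M → g⁻¹ * g' ∈ B)
    (hsurj : ∀ g : G, ∃ g' : G, Q (QuotientGroup.mk g') ∧ g'⁻¹ * g ∈ M) :
    Nat.card (MulAction.fixedBy (G ⧸ M) b) = Nat.card {y : G ⧸ B // b • y = y ∧ Q y} := by
  let π := Subgroup.quotientMapOfLE hle
  have hsmul : ∀ y, π (b • y) = b • π y := fun y => by
    induction y using QuotientGroup.induction_on with
    | _ g => rfl
  have hinj' : ∀ y y', Q y → Q y' → π y = π y' → y = y' := by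
    intro y y' hy hy' e
    induction y using QuotientGroup.induction_on with
    | _ g =>
    induction y' using QuotientGroup.induction_on with
    | _ g' =>
    exact QuotientGroup.eq.2 (hinj g g' hy hy' (QuotientGroup.eq.1 e))
  have hsurj' : ∀ z : G ⧸ M, ∃ y, Q y ∧ π y = z := by
    intro z
    induction z using QuotientGroup.induction_on with
    | _ g =>
    obtain ⟨g', h1, h2⟩ := hsurj g
    exact ⟨QuotientGroup.mk g', h1, QuotientGroup.eq.2 h2⟩
  symm
  refine Nat.card_congr (Equiv.ofBijective (fun y => ⟨π y.1, ?_⟩) ⟨?_, ?_⟩)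
  · rw [MulAction.mem_fixedBy, ← hsmul, y.2.1]
  · rintro ⟨y, _, hy⟩ ⟨y', _, hy'⟩ e
    exact Subtype.ext (hinj' y y' hy hy' (congrArg Subtype.val e))
  · rintro ⟨z, hz⟩
    obtain ⟨y, hy, rfl⟩ := hsurj' z
    exact ⟨⟨y, hinj' _ _ (hQ y hy) hy (by rw [hsmul]; exact hz), hy⟩, rfl⟩

/-- The fixed points in one orbit on cosets. -/
theorem card_fixed_orbit {G : Type*} [Group G] {A B : Subgroup G} {S : Subgroup A} (n : G)
    (hS : ∀ x : A, x ∈ S ↔ n⁻¹ * x.1 * n ∈ B) (Q : G ⧸ B → Prop)
    (hQ : ∀ g : G, Q (QuotientGroup.mk g) ↔ ∃ x : A, (x.1 * n)⁻¹ * g ∈ B) (b : A) :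
    Nat.card (MulAction.fixedBy (A ⧸ S) b) = Nat.card {y : G ⧸ B // b.1 • y = y ∧ Q y} := by
  let φ : A ⧸ S → G ⧸ B := Quotient.lift (fun x : A => (QuotientGroup.mk (x.1 * n) : G ⧸ B))
    (fun x x' hxx => by
      have hm := (hS _).1 (QuotientGroup.leftRel_apply.1 hxx)
      rw [QuotientGroup.eq]
      simpa [mul_assoc] using hm)
  have hφmk : ∀ x : A, φ (QuotientGroup.mk x) = QuotientGroup.mk (x.1 * n) := fun _ => rfl
  have hinj : Function.Injective φ := by
    intro z z' e
    induction z using QuotientGroup.induction_on with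
    | _ x =>
    induction z' using QuotientGroup.induction_on with
    | _ x' =>
    rw [hφmk, hφmk, QuotientGroup.eq] at e
    rw [QuotientGroup.eq, hS]
    simpa [mul_assoc] using e
  have hQφ : ∀ z, Q (φ z) := fun z => by
    induction z using QuotientGroup.induction_on with
    | _ x => exact (hQ _).2 ⟨x, by simp⟩
  have hsmul : ∀ z, φ (b • z) = b.1 • φ z := fun z => by
    induction z using QuotientGroup.induction_on with
    | _ x =>
    show φ (QuotientGroup.mk (b * x)) = (QuotientGroup.mk (b.1 * (x.1 * n)) : G ⧸ B)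
    rw [hφmk, Subgroup.coe_mul, mul_assoc]
  refine Nat.card_congr (Equiv.ofBijective
    (fun z : MulAction.fixedBy (A ⧸ S) b => (⟨φ z.1, by rw [← hsmul, z.2], hQφ z.1⟩ :
      {y : G ⧸ B // b.1 • y = y ∧ Q y})) ⟨?_, ?_⟩)
  · intro z z' e
    exact Subtype.ext (hinj (congrArg Subtype.val e))
  · rintro ⟨y, hy, hye⟩
    obtain ⟨g, rfl⟩ := QuotientGroup.mk_surjective y
    obtain ⟨x, hx⟩ := (hQ g).1 hye
    have hφx : φ (QuotientGroup.mk x) = QuotientGroup.mk g := QuotientGroup.eq.2 hx
    exact ⟨⟨QuotientGroup.mk x, hinj (by rw [hsmul, hφx, hy])⟩, Subtype.ext hφx⟩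

variable {D : ChevalleyDatum} {P : Pk} {F : Type*} [Field F]

/-- The Borel subgroup inside the group. -/
abbrev borelIn (D : ChevalleyDatum) (F : Type*) [Field F] : Subgroup ↥(D.group F) :=
  (D.borelSubgroup F).subgroupOf (D.group F)

namespace Ok

variable (h : Ok D P)
include h

/-- A word whose cell contains the element. -/
noncomputable def cellWord (hC : P.ckComm = true) (g : ↥(D.group F)) : List ℕ :=
  (h.exists_cell hC g.2).choose

theorem cellWord_spec (hC : P.ckComm = true) (g : ↥(D.group F)) :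
    WordOk P (h.cellWord hC g) ∧ h.Cell (h.cellWord hC g) g.1 :=
  (h.exists_cell hC g.2).choose_spec

/-- The ascents of a coset of the Borel subgroup. -/
noncomputable def ascC (hC : P.ckComm = true) (y : ↥(D.group F) ⧸ borelIn D F) : Finset ℕ :=
  asc P (h.cellWord hC y.out)

theorem ascC_subset (hC : P.ckComm = true) (y : ↥(D.group F) ⧸ borelIn D F) :
    h.ascC hC y ⊆ Finset.range P.rank := Finset.filter_subset _ _

theorem ascC_mk (hC : P.ckComm = true) {l : List ℕ} (hl : WordOk P l) {g : ↥(D.group F)}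
    (hg : h.Cell l g.1) : h.ascC hC (QuotientGroup.mk g : ↥(D.group F) ⧸ borelIn D F) = asc P l := by
  obtain ⟨hw, hc⟩ := h.cellWord_spec hC (QuotientGroup.mk g : ↥(D.group F) ⧸ borelIn D F).out
  obtain ⟨b, hb⟩ := QuotientGroup.mk_out_eq_mul (borelIn D F) g
  have h2 : h.Cell l (QuotientGroup.mk g : ↥(D.group F) ⧸ borelIn D F).out.1 := by
    rw [hb, Subgroup.coe_mul]
    simpa using h.cell_mul hg (one_mem _) (Subgroup.mem_subgroupOf.1 b.2)
  exact h.asc_congr (h.cell_unique hC hw hl hc h2)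

theorem ascC_smul (hC : P.ckComm = true) {b : ↥(D.group F)} (hb : b ∈ borelIn D F)
    (y : ↥(D.group F) ⧸ borelIn D F) : h.ascC hC (b • y) = h.ascC hC y := by
  induction y using QuotientGroup.induction_on with
  | _ g =>
    obtain ⟨hw, hc⟩ := h.cellWord_spec hC g
    show h.ascC hC (QuotientGroup.mk (b * g) : ↥(D.group F) ⧸ borelIn D F) = _
    rw [h.ascC_mk hC hw hc, h.ascC_mk hC hw (g := b * g)]
    simpa using h.cell_mul hc (Subgroup.mem_subgroupOf.1 hb) (one_mem _)

theorem borelIn_le_parabolicIn (K : Finset ℕ) : borelIn D F ≤ D.parabolicIn F K :=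
  fun _ hx => Subgroup.mem_subgroupOf.2 (Subgroup.mem_sup_left (Subgroup.mem_subgroupOf.1 hx))

/-- The fixed cosets of a parabolic subgroup, counted by minimal cosets of the Borel subgroup. -/
theorem fixed_card (hC : P.ckComm = true) {K : Finset ℕ} (hK : K ⊆ Finset.range P.rank)
    {b : ↥(D.group F)} (hb : b ∈ borelIn D F) :
    Nat.card (MulAction.fixedBy (↥(D.group F) ⧸ D.parabolicIn F K) b) =
      Nat.card {y : ↥(D.group F) ⧸ borelIn D F // b • y = y ∧ K ⊆ h.ascC hC y} := by
  refine card_fixed_of_reps (h.borelIn_le_parabolicIn K) (fun y => K ⊆ h.ascC hC y)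
    (fun y hy => by rw [h.ascC_smul hC hb]; exact hy) (fun g g' hy hy' e => ?_) (fun g => ?_)
  · obtain ⟨hw, hc⟩ := h.cellWord_spec hC g
    obtain ⟨hw', hc'⟩ := h.cellWord_spec hC g'
    rw [h.ascC_mk hC hw hc] at hy
    rw [h.ascC_mk hC hw' hc'] at hy'
    refine Subgroup.mem_subgroupOf.2 ?_
    have e' := Subgroup.mem_subgroupOf.1 e
    simp only [Subgroup.coe_mul, InvMemClass.coe_inv] at e' ⊢
    exact h.min_coset hC hK hw hw' hy hy' hc hc' e'
  · obtain ⟨hw, c, hc, c', hc', e⟩ := h.cellWord_spec hC g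
    obtain ⟨x, hx, hmin⟩ := h.exists_min_right hK _ _ hw le_rfl
    have hxok := (wordIn_of_mem hK hx).1
    have hok := wordOk_append hw hxok
    have hmem : c * h.nW (h.cellWord hC g ++ x) ∈ D.group F :=
      mul_mem (h.borel_le_group hc) (h.monomial_le_group (h.nW_mem _ hok))
    have hcell : h.Cell (h.cellWord hC g ++ x) (⟨_, hmem⟩ : ↥(D.group F)).1 :=
      ⟨c, hc, 1, one_mem _, (mul_one _).symm⟩
    refine ⟨⟨_, hmem⟩, by rw [h.ascC_mk hC hok hcell]; exact hmin, ?_⟩
    refine Subgroup.mem_subgroupOf.2 ?_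
    have key : (c * (h.nW (h.cellWord hC g) * h.nW x))⁻¹ * (c * h.nW (h.cellWord hC g) * c') =
      (h.nW x)⁻¹ * c' := by group
    rw [← h.nW_append, ← e] at key
    rw [Subgroup.coe_mul, InvMemClass.coe_inv, key]
    exact mul_mem (inv_mem (h.nW_mem_parabolic hK x hx)) (Subgroup.mem_sup_left hc')

theorem steinberg_fixed (hC : P.ckComm = true) [Finite F] {b : ↥(D.group F)} (hb : b ∈ borelIn D F) :
    D.steinbergCharacter F b =
      (Nat.card {y : ↥(D.group F) ⧸ borelIn D F // b • y = y ∧ h.ascC hC y = ∅} : ℂ) := by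
  rw [← alt_sum_card (h.ascC hC) (Finset.range P.rank) (h.ascC_subset hC)]
  unfold ChevalleyDatum.steinbergCharacter fixedPointCharacter
  refine Finset.sum_congr (by rw [h.rank]) fun K hK => ?_
  rw [h.fixed_card hC (Finset.mem_powerset.1 hK) hb]

/-- A word without ascents makes all positive roots negative. -/
theorem neg_of_asc_empty {l : List ℕ} (hl : WordOk P l) (he : asc P l = ∅) {r : ℕ}
    (hr : P.isPos r = true) : P.isPos (wl P l r) = false := by
  have hrn := (P.isPos_iff.1 hr).2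
  have hsim : ∀ i < P.rank, P.isPos (wl P l (P.sim i)) = false := fun i hi => by
    by_contra hh
    have : i ∈ asc P l := mem_asc.2 ⟨hi, by simpa using hh⟩
    rw [he] at this
    exact absurd this (Finset.notMem_empty i)
  by_contra hh
  obtain ⟨m, hm, hpos⟩ := h.exists_pos_coord (r := wl P l r) (by simpa using hh)
  rw [h.rv_wl l hl r hrn m hm] at hpos
  have hle : ∑ k ∈ Finset.range P.rank, P.rv r k * P.rv (wl P l (P.sim k)) m ≤ 0 :=
    Finset.sum_nonpos fun k hk => mul_nonpos_of_nonneg_of_nonpos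
      ((h.rv_sign hrn (Finset.mem_range.1 hk)).1 hr)
      ((h.rv_sign (h.wl_lt l hl _ (h.sim_lt (Finset.mem_range.1 hk))) hm).2
        (hsim k (Finset.mem_range.1 hk)))
  omega

theorem asc_empty_of_neg {l : List ℕ}
    (hn : ∀ r, P.isPos r = true → P.isPos (wl P l r) = false) : asc P l = ∅ := by
  refine Finset.eq_empty_of_forall_notMem fun i hi => ?_
  obtain ⟨hi, hp⟩ := mem_asc.1 hi
  rw [hn _ (h.sim_pos hi)] at hp
  exact absurd hp (by simp)

theorem asc_reverse_empty {l : List ℕ} (hl : WordOk P l) (he : asc P l = ∅) :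
    asc P l.reverse = ∅ := by
  refine Finset.eq_empty_of_forall_notMem fun i hi => ?_
  obtain ⟨hi, hp⟩ := mem_asc.1 hi
  have h1 := h.neg_of_asc_empty hl he hp
  rw [h.wl_reverse' hl (h.sim_lt hi), h.sim_pos hi] at h1
  exact absurd h1 (by simp)

/-- Two words without ascents act equally. -/
theorem top_unique {l l' : List ℕ} (hl : WordOk P l) (hl' : WordOk P l') (he : asc P l = ∅)
    (he' : asc P l' = ∅) : ∀ r < P.nroots, wl P l r = wl P l' r := by
  have hr := wordOk_reverse hl
  have hok := wordOk_append hr hl'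
  have htriv : ∀ r < P.nroots, wl P (l.reverse ++ l') r = r := by
    refine fun r hr' => h.wl_eq_id _ _ le_rfl hok (fun i hi => ?_) r hr'
    have hx := h.wl_lt l' hl' _ (h.sim_lt hi)
    have hxn := h.neg_of_asc_empty hl' he' (h.sim_pos hi)
    rw [wl_append]
    by_contra hh
    have hz := h.wl_lt _ hr _ hx
    have h1 := h.neg_of_asc_empty hl he ((h.ng_pos_iff hz).2 (by simpa using hh))
    rw [h.wl_ng l hl _ hz, h.wl_reverse' hl hx, ← Bool.not_eq_true, h.ng_pos_iff hx] at h1
    exact h1 hxn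
  intro r hr'
  have h1 := htriv r hr'
  rw [wl_append] at h1
  have h2 := congrArg (wl P l) h1
  rw [h.wl_reverse' hl (h.wl_lt l' hl' r hr')] at h2
  exact h2.symm

/-- The stabiliser of the opposite coset in the Borel subgroup is `H`. -/
theorem borel_inf_conj_top {l : List ℕ} (hl : WordOk P l) (he : asc P l = ∅) {b : GL D.Idx F}
    (hb : b ∈ D.borelSubgroup F) (hb' : (h.nW l)⁻¹ * b * h.nW l ∈ D.borelSubgroup F) :
    b ∈ D.diagonalSubgroup F := by
  obtain ⟨u, hu, d, hd, e⟩ := h.mem_borel hb'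
  have hu' : u ∈ h.genR (negS P l) :=
    h.posUnipotent_le (fun r hr t => h.xG_mem_genR (S := negS P l) ⟨hr, h.neg_of_asc_empty hl he hr⟩ t) hu
  have h1 : h.nW l * u * (h.nW l)⁻¹ ∈ D.negUnipotent F := by
    simpa using h.uminus_conj hl (one_mem (D.diagonalSubgroup F)) hu'
  have h2 : h.nW l * d * (h.nW l)⁻¹ ∈ D.diagonalSubgroup F :=
    (Subgroup.mem_normalizer_iff.1 (h.nW_normalizer (F := F) l hl) d).1 hd
  have e2 : b = (h.nW l * u * (h.nW l)⁻¹) * (h.nW l * d * (h.nW l)⁻¹) := by
    rw [show b = h.nW l * ((h.nW l)⁻¹ * b * h.nW l) * (h.nW l)⁻¹ by group, e]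
    group
  rw [← h.borel_inf_neg_diag]
  exact Subgroup.mem_inf.2 ⟨hb, e2 ▸ mul_mem (Subgroup.mem_sup_left h1) (Subgroup.mem_sup_right h2)⟩

theorem steinberg_borel (hC : P.ckComm = true) [Finite F] (b : ↥(borelIn D F)) :
    D.steinbergCharacter F b.1 = Cfsg.fixedPointCharacter
      (((D.diagonalSubgroup F).subgroupOf (D.group F)).subgroupOf (borelIn D F)) b := by
  rw [h.steinberg_fixed hC b.2]
  unfold fixedPointCharacter
  congr 1
  symm
  obtain ⟨l, hl, hneg⟩ := h.exists_longest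
  have he : asc P l = ∅ := h.asc_empty_of_neg hneg
  let n₀ : ↥(D.group F) := ⟨h.nW l, h.monomial_le_group (h.nW_mem l hl)⟩
  refine card_fixed_orbit n₀ (fun x => ?_) (fun y => h.ascC hC y = ∅) (fun g => ?_) b
  · rw [Subgroup.mem_subgroupOf, Subgroup.mem_subgroupOf]
    constructor
    · intro hd
      refine Subgroup.mem_subgroupOf.2 (Subgroup.mem_sup_right ?_)
      simpa [n₀] using
        (Subgroup.mem_normalizer_iff.1 (inv_mem (h.nW_normalizer (F := F) l hl)) _).1 hd
    · intro hd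
      refine h.borel_inf_conj_top hl he (Subgroup.mem_subgroupOf.1 x.2) ?_
      simpa [n₀] using Subgroup.mem_subgroupOf.1 hd
  · obtain ⟨hw, hc⟩ := h.cellWord_spec hC g
    rw [h.ascC_mk hC hw hc]
    constructor
    · intro hye
      obtain ⟨c, hc1, c', hc2, e⟩ := h.cell_congr hw hl (h.top_unique hw hl hye he) hc
      refine ⟨⟨⟨c, h.borel_le_group hc1⟩, Subgroup.mem_subgroupOf.2 hc1⟩, Subgroup.mem_subgroupOf.2 ?_⟩
      have key : (c * h.nW l)⁻¹ * (c * h.nW l * c') = c' := by group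
      rw [← e] at key
      simpa [n₀, mul_assoc] using (key ▸ hc2 : (c * h.nW l)⁻¹ * g.1 ∈ D.borelSubgroup F)
    · rintro ⟨x, hx⟩
      have hx' := Subgroup.mem_subgroupOf.1 hx
      have hg : h.Cell l g.1 := ⟨x.1.1, Subgroup.mem_subgroupOf.1 x.2, _, hx', by simp [n₀, mul_assoc]⟩
      rw [h.asc_congr (h.cell_unique hC hw hl hc hg), he]

theorem steinberg_one (hC : P.ckComm = true) [Fintype F] :
    D.steinbergCharacter F 1 = (Fintype.card F : ℂ) ^ (P.nroots / 2) := by
  have e := h.steinberg_borel hC (F := F) 1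
  rw [OneMemClass.coe_one] at e
  rw [e]
  unfold fixedPointCharacter
  rw [← Nat.cast_pow, Nat.cast_inj, MulAction.fixedBy_one_eq_univ, Nat.card_univ, ← h.card_pos (F := F) hC]
  set H' := ((D.diagonalSubgroup F).subgroupOf (D.group F)).subgroupOf (borelIn D F)
  have hB : Nat.card ↥(borelIn D F) = Nat.card (D.borelSubgroup F) :=
    Nat.card_congr (Subgroup.subgroupOfEquivOfLe h.borel_le_group).toEquiv
  have hH : Nat.card H' = Nat.card (D.diagonalSubgroup F) := by
    have hle : (D.diagonalSubgroup F).subgroupOf (D.group F) ≤ borelIn D F :=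
      fun x hx => Subgroup.mem_subgroupOf.2 (Subgroup.mem_sup_right (Subgroup.mem_subgroupOf.1 hx))
    rw [Nat.card_congr (Subgroup.subgroupOfEquivOfLe hle).toEquiv,
      Nat.card_congr (Subgroup.subgroupOfEquivOfLe h.diagonal_le_group).toEquiv]
  have hl := Subgroup.card_eq_card_quotient_mul_card_subgroup H'
  rw [hB, hH, h.card_borel] at hl
  exact (Nat.eq_of_mul_eq_mul_right Nat.card_pos hl).symm

end Ok

end Cfsg.Agent.Chev
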