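/-
Blocks of positive defect of a Chevalley group in the defining characteristic have full defect.
-/
import Cfsg.Agent.Lib.Chev.RootCentralizer
import Cfsg.Agent.Lib.Blocks.Green
import Cfsg.Agent.Lib.Blocks.FirstMain
import Cfsg.Agent.Lib.Chev.DefectZero

set_option autoImplicit false
set_option linter.unusedSectionVars false

namespace Cfsg.Agent.Chev

open Cfsg.Lie Cfsg.Agent.Blocks
open scoped Pointwise

universe u

/-- A `p`-subgroup normalised by a subgroup containing `D` and `C(D)` lies in the defect group `D`. -/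
theorem le_defect_of_normalized {G : Type u} [Group G] [Finite G] {p : ℕ} [Fact p.Prime]
    {M : Ideal AlgInt} [M.IsPrime] (hM : IsPModular p M) {B : Set (IrrCharacter G)} (hB : IsPBlock M B)
    {D Q K : Subgroup G} (hD : IsDefectGroup p M B D) (hDK : D ≤ K)
    (hCK : Subgroup.centralizer (D : Set G) ≤ K) (hQK : Q ≤ K) (hQp : IsPGroup p Q)
    (hKQ : K ≤ Subgroup.normalizer (Q : Set G)) : Q ≤ D := by
  classical
  have := charP_res hM
  obtain ⟨g, -, -, hDp, -⟩ := defectGroup_spec hD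
  set N := K ⊓ Subgroup.normalizer (D : Set G) with hN
  have hDN : D ≤ N := le_inf hDK Subgroup.le_normalizer
  have hCN : Subgroup.centralizer (D : Set G) ≤ N := le_inf hCK (Subgroup.centralizer_le_normalizer _)
  obtain ⟨ξ, hξ⟩ := exists_block_inducing hM hDp hDN hCN inf_le_right hB
    ((br_bBar_ne_zero_iff hM hB hD hDp).mpr ⟨1, by rw [map_conj_one]⟩)
  have hdef := defect_of_induced hM hDN hCN inf_le_right hξ hD
  have hinter : Q ⊓ Subgroup.normalizer (D : Set G) ≤ D := by
    have hle : Q ⊓ Subgroup.normalizer (D : Set G) ≤ N := le_inf (inf_le_left.trans hQK) inf_le_right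
    have : ((Q ⊓ Subgroup.normalizer (D : Set G)).subgroupOf N).Normal := ⟨fun y hy x => by
      rw [Subgroup.mem_subgroupOf] at hy ⊢
      exact ⟨(Subgroup.mem_normalizer_iff.1 (hKQ x.2.1) _).1 hy.1, (x * y * x⁻¹ : N).2.2⟩⟩
    intro y hy
    exact normal_le_defect hM hξ.1 (Q := (Q ⊓ Subgroup.normalizer (D : Set G)).subgroupOf N)
      ((hQp.to_le inf_le_left).comap_subtype) hdef
      (x := ⟨y, hle hy⟩) hy
  have hDQ : D ≤ Subgroup.normalizer (Q : Set G) := hDK.trans hKQ
  set S := D ⊔ Q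
  have hS : IsPGroup p S := hDp.to_sup_of_normal_right' hQp hDQ
  have : Group.IsNilpotent S := hS.isNilpotent
  by_contra hne
  have hlt : D.subgroupOf S < ⊤ := lt_top_iff_ne_top.mpr fun hh =>
    hne (le_sup_right.trans (Subgroup.subgroupOf_eq_top.mp hh))
  obtain ⟨x, hxN, hxD⟩ := SetLike.exists_of_lt
    (Group.normalizerCondition_of_isNilpotent (D.subgroupOf S) hlt)
  have hxN' : (x : G) ∈ Subgroup.normalizer (D : Set G) := by
    rw [Subgroup.mem_normalizer_iff]
    intro y
    constructor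
    · intro hy
      exact (Subgroup.mem_normalizer_iff.mp hxN ⟨y, Subgroup.mem_sup_left hy⟩).mp hy
    · intro hy
      have hyS : y ∈ S := by
        have : (x : G)⁻¹ * ((x : G) * y * (x : G)⁻¹) * x ∈ S :=
          mul_mem (mul_mem (inv_mem x.2) (Subgroup.mem_sup_left hy)) x.2
        simpa [mul_assoc] using this
      exact (Subgroup.mem_normalizer_iff.mp hxN ⟨y, hyS⟩).mpr hy
  obtain ⟨d, hd, q, hq, hdq⟩ : (x : G) ∈ (D : Set G) * (Q : Set G) := by
    rw [← Subgroup.coe_mul_of_left_le_normalizer_right D Q hDQ]; exact x.2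
  have hdq' : d * q = (x : G) := hdq
  refine hxD (show (x : G) ∈ D from ?_)
  rw [← hdq']
  refine mul_mem hd (hinter ⟨hq, ?_⟩)
  rw [← inv_mul_cancel_left d q, hdq']
  exact mul_mem (Subgroup.inv_mem _ (Subgroup.le_normalizer hd)) hxN'

variable {D : ChevalleyDatum} {P : Pk} {F : Type u} [Field F]

namespace Ok

variable (h : Ok D P)
include h

/-- The intersection of `U` with a conjugate by a monomial element is generated by root subgroups. -/
theorem pos_inf_conj (hC : P.ckComm = true) {l : List ℕ} (hl : WordOk P l) {g : GL D.Idx F} :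
    g ∈ D.posUnipotent F ∧ (h.nW l)⁻¹ * g * h.nW l ∈ D.posUnipotent F ↔
      g ∈ h.genR (fun r => P.isPos r = true ∧ P.isPos (wl P l.reverse r) = true) := by
  have hrev := wordOk_reverse hl
  have hz : (h.nW (F := F) l)⁻¹ = (h.nW l.reverse * h.nW l)⁻¹ * h.nW l.reverse := by group
  have hd : (h.nW (F := F) l.reverse * h.nW l)⁻¹ ∈ D.borelSubgroup F :=
    Subgroup.mem_sup_right (inv_mem (h.nW_reverse_mul hl))
  have e : (h.nW l)⁻¹ * g * h.nW l = (h.nW l.reverse * h.nW l)⁻¹ *
      (h.nW l.reverse * g * (h.nW l.reverse)⁻¹) * ((h.nW l.reverse * h.nW l)⁻¹)⁻¹ := by group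
  constructor
  · rintro ⟨h1, h2⟩
    refine h.pos_part_of_conj hC hrev h1 ?_
    rw [e] at h2
    simpa [mul_assoc] using h.conj_pos' hd h2
  · intro hg
    refine ⟨h.genR_le (fun r hr t => h.xG_mem_pos hr.1 t) hg, ?_⟩
    rw [e]
    exact h.conj_pos hd (by simpa using h.uplus_conj hrev (one_mem _) hg)

/-- A nonempty finite orbit has a root of greatest height. -/
theorem exists_max_orbit {r : ℕ} (hr : P.isPos r = true) :
    ∃ l, WordOk P l ∧ P.isPos (wl P l r) = true ∧
      ∀ l', WordOk P l' → P.ht (wl P l' (wl P l r)) ≤ P.ht (wl P l r) := by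
  classical
  have hrn := (P.isPos_iff.1 hr).2
  let O := (Finset.range P.nroots).filter fun s => ∃ l, WordOk P l ∧ wl P l r = s
  obtain ⟨s, hs, hmax⟩ := O.exists_max_image P.ht
    ⟨r, Finset.mem_filter.2 ⟨Finset.mem_range.2 hrn, [], fun _ hx => absurd hx List.not_mem_nil, rfl⟩⟩
  obtain ⟨hsn, l, hl, rfl⟩ := Finset.mem_filter.1 hs
  refine ⟨l, hl, ?_, fun l' hl' => hmax _ (Finset.mem_filter.2
    ⟨Finset.mem_range.2 (h.wl_lt l' hl' _ (Finset.mem_range.1 hsn)), l' ++ l, wordOk_append hl' hl,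
      wl_append P l' l r⟩)⟩
  by_contra hn
  have hlt := h.wl_lt l hl r hrn
  have h1 := hmax r (Finset.mem_filter.2
    ⟨Finset.mem_range.2 hrn, [], fun _ hx => absurd hx List.not_mem_nil, rfl⟩)
  have h2 := h.ht_pos hr
  have h3 := h.ht_pos ((h.ng_pos_iff hlt).2 (by simpa using hn))
  have h4 : P.ht (P.ng (wl P l r)) = - P.ht (wl P l r) := by
    have hset : (List.range P.rank).toFinset = Finset.range P.rank := by ext; simp
    rw [Pk.ht, Pk.ht, ← List.sum_toFinset _ List.nodup_range, ← List.sum_toFinset _ List.nodup_range,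
      hset, ← Finset.sum_neg_distrib]
    exact Finset.sum_congr rfl fun i hi => h.rv_ng hlt (Finset.mem_range.1 hi)
  omega

theorem unipotentRadical_le_pos (J : Set ℕ) : D.unipotentRadical F J ≤ D.posUnipotent F := by
  rw [h.radical_eq]
  exact h.genR_le fun r hr t => h.xG_mem_pos ((h.out_iff J r).1 hr).1 t

variable [Fintype F] [DecidableEq F] (p : ℕ) [Fact p.Prime] [CharP F p] {M : Ideal AlgInt} [M.IsPrime]
  (hC : P.ckComm = true) (hck : Aut.ckFit P = true) (hdom : ckDom P = true)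

include hC hck hdom in
/-- A block of positive defect has full defect. -/
theorem full_defect (hM : IsPModular p M) {B : Set (IrrCharacter ↥(D.group F))} (hB : IsPBlock M B)
    (hd : blockDefect p B ≠ 0) : blockDefect p B = (Nat.card ↥(D.group F)).factorization p := by
  classical
  have := charP_res hM
  set U : Subgroup ↥(D.group F) := (D.posUnipotent F).subgroupOf (D.group F) with hU
  obtain ⟨S, hS⟩ := h.pos_sylow (F := F) p hC
  obtain ⟨D₀, hD₀⟩ := exists_defectGroup (p := p) hB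
  obtain ⟨-, -, -, hD₀p, -⟩ := defectGroup_spec hD₀
  obtain ⟨T, hT⟩ := hD₀p.exists_le_sylow
  obtain ⟨c, hc⟩ := MulAction.exists_smul_eq ↥(D.group F) T S
  have hD₁ := isDefectGroup_conj hD₀ c
  set D₁ := D₀.map (MulAut.conj c).toMonoidHom
  have hD₁U : D₁ ≤ U := by
    intro y hy
    rw [mem_map_conj] at hy
    have h1 : (MulAut.conj c) (c⁻¹ * y * c) ∈ (c • T : Sylow p ↥(D.group F)).1 :=
      Subgroup.mem_map_of_mem _ (hT hy)
    rw [hc, hS, MulAut.conj_apply] at h1
    simpa [mul_assoc] using h1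
  obtain ⟨x, -, -, -, hx⟩ := exists_sylow_intersection hM hB hD₁ (P := U)
    (h.gU_isPGroup p hC) hD₁U
  -- Bruhat form of `x`
  obtain ⟨b, hb, l, hl, u, hu, hxe⟩ := h.bruhat_exists hC x.2
  set bb : ↥(D.group F) := ⟨b, h.borel_le_group hb⟩
  have hD₂ := isDefectGroup_conj hD₁ bb⁻¹
  set D₂ := D₁.map (MulAut.conj bb⁻¹).toMonoidHom
  have hmem : ∀ g : ↥(D.group F), g ∈ D₂ ↔
      g.1 ∈ h.genR (fun r => P.isPos r = true ∧ P.isPos (wl P l.reverse r) = true) := by
    intro g
    rw [mem_map_conj, inv_inv, ← hx, Subgroup.mem_inf, mem_map_conj, ← h.pos_inf_conj hC hl,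
      Subgroup.mem_subgroupOf, Subgroup.mem_subgroupOf]
    simp only [Subgroup.coe_mul, InvMemClass.coe_inv, bb, hxe]
    have huU : u ∈ D.posUnipotent F := h.negS_le_pos l hu
    refine and_congr ⟨fun hh => ?_, fun hh => h.conj_pos hb hh⟩ ⟨fun hh => ?_, fun hh => ?_⟩
    · simpa [mul_assoc] using h.conj_pos' hb hh
    · have := mul_mem (mul_mem huU hh) (inv_mem huU)
      convert this using 1
      group
    · have := mul_mem (mul_mem (inv_mem huU) hh) huU
      convert this using 1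
      group
  set Sr : ℕ → Prop := fun r => P.isPos r = true ∧ P.isPos (wl P l.reverse r) = true with hSr
  -- the defect group has a root element in its centre
  have hne : ∃ r, Sr r := by
    by_contra hno
    push Not at hno
    have hbot : h.genR (F := F) Sr ≤ ⊥ := h.genR_le fun r hr => absurd hr (hno r)
    have hD2 : D₂ = ⊥ := (Subgroup.eq_bot_iff_forall _).2 fun g hg =>
      Subtype.ext (Subgroup.mem_bot.1 (hbot ((hmem g).1 hg)))
    have hcd := card_defectGroup hM hB hD₂
    rw [hD2, Subgroup.card_bot] at hcd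
    exact hd ((pow_eq_one_iff_right (Fact.out (p := p.Prime)).ne_one).mp hcd.symm)
  obtain ⟨β, hβ, hβmax⟩ := ((Finset.range P.nroots).filter fun r => Sr r).exists_max_image P.ht
    (by obtain ⟨r, hr⟩ := hne; exact ⟨r, Finset.mem_filter.2 ⟨Finset.mem_range.2 (P.isPos_iff.1 hr.1).2, hr⟩⟩)
  obtain ⟨hβn, hβS⟩ := Finset.mem_filter.1 hβ
  have hβn' := Finset.mem_range.1 hβn
  have hlen : ∀ r, Sr r → P.len r β = 0 ∧ P.len β r = 0 := by
    intro r hr
    have hrn := (P.isPos_iff.1 hr.1).2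
    have hrev := wordOk_reverse hl
    have hclosed : ∀ a a' k, Sr a → Sr a' → k < P.len a a' → Sr (P.tgt a a' k) := by
      intro a a' k ha ha' hk
      have han := (P.isPos_iff.1 ha.1).2
      have ha'n := (P.isPos_iff.1 ha'.1).2
      refine ⟨(h.pos_tgt ha.1 ha'.1 hk).1, ?_⟩
      by_contra hneg
      have htn := h.tgt_lt han ha'n hk
      obtain ⟨m, hm, hne⟩ := h.rv_exists_ne (h.wl_lt _ hrev _ htn)
      have h1 := (h.rv_sign (h.wl_lt _ hrev _ htn) hm).2 (by simpa using hneg)
      have h2 : P.rv (wl P l.reverse (P.tgt a a' k)) m =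
          (k + 1) * P.rv (wl P l.reverse a) m + P.rv (wl P l.reverse a') m := by
        rw [h.rv_wl _ hrev _ htn m hm, h.rv_wl _ hrev a han m hm, h.rv_wl _ hrev a' ha'n m hm,
          Finset.mul_sum, ← Finset.sum_add_distrib]
        refine Finset.sum_congr rfl fun i hi => ?_
        rw [h.rv_additive han ha'n hk (Finset.mem_range.1 hi)]; ring
      have h3 := (h.rv_sign (h.wl_lt _ hrev _ han) hm).1 ha.2
      have h4 := (h.rv_sign (h.wl_lt _ hrev _ ha'n) hm).1 ha'.2
      nlinarith [mul_nonneg (Int.natCast_nonneg k) h3, lt_of_le_of_ne h1 hne]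
    have hb1 := h.ht_pos hr.1
    have hb2 := h.ht_pos hβS.1
    constructor <;> by_contra hk
    · have hs := hclosed r β 0 hr hβS (Nat.pos_of_ne_zero hk)
      have := hβmax _ (Finset.mem_filter.2 ⟨Finset.mem_range.2 (P.isPos_iff.1 hs.1).2, hs⟩)
      rw [h.ht_tgt hrn hβn' (Nat.pos_of_ne_zero hk)] at this
      push_cast at this
      omega
    · have hs := hclosed β r 0 hβS hr (Nat.pos_of_ne_zero hk)
      have := hβmax _ (Finset.mem_filter.2 ⟨Finset.mem_range.2 (P.isPos_iff.1 hs.1).2, hs⟩)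
      rw [h.ht_tgt hβn' hrn (Nat.pos_of_ne_zero hk)] at this
      push_cast at this
      omega
  -- move the root to the top of its orbit
  obtain ⟨v, hv, hβ'pos, hβ'max⟩ := h.exists_max_orbit hβS.1
  set β' := wl P v β
  obtain ⟨e, he, hvx⟩ := h.conj_nW hv (one_mem (D.diagonalSubgroup F)) hβn'
  set nv : ↥(D.group F) := ⟨h.nW v, h.monomial_le_group (h.nW_mem v hv)⟩
  have hD₃ := isDefectGroup_conj hD₂ nv
  set D₃ := D₂.map (MulAut.conj nv).toMonoidHom
  let xb : ↥(D.group F) := ⟨h.xG β' 1, h.borel_le_group (Subgroup.mem_sup_left (h.xG_mem_pos hβ'pos _))⟩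
  have hxb : nv⁻¹ * xb * nv ∈ D₂ := by
    rw [hmem]
    have h1 := hvx e⁻¹
    rw [mul_one (h.nW v), mul_inv_cancel₀ he] at h1
    show (h.nW v)⁻¹ * h.xG β' 1 * h.nW v ∈ _
    rw [← h1, show (h.nW v)⁻¹ * (h.nW v * h.xG β e⁻¹ * (h.nW v)⁻¹) * h.nW v = h.xG β e⁻¹ by group]
    exact h.xG_mem_genR hβS _
  have hxcen : ∀ g ∈ D₃, g * xb = xb * g := by
    intro g hg
    rw [mem_map_conj] at hg
    have hcom : Commute (nv⁻¹ * g * nv).1 (h.xG β e⁻¹) := by
      have hle : h.genR (F := F) Sr ≤ Subgroup.centralizer {h.xG β e⁻¹} := h.genR_le fun r hr t =>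
        Subgroup.mem_centralizer_singleton_iff.2
          (h.xG_commute hC hβS.1 hr.1 (hlen r hr).2 (hlen r hr).1 _ _).eq
      exact Subgroup.mem_centralizer_singleton_iff.1 (hle ((hmem _).1 hg))
    have h1 := hcom.map (MulAut.conj (h.nW v))
    have h2 := hvx e⁻¹
    rw [mul_one (h.nW v), mul_inv_cancel₀ he] at h2
    simp only [MulAut.conj_apply, Subgroup.coe_mul, InvMemClass.coe_inv, nv, h2] at h1
    refine Subtype.ext ?_
    rw [show h.nW v * ((h.nW v)⁻¹ * g.1 * h.nW v) * (h.nW v)⁻¹ = g.1 by group] at h1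
    exact h1.eq
  set J : Set ℕ := {i | P.A i β' = 0}
  have hJne : ∃ i, i < D.rank ∧ i ∉ J := by
    by_contra hall
    push Not at hall
    have h2 := (h.roots_spec (P.isPos_iff.1 hβ'pos).2).2.1
    rw [Pk.pair, ← List.sum_toFinset _ List.nodup_range, Finset.sum_eq_zero fun i hi => by
      rw [show P.A i β' = 0 from hall i (by rw [h.rank]; simpa using hi), mul_zero]] at h2
    exact absurd h2 (by norm_num)
  set K : Subgroup ↥(D.group F) := (D.parabolicSubgroup F J).subgroupOf (D.group F)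
  have hle : ∀ g : ↥(D.group F), g * xb = xb * g → g ∈ K := fun g hg => Subgroup.mem_subgroupOf.2
    (h.centralizer_le_parabolic hC hdom hβ'pos hβ'max g.2 (congrArg Subtype.val hg))
  have hxD : xb ∈ D₃ := mem_map_conj.2 hxb
  have hDK : D₃ ≤ K := fun g hg => hle g (hxcen g hg)
  have hCK : Subgroup.centralizer (D₃ : Set ↥(D.group F)) ≤ K := fun g hg =>
    hle g (Subgroup.mem_centralizer_iff.1 hg xb hxD).symm
  set Q : Subgroup ↥(D.group F) := (D.unipotentRadical F J).subgroupOf (D.group F)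
  have hradU := h.unipotentRadical_le_pos (F := F) J
  have hQD : Q ≤ D₃ := by
    refine le_defect_of_normalized hM hB hD₃ hDK hCK (fun g hg => Subgroup.mem_subgroupOf.2
      (Subgroup.mem_sup_left (Subgroup.mem_sup_left (hradU (Subgroup.mem_subgroupOf.1 hg)))))
      ((h.gU_isPGroup p hC).to_le fun g hg => Subgroup.mem_subgroupOf.2 (hradU (Subgroup.mem_subgroupOf.1 hg)))
      fun k hk => ?_
    have hk' := h.radical_normal hC J (Subgroup.mem_subgroupOf.1 hk)
    refine Subgroup.mem_normalizer_iff.2 fun y => ?_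
    simp only [Q, Subgroup.mem_subgroupOf, Subgroup.coe_mul, InvMemClass.coe_inv]
    exact Subgroup.mem_normalizer_iff.1 hk' y.1
  -- the defect class is trivial
  obtain ⟨g, hg, hgle, -, -⟩ := defectGroup_spec hD₃
  have hgC : ∀ y ∈ D₃, g * y = y * g := fun y hy =>
    (Subgroup.mem_centralizer_singleton_iff.1 (hgle hy)).symm
  have hgpos : g.1 ∈ D.posUnipotent F := Aut.mem_pos_of_centralizes h hC hck J hJne
    (Subgroup.mem_subgroupOf.1 (hle g (hgC xb hxD))) fun y hy => congrArg Subtype.val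
      (hgC ⟨y, h.borel_le_group (Subgroup.mem_sup_left (hradU hy))⟩ (hQD (Subgroup.mem_subgroupOf.2 hy)))
  have hg1 : g = 1 := by
    obtain ⟨k, hk⟩ := IsPGroup.iff_orderOf.mp (h.gU_isPGroup p hC) ⟨g, Subgroup.mem_subgroupOf.2 hgpos⟩
    rw [Subgroup.orderOf_mk] at hk
    have hreg := regular_of_defectClass hM hB hg
    rcases Nat.eq_zero_or_pos k with rfl | hk0
    · exact orderOf_eq_one_iff.1 (by simpa using hk)
    · exact absurd (hk ▸ dvd_pow_self p hk0.ne') hreg
  rw [blockDefect_eq hM hB hg]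
  congr 1
  rw [show Subgroup.centralizer ({g} : Set ↥(D.group F)) = ⊤ by
    rw [eq_top_iff]; intro y _
    exact Subgroup.mem_centralizer_singleton_iff.mpr (by rw [hg1, one_mul, mul_one]), Subgroup.card_top]

include hC hck in
/-- A regular element centralising the Sylow subgroup is trivial. -/
theorem eq_one_of_centralizes_pos {g : ↥(D.group F)} (hreg : ¬ p ∣ orderOf g)
    (hg : ∀ u : ↥(D.group F), u.1 ∈ D.posUnipotent F → g * u = u * g) : g = 1 := by
  have hc : ∀ u ∈ D.posUnipotent F, g.1 * u = u * g.1 := fun u hu =>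
    congrArg Subtype.val (hg ⟨u, h.borel_le_group (Subgroup.mem_sup_left hu)⟩ hu)
  have hB : g.1 ∈ D.borelSubgroup F := h.mem_borel_of_conj_sim hC g.2 fun i hi => by
    have hx := h.xG_mem_pos (h.sim_pos hi) (1 : F)
    refine ⟨1, one_ne_zero, ?_⟩
    rw [hc _ hx, mul_inv_cancel_right]
    exact hx
  have hgpos : g.1 ∈ D.posUnipotent F := Aut.mem_pos_of_centralizes h hC hck ∅
    ⟨0, by rw [h.rank]; have := h.basic; simp [Pk.ckBasic] at this; omega, Set.notMem_empty _⟩
    (Subgroup.mem_sup_left hB) fun y hy => hc y (h.unipotentRadical_le_pos (F := F) ∅ hy)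
  obtain ⟨k, hk⟩ := IsPGroup.iff_orderOf.mp (h.gU_isPGroup p hC) ⟨g, Subgroup.mem_subgroupOf.2 hgpos⟩
  rw [Subgroup.orderOf_mk] at hk
  rcases Nat.eq_zero_or_pos k with rfl | hk0
  · exact orderOf_eq_one_iff.1 (by simpa using hk)
  · exact absurd (hk ▸ dvd_pow_self p hk0.ne') hreg

end Ok

end Cfsg.Agent.Chev
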