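/-
The Steinberg character is irreducible.
-/
import Cfsg.Agent.Lib.Chev.Steinberg
import Cfsg.Agent.Lib.GLUnipotent.Counting
import Cfsg.Agent.Lib.CT.Induced
import Cfsg.Agent.Lib.Blocks.Orthogonality
import Cfsg.Agent.Lib.Blocks.Knorr

set_option autoImplicit false

namespace Cfsg.Agent.Chev

open Cfsg.Lie

universe u

/-- A character of defect zero vanishes at the singular elements. -/
theorem irr_vanish_of_defect_zero {G : Type u} [Group G] [Finite G] {p : ℕ} [Fact p.Prime] {χ : G → ℂ}
    (hχ : IsIrrCharacter G χ) {d q : ℕ} (hd : χ 1 = (d : ℂ)) (hq : Nat.card G = d * q) (hpq : ¬ p ∣ q)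
    {g : G} (hg : p ∣ orderOf g) : χ g = 0 := by
  classical
  haveI := Fintype.ofFinite G
  obtain ⟨M, hM⟩ := Blocks.exists_isPModular (p := p) Fact.out
  haveI := hM.2.1.isPrime
  let c : IrrCharacter G := ⟨χ, hχ⟩
  have hd0 : (d : ℂ) ≠ 0 := by
    intro e
    have hd' : d = 0 := by exact_mod_cast e
    rw [hd', zero_mul] at hq
    exact Nat.card_pos.ne' hq
  have hq0 : (q : ℂ) ≠ 0 := by
    intro e
    have : q = 0 := by exact_mod_cast e
    exact hpq (this ▸ dvd_zero p)
  have hco : ∀ x, blockCoeff ({c} : Set (IrrCharacter G)) x = (q : ℂ)⁻¹ * starRingEnd ℂ (χ x) := fun x => by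
    rw [blockCoeff, finsum_mem_singleton, show (c : G → ℂ) = χ from rfl, hd, hq]
    push_cast
    field_simp
  have hB : blockOf M χ = {c} := by
    refine Set.Subset.antisymm (Blocks.blockOf_subset_of_integral (χ := c) (fun x => ?_) rfl)
      (Set.singleton_subset_iff.mpr (Blocks.self_mem_blockOf c))
    rw [hco]
    exact mul_mem (Blocks.inv_mem_loc (natCast_mem _ _)
      fun hI => hpq ((Blocks.memLocalIdeal_natCast hM q).mp hI))
      (Blocks.integral_mem_loc (CT.isIntegral_conj (Blocks.isIntegral_irr hχ x)))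
  have h1 := Blocks.blockCoeff_block_eq_zero hM (Blocks.isPBlock_blockOf c) hg
  rw [show blockOf M (c : G → ℂ) = {c} from hB, hco, mul_eq_zero, map_eq_zero] at h1
  exact h1.resolve_left (inv_ne_zero hq0)

variable {D : ChevalleyDatum} {P : Pk} {F : Type*} [Field F]

namespace Ok

variable (h : Ok D P)
include h

theorem wl_reverse_congr {l l' : List ℕ} (hl : WordOk P l) (hl' : WordOk P l')
    (e : ∀ r < P.nroots, wl P l r = wl P l' r) :
    ∀ r < P.nroots, wl P l.reverse r = wl P l'.reverse r := by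
  intro r hr
  have hx := h.wl_lt _ (wordOk_reverse hl) r hr
  have h1 := e _ hx
  rw [h.wl_reverse' hl hr] at h1
  conv_rhs => rw [h1]
  rw [h.wl_reverse l' hl' _ hx]

/-- A positive root of `J` sent to a fundamental root by a word keeping `J` positive is fundamental. -/
theorem sim_of_image {J : Finset ℕ} {l : List ℕ} (hl : WordOk P l)
    (hmin : J ⊆ asc P l) {γ : ℕ} (hγ : P.isPos γ = true) (hγJ : inJ P J.toList γ = true) {i : ℕ}
    (hi : i < P.rank) (e : wl P l γ = P.sim i) : ∃ j ∈ J, γ = P.sim j := by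
  have hγn := (P.isPos_iff.1 hγ).2
  obtain ⟨k, hk, hc⟩ := h.exists_pos_coord hγ
  have hkJ : k ∈ J := by
    by_contra hn
    rw [inJ_iff.1 hγJ k hk (fun hh => hn (Finset.mem_toList.1 hh))] at hc
    omega
  refine ⟨k, hkJ, ?_⟩
  have hsk := h.sim_lt hk
  have hw := h.wl_lt l hl _ hsk
  have hpk : P.isPos (wl P l (P.sim k)) = true := (mem_asc.1 (hmin hkJ)).2
  have hle : ∀ m < P.rank, P.rv γ k * P.rv (wl P l (P.sim k)) m ≤ if i = m then 1 else 0 := by
    intro m hm
    rw [← h.rv_sim hi hm, ← e, h.rv_wl l hl γ hγn m hm]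
    refine Finset.single_le_sum (f := fun x => P.rv γ x * P.rv (wl P l (P.sim x)) m) (fun x hx => ?_)
      (Finset.mem_range.2 hk)
    by_cases hxJ : x ∈ J
    · exact mul_nonneg ((h.rv_sign hγn (Finset.mem_range.1 hx)).1 hγ)
        ((h.rv_sign (h.wl_lt l hl _ (h.sim_lt (Finset.mem_range.1 hx))) hm).1 (mem_asc.1 (hmin hxJ)).2)
    · rw [inJ_iff.1 hγJ x (Finset.mem_range.1 hx) (fun hh => hxJ (Finset.mem_toList.1 hh)), zero_mul]
  have heq : wl P l (P.sim k) = P.sim i := by
    refine h.rv_inj hw (h.sim_lt hi) fun m hm => ?_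
    rw [h.rv_sim hi hm]
    obtain ⟨m₀, hm₀, hpos⟩ := h.exists_pos_coord hpk
    have h0 := (h.rv_sign hw hm).1 hpk
    have h1 := hle m hm
    have h2 := hle m₀ hm₀
    by_cases him : i = m
    · subst him
      rw [if_pos rfl] at h1 ⊢
      have : m₀ = i := by
        by_contra hne
        rw [if_neg (Ne.symm hne)] at h2
        nlinarith
      subst this
      nlinarith
    · rw [if_neg him] at h1 ⊢
      nlinarith
  have h1 := congrArg (wl P l.reverse) (e.trans heq.symm)
  rwa [h.wl_reverse l hl γ hγn, h.wl_reverse l hl _ hsk] at h1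

/-- Double cosets of `W_J` and `W_K` have one word minimal on both sides. -/
theorem double_unique {J K : Finset ℕ} (hJ : J ⊆ Finset.range P.rank) (hK : K ⊆ Finset.range P.rank)
    {a c : List ℕ} (ha : WordOk P a) (hc : WordOk P c) (haJ : J ⊆ asc P a.reverse) (haK : K ⊆ asc P a)
    (hcJ : J ⊆ asc P c.reverse) (hcK : K ⊆ asc P c) :
    ∀ (n : ℕ) (v x : List ℕ), (∀ i ∈ v, i ∈ J) → (∀ i ∈ x, i ∈ K) →
      invJ P (List.range P.rank) (act P x) ≤ n →
      (∀ r < P.nroots, wl P v (wl P a r) = wl P c (wl P x r)) →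
      ∀ r < P.nroots, wl P a r = wl P c r := by
  intro n
  induction n using Nat.strong_induction_on with
  | _ n ih =>
    intro v x hv hx hn heq
    have hvin := wordIn_of_mem hJ hv
    have hxin := wordIn_of_mem hK hx
    by_cases hall : ∀ i ∈ K, P.isPos (wl P x (P.sim i)) = true
    · have hxt := h.word_trivial hK hx hall
      have heq' : ∀ r < P.nroots, wl P v (wl P a r) = wl P c r := fun r hr => by
        rw [heq r hr, hxt r hr]
      suffices hvt : ∀ r < P.nroots, wl P v r = r by
        intro r hr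
        rw [← heq' r hr, hvt _ (h.wl_lt a ha r hr)]
      refine h.word_trivial hJ hv fun j hjJ => ?_
      by_contra hneg
      have hj := Finset.mem_range.1 (hJ hjJ)
      have hs := h.sim_lt hj
      have hz := h.wl_lt v hvin.1 _ hs
      have hy := h.wl_lt _ (wordOk_reverse ha) _ hs
      have h1 := heq' _ hy
      rw [h.wl_reverse' ha hs] at h1
      have h2 := congrArg (wl P c.reverse) h1
      rw [h.wl_reverse c hc _ hy] at h2
      have hin : inJ P J.toList (P.ng (wl P v (P.sim j))) = true := by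
        rw [← h.wl_ng v hvin.1 _ hs, h.inJ_wl hvin (ng_lt hs)]
        refine inJ_iff.2 fun m hm hmJ => ?_
        rw [h.rv_ng hs hm, h.rv_sim hj hm, if_neg, neg_zero]
        rintro rfl; exact hmJ (Finset.mem_toList.2 hjJ)
      have h3 := h.pos_of_simple (wordOk_reverse hc)
        (fun k hk _ => (mem_asc.1 (hcJ (Finset.mem_toList.1 hk))).2) hin
        ((h.ng_pos_iff hz).2 (by simpa using hneg))
      rw [h.wl_ng _ (wordOk_reverse hc) _ hz, h.ng_pos_iff (h.wl_lt _ (wordOk_reverse hc) _ hz), h2,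
        (mem_asc.1 (haJ hjJ)).2] at h3
      exact absurd h3 (by simp)
    · push_neg at hall
      obtain ⟨i, hiK, hneg'⟩ := hall
      have hneg : P.isPos (wl P x (P.sim i)) = false := by simpa using hneg'
      have hi := Finset.mem_range.1 (hK hiK)
      have hs := h.sim_lt hi
      have hxs := h.wl_lt x hxin.1 _ hs
      have hγ : P.isPos (wl P a (P.sim i)) = true := (mem_asc.1 (haK hiK)).2
      set γ := wl P a (P.sim i) with hγdef
      have hγn : γ < P.nroots := h.wl_lt a ha _ hs
      have hinK : inJ P K.toList (P.ng (wl P x (P.sim i))) = true := by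
        rw [← h.wl_ng x hxin.1 _ hs, h.inJ_wl hxin (ng_lt hs)]
        refine inJ_iff.2 fun m hm hmK => ?_
        rw [h.rv_ng hs hm, h.rv_sim hi hm, if_neg, neg_zero]
        rintro rfl; exact hmK (Finset.mem_toList.2 hiK)
      have hcx := h.pos_of_simple hc (fun k hk _ => (mem_asc.1 (hcK (Finset.mem_toList.1 hk))).2) hinK
        ((h.ng_pos_iff hxs).2 hneg)
      rw [h.wl_ng c hc _ hxs, h.ng_pos_iff (h.wl_lt c hc _ hxs)] at hcx
      have hvneg : P.isPos (wl P v γ) = false := by rw [hγdef, heq _ hs]; exact hcx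
      have hγJ : inJ P J.toList γ = true := inJ_iff.2 fun m hm hmJ => by
        have h1 := (h.rv_sign hγn hm).1 hγ
        have h2 := (h.rv_sign (h.wl_lt v hvin.1 _ hγn) hm).2 hvneg
        rw [h.wl_outside hvin hγn hm hmJ] at h2
        omega
      obtain ⟨j, hjJ, hγj⟩ := h.sim_of_image (wordOk_reverse ha) haJ hγ hγJ hi
        (by rw [hγdef, h.wl_reverse a ha _ hs])
      have hj := Finset.mem_range.1 (hJ hjJ)
      have hlt := h.invJ_lt (J := List.range P.rank) hxin.1 hi (List.mem_range.2 hi) hneg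
      refine ih _ (lt_of_lt_of_le hlt hn) (v ++ [j]) (x ++ [i]) ?_ ?_ le_rfl ?_
      · intro k hk
        rcases List.mem_append.1 hk with e | e
        exacts [hv k e, by rw [List.mem_singleton.1 e]; exact hjJ]
      · intro k hk
        rcases List.mem_append.1 hk with e | e
        exacts [hx k e, by rw [List.mem_singleton.1 e]; exact hiK]
      intro r hr
      have h1 := heq _ (h.w_lt hi hr)
      rw [h.wl_w ha hi hj hγj hr] at h1
      rw [wl_append, wl_append]
      exact h1

/-- A word reducible to one minimal on both sides inside its double coset. -/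
theorem exists_min_both {J K : Finset ℕ} (hJ : J ⊆ Finset.range P.rank) (hK : K ⊆ Finset.range P.rank) :
    ∀ (n : ℕ) (l : List ℕ), WordOk P l → invJ P (List.range P.rank) (act P l) ≤ n →
      ∃ v x, (∀ i ∈ v, i ∈ J) ∧ (∀ i ∈ x, i ∈ K) ∧
        J ⊆ asc P (v ++ l ++ x).reverse ∧ K ⊆ asc P (v ++ l ++ x) := by
  intro n
  induction n using Nat.strong_induction_on with
  | _ n ih =>
    intro l hl hn
    by_cases hminK : K ⊆ asc P l
    · by_cases hminJ : J ⊆ asc P l.reverse
      · exact ⟨[], [], fun _ hx => absurd hx List.not_mem_nil, fun _ hx => absurd hx List.not_mem_nil,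
          by simpa using hminJ, by simpa using hminK⟩
      obtain ⟨j, hjJ, hj'⟩ := Finset.not_subset.1 hminJ
      have hj := Finset.mem_range.1 (hJ hjJ)
      have hneg : P.isPos (wl P l.reverse (P.sim j)) = false := by simpa [mem_asc, hj] using hj'
      have hlt := h.invJ_lt (J := List.range P.rank) (wordOk_reverse hl) hj (List.mem_range.2 hj) hneg
      rw [h.invJ_reverse hl, show l.reverse ++ [j] = ([j] ++ l).reverse by simp,
        h.invJ_reverse (wordOk_append (wordOk_single hj) hl)] at hlt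
      obtain ⟨v, x, hv, hx, h1, h2⟩ :=
        ih _ (lt_of_lt_of_le hlt hn) _ (wordOk_append (wordOk_single hj) hl) le_rfl
      refine ⟨v ++ [j], x, ?_, hx, ?_, ?_⟩
      · intro k hk
        rcases List.mem_append.1 hk with e | e
        exacts [hv k e, by rw [List.mem_singleton.1 e]; exact hjJ]
      · simpa [List.append_assoc] using h1
      · simpa [List.append_assoc] using h2
    · obtain ⟨i, hiK, hi'⟩ := Finset.not_subset.1 hminK
      have hi := Finset.mem_range.1 (hK hiK)
      have hneg : P.isPos (wl P l (P.sim i)) = false := by simpa [mem_asc, hi] using hi'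
      have hlt := h.invJ_lt (J := List.range P.rank) hl hi (List.mem_range.2 hi) hneg
      obtain ⟨v, x, hv, hx, h1, h2⟩ :=
        ih _ (lt_of_lt_of_le hlt hn) _ (wordOk_append hl (wordOk_single hi)) le_rfl
      exact ⟨v, i :: x, hv, List.forall_mem_cons.2 ⟨hiK, hx⟩,
        by simpa [List.append_assoc] using h1, by simpa [List.append_assoc] using h2⟩

/-- The Weyl group as a type of permutations of the roots. -/
abbrev WAll (P : Pk) := {f : Fin P.nroots → Fin P.nroots // f ∈ WJ P (List.range P.rank)}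

/-- A word of an element of the Weyl group. -/
noncomputable def wordW (f : WAll P) : List ℕ := (h.mem_WJ.1 f.2).choose

theorem wordW_spec (f : WAll P) : WordOk P (h.wordW f) ∧ act P (h.wordW f) = f.1 :=
  ⟨(h.mem_WJ.1 f.2).choose_spec.1.1, (h.mem_WJ.1 f.2).choose_spec.2⟩

theorem exists_wordW {l : List ℕ} (hl : WordOk P l) :
    ∃ f : WAll P, ∀ r < P.nroots, wl P (h.wordW f) r = wl P l r := by
  have hf : act P l ∈ WJ P (List.range P.rank) :=
    h.mem_WJ.2 ⟨l, ⟨hl, fun i hi => List.mem_range.2 (hl i hi)⟩, rfl⟩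
  refine ⟨⟨_, hf⟩, ?_⟩
  exact (h.act_eq_iff (h.wordW_spec ⟨_, hf⟩).1 hl).1 (h.wordW_spec ⟨_, hf⟩).2

/-- The representative of an element of the Weyl group. -/
noncomputable def repW (f : WAll P) : ↥(D.group F) :=
  ⟨h.nW (h.wordW f), h.monomial_le_group (h.nW_mem _ (h.wordW_spec f).1)⟩

/-- The double cosets of two parabolic subgroups have the representatives minimal on both sides. -/
theorem doubleCoset_bij (hC : P.ckComm = true) {J K : Finset ℕ} (hJ : J ⊆ Finset.range P.rank)
    (hK : K ⊆ Finset.range P.rank) :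
    Function.Bijective
      (fun f : {f : WAll P // J ⊆ asc P (h.wordW f).reverse ∧ K ⊆ asc P (h.wordW f)} =>
        DoubleCoset.mk (D.parabolicIn F J) (D.parabolicIn F K)
          (h.repW f.1)) := by
  constructor
  · rintro ⟨f, hfJ, hfK⟩ ⟨f', hf'J, hf'K⟩ e
    obtain ⟨p, hp, q, hq, e'⟩ := (DoubleCoset.eq (D.parabolicIn F J) (D.parabolicIn F K) _ _).1 e
    have e'' : h.nW (h.wordW f') = p.1 * h.nW (h.wordW f) * q.1 := by
      simpa [repW] using congrArg Subtype.val e'
    obtain ⟨hw, hwe⟩ := h.wordW_spec f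
    obtain ⟨hw', hwe'⟩ := h.wordW_spec f'
    set a := h.wordW f
    set a' := h.wordW f'
    obtain ⟨v, hv, b₁, hb₁, b₂, hb₂, hpe⟩ := h.parabolic_cell hC hJ (Subgroup.mem_subgroupOf.1 hp)
    have hvok := (wordIn_of_mem hJ hv).1
    have hva := wordOk_append hvok hw
    have hrv : ∀ i ∈ v.reverse, i ∈ J := fun i hi => hv i (List.mem_reverse.1 hi)
    have hin : h.Cell (v ++ a) (h.nW v * b₂ * h.nW a) := by
      have hinv : (h.nW v * b₂ * h.nW a)⁻¹ = (h.nW a.reverse * h.nW a)⁻¹ *
          (h.nW a.reverse * (b₂⁻¹ * (h.nW v.reverse * h.nW v)⁻¹) * h.nW v.reverse) := by group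
      have hj : h.Cell (a.reverse ++ v.reverse)
          (h.nW a.reverse * (b₂⁻¹ * (h.nW v.reverse * h.nW v)⁻¹) * h.nW v.reverse) :=
        h.min_join hC hJ (wordOk_reverse hw) hfJ hrv
          (mul_mem (inv_mem hb₂) (inv_mem (Subgroup.mem_sup_right (h.nW_reverse_mul hvok))))
      have hj' : h.Cell (a.reverse ++ v.reverse) (h.nW v * b₂ * h.nW a)⁻¹ := by
        rw [hinv]
        simpa using h.cell_mul hj (inv_mem (Subgroup.mem_sup_right (h.nW_reverse_mul hw))) (one_mem _)
      simpa using h.cell_inv (wordOk_append (wordOk_reverse hw) (wordOk_reverse hvok)) hj'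
    obtain ⟨c₁, hc₁, c₂, hc₂, hce⟩ : h.Cell (v ++ a) (p.1 * h.nW a) := by
      rw [hpe, show b₁ * h.nW v * b₂ * h.nW a = b₁ * (h.nW v * b₂ * h.nW a) * 1 by group]
      exact h.cell_mul hin hb₁ (one_mem _)
    obtain ⟨x, hx, hmin⟩ := h.exists_min_right hK _ _ hva le_rfl
    have hxok := (wordIn_of_mem hK hx).1
    have hok := wordOk_append hva hxok
    have hmem : (c₁ * h.nW (v ++ a ++ x))⁻¹ * h.nW a' ∈ D.parabolicSubgroup F (↑K : Set ℕ) := by
      rw [e'', hce, h.nW_append (v ++ a) x,
        show (c₁ * (h.nW (v ++ a) * h.nW x))⁻¹ * (c₁ * h.nW (v ++ a) * c₂ * q.1) =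
          (h.nW x)⁻¹ * (c₂ * q.1) by group]
      exact mul_mem (inv_mem (h.nW_mem_parabolic hK x hx))
        (mul_mem (Subgroup.mem_sup_left hc₂) (Subgroup.mem_subgroupOf.1 hq))
    have hB := h.min_coset hC hK hok hw' hmin hf'K
      (⟨c₁, hc₁, 1, one_mem _, (mul_one _).symm⟩ : h.Cell _ (c₁ * h.nW (v ++ a ++ x)))
      (h.cell_self a') hmem
    have hcell : h.Cell (v ++ a ++ x) (h.nW a') :=
      ⟨c₁, hc₁, _, hB, by group⟩
    have hact := h.cell_unique hC hok hw' hcell (h.cell_self a')
    have hxr : ∀ i ∈ x.reverse, i ∈ K := fun i hi => hx i (List.mem_reverse.1 hi)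
    have key := h.double_unique hJ hK hw hw' hfJ hfK hf'J hf'K _ v x.reverse hv hxr le_rfl (fun r hr => by
      have hy := h.wl_lt _ (wordOk_reverse hxok) r hr
      have h1 := hact _ hy
      rw [wl_append, wl_append, h.wl_reverse' hxok hr] at h1
      exact h1)
    refine Subtype.ext (Subtype.ext ?_)
    show f.1 = f'.1
    rw [← hwe, ← hwe']
    exact (h.act_eq_iff hw hw').2 key
  · intro z
    induction z using Quotient.inductionOn with
    | _ g =>
    obtain ⟨hw, c, hc, c', hc', e⟩ := h.cellWord_spec hC g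
    obtain ⟨v, x, hv, hx, h1, h2⟩ := h.exists_min_both hJ hK _ _ hw le_rfl
    have hvok := (wordIn_of_mem hJ hv).1
    have hxok := (wordIn_of_mem hK hx).1
    have hok := wordOk_append (wordOk_append hvok hw) hxok
    obtain ⟨f, hf⟩ := h.exists_wordW hok
    obtain ⟨hwf, -⟩ := h.wordW_spec f
    refine ⟨⟨f, by rw [h.asc_congr (h.wl_reverse_congr hwf hok hf)]; exact h1,
      by rw [h.asc_congr hf]; exact h2⟩, ?_⟩
    refine (DoubleCoset.eq (D.parabolicIn F J) (D.parabolicIn F K) _ _).2 ?_
    have hd : (h.nW (F := F) (h.wordW f))⁻¹ * h.nW (v ++ h.cellWord hC g ++ x) ∈ D.diagonalSubgroup F :=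
      h.mem_diagonal_of_wl_eq hwf hok hf
    have hl : c * (h.nW v)⁻¹ ∈ D.parabolicSubgroup F (↑J : Set ℕ) :=
      mul_mem (Subgroup.mem_sup_left hc) (inv_mem (h.nW_mem_parabolic hJ v hv))
    have hr : (h.nW (h.wordW f))⁻¹ * h.nW (v ++ h.cellWord hC g ++ x) * (h.nW x)⁻¹ * c' ∈
        D.parabolicSubgroup F (↑K : Set ℕ) :=
      mul_mem (mul_mem (Subgroup.mem_sup_left (Subgroup.mem_sup_right hd))
        (inv_mem (h.nW_mem_parabolic hK x hx))) (Subgroup.mem_sup_left hc')
    refine ⟨⟨_, h.parabolic_le_group hC _ hl⟩, Subgroup.mem_subgroupOf.2 hl,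
      ⟨_, h.parabolic_le_group hC _ hr⟩, Subgroup.mem_subgroupOf.2 hr, Subtype.ext ?_⟩
    simp only [repW, Subgroup.coe_mul]
    rw [e, h.nW_append (v ++ h.cellWord hC g) x, h.nW_append v]
    group

/-- The double cosets of two parabolic subgroups. -/
theorem card_doubleCoset (hC : P.ckComm = true) {J K : Finset ℕ} (hJ : J ⊆ Finset.range P.rank)
    (hK : K ⊆ Finset.range P.rank) :
    Nat.card (DoubleCoset.Quotient (D.parabolicIn F J : Set ↥(D.group F))
        (D.parabolicIn F K : Set ↥(D.group F))) =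
      Nat.card {f : WAll P // J ⊆ asc P (h.wordW f).reverse ∧ K ⊆ asc P (h.wordW f)} :=
  (Nat.card_congr (Equiv.ofBijective _ (h.doubleCoset_bij (F := F) hC hJ hK))).symm

theorem steinberg_isGen [Finite F] :
    IsGeneralizedCharacter ↥(D.group F) (D.steinbergCharacter F) := by
  have e : D.steinbergCharacter F = ∑ J ∈ (Finset.range D.rank).powerset,
      (((-1 : ℤ) ^ J.card : ℤ) : ℂ) • fixedPointCharacter (D.parabolicIn F J) := by
    funext g
    simp [ChevalleyDatum.steinbergCharacter, Finset.sum_apply]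
  rw [e]
  exact CT.isGen_sum _ fun J _ => CT.isGen_zsmul _ (CT.isGen_of_isCharacter (CT.isCharacter_perm _))

theorem steinberg_norm (hC : P.ckComm = true) [Fintype ↥(D.group F)] :
    classInner (D.steinbergCharacter F) (D.steinbergCharacter F) = 1 := by
  classical
  have e : D.steinbergCharacter F = ∑ J ∈ (Finset.range P.rank).powerset,
      ((-1 : ℂ) ^ J.card) • fixedPointCharacter (D.parabolicIn F J) := by
    funext g
    simp only [Finset.sum_apply, Pi.smul_apply, smul_eq_mul]
    exact Finset.sum_congr (by rw [h.rank]) fun _ _ => rfl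
  rw [e, CT.classInner_sum_left]
  simp only [CT.classInner_sum_right, CT.classInner_smul_left, CT.classInner_smul_right, map_pow,
    map_neg, map_one]
  have hin : ∀ J ∈ (Finset.range P.rank).powerset,
      ∑ K ∈ (Finset.range P.rank).powerset, (-1 : ℂ) ^ J.card * ((-1 : ℂ) ^ K.card *
        classInner (fixedPointCharacter (D.parabolicIn F J)) (fixedPointCharacter (D.parabolicIn F K))) =
      (-1 : ℂ) ^ J.card * (Nat.card {f : WAll P // asc P (h.wordW f) = ∅ ∧ J ⊆ asc P (h.wordW f).reverse} : ℂ) := by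
    intro J hJ
    rw [← Finset.mul_sum]
    congr 1
    rw [Nat.card_congr (Equiv.subtypeEquivRight fun f => and_comm),
      ← alt_sum_card (fun f : WAll P => asc P (h.wordW f)) (Finset.range P.rank)
        (fun f => Finset.filter_subset _ _)]
    refine Finset.sum_congr rfl fun K hK => ?_
    rw [GLUnipotent.classInner_fixedPointCharacter,
      h.card_doubleCoset hC (Finset.mem_powerset.1 hJ) (Finset.mem_powerset.1 hK)]
  rw [Finset.sum_congr rfl fun J hJ =>
      (Finset.sum_congr rfl fun K _ => mul_left_comm _ _ _).trans (hin J hJ),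
    alt_sum_card (fun f : WAll P => asc P (h.wordW f).reverse) (Finset.range P.rank)
      (fun f => Finset.filter_subset _ _)]
  rw [Nat.cast_eq_one, Nat.card_eq_one_iff_unique]
  refine ⟨⟨?_⟩, ?_⟩
  · rintro ⟨f, hf, -⟩ ⟨f', hf', -⟩
    obtain ⟨hw, hwe⟩ := h.wordW_spec f
    obtain ⟨hw', hwe'⟩ := h.wordW_spec f'
    refine Subtype.ext (Subtype.ext ?_)
    show f.1 = f'.1
    rw [← hwe, ← hwe']
    exact (h.act_eq_iff hw hw').2 (h.top_unique hw hw' hf hf')
  · obtain ⟨l, hl, hneg⟩ := h.exists_longest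
    obtain ⟨f, hf⟩ := h.exists_wordW hl
    have he : asc P (h.wordW f) = ∅ := by rw [h.asc_congr hf]; exact h.asc_empty_of_neg hneg
    exact ⟨⟨f, he, h.asc_reverse_empty (h.wordW_spec f).1 he⟩⟩

theorem steinberg_irr (hC : P.ckComm = true) [Fintype F] :
    IsIrrCharacter ↥(D.group F) (D.steinbergCharacter F) := by
  classical
  haveI : Fintype ↥(D.group F) := Fintype.ofFinite _
  refine CT.isIrr_of_isGen_norm_one h.steinberg_isGen (h.steinberg_norm hC) ?_
  rw [h.steinberg_one hC, ← Nat.cast_pow, Complex.natCast_re]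
  exact_mod_cast pow_pos Fintype.card_pos _

end Ok

end Cfsg.Agent.Chev
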