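/-
A Chevalley group has exactly two blocks in the defining characteristic.
-/
import Cfsg.Agent.Lib.Chev.FullDefect
import Cfsg.Agent.Lib.Chev.SteinbergIrr
import Cfsg.Agent.S0953
import Cfsg.Agent.S0914

set_option autoImplicit false
set_option linter.unusedSectionVars false

namespace Cfsg.Agent.Chev

open Cfsg.Lie Cfsg.Agent.Blocks

variable {D : ChevalleyDatum} {P : Pk} {F : Type*} [Field F] [Fintype F]

namespace Ok

variable (h : Ok D P)
include h

theorem card_blocks (p : ℕ) [Fact p.Prime] [CharP F p] (hC : P.ckComm = true)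
    (hck : Aut.ckFit P = true) (hdom : ckDom P = true) (M : Ideal AlgInt) (hM : IsPModular p M) :
    Nat.card {B : Set (IrrCharacter ↥(D.group F)) // IsPBlock M B} = 2 := by
  classical
  have := hM.2.1.isPrime
  have := Fintype.ofFinite ↥(D.group F)
  obtain ⟨S, hS⟩ := h.pos_sylow (F := F) p hC
  set a := (Nat.card ↥(D.group F)).factorization p
  have hUG : D.posUnipotent F ≤ D.group F := fun x hx => h.borel_le_group (Subgroup.mem_sup_left hx)
  have hcard : p ^ a = Fintype.card F ^ (P.nroots / 2) := by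
    rw [← S.card_eq_multiplicity, hS, Nat.card_congr (Subgroup.subgroupOfEquivOfLe hUG).toEquiv, h.card_pos hC]
  have ha : a ≠ 0 := by
    intro e
    rw [e, pow_zero, eq_comm, Nat.pow_eq_one] at hcard
    rcases hcard with e' | e'
    · exact absurd e' Fintype.one_lt_card.ne'
    · obtain ⟨l, -, -⟩ := h.exists_longest
      have h0 := h.basic
      simp [Pk.ckBasic] at h0
      have := (P.isPos_iff.1 (h.sim_pos (i := 0) (by omega))).2
      omega
  -- defect zero
  obtain ⟨l₀, hl₀, hneg⟩ := h.exists_longest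
  have he := h.asc_empty_of_neg hneg
  let St : IrrCharacter ↥(D.group F) := ⟨_, h.steinberg_irr hC⟩
  have hdeg : charDegree (St : ↥(D.group F) → ℂ) = p ^ a := by
    have h1 := (CT.deg_eq (CT.isCharacter_of_isIrr St.2)).symm.trans
      (show (St : ↥(D.group F) → ℂ) 1 = ((p ^ a : ℕ) : ℂ) by
        rw [hcard, Nat.cast_pow]; exact h.steinberg_one hC)
    exact_mod_cast h1
  have hblock : blockOf M (St : ↥(D.group F) → ℂ) = {St} := by
    refine (Cfsg.Agent.S0914.result p M hM St).1 fun hp => ?_
    obtain ⟨q, hq⟩ := Blocks.charDegree_dvd_card St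
    rw [hq, Nat.mul_div_cancel_left _ (Blocks.charDegree_pos St)] at hp
    refine Nat.pow_succ_factorization_not_dvd (Nat.card_pos (α := ↥(D.group F))).ne' (Fact.out : p.Prime) ?_
    rw [pow_succ, hq]
    exact mul_dvd_mul (hq ▸ hdeg.symm.dvd) hp
  have hB₀ : IsPBlock M ({St} : Set (IrrCharacter ↥(D.group F))) := hblock ▸ isPBlock_blockOf St
  have hd₀ : blockDefect p ({St} : Set (IrrCharacter ↥(D.group F))) = 0 := by
    rw [blockDefect, Set.image_singleton, csInf_singleton, hdeg,
      Nat.Prime.factorization_pow Fact.out, Finsupp.single_eq_same]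
    exact Nat.sub_self _
  have c0 : Nat.card {B : Set (IrrCharacter ↥(D.group F)) // IsPBlock M B ∧ blockDefect p B = 0} = 1 := by
    rw [Nat.card_eq_one_iff_unique]
    exact ⟨⟨fun x y => Subtype.ext (h.defectZero_unique p hl₀ he hC hM x.2.1 x.2.2 y.2.1 y.2.2)⟩,
      ⟨⟨_, hB₀, hd₀⟩⟩⟩
  -- full defect
  have c1 : Nat.card {B : Set (IrrCharacter ↥(D.group F)) // IsPBlock M B ∧ IsDefectGroup p M B (S : Subgroup ↥(D.group F))} = 1 := by
    rw [Cfsg.Agent.S0953.result p M hM S, Nat.card_eq_one_iff_unique]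
    refine ⟨⟨fun x y => Subtype.ext ?_⟩, ⟨⟨ConjClasses.mk 1, fun n hn => ?_⟩⟩⟩
    · have key : ∀ C : {C : ConjClasses (Subgroup.normalizer ((S : Subgroup ↥(D.group F)) : Set ↥(D.group F))) //
          ∀ n, ConjClasses.mk n = C → ¬ p ∣ orderOf n ∧
            (n : ↥(D.group F)) ∈ Subgroup.centralizer ((S : Subgroup ↥(D.group F)) : Set ↥(D.group F))},
          C.1 = ConjClasses.mk 1 := by
        rintro ⟨C, hC'⟩
        obtain ⟨n, rfl⟩ := ConjClasses.mk_surjective C
        obtain ⟨h1, h2⟩ := hC' n rfl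
        have e : (n : ↥(D.group F)) = 1 := h.eq_one_of_centralizes_pos p hC hck
          (by rwa [Subgroup.orderOf_coe]) fun u hu => (Subgroup.mem_centralizer_iff.1 h2 u
            (by rw [SetLike.mem_coe, hS]; exact Subgroup.mem_subgroupOf.2 hu)).symm
        exact congrArg ConjClasses.mk (Subtype.ext e)
      rw [key x, key y]
    · rw [ConjClasses.mk_eq_mk_iff_isConj] at hn
      have e : n = 1 := isConj_one_left.1 hn
      subst e
      exact ⟨by rw [orderOf_one]; exact (Fact.out : p.Prime).not_dvd_one, one_mem _⟩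
  have hsplit : ∀ B : Set (IrrCharacter ↥(D.group F)), IsPBlock M B →
      (blockDefect p B = 0 ∨ IsDefectGroup p M B (S : Subgroup ↥(D.group F))) ∧
      ¬(blockDefect p B = 0 ∧ IsDefectGroup p M B (S : Subgroup ↥(D.group F))) := by
    intro B hB
    refine ⟨?_, fun hh => ?_⟩
    · refine (em (blockDefect p B = 0)).imp_right fun hd => ?_
      obtain ⟨Q, hQ⟩ := exists_defectGroup (p := p) hB
      obtain ⟨-, -, -, hQp, -⟩ := defectGroup_spec hQ
      obtain ⟨T, hT⟩ := hQp.exists_le_sylow
      have hQT : Q = T.1 := Subgroup.eq_of_le_of_card_ge hT (le_of_eq (by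
        rw [T.card_eq_multiplicity, card_defectGroup hM hB hQ, h.full_defect p hC hck hdom hM hB hd]))
      obtain ⟨c, hc⟩ := MulAction.exists_smul_eq ↥(D.group F) T S
      have h1 := isDefectGroup_conj hQ c
      rwa [hQT, show T.1.map (MulAut.conj c).toMonoidHom = (c • T).1 from rfl, hc] at h1
    · have h1 := card_defectGroup hM hB hh.2
      rw [hh.1, pow_zero, S.card_eq_multiplicity] at h1
      exact ha ((pow_eq_one_iff_right (Fact.out (p := p.Prime)).ne_one).mp h1)
  rw [Nat.card_congr ((Equiv.sumCompl (fun x : {B : Set (IrrCharacter ↥(D.group F)) // IsPBlock M B} =>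
    blockDefect p x.1 = 0)).symm), Nat.card_sum,
    Nat.card_congr (Equiv.subtypeSubtypeEquivSubtypeInter (IsPBlock M) (fun B => blockDefect p B = 0)), c0,
    Nat.card_congr (Equiv.subtypeSubtypeEquivSubtypeInter (IsPBlock M) (fun B => ¬ blockDefect p B = 0))]
  rw [Nat.card_congr (Equiv.subtypeEquivRight (q := fun B => IsPBlock M B ∧
    IsDefectGroup p M B (S : Subgroup ↥(D.group F))) fun B => and_congr_right fun hB =>
      ⟨fun hd => (hsplit B hB).1.resolve_left hd, fun hd e => (hsplit B hB).2 ⟨e, hd⟩⟩), c1]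

end Ok

end Cfsg.Agent.Chev
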