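/-
Characteristic two: centralisers of products of commuting root elements with a dominant weight.
-/
import Cfsg.Agent.Lib.Chev.Cent

set_option autoImplicit false

namespace Cfsg.Agent.Chev

open Cfsg.Lie
open scoped Matrix

/-- Data of a centraliser computation: weighted roots, the abelian list above them, the Levi nodes, the
roots `s` moving the root `R` to `k`, and the inverting combinations. -/
structure CData where
  Rs : List (ℕ × ℕ)
  T : List ℕ
  J : List ℕ
  bad : List (ℕ × ℕ × ℕ)
  comb : List (ℕ × List ℤ)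

/-- The roots of `T` other than the given ones. -/
def CData.restT (d : CData) : List ℕ := d.T.filter fun r => !(d.Rs.map Prod.fst).any (Nat.beq r)

namespace Pk

variable (Q : Pk)

/-- The positive roots outside the bad list. -/
def goodL (d : CData) : List ℕ :=
  (List.range Q.nroots).filter fun r => Q.isPos r && !(d.bad.map Prod.fst).any (Nat.beq r)

/-- The weight. -/
def wtA (d : CData) (i : ℕ) : ℤ := (d.Rs.map fun p => (p.2 : ℤ) * Q.A i p.1).sum

/-- Step checks of the bad list. -/
def ckBad (d : CData) : List (ℕ × ℕ × ℕ) → Bool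
  | [] => true
  | (s, k, R) :: L =>
    let N := Q.goodL d ++ L.map Prod.fst
    Q.isPos s && d.restT.any (Nat.beq k) && (d.Rs.map Prod.fst).any (Nat.beq R) &&
      (!(L.map fun e => e.2.1).any (Nat.beq k)) && Q.comm2 k s &&
      N.all (fun r => Nat.beq r s || (!Nat.beq r (Q.ng s) && (Q.cterms s r).all fun c => N.any (Nat.beq c.1))) &&
      L.all (fun e => Q.comm2 e.2.1 s) &&
      (d.Rs.map Prod.fst).all (fun x => bif Nat.beq x R then
          (!Nat.beq s R && !Nat.beq s (Q.ng R) &&
            match (Q.cword R s).filter (fun g => decide (g.2.1 % 2 ≠ 0)) with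
            | [g] => Nat.beq g.1 k && Nat.blt 0 g.2.2.2
            | _ => false)
        else Q.comm2 x s) &&
      ckBad d L

/-- The whole check. -/
def ckC (d : CData) : Bool :=
  decide d.T.Nodup && decide (d.Rs.map Prod.fst).Nodup &&
  d.T.all (fun x => Q.isPos x && d.T.all fun y => Q.comm2 x y) &&
  d.Rs.all (fun p => d.T.any (Nat.beq p.1) && Nat.blt 0 p.2) &&
  d.T.all (fun r => Q.allRoots.all fun s => !Q.isPos s ||
    Nat.beq s r || (!Nat.beq s (Q.ng r) &&
      (Q.cterms s r).all fun c => decide (c.2.1 % 2 = 0) || d.restT.any (Nat.beq c.1))) &&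
  d.T.all (fun x => d.Rs.all fun p =>
    !(Q.shortB x == Q.shortB p.1) || (List.range Q.rank).all fun m => decide (Q.rv p.1 m ≤ Q.rv x m)) &&
  d.J.all (fun i => Nat.blt i Q.rank) &&
  (List.range Q.rank).all (fun i => bif d.J.any (Nat.beq i) then
      decide (Q.wtA d i = 0) && d.Rs.all (fun p => Q.comm2 p.1 (Q.ng (Q.sim i)) && Q.comm2 p.1 (Q.sim i)
        && decide (Q.A i p.1 = 0))
    else decide (0 < Q.wtA d i)) &&
  Q.allRoots.all (fun r => !(Q.isPos r && inJ Q d.J r) || (Q.goodL d).any (Nat.beq r)) &&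
  (Q.goodL d).all (fun r => d.Rs.all fun p => Q.comm2 p.1 r) &&
  Q.ckBad d d.bad &&
  (List.range Q.rank).all (fun i => d.J.any (Nat.beq i) || d.comb.any fun e => Nat.beq e.1 i &&
    (List.range Q.rank).all fun j =>
      decide (((List.range d.Rs.length).map fun a => e.2.getD a 0 * Q.A j (d.Rs.getD a (0, 0)).1).sum =
        bif Nat.beq i j then 1 else 0))

end Pk

theorem any_beq {L : List ℕ} {i : ℕ} : L.any (Nat.beq i) = true ↔ i ∈ L := by
  rw [List.any_eq_true]
  exact ⟨fun ⟨x, hx, e⟩ => (Nat.eq_of_beq_eq_true e) ▸ hx, fun hi => ⟨i, hi, Nat.beq_refl i⟩⟩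

variable {D : ChevalleyDatum} {P : Pk} {F : Type*} [Field F]

namespace Ok

variable (h : Ok D P)
include h

/-- An ordered product of root elements. -/
def pi' (L : List ℕ) (t : ℕ → F) : GL D.Idx F := (L.map fun r => h.xG r (t r)).prod

/-- The root elements of the list commute. -/
def CommL (L : List ℕ) : Prop := ∀ r ∈ L, ∀ s ∈ L, ∀ t u : F, Commute (h.xG r t) (h.xG s u)

theorem pi_mem_genR {L : List ℕ} {S : ℕ → Prop} (t : ℕ → F) (hS : ∀ r ∈ L, t r ≠ 0 → S r) :
    h.pi' L t ∈ h.genR S := by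
  refine list_prod_mem fun x hx => ?_
  obtain ⟨r, hr, rfl⟩ := List.mem_map.1 hx
  by_cases e : t r = 0
  · rw [e, h.xG_zero]; exact one_mem _
  · exact h.xG_mem_genR (hS r hr e) _

theorem pi_add {L : List ℕ} (hc : h.CommL (F := F) L) (t u : ℕ → F) :
    h.pi' L t * h.pi' L u = h.pi' L (fun r => t r + u r) := by
  induction L with
  | nil => simp [pi']
  | cons a L ih =>
    have hc' : h.CommL (F := F) L := fun r hr s hs =>
      hc r (List.mem_cons_of_mem _ hr) s (List.mem_cons_of_mem _ hs)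
    have e : Commute (h.pi' L t) (h.xG a (u a)) := by
      refine Commute.list_prod_left _ _ fun x hx => ?_
      obtain ⟨r, hr, rfl⟩ := List.mem_map.1 hx
      exact hc r (List.mem_cons_of_mem _ hr) a List.mem_cons_self _ _
    show h.xG a (t a) * h.pi' L t * (h.xG a (u a) * h.pi' L u) = h.xG a (t a + u a) * h.pi' L _
    rw [← ih hc', ← h.xG_add, mul_assoc, ← mul_assoc (h.pi' L t), e.eq]
    simp only [mul_assoc]

theorem pi_filter (L : List ℕ) (p : ℕ → Bool) (t : ℕ → F) (hz : ∀ r ∈ L, p r = false → t r = 0) :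
    h.pi' (L.filter p) t = h.pi' L t := by
  induction L with
  | nil => rfl
  | cons a L ih =>
    have ih' := ih fun r hr => hz r (List.mem_cons_of_mem _ hr)
    simp only [pi', List.map_cons, List.prod_cons] at ih' ⊢
    cases e : p a
    · rw [List.filter_cons_of_neg (by simp [e]), ih', hz a List.mem_cons_self e, h.xG_zero, one_mul]
    · rw [List.filter_cons_of_pos e, List.map_cons, List.prod_cons, ih']

theorem pi_posL {L : List ℕ} (hn : L.Nodup) (hp : ∀ r ∈ L, P.isPos r = true) (hc : h.CommL (F := F) L)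
    (t : ℕ → F) : h.pi' L t = h.pi' (posL P) (fun r => if r ∈ L then t r else 0) := by
  rw [← h.pi_filter (posL P) (fun r => decide (r ∈ L)) _ fun r _ e => if_neg (by simpa using e)]
  have hperm : List.Perm L ((posL P).filter fun r => decide (r ∈ L)) := by
    refine (List.perm_ext_iff_of_nodup hn ((posL_sorted.imp fun e => Nat.ne_of_lt e).filter _)).2 fun r => ?_
    simp only [List.mem_filter, decide_eq_true_eq, mem_posL]
    exact ⟨fun hr => ⟨hp r hr, hr⟩, fun e => e.2⟩
  have e : ((posL P).filter fun r => decide (r ∈ L)).map (fun r => h.xG r (if r ∈ L then t r else 0)) =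
      ((posL P).filter fun r => decide (r ∈ L)).map fun r => h.xG r (t r) :=
    List.map_congr_left fun r hr => by rw [if_pos (of_decide_eq_true (List.mem_filter.1 hr).2)]
  rw [pi', pi', e]
  refine (hperm.map _).prod_eq' (List.pairwise_map.2 (List.pairwise_of_forall_mem_list fun r hr s hs => ?_))
  exact hc r hr s hs _ _

theorem pi_coord {L M : List ℕ} (hn : L.Nodup) (hp : ∀ r ∈ L, P.isPos r = true) (hc : h.CommL (F := F) L)
    (hn' : M.Nodup) (hp' : ∀ r ∈ M, P.isPos r = true) (hc' : h.CommL (F := F) M)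
    {t u : ℕ → F} (e : h.pi' L t = h.pi' M u) {r : ℕ} (hr : P.isPos r = true) :
    (if r ∈ L then t r else 0) = if r ∈ M then u r else 0 := by
  rw [h.pi_posL hn hp hc, h.pi_posL hn' hp' hc'] at e
  exact h.prod_unique (posL P) posL_sorted (fun r hr => mem_posL.1 hr) _ _ e r (mem_posL.2 hr)

theorem mem_genR_pi {L : List ℕ} (hn : L.Nodup) (hc : h.CommL (F := F) L) {g : GL D.Idx F}
    (hg : g ∈ h.genR (F := F) (· ∈ L)) : ∃ t, g = h.pi' L t := by
  have single : ∀ M : List ℕ, M.Nodup → ∀ r ∈ M, ∀ t : F, h.xG r t = h.pi' M (Pi.single r t) := by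
    intro M hM r hr t
    induction M with
    | nil => exact absurd hr List.not_mem_nil
    | cons a M ih =>
      obtain ⟨ha, hM'⟩ := List.nodup_cons.1 hM
      show _ = h.xG a _ * h.pi' M _
      rcases List.mem_cons.1 hr with rfl | hr'
      · rw [Pi.single_eq_same, pi', List.prod_eq_one, mul_one]
        intro x hx
        obtain ⟨s, hs, rfl⟩ := List.mem_map.1 hx
        rw [Pi.single_eq_of_ne (fun e => ha (by rwa [← e])), h.xG_zero]
      · rw [Pi.single_eq_of_ne (fun e : a = r => ha (by rwa [e])), h.xG_zero, one_mul, ← ih hM' hr']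
  induction hg using Subgroup.closure_induction with
  | mem x hx =>
    obtain ⟨r, t, hr, rfl⟩ := hx
    exact ⟨_, single L hn r hr t⟩
  | one => exact ⟨0, (List.prod_eq_one fun x hx => by
      obtain ⟨s, -, rfl⟩ := List.mem_map.1 hx; exact h.xG_zero s).symm⟩
  | mul x y _ _ hx hy =>
    obtain ⟨a, rfl⟩ := hx
    obtain ⟨b, rfl⟩ := hy
    exact ⟨_, h.pi_add hc a b⟩
  | inv x _ hx =>
    obtain ⟨a, rfl⟩ := hx
    refine ⟨fun r => -a r, inv_eq_of_mul_eq_one_right ?_⟩
    rw [h.pi_add hc]
    refine List.prod_eq_one fun x hx => ?_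
    obtain ⟨s, -, rfl⟩ := List.mem_map.1 hx
    simp [h.xG_zero]

theorem shortB_wl {l : List ℕ} (hl : WordOk P l) {r : ℕ} (hr : r < P.nroots) :
    P.shortB (wl P l r) = P.shortB r := by
  have key : ∀ l, WordOk P l → ∀ r < P.nroots, P.shortB r = true → P.shortB (wl P l r) = true := by
    intro l hl r hr hs
    simp only [Pk.shortB, List.any_eq_true, Pk.mem_allRoots, Bool.and_eq_true, Bool.not_eq_true',
      nbeq, decide_eq_false_iff_not, decide_eq_true_eq] at hs ⊢
    obtain ⟨x, hx, ⟨h1, h2⟩, h3⟩ := hs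
    refine ⟨wl P l x, h.wl_lt l hl x hx, ⟨fun e => h1 ?_, fun e => h2 ?_⟩, by rw [h.pair_wl l hl r hr x hx]; exact h3⟩
    · rw [← h.wl_reverse l hl x hx, e, h.wl_reverse l hl r hr]
    · rw [← h.wl_ng l hl r hr] at e
      rw [← h.wl_reverse l hl x hx, e, h.wl_reverse l hl _ (ng_lt hr)]
  refine Bool.eq_iff_iff.2 ⟨fun e => ?_, key l hl r hr⟩
  have := key l.reverse (fun x hx => hl x (List.mem_reverse.1 hx)) _ (h.wl_lt l hl r hr) e
  rwa [h.wl_reverse l hl r hr] at this

/-- A Weyl element not lowering a dominant weight is in the stabiliser. -/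
theorem stab_weight {Rs : List (ℕ × ℕ)} {J : List ℕ} (hR : ∀ p ∈ Rs, p.1 < P.nroots)
    (hdom : ∀ i < P.rank, 0 ≤ (Rs.map fun p => (p.2 : ℤ) * P.A i p.1).sum)
    (hJ : ∀ i < P.rank, i ∉ J → 0 < (Rs.map fun p => (p.2 : ℤ) * P.A i p.1).sum) :
    ∀ (n : ℕ) (l : List ℕ), WordOk P l → invJ P (List.range P.rank) (act P l) = n →
      (∀ m < P.rank, (Rs.map fun p => (p.2 : ℤ) * P.rv (wl P l p.1) m).sum ≤
        (Rs.map fun p => (p.2 : ℤ) * P.rv p.1 m).sum) ∧
      ((∀ m < P.rank, (Rs.map fun p => (p.2 : ℤ) * P.rv (wl P l p.1) m).sum =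
        (Rs.map fun p => (p.2 : ℤ) * P.rv p.1 m).sum) →
        ∃ l', WordIn P J l' ∧ ∀ r < P.nroots, wl P l r = wl P l' r) := by
  intro n
  induction n using Nat.strong_induction_on with
  | _ n ih =>
    intro l hl hn
    by_cases hneg : ∃ i, i < P.rank ∧ P.isPos (wl P l (P.sim i)) = false
    · obtain ⟨i, hi, hneg⟩ := hneg
      have hl1 : WordOk P (l ++ [i]) := fun x hx => by
        rcases List.mem_append.1 hx with a | a
        · exact hl x a
        · simp at a; exact a ▸ hi
      have hlt := h.invJ_lt (J := List.range P.rank) hl hi (List.mem_range.2 hi) hneg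
      obtain ⟨hle, heq⟩ := ih _ (hn ▸ hlt) (l ++ [i]) hl1 rfl
      set S := (Rs.map fun p => (p.2 : ℤ) * P.A i p.1).sum
      have hshift : ∀ m < P.rank, (Rs.map fun p => (p.2 : ℤ) * P.rv (wl P (l ++ [i]) p.1) m).sum =
          (Rs.map fun p => (p.2 : ℤ) * P.rv (wl P l p.1) m).sum - S * P.rv (wl P l (P.sim i)) m := by
        intro m hm
        have hpt : ∀ p ∈ Rs, P.rv (wl P (l ++ [i]) p.1) m =
            P.rv (wl P l p.1) m - P.A i p.1 * P.rv (wl P l (P.sim i)) m := by
          intro p hp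
          rw [wl_append]
          show P.rv (wl P l (P.w i p.1)) m = _
          rw [h.rv_wl l hl _ (h.w_lt hi (hR p hp)) m hm, h.rv_wl l hl _ (hR p hp) m hm]
          have : ∀ k ∈ Finset.range P.rank, P.rv (P.w i p.1) k * P.rv (wl P l (P.sim k)) m =
              P.rv p.1 k * P.rv (wl P l (P.sim k)) m -
                (if k = i then P.A i p.1 * P.rv (wl P l (P.sim k)) m else 0) := by
            intro k hk
            rw [((h.w_spec hi (hR p hp)).2.2.2.2.2.1 k (Finset.mem_range.1 hk)).1]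
            split <;> ring
          rw [Finset.sum_congr rfl this, Finset.sum_sub_distrib, Finset.sum_ite_eq',
            if_pos (Finset.mem_range.2 hi)]
        have : ∀ L : List (ℕ × ℕ), (∀ p ∈ L, p ∈ Rs) →
            (L.map fun p => (p.2 : ℤ) * P.rv (wl P (l ++ [i]) p.1) m).sum =
              (L.map fun p => (p.2 : ℤ) * P.rv (wl P l p.1) m).sum -
                (L.map fun p => (p.2 : ℤ) * P.A i p.1).sum * P.rv (wl P l (P.sim i)) m := by
          intro L
          induction L with
          | nil => intro _; simp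
          | cons a L ihL =>
            intro hL
            simp only [List.map_cons, List.sum_cons]
            rw [ihL fun p hp => hL p (List.mem_cons_of_mem _ hp), hpt a (hL a List.mem_cons_self)]
            ring
        exact this Rs fun _ hp => hp
      have hS0 : 0 ≤ S := hdom i hi
      have hsign : ∀ m < P.rank, P.rv (wl P l (P.sim i)) m ≤ 0 := fun m hm =>
        (h.rv_sign (h.wl_lt l hl _ (h.sim_lt hi)) hm).2 hneg
      refine ⟨fun m hm => ?_, fun e => ?_⟩
      · have := hle m hm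
        rw [hshift m hm] at this
        nlinarith [hsign m hm]
      · have hSzero : S = 0 := by
          obtain ⟨m, hm, hne⟩ := h.rv_exists_ne (h.wl_lt l hl _ (h.sim_lt hi))
          have := hle m hm
          rw [hshift m hm, e m hm] at this
          have h2 := lt_of_le_of_ne (hsign m hm) hne
          nlinarith
        have hiJ : i ∈ J := by
          by_contra hiJ
          have := hJ i hi hiJ
          omega
        obtain ⟨l', hl', hact⟩ := heq fun m hm => by rw [hshift m hm, e m hm, hSzero]; ring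
        refine ⟨l' ++ [i], ⟨fun x hx => ?_, fun x hx => ?_⟩, fun r hr => ?_⟩
        · rcases List.mem_append.1 hx with a | a
          · exact hl'.1 x a
          · simp at a; exact a ▸ hi
        · rcases List.mem_append.1 hx with a | a
          · exact hl'.2 x a
          · simp at a; exact a ▸ hiJ
        · have h1 := hact (P.w i r) (h.w_lt hi hr)
          rw [wl_append] at h1
          simp only [wl, h.w_w hi hr] at h1
          rw [h1, wl_append]
          rfl
    · simp only [not_exists, not_and, Bool.not_eq_false] at hneg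
      have hid := fun r hr => h.wl_eq_id l.length l le_rfl hl hneg r hr
      refine ⟨fun m _ => le_of_eq ?_, fun _ => ⟨[], ⟨fun x hx => absurd hx List.not_mem_nil,
        fun x hx => absurd hx List.not_mem_nil⟩, hid⟩⟩
      congr 1
      exact List.map_congr_left fun p hp => by rw [hid _ (hR p hp)]

variable [CharP F 2]

theorem odd_cast {z : ℤ} (hz : z % 2 ≠ 0) : (z : F) = 1 := by
  have h1 : ((z - 1 : ℤ) : F) = 0 := h.cast_even (by omega)
  rw [Int.cast_sub, Int.cast_one, sub_eq_zero] at h1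
  exact h1

/-- The bad roots move the given element independently. -/
theorem bad_split (hC : P.ckComm = true) (d : CData) {w : GL D.Idx F} (hw : w = h.pi' (d.Rs.map Prod.fst) 1)
    (hgood : ∀ u ∈ h.genR (F := F) (· ∈ P.goodL d), u * w * u⁻¹ = w)
    (hRs : ∀ R ∈ d.Rs.map Prod.fst, R < P.nroots) (hRn : (d.Rs.map Prod.fst).Nodup)
    (hTlt : ∀ k ∈ d.restT, k < P.nroots) (hRT : ∀ R ∈ d.Rs.map Prod.fst, R ∈ d.T)
    (hTc : h.CommL (F := F) (d.T)) :
    ∀ L, P.ckBad d L = true → ∀ u ∈ h.genR (F := F) (· ∈ P.goodL d ++ L.map Prod.fst),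
      ∃ f : ℕ → F, u * w * u⁻¹ = w * h.pi' (L.map fun e => e.2.1) f ∧
        ((∀ k ∈ L.map fun e => e.2.1, f k = 0) → u ∈ h.genR (F := F) (· ∈ P.goodL d)) := by
  intro L
  induction L with
  | nil =>
    intro _ u hu
    simp only [List.map_nil, List.append_nil] at hu
    exact ⟨0, by simpa [pi'] using hgood u hu, fun _ => hu⟩
  | cons e L ih =>
    obtain ⟨s, k, R⟩ := e
    intro hck u hu
    simp only [Pk.ckBad, Bool.and_eq_true, Bool.not_eq_true', List.all_eq_true, Bool.or_eq_true,
      nbeq, decide_eq_true_eq, decide_eq_false_iff_not] at hck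
    obtain ⟨⟨⟨⟨⟨⟨⟨⟨hsp, hkT⟩, hR⟩, hkL⟩, hksk⟩, hN⟩, hks⟩, hRx⟩, hrec⟩ := hck
    rw [any_beq] at hkT hR
    have hkL' : k ∉ L.map fun e => e.2.1 := fun hm => by rw [any_beq.2 hm] at hkL; simp at hkL
    have hsn := (P.isPos_iff.1 hsp).2
    have hRn' := hRs R hR
    have hLmem : ∀ e ∈ L, e.2.1 < P.nroots ∧ P.isPos e.1 = true := by
      clear ih hN hks hkL hkL' hu
      induction L with
      | nil => intro e he; exact absurd he List.not_mem_nil
      | cons a L ihL =>
        obtain ⟨s', k', R'⟩ := a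
        simp only [Pk.ckBad, Bool.and_eq_true] at hrec
        intro e he
        rcases List.mem_cons.1 he with rfl | he
        · exact ⟨hTlt _ (any_beq.1 hrec.1.1.1.1.1.1.1.2), hrec.1.1.1.1.1.1.1.1⟩
        · exact ihL hrec.2 e he
    have hNlt : ∀ r ∈ P.goodL d ++ L.map Prod.fst, r < P.nroots := by
      intro r hr
      rcases List.mem_append.1 hr with e | e
      · exact List.mem_range.1 (List.mem_filter.1 e).1
      · obtain ⟨x, hx, rfl⟩ := List.mem_map.1 e
        exact (P.isPos_iff.1 (hLmem x hx).2).2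
    have hnorm : D.rootSubgroup F s ≤
        Subgroup.normalizer (h.genR (F := F) (· ∈ P.goodL d ++ L.map Prod.fst) : Set (GL D.Idx F)) := by
      refine (Subgroup.closure_le _).2 ?_
      rintro x ⟨t, hx⟩
      rw [h.eq_xG_iff.1 hx]
      refine h.genR_normalizer hC hNlt hsn (fun r hr => ?_) t
      rcases hN r hr with e | ⟨e1, e2⟩
      · exact Or.inl e
      · exact Or.inr ⟨e1, fun c hc => any_beq.1 (e2 c hc)⟩
    have hu' : u ∈ D.rootSubgroup F s ⊔ h.genR (F := F) (· ∈ P.goodL d ++ L.map Prod.fst) := by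
      refine h.genR_le (fun r hr t => ?_) hu
      simp only [List.map_cons, List.mem_append, List.mem_cons] at hr
      rcases hr with e | rfl | e
      · exact Subgroup.mem_sup_right (h.xG_mem_genR (List.mem_append_left _ e) t)
      · exact Subgroup.mem_sup_left (h.mem_rootSubgroup t)
      · exact Subgroup.mem_sup_right (h.xG_mem_genR (List.mem_append_right _ e) t)
    rw [← SetLike.mem_coe, Subgroup.coe_mul_of_left_le_normalizer_right _ _ hnorm] at hu'
    obtain ⟨x, hx, n, hn, rfl⟩ := hu'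
    rw [h.rootSubgroup_eq] at hx
    obtain ⟨a, rfl⟩ := hx
    obtain ⟨f, hf, hf0⟩ := ih hrec n hn
    obtain ⟨g, hg, hgk, hgj⟩ : ∃ g, (P.cword R s).filter (fun g => decide (g.2.1 % 2 ≠ 0)) = [g] ∧
        g.1 = k ∧ 0 < g.2.2.2 := by
      have := hRx R hR
      simp only [decide_true, cond_true, Bool.and_eq_true] at this
      revert this
      generalize (P.cword R s).filter (fun g => decide (g.2.1 % 2 ≠ 0)) = l
      intro this
      match l, this with
      | [g], this =>
        simp only [Bool.and_eq_true, nbeq, decide_eq_true_eq, Nat.blt_eq] at this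
        exact ⟨g, rfl, this.2.1, this.2.2⟩
      | [], this => simp at this
      | _ :: _ :: _, this => simp at this
    have hsR : s ≠ R ∧ s ≠ P.ng R := by
      have := hRx R hR
      simp only [decide_true, cond_true, Bool.and_eq_true, Bool.not_eq_true', nbeq,
        decide_eq_false_iff_not] at this
      exact ⟨this.1.1, this.1.2⟩
    have hodd : ((g.2.1 : ℤ) : F) = 1 := by
      have : g ∈ (P.cword R s).filter (fun g => decide (g.2.1 % 2 ≠ 0)) := by rw [hg]; exact List.mem_singleton_self _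
      exact h.odd_cast (of_decide_eq_true (List.mem_filter.1 this).2)
    have hprod : ((P.cword R s).map fun g => h.xG g.1 ((g.2.1 : F) * (1 : F) ^ g.2.2.1 * a ^ g.2.2.2)).prod =
        h.xG k (a ^ g.2.2.2) := by
      have key : ∀ W : List (ℕ × ℤ × ℕ × ℕ),
          (W.map fun g => h.xG g.1 ((g.2.1 : F) * (1 : F) ^ g.2.2.1 * a ^ g.2.2.2)).prod =
          ((W.filter fun g => decide (g.2.1 % 2 ≠ 0)).map fun g =>
            h.xG g.1 ((g.2.1 : F) * (1 : F) ^ g.2.2.1 * a ^ g.2.2.2)).prod := by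
        intro W
        induction W with
        | nil => rfl
        | cons b W ihW =>
          rw [List.map_cons, List.prod_cons, ihW]
          by_cases e : b.2.1 % 2 = 0
          · rw [List.filter_cons_of_neg (by simp [e]), h.cast_even e, zero_mul, zero_mul, h.xG_zero, one_mul]
          · rw [List.filter_cons_of_pos (by simp [e]), List.map_cons, List.prod_cons]
      rw [key, hg]
      simp [hgk, hodd]
    have hsw : h.xG s a * w * (h.xG s a)⁻¹ = w * h.xG k (a ^ g.2.2.2) := by
      rw [hw]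
      have hk1 : ∀ M, (∀ x ∈ M, x ∈ d.Rs.map Prod.fst) → M.Nodup →
          h.xG s a * h.pi' M 1 * (h.xG s a)⁻¹ = h.pi' M 1 * if R ∈ M then h.xG k (a ^ g.2.2.2) else 1 := by
        intro M
        induction M with
        | nil => intro _ _; simp [pi']
        | cons b M ihM =>
          intro hM hMn
          obtain ⟨hbM, hMn'⟩ := List.nodup_cons.1 hMn
          have hb := hM b List.mem_cons_self
          have ihM' := ihM (fun x hx => hM x (List.mem_cons_of_mem _ hx)) hMn'
          show h.xG s a * (h.xG b 1 * h.pi' M 1) * (h.xG s a)⁻¹ = h.xG b 1 * h.pi' M 1 * _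
          by_cases ebR : b = R
          · subst ebR
            have hfix : h.xG s a * h.pi' M 1 * (h.xG s a)⁻¹ = h.pi' M 1 := by
              rw [ihM', if_neg hbM, mul_one]
            have e1 : h.xG s a * h.xG b 1 * (h.xG s a)⁻¹ = h.xG b 1 * h.xG k (a ^ g.2.2.2) := by
              have e0 := h.comm_xG hC hRn' hsn hsR.1 hsR.2 (1 : F) a
              rw [hprod] at e0
              rw [mul_inv_eq_iff_eq_mul, e0, mul_assoc, mul_assoc]
              congr 1
              refine (Commute.eq ?_)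
              refine h.comm2_commute hC (hTlt k hkT) hsn ?_ _ _ |>.symm
              exact hksk
            rw [if_pos List.mem_cons_self,
              show h.xG s a * (h.xG b 1 * h.pi' M 1) * (h.xG s a)⁻¹ =
                (h.xG s a * h.xG b 1 * (h.xG s a)⁻¹) * (h.xG s a * h.pi' M 1 * (h.xG s a)⁻¹) by group,
              e1, hfix, mul_assoc, mul_assoc]
            congr 1
            refine (Commute.list_prod_right _ _ fun x hx => ?_).eq
            obtain ⟨r, hr, rfl⟩ := List.mem_map.1 hx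
            refine hTc k (List.mem_filter.1 hkT).1 r ?_ _ _
            exact hRT r (hM r (List.mem_cons_of_mem _ hr))
          · have hx := hRx b hb
            rw [decide_eq_false ebR] at hx
            simp only [cond_false] at hx
            rw [show h.xG s a * (h.xG b 1 * h.pi' M 1) * (h.xG s a)⁻¹ =
              (h.xG s a * h.xG b 1 * (h.xG s a)⁻¹) * (h.xG s a * h.pi' M 1 * (h.xG s a)⁻¹) by group,
              ihM', ← (h.comm2_commute hC (hRs b hb) hsn hx 1 a).eq, mul_inv_cancel_right, mul_assoc]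
            congr 2
            exact if_congr (by simp [Ne.symm ebR]) rfl rfl
      rw [hk1 _ (fun _ hx => hx) hRn, if_pos hR]
    refine ⟨Function.update f k (a ^ g.2.2.2), ?_, fun h0 => ?_⟩
    · have hcomm : h.xG s a * h.pi' (L.map fun e => e.2.1) f * (h.xG s a)⁻¹ = h.pi' (L.map fun e => e.2.1) f := by
        rw [mul_inv_eq_iff_eq_mul]
        refine (Commute.list_prod_right _ _ fun x hx => ?_).eq
        obtain ⟨r, hr, rfl⟩ := List.mem_map.1 hx
        obtain ⟨e', he', rfl⟩ := List.mem_map.1 hr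
        exact (h.comm2_commute hC (hLmem e' he').1 hsn (hks e' he') _ _).symm
      rw [show h.xG s a * n * w * (h.xG s a * n)⁻¹ = h.xG s a * (n * w * n⁻¹) * (h.xG s a)⁻¹ by group, hf,
        show h.xG s a * (w * h.pi' (L.map fun e => e.2.1) f) * (h.xG s a)⁻¹ =
          (h.xG s a * w * (h.xG s a)⁻¹) * (h.xG s a * h.pi' (L.map fun e => e.2.1) f * (h.xG s a)⁻¹) by group,
        hsw, hcomm, mul_assoc]
      congr 1
      show _ = h.xG k _ * h.pi' _ _
      rw [Function.update_self, pi', pi']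
      congr 2
      refine List.map_congr_left fun r hr => ?_
      rw [Function.update_of_ne fun e => hkL' (by rwa [← e])]
    · have ha : a = 0 := by
        have := h0 k List.mem_cons_self
        rw [Function.update_self] at this
        exact pow_eq_zero_iff (by omega) |>.1 this
      show h.xG s a * n ∈ _
      rw [ha, h.xG_zero, one_mul]
      refine hf0 fun x hx => ?_
      have := h0 x (List.mem_cons_of_mem _ hx)
      rwa [Function.update_of_ne fun e => hkL' (by rwa [← e])] at this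

theorem pi_embed {L M : List ℕ} (hn : L.Nodup) (hn' : M.Nodup) (hp' : ∀ r ∈ M, P.isPos r = true)
    (hc' : h.CommL (F := F) M) (hsub : ∀ r ∈ L, r ∈ M) (t : ℕ → F) :
    h.pi' L t = h.pi' M (fun r => if r ∈ L then t r else 0) := by
  rw [h.pi_posL hn (fun r hr => hp' r (hsub r hr)) (fun r hr s hs => hc' r (hsub r hr) s (hsub s hs)),
    h.pi_posL hn' hp' hc']
  congr 1
  funext r
  by_cases e : r ∈ L
  · simp [e, hsub r e]
  · simp [e]

theorem hHom_pi (c : Fin P.rank → Fˣ) {L : List ℕ} (hL : ∀ r ∈ L, r < P.nroots) (t : ℕ → F) :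
    h.hHom c * h.pi' L t * (h.hHom c)⁻¹ = h.pi' L (fun r => hchar P c r * t r) := by
  induction L with
  | nil => simp [pi']
  | cons a L ih =>
    show h.hHom c * (h.xG a (t a) * h.pi' L t) * (h.hHom c)⁻¹ = h.xG a _ * h.pi' L _
    rw [← ih fun r hr => hL r (List.mem_cons_of_mem _ hr), ← h.hHom_xG c (hL a List.mem_cons_self)]
    group

/-- The centraliser of a product of commuting root elements of dominant weight. -/
theorem centralizer_weight (hC : P.ckComm = true) (d : CData) (hck : P.ckC d = true) :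
    D.group F ⊓ Subgroup.centralizer {h.pi' (d.Rs.map Prod.fst) (1 : ℕ → F)} =
      h.genR (· ∈ P.goodL d) ⊔ h.genR fun s => ∃ i ∈ d.J, s = P.ng (P.sim i) := by
  simp only [Pk.ckC, Bool.and_eq_true, List.all_eq_true, decide_eq_true_eq, Bool.or_eq_true,
    Bool.not_eq_true', Pk.mem_allRoots, List.mem_range, Nat.blt_eq, nbeq, decide_eq_false_iff_not] at hck
  obtain ⟨⟨⟨⟨⟨⟨⟨⟨⟨⟨⟨hTn, hRn⟩, hT⟩, hRs⟩, hTU⟩, hTge⟩, hJlt⟩, hnode⟩, hJgood⟩, hgoodc⟩, hbad⟩, hcomb⟩ := hck
  set Rl := d.Rs.map Prod.fst with hRl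
  have hTpos : ∀ x ∈ d.T, P.isPos x = true := fun x hx => (hT x hx).1
  have hTlt : ∀ x ∈ d.T, x < P.nroots := fun x hx => (P.isPos_iff.1 (hTpos x hx)).2
  have hTc : h.CommL (F := F) d.T := fun r hr s hs t u =>
    h.comm2_commute hC (hTlt r hr) (hTlt s hs) ((hT r hr).2 s hs) t u
  have hRT : ∀ R ∈ Rl, R ∈ d.T := fun R hR => by
    obtain ⟨p, hp, rfl⟩ := List.mem_map.1 hR
    exact any_beq.1 (hRs p hp).1
  have hRlt : ∀ R ∈ Rl, R < P.nroots := fun R hR => hTlt R (hRT R hR)
  have hRc : h.CommL (F := F) Rl := fun r hr s hs => hTc r (hRT r hr) s (hRT s hs)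
  have hrestmem : ∀ r, r ∈ d.restT ↔ r ∈ d.T ∧ r ∉ Rl := fun r => by
    rw [CData.restT, List.mem_filter, Bool.not_eq_true', ← Bool.not_eq_true, any_beq]
  have hrestn : d.restT.Nodup := hTn.filter _
  have hrestc : h.CommL (F := F) d.restT := fun r hr s hs => hTc r ((hrestmem r).1 hr).1 s ((hrestmem s).1 hs).1
  set T' := h.genR (F := F) (· ∈ d.restT) with hT'
  have hconjT' : ∀ u : GL D.Idx F,
      (∀ r ∈ d.T, ∀ t : F, u * h.xG r t * u⁻¹ * (h.xG r t)⁻¹ ∈ T') → ∀ z ∈ T', u * z * u⁻¹ ∈ T' := by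
    intro u hu z hz
    have : T' ≤ T'.comap (MulAut.conj u).toMonoidHom := h.genR_le fun r hr t => by
      rw [Subgroup.mem_comap, MulEquiv.toMonoidHom_eq_coe, MonoidHom.coe_coe, MulAut.conj_apply]
      have h1 := mul_mem (hu r ((hrestmem r).1 hr).1 t) (h.xG_mem_genR (F := F) (S := (· ∈ d.restT)) hr t)
      rwa [inv_mul_cancel_right] at h1
    exact this hz
  have hcomT : ∀ z ∈ T', ∀ r ∈ d.T, ∀ t : F, Commute (h.xG r t) z := by
    intro z hz r hr t
    obtain ⟨f, rfl⟩ := h.mem_genR_pi hrestn hrestc hz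
    refine Commute.list_prod_right _ _ fun x hx => ?_
    obtain ⟨s, hs, rfl⟩ := List.mem_map.1 hx
    exact hTc r hr s ((hrestmem s).1 hs).1 _ _
  have hU : ∀ u ∈ D.posUnipotent F, ∀ r ∈ d.T, ∀ t : F, u * h.xG r t * u⁻¹ * (h.xG r t)⁻¹ ∈ T' := by
    intro u hu
    rw [h.posUnipotent_eq] at hu
    have gen : ∀ s, P.isPos s = true → ∀ a : F, ∀ r ∈ d.T, ∀ t : F,
        h.xG s a * h.xG r t * (h.xG s a)⁻¹ * (h.xG r t)⁻¹ ∈ T' := by
      intro s hs a r hr t
      have hsn := (P.isPos_iff.1 hs).2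
      by_cases hsr : s = r
      · subst hsr
        rw [h.xG_add, add_comm, ← h.xG_add, mul_inv_cancel_right, mul_inv_cancel]
        exact one_mem _
      obtain ⟨hne, hall⟩ := ((hTU r hr s hsn).resolve_left (by
        rintro (e | e)
        · rw [hs] at e; exact absurd e (by simp)
        · exact hsr e))
      have hrng : r ≠ P.ng s := fun e => hne (by rw [e, ng_ng hsn])
      have hW : ((P.cword s r).map fun g => h.xG g.1 ((g.2.1 : F) * (-a) ^ g.2.2.1 * t ^ g.2.2.2)).prod ∈ T' := by
        refine list_prod_mem fun x hx => ?_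
        obtain ⟨g, hg, rfl⟩ := List.mem_map.1 hx
        obtain ⟨c, hc, hgc, hev⟩ := h.cword_fst hg
        rcases hall c hc with e | e
        · rw [h.cast_even (hev e), zero_mul, zero_mul, h.xG_zero]
          exact one_mem _
        · rw [hgc]
          exact h.xG_mem_genR (S := (· ∈ d.restT)) (any_beq.1 e) _
      have e0 := h.comm_xG hC hsn (hTlt r hr) (Ne.symm hsr) hrng (-a) t
      rw [← h.xG_inv, mul_assoc, ← inv_mul_eq_iff_eq_mul, inv_inv, ← mul_assoc] at e0
      rw [e0, (hcomT _ hW r hr t).eq, mul_inv_cancel_right]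
      exact hW
    induction hu using Subgroup.closure_induction'' with
    | one => intro r _ t; simp
    | mem x hx => obtain ⟨s, a, hs, rfl⟩ := hx; exact gen s hs a
    | inv_mem x hx => obtain ⟨s, a, hs, rfl⟩ := hx; rw [h.xG_inv]; exact gen s hs _
    | mul x y _ _ hx hy =>
      intro r hr t
      rw [show x * y * h.xG r t * (x * y)⁻¹ * (h.xG r t)⁻¹ =
        (x * (y * h.xG r t * y⁻¹ * (h.xG r t)⁻¹) * x⁻¹) * (x * h.xG r t * x⁻¹ * (h.xG r t)⁻¹) by group]
      exact mul_mem (hconjT' x hx _ (hy r hr t)) (hx r hr t)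
  have hform : ∀ u ∈ D.posUnipotent F, ∀ c : ℕ → F, ∃ y : ℕ → F,
      u * h.pi' Rl c * u⁻¹ = h.pi' d.T y ∧ ∀ R ∈ Rl, y R = c R := by
    intro u hu c
    have key : ∀ M : List ℕ, (∀ r ∈ M, r ∈ d.T) → u * h.pi' M c * u⁻¹ * (h.pi' M c)⁻¹ ∈ T' := by
      intro M
      induction M with
      | nil => intro _; simp [pi']
      | cons a M ihM =>
        intro hM
        have hz := ihM fun r hr => hM r (List.mem_cons_of_mem _ hr)
        have e := hcomT _ hz a (hM a List.mem_cons_self) (c a)
        show u * (h.xG a (c a) * h.pi' M c) * u⁻¹ * (h.xG a (c a) * h.pi' M c)⁻¹ ∈ T'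
        rw [show u * (h.xG a (c a) * h.pi' M c) * u⁻¹ * (h.xG a (c a) * h.pi' M c)⁻¹ =
          (u * h.xG a (c a) * u⁻¹ * (h.xG a (c a))⁻¹) *
            (h.xG a (c a) * (u * h.pi' M c * u⁻¹ * (h.pi' M c)⁻¹) * (h.xG a (c a))⁻¹) by group,
          e.eq, mul_inv_cancel_right]
        exact mul_mem (hU u hu a (hM a List.mem_cons_self) (c a)) hz
    obtain ⟨f, hf⟩ := h.mem_genR_pi hrestn hrestc (key Rl hRT)
    rw [mul_inv_eq_iff_eq_mul, h.pi_embed hrestn hTn hTpos hTc (fun r hr => ((hrestmem r).1 hr).1) f,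
      h.pi_embed hRn hTn hTpos hTc hRT c, h.pi_add hTc, ← h.pi_embed hRn hTn hTpos hTc hRT c] at hf
    refine ⟨_, hf, fun R hR => ?_⟩
    simp [hR, mt (hrestmem R).1 (fun e => e.2 hR)]
  set w : GL D.Idx F := h.pi' Rl (1 : ℕ → F) with hw
  have hcen : ∀ {g : GL D.Idx F}, g ∈ Subgroup.centralizer {w} ↔ g * w * g⁻¹ = w := fun {g} => by
    rw [Subgroup.mem_centralizer_iff, mul_inv_eq_iff_eq_mul]
    simp [eq_comm]
  have hroot : ∀ r < P.nroots, (∀ R ∈ Rl, P.comm2 R r = true) → ∀ t : F, h.xG r t ∈ Subgroup.centralizer {w} := by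
    intro r hr hall t
    rw [hcen, mul_inv_eq_iff_eq_mul]
    refine (Commute.list_prod_right _ _ fun x hx => ?_).eq
    obtain ⟨R, hR, rfl⟩ := List.mem_map.1 hx
    exact (h.comm2_commute hC (hRlt R hR) hr (hall R hR) _ _).symm
  have hgoodlt : ∀ r ∈ P.goodL d, r < P.nroots := fun r hr => List.mem_range.1 (List.mem_filter.1 hr).1
  have hgoodmem : h.genR (F := F) (· ∈ P.goodL d) ≤ Subgroup.centralizer {w} := h.genR_le fun r hr t =>
    hroot r (hgoodlt r hr) (fun R hR => by
      obtain ⟨p, hp, rfl⟩ := List.mem_map.1 hR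
      exact hgoodc r hr p hp) t
  have hlevi : ∀ i ∈ d.J, ∀ p ∈ d.Rs, (P.comm2 p.1 (P.ng (P.sim i)) = true ∧ P.comm2 p.1 (P.sim i) = true) ∧
      P.A i p.1 = 0 := by
    intro i hi p hp
    have := hnode i (hJlt i hi)
    rw [any_beq.2 hi] at this
    simp only [cond_true, Bool.and_eq_true, decide_eq_true_eq, List.all_eq_true] at this
    exact this.2 p hp
  set S := h.genR (F := F) (· ∈ P.goodL d) ⊔ h.genR fun s => ∃ i ∈ d.J, s = P.ng (P.sim i) with hS
  have hSle : S ≤ D.group F ⊓ Subgroup.centralizer {w} := by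
    refine sup_le (le_inf (h.genR_le fun r _ t => h.mem_group_of_xG r t) hgoodmem) (h.genR_le ?_)
    rintro s ⟨i, hi, rfl⟩ t
    refine Subgroup.mem_inf.2 ⟨h.mem_group_of_xG _ _, hroot _ (ng_lt (h.sim_lt (hJlt i hi))) (fun R hR => ?_) t⟩
    obtain ⟨p, hp, rfl⟩ := List.mem_map.1 hR
    exact (hlevi i hi p hp).1.1
  have hJg : ∀ r, P.isPos r = true → inJ P d.J r = true → r ∈ P.goodL d := fun r hp hj => by
    rcases hJgood r (P.isPos_iff.1 hp).2 with e | e
    · rw [hp, hj] at e; exact absurd e (by simp)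
    · exact any_beq.1 e
  have hnt : ∀ i ∈ d.J, ∀ t : F, h.nt (P.sim i) t ∈ S := by
    intro i hi t
    have hin : inJ P d.J (P.sim i) = true := inJ_iff.2 fun m hm hmJ => by
      rw [h.rv_sim (hJlt i hi) hm, if_neg fun e => hmJ (by rwa [← e])]
    have h1 : ∀ c : F, h.xG (P.sim i) c ∈ S := fun c =>
      Subgroup.mem_sup_left (h.xG_mem_genR (hJg _ (h.sim_pos (hJlt i hi)) hin) c)
    rw [nt]
    exact mul_mem (mul_mem (h1 t) (Subgroup.mem_sup_right (h.xG_mem_genR (by exact ⟨i, hi, rfl⟩) _))) (h1 t)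
  refine le_antisymm (fun g hg => ?_) hSle
  obtain ⟨hgG, hgC⟩ := Subgroup.mem_inf.1 hg
  obtain ⟨b, hb, l, hl, u, hu, rfl⟩ := h.bruhat_exists hC hgG
  obtain ⟨v, hv, dd, hdd, rfl⟩ := h.mem_borel hb
  obtain ⟨c, rfl⟩ := h.mem_diagonal_iff.1 hdd
  have huU := h.negS_le_pos l hu
  -- the Weyl part keeps every weighted root in `T`
  obtain ⟨y, hy, hyR⟩ := hform u huU 1
  obtain ⟨y', hy', -⟩ := hform v⁻¹ (inv_mem hv) 1
  have himg : h.nW l * h.pi' d.T y * (h.nW l)⁻¹ = h.pi' d.T (fun r => hchar P c⁻¹ r * y' r) := by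
    rw [← h.hHom_pi c⁻¹ hTlt, ← hy, ← hy', map_inv, inv_inv, inv_inv, ← hw]
    have := hcen.1 hgC
    calc h.nW l * (u * w * u⁻¹) * (h.nW l)⁻¹
        = (h.hHom c)⁻¹ * (v⁻¹ * (v * h.hHom c * h.nW l * u * w * (v * h.hHom c * h.nW l * u)⁻¹) * v) * h.hHom c := by group
      _ = _ := by rw [this]
  choose! e he hx using fun r (hr : r < P.nroots) => h.nW_xG (F := F) l hl r hr
  have hcompl : ∀ z : ℕ → F, h.pi' d.T z ∈ D.posUnipotent F := fun z => by
    rw [h.posUnipotent_eq]; exact h.pi_mem_genR z fun r hr _ => hTpos r hr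
  have hconjpi : ∀ (M : List ℕ), (∀ r ∈ M, r < P.nroots) → ∀ z : ℕ → F,
      h.nW l * h.pi' M z * (h.nW l)⁻¹ = (M.map fun r => h.xG (wl P l r) (e r * z r)).prod := by
    intro M
    induction M with
    | nil => intro _ z; simp [pi']
    | cons a M ihM =>
      intro hM z
      rw [List.map_cons, List.prod_cons, ← ihM (fun r hr => hM r (List.mem_cons_of_mem _ hr)),
        ← (hx a (hM a List.mem_cons_self) _).1]
      show h.nW l * (h.xG a (z a) * h.pi' M z) * (h.nW l)⁻¹ = _
      group
  set p : ℕ → Bool := fun r => P.isPos (wl P l r)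
  set yp : ℕ → F := fun r => if p r then y r else 0
  set yn : ℕ → F := fun r => if p r then 0 else y r
  have hysum : h.pi' d.T yp * h.pi' d.T yn = h.pi' d.T y := by
    rw [h.pi_add hTc]; congr 1; funext r; by_cases hp : p r = true <;> simp [yp, yn, hp]
  have hyn : h.pi' d.T yn = 1 := by
    have h1 : h.nW l * h.pi' d.T yp * (h.nW l)⁻¹ ∈ D.posUnipotent F := by
      rw [hconjpi _ hTlt]
      refine list_prod_mem fun x hx' => ?_
      obtain ⟨r, hr, rfl⟩ := List.mem_map.1 hx'
      by_cases hp : p r = true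
      · exact h.xG_mem_pos hp _
      · simp only [yp, hp, Bool.false_eq_true, if_false, mul_zero, h.xG_zero]; exact one_mem _
    have h2 : h.nW l * h.pi' d.T yn * (h.nW l)⁻¹ ∈ D.negUnipotent F := by
      rw [hconjpi _ hTlt]
      refine list_prod_mem fun x hx' => ?_
      obtain ⟨r, hr, rfl⟩ := List.mem_map.1 hx'
      by_cases hp : p r = true
      · simp only [yn, hp, if_true, mul_zero, h.xG_zero]; exact one_mem _
      · exact h.xG_mem_neg (h.wl_lt l hl r (hTlt r hr)) (by simpa [p] using hp) _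
    have h3 : h.nW l * h.pi' d.T yn * (h.nW l)⁻¹ ∈ D.borelSubgroup F ⊓ D.negUnipotent F := by
      refine Subgroup.mem_inf.2 ⟨Subgroup.mem_sup_left ?_, h2⟩
      have h4 := mul_mem (inv_mem h1) (hcompl fun r => hchar P c⁻¹ r * y' r)
      rw [← himg, ← hysum] at h4
      convert h4 using 1
      group
    rw [h.borel_inf_neg, Subgroup.mem_bot, conj_eq_one_iff] at h3
    exact h3
  have hypos : ∀ r ∈ d.T, p r = false → y r = 0 := by
    intro r hr hp
    have h0 : h.pi' d.T yn = h.pi' d.T (fun _ => (0 : F)) := by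
      rw [hyn]; exact (List.prod_eq_one fun x hx => by
        obtain ⟨s, -, rfl⟩ := List.mem_map.1 hx; exact h.xG_zero s).symm
    have := h.pi_coord hTn hTpos hTc hTn hTpos hTc h0 (hTpos r hr)
    simpa [hr, yn, hp] using this
  have hwT : ∀ R ∈ Rl, wl P l R ∈ d.T := by
    intro R hR
    set L' := (d.T.filter p).map (wl P l)
    have hTp : ∀ r ∈ d.T.filter p, r ∈ d.T ∧ r < P.nroots ∧ p r = true := fun r hr =>
      ⟨(List.mem_filter.1 hr).1, hTlt r (List.mem_filter.1 hr).1, (List.mem_filter.1 hr).2⟩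
    have hL'n : L'.Nodup := (hTn.filter p).map_on fun a ha b hb e' => by
      rw [← h.wl_reverse l hl a (hTp a ha).2.1, e', h.wl_reverse l hl b (hTp b hb).2.1]
    have hL'p : ∀ r ∈ L', P.isPos r = true := fun r hr => by
      obtain ⟨a, ha, rfl⟩ := List.mem_map.1 hr; exact (hTp a ha).2.2
    have hback : ∀ a < P.nroots, ∀ t : F, h.xG (wl P l a) t = h.nW l * h.xG a (e a * t) * (h.nW l)⁻¹ := fun a ha t => by
      rw [(hx a ha _).1, ← mul_assoc, he a ha, one_mul]
    have hL'c : h.CommL (F := F) L' := by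
      intro r hr s hs t u'
      obtain ⟨a, ha, rfl⟩ := List.mem_map.1 hr
      obtain ⟨b', hb', rfl⟩ := List.mem_map.1 hs
      rw [hback a (hTp a ha).2.1, hback b' (hTp b' hb').2.1]
      exact (hTc a (hTp a ha).1 b' (hTp b' hb').1 _ _).map (MulAut.conj (h.nW l)).toMonoidHom
    set z : ℕ → F := fun x => e (wl P l.reverse x) * y (wl P l.reverse x)
    have heq : h.pi' L' z = h.pi' d.T (fun r => hchar P c⁻¹ r * y' r) := by
      rw [← himg, ← h.pi_filter d.T p y hypos, hconjpi _ (fun r hr => (hTp r hr).2.1), pi', List.map_map]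
      congr 1
      refine List.map_congr_left fun r hr => ?_
      simp only [Function.comp_apply, z, h.wl_reverse l hl r (hTp r hr).2.1]
    have hRp : R ∈ d.T.filter p := by
      refine List.mem_filter.2 ⟨hRT R hR, ?_⟩
      by_contra hp
      have := hypos R (hRT R hR) (by simpa using hp)
      rw [hyR R hR] at this
      exact one_ne_zero this
    have h5 := h.pi_coord hL'n hL'p hL'c hTn hTpos hTc heq (r := wl P l R) (hTp R hRp).2.2
    rw [if_pos (List.mem_map.2 ⟨R, hRp, rfl⟩)] at h5
    by_contra hne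
    rw [if_neg hne] at h5
    simp only [z, h.wl_reverse l hl R (hRlt R hR), hyR R hR, Pi.one_apply, mul_one] at h5
    exact (left_ne_zero_of_mul_eq_one (he R (hRlt R hR))) h5
  have hnonneg : ∀ i < P.rank, 0 ≤ P.wtA d i ∧ (i ∉ d.J → 0 < P.wtA d i) := by
    intro i hi
    have := hnode i hi
    by_cases hij : i ∈ d.J
    · rw [any_beq.2 hij] at this
      simp only [cond_true, Bool.and_eq_true, decide_eq_true_eq] at this
      exact ⟨le_of_eq this.1.symm, fun h' => absurd hij h'⟩
    · rw [show d.J.any (Nat.beq i) = false by rw [← Bool.not_eq_true, any_beq]; exact hij] at this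
      simp only [cond_false, decide_eq_true_eq] at this
      exact ⟨this.le, fun _ => this⟩
  obtain ⟨hle, heq⟩ := h.stab_weight (Rs := d.Rs) (J := d.J) (fun q hq => hRlt q.1 (List.mem_map.2 ⟨q, hq, rfl⟩))
    (fun i hi => (hnonneg i hi).1) (fun i hi hij => (hnonneg i hi).2 hij) _ l hl rfl
  obtain ⟨l', hl', hact⟩ := heq fun m hm => le_antisymm (hle m hm) (by
    refine List.sum_le_sum fun q hq => ?_
    have hq' : q.1 ∈ Rl := List.mem_map.2 ⟨q, hq, rfl⟩
    refine mul_le_mul_of_nonneg_left ?_ (by positivity)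
    rcases hTge _ (hwT q.1 hq') q hq with e' | e'
    · rw [h.shortB_wl hl (hRlt q.1 hq')] at e'; simp at e'
    · exact e' m hm)
  have hn' : h.nW (F := F) l' ∈ S := by
    have : ∀ L, (∀ i ∈ L, i ∈ d.J) → h.nW (F := F) L ∈ S := by
      intro L
      induction L with
      | nil => intro _; rw [h.nW_nil]; exact one_mem _
      | cons i L ih =>
        intro hL
        rw [h.nW_cons]
        exact mul_mem (hnt i (hL i List.mem_cons_self) 1) (ih fun x hx => hL x (List.mem_cons_of_mem _ hx))
    exact this l' hl'.2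
  have huS : u ∈ S := by
    refine Subgroup.mem_sup_left (h.genR_mono (fun r hr => hJg r hr.1 (inJ_iff.2 fun m hm hmJ => ?_)) hu)
    have hrn := (P.isPos_iff.1 hr.1).2
    by_contra hne
    have h1 := (h.rv_sign hrn hm).1 hr.1
    have h2 := (h.rv_sign (h.wl_lt l hl r hrn) hm).2 hr.2
    rw [hact r hrn, h.wl_outside hl' hrn hm hmJ] at h2
    omega
  have hd'' : h.hHom c * h.nW l * (h.nW l')⁻¹ ∈ D.diagonalSubgroup F := by
    have hd' := h.mem_diagonal_of_wl_eq (F := F) hl hl'.1 hact
    have h4 := (Subgroup.mem_normalizer_iff.1 (h.nW_normalizer (F := F) l hl) _).1 (inv_mem hd')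
    have h5 := mul_mem (show h.hHom c ∈ D.diagonalSubgroup F from h.mem_diagonal_iff.2 ⟨c, rfl⟩) h4
    convert h5 using 1
    group
  obtain ⟨c', hc'⟩ := h.mem_diagonal_iff.1 hd''
  have hfac : v * h.hHom c * h.nW l * u = (v * h.hHom c') * h.nW l' * u := by rw [hc']; group
  rw [hfac] at hgC ⊢
  have hb' : v * h.hHom c' ∈ Subgroup.centralizer {w} := by
    have h6 := mul_mem (mul_mem hgC (inv_mem (Subgroup.mem_inf.1 (hSle huS)).2))
      (inv_mem (Subgroup.mem_inf.1 (hSle hn')).2)
    simpa using h6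
  -- the torus part
  have hchi : ∀ R ∈ Rl, hchar P c' R = 1 := by
    intro R hR
    obtain ⟨z, hz, hzR⟩ := hform v hv (fun r => hchar P c' r * 1)
    have h7 := hcen.1 hb'
    rw [show v * h.hHom c' * w * (v * h.hHom c')⁻¹ = v * (h.hHom c' * w * (h.hHom c')⁻¹) * v⁻¹ by group, hw,
      h.hHom_pi c' hRlt, show (fun r => hchar P c' r * (1 : ℕ → F) r) = fun r => hchar P c' r * 1 from rfl, hz] at h7
    have h8 := h.pi_coord hTn hTpos hTc hRn (fun r hr => hTpos r (hRT r hr)) hRc h7 (hTpos R (hRT R hR))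
    rw [if_pos (hRT R hR), if_pos hR, hzR R hR, mul_one] at h8
    exact h8
  have hck' : ∀ i : Fin P.rank, i.val ∉ d.J → c' i = 1 := by
    intro i hiJ
    obtain hc1 | hc1 := hcomb i.val i.isLt
    · exact absurd (any_beq.1 hc1) hiJ
    simp only [List.any_eq_true, Bool.and_eq_true, decide_eq_true_eq, List.all_eq_true, List.mem_range] at hc1
    obtain ⟨q, -, -, hq⟩ := hc1
    apply Units.ext
    rw [Units.val_one]
    set ns : ℕ → ℤ := fun a => q.2.getD a 0
    set ro : ℕ → ℕ := fun a => (d.Rs.getD a (0, 0)).1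
    have h9 : ∀ L : List ℕ, (∀ a ∈ L, a < d.Rs.length) →
        (∏ j : Fin P.rank, (c' j : F) ^ (L.map fun a => ns a * P.A j.val (ro a)).sum) = 1 := by
      intro L
      induction L with
      | nil => intro _; simp
      | cons a L ihL =>
        intro hL
        simp only [List.map_cons, List.sum_cons, zpow_add₀ (Units.ne_zero _), Finset.prod_mul_distrib,
          ihL fun x hx => hL x (List.mem_cons_of_mem _ hx), mul_one]
        have hmem : ro a ∈ Rl := by
          refine List.mem_map.2 ⟨d.Rs.getD a (0, 0), ?_, rfl⟩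
          rw [List.getD_eq_getElem _ _ (hL a List.mem_cons_self)]
          exact List.getElem_mem _
        rw [Finset.prod_congr rfl fun j _ => by rw [mul_comm, zpow_mul], Finset.prod_zpow]
        rw [show (∏ j : Fin P.rank, (c' j : F) ^ P.A j.val (ro a)) = hchar P c' (ro a) from rfl, hchi _ hmem, one_zpow]
    rw [← h9 (List.range d.Rs.length) fun a ha => List.mem_range.1 ha, Finset.prod_eq_single i]
    · rw [hq i.val i.isLt]; simp
    · intro j _ hj
      rw [hq j.val j.isLt, decide_eq_false (fun e' => hj (Fin.ext e'.symm))]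
      simp
    · simp
  have hd3 : h.hHom c' ∈ S := by
    have key2 : ∀ A : Finset (Fin P.rank), h.hHom (F := F) (∏ i ∈ A, Pi.mulSingle i (c' i)) ∈ S := by
      intro A
      induction A using Finset.induction_on with
      | empty => rw [Finset.prod_empty, map_one]; exact one_mem _
      | insert i A hi ih =>
        rw [Finset.prod_insert hi, map_mul]
        refine mul_mem ?_ ih
        by_cases hij : i.val ∈ d.J
        · rw [h.hHom_single i, ht]
          exact mul_mem (hnt _ hij _) (hnt _ hij _)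
        · rw [hck' i hij, Pi.mulSingle_one, map_one]
          exact one_mem _
    have := key2 Finset.univ
    rwa [Finset.univ_prod_mulSingle c'] at this
  have hvC : v ∈ Subgroup.centralizer {w} := by
    simpa using mul_mem hb' (inv_mem (Subgroup.mem_inf.1 (hSle hd3)).2)
  -- the unipotent part
  have hvall : v ∈ h.genR (F := F) (· ∈ P.goodL d ++ d.bad.map Prod.fst) := by
    rw [h.posUnipotent_eq] at hv
    refine h.genR_mono (fun r hr => ?_) hv
    by_cases hm : r ∈ d.bad.map Prod.fst
    · exact List.mem_append_right _ hm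
    · refine List.mem_append_left _ (List.mem_filter.2 ⟨List.mem_range.2 (P.isPos_iff.1 hr).2, ?_⟩)
      rw [hr, Bool.true_and, Bool.not_eq_true', ← Bool.not_eq_true, any_beq]
      exact hm
  obtain ⟨f, hf, hf0⟩ := h.bad_split hC d rfl (fun x hx => hcen.1 (hgoodmem hx)) hRlt hRn
    (fun k hk => hTlt k ((hrestmem k).1 hk).1) hRT hTc d.bad hbad v hvall
  have hksT : ∀ L, P.ckBad d L = true → (L.map fun e => e.2.1).Nodup ∧ ∀ k ∈ L.map (fun e => e.2.1), k ∈ d.T := by
    intro L
    induction L with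
    | nil => intro _; simp
    | cons a L ihL =>
      obtain ⟨s, k, R⟩ := a
      intro hL
      simp only [Pk.ckBad, Bool.and_eq_true, Bool.not_eq_true'] at hL
      obtain ⟨i1, i2⟩ := ihL hL.2
      refine ⟨List.nodup_cons.2 ⟨fun hm => ?_, i1⟩, List.forall_mem_cons.2 ⟨?_, i2⟩⟩
      · have := hL.1.1.1.1.1.2
        rw [any_beq.2 hm] at this
        simp at this
      · exact ((hrestmem k).1 (any_beq.1 hL.1.1.1.1.1.1.1.2)).1
  obtain ⟨hksn, hksm⟩ := hksT d.bad hbad
  have hvS : v ∈ S := by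
    refine Subgroup.mem_sup_left (hf0 fun k hk => ?_)
    have h10 : h.pi' (d.bad.map fun e => e.2.1) f = h.pi' [] (0 : ℕ → F) := by
      have := hcen.1 hvC
      rw [hf, mul_eq_left] at this
      rw [this]; rfl
    have := h.pi_coord hksn (fun r hr => hTpos r (hksm r hr)) (fun r hr s hs => hTc r (hksm r hr) s (hksm s hs))
      List.nodup_nil (fun r hr => absurd hr List.not_mem_nil) (fun r hr => absurd hr List.not_mem_nil) h10
      (hTpos k (hksm k hk))
    rw [if_pos hk, if_neg List.not_mem_nil] at this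
    exact this
  exact mul_mem (mul_mem (mul_mem hvS hd3) hn') huS

omit [CharP F 2] in
theorem genR_list_eq (L : List ℕ) :
    h.genR (F := F) (· ∈ L) = L.foldr (fun s S => D.rootSubgroup F s ⊔ S) ⊥ := by
  rw [← h.closure_list_eq, genR]
  congr 1
  ext g
  simp only [Set.mem_setOf_eq, h.eq_xG_iff]
  exact ⟨fun ⟨r, t, hr, e⟩ => ⟨r, hr, t, e⟩, fun ⟨r, hr, t, e⟩ => ⟨r, t, hr, e⟩⟩

/-- The centraliser in list form. -/
theorem centralizer_weight_list (hC : P.ckComm = true) (d : CData) (hck : P.ckC d = true) {L N : List ℕ}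
    (hL : L = P.goodL d) (hN : N = d.J.map fun i => P.ng (P.sim i)) :
    D.group F ⊓ Subgroup.centralizer {h.pi' (d.Rs.map Prod.fst) (1 : ℕ → F)} =
      h.genR (· ∈ L) ⊔ h.genR (· ∈ N) := by
  rw [h.centralizer_weight hC d hck, hL, hN]
  congr 2
  funext s
  simp [eq_comm]

end Ok

end Cfsg.Agent.Chev
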