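/-
Sums over the cosets of a normalised subgroup: fixed points and the elements of order prime to p.
-/
import Cfsg.Agent.Lib.Blocks.BrauerChar
import Mathlib.GroupTheory.GroupAction.Quotient
import Mathlib.GroupTheory.PGroup

set_option autoImplicit false
set_option linter.unusedSectionVars false

namespace Cfsg.Agent.CosetSum

universe u v

variable {G : Type u} [Group G] {X : Type v} [MulAction G X]

open scoped Classical in
/-- The fixed points on a coset of a normalised subgroup count the orbits fixed by it. -/
theorem sum_fixed_coset (U : Subgroup G) [Fintype U] [Finite X] {g : G}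
    (hg : ∀ u ∈ U, g * u * g⁻¹ ∈ U) :
    ∑ u : U, Nat.card {x : X // (g * (u : G)) • x = x} =
      Nat.card U *
        Nat.card {O : MulAction.orbitRel.Quotient U X // ∀ x : X, Quotient.mk'' x = O →
          (Quotient.mk'' (g • x) : MulAction.orbitRel.Quotient U X) = O} := by
  haveI := Fintype.ofFinite X
  haveI : Fintype (MulAction.orbitRel.Quotient U X) := Fintype.ofFinite _
  let Fx : MulAction.orbitRel.Quotient U X → Prop := fun O => ∀ x : X, Quotient.mk'' x = O →
    (Quotient.mk'' (g • x) : MulAction.orbitRel.Quotient U X) = O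
  have hmk : ∀ (a b : X), (Quotient.mk'' a : MulAction.orbitRel.Quotient U X) = Quotient.mk'' b ↔
      ∃ c : U, (c : G) • b = a := fun a b => by
    rw [Quotient.eq'', MulAction.orbitRel_apply, MulAction.mem_orbit_iff]
    rfl
  have hstep : ∀ x : X, Fx (Quotient.mk'' x) ↔ ∃ c : U, (c : G) • x = g • x := by
    refine fun x => ⟨fun hf => (hmk _ _).1 (hf x rfl), fun ⟨c, hc⟩ y hy => ?_⟩
    obtain ⟨d, rfl⟩ := (hmk _ _).1 hy
    refine (hmk _ _).2 ⟨⟨g * d * g⁻¹, hg d d.2⟩ * c, ?_⟩
    rw [Subgroup.coe_mul, mul_smul, hc, ← mul_smul, ← mul_smul]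
    congr 1
    group
  -- the number of elements of the coset fixing a point
  have hper : ∀ x : X, Nat.card {u : U // (g * (u : G)) • x = x} =
      if Fx (Quotient.mk'' x) then Nat.card (MulAction.stabilizer U x) else 0 := by
    intro x
    split_ifs with hf
    · obtain ⟨c, hc⟩ := (hstep x).1 hf
      -- an element of the coset fixing `x`
      have hinv : ∀ u ∈ U, g⁻¹ * u * g ∈ U := fun u hu => by
        obtain ⟨v, hv⟩ : ∃ v : U, (⟨g * v * g⁻¹, hg v v.2⟩ : U) = ⟨u, hu⟩ :=
          Finite.surjective_of_injective (f := fun v : U => (⟨g * v * g⁻¹, hg v v.2⟩ : U))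
            (fun a b e => by
              have := congrArg Subtype.val e
              simp only [mul_left_inj, mul_right_inj] at this
              exact Subtype.ext this) _
        have e : g * (v : G) * g⁻¹ = u := congrArg Subtype.val hv
        rw [← e]
        convert v.2 using 1
        group
      let u₀ : U := ⟨g⁻¹ * (c⁻¹ : U) * g, hinv _ (c⁻¹ : U).2⟩
      have hu₀ : (g * (u₀ : G)) • x = x := by
        rw [show g * (u₀ : G) = ((c⁻¹ : U) : G) * g by simp only [u₀]; group, mul_smul, ← hc,
          ← mul_smul, ← Subgroup.coe_mul, inv_mul_cancel, Subgroup.coe_one, one_smul]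
      refine Nat.card_congr
        { toFun := fun u => ⟨u₀⁻¹ * u.1, ?_⟩
          invFun := fun s => ⟨u₀ * s.1, ?_⟩
          left_inv := fun u => Subtype.ext (mul_inv_cancel_left _ _)
          right_inv := fun s => Subtype.ext (inv_mul_cancel_left _ _) }
      · rw [MulAction.mem_stabilizer_iff]
        show ((u₀⁻¹ * u.1 : U) : G) • x = x
        have e : ((u.1 : U) : G) • x = (u₀ : G) • x := by
          have := u.2.trans hu₀.symm
          rwa [mul_smul, mul_smul, smul_left_cancel_iff] at this
        rw [Subgroup.coe_mul, mul_smul, e, ← mul_smul, ← Subgroup.coe_mul, inv_mul_cancel,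
          Subgroup.coe_one, one_smul]
      · have hs : (s.1 : G) • x = x := MulAction.mem_stabilizer_iff.1 s.2
        rw [Subgroup.coe_mul, ← mul_assoc, mul_smul, hs, hu₀]
    · rw [Nat.card_eq_zero]
      left
      refine ⟨fun u => hf ((hstep x).2 ⟨(⟨g * u.1 * g⁻¹, hg _ u.1.2⟩ : U)⁻¹, ?_⟩)⟩
      show (g * (u.1 : G) * g⁻¹)⁻¹ • x = g • x
      calc (g * (u.1 : G) * g⁻¹)⁻¹ • x = (g * (u.1 : G) * g⁻¹)⁻¹ • ((g * (u.1 : G)) • x) :=
            congrArg _ u.2.symm
        _ = _ := by rw [← mul_smul]; congr 1; group
  calc ∑ u : U, Nat.card {x : X // (g * (u : G)) • x = x}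
      = ∑ x : X, Nat.card {u : U // (g * (u : G)) • x = x} := by
        simp only [Nat.card_eq_fintype_card, Fintype.card_subtype, Finset.card_filter]
        exact Finset.sum_comm
    _ = ∑ x : X, if Fx (Quotient.mk'' x) then Nat.card (MulAction.stabilizer U x) else 0 :=
        Finset.sum_congr rfl fun x _ => hper x
    _ = ∑ O : MulAction.orbitRel.Quotient U X, if Fx O then Nat.card U else 0 := by
        rw [← Finset.sum_fiberwise Finset.univ
          (fun x : X => (Quotient.mk'' x : MulAction.orbitRel.Quotient U X))]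
        refine Finset.sum_congr rfl fun O _ => ?_
        rw [Finset.sum_congr rfl fun x hx => by rw [(Finset.mem_filter.1 hx).2]]
        split_ifs with hf
        · induction O using Quotient.inductionOn' with
          | _ b =>
          have hst : ∀ x ∈ Finset.univ.filter fun x : X =>
              (Quotient.mk'' x : MulAction.orbitRel.Quotient U X) = Quotient.mk'' b,
              Nat.card (MulAction.stabilizer U x) = Nat.card (MulAction.stabilizer U b) := fun x hx =>
            Nat.card_congr (MulAction.stabilizerEquivStabilizerOfOrbitRel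
              (Quotient.eq''.1 (Finset.mem_filter.1 hx).2)).toEquiv
          rw [Finset.sum_congr rfl hst, Finset.sum_const, smul_eq_mul,
            ← Nat.card_congr (MulAction.orbitProdStabilizerEquivGroup U b), Nat.card_prod]
          congr 1
          rw [Nat.card_eq_fintype_card, ← Set.toFinset_card]
          congr 1
          ext x
          simp [Quotient.eq'', MulAction.orbitRel_apply]
        · exact Finset.sum_const_zero
    _ = _ := by
        rw [← Finset.sum_filter, Finset.sum_const, smul_eq_mul, mul_comm,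
          ← Fintype.card_subtype, ← Nat.card_eq_fintype_card]

open scoped Classical in
/-- A function constant on classes and zero off the elements of order prime to `p`, summed over a
coset of a normalised `p`-subgroup. -/
theorem sum_regular_coset {p : ℕ} [Fact p.Prime] [Finite G] {U : Subgroup G} [Fintype U]
    (hU : IsPGroup p U) {g : G} (hg : ∀ u ∈ U, g * u * g⁻¹ ∈ U) (hreg : ¬ p ∣ orderOf g)
    {R : Type*} [CommRing R] (φ : G → R) (hφ : ∀ c x : G, φ (c * x * c⁻¹) = φ x)
    (hφ0 : ∀ x : G, p ∣ orderOf x → φ x = 0) :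
    (Nat.card ↥(U ⊓ Subgroup.centralizer {g}) : R) * ∑ u : U, φ (g * u) = (Nat.card U : R) * φ g := by
  haveI := Fintype.ofFinite G
  set C := (U ⊓ Subgroup.centralizer {g}).subgroupOf U
  have hC : ∀ c : U, c ∈ C ↔ (c : G) * g = g * c := fun c => by
    simp [C, Subgroup.mem_subgroupOf, Subgroup.mem_centralizer_singleton_iff, c.2]
  have hinv : ∀ u ∈ U, g⁻¹ * u * g ∈ U := fun u hu => by
    obtain ⟨v, hv⟩ : ∃ v : U, (⟨g * v * g⁻¹, hg v v.2⟩ : U) = ⟨u, hu⟩ :=
      Finite.surjective_of_injective (f := fun v : U => (⟨g * v * g⁻¹, hg v v.2⟩ : U))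
        (fun a b e => by
          have := congrArg Subtype.val e
          simp only [mul_left_inj, mul_right_inj] at this
          exact Subtype.ext this) _
    have e : g * (v : G) * g⁻¹ = u := congrArg Subtype.val hv
    rw [← e]
    convert v.2 using 1
    group
  -- every element of the coset is conjugate to one of `g C`
  let Φ : (U ⧸ C) × C → U := fun z =>
    ⟨g⁻¹ * (z.1.out : G) * g, hinv _ z.1.out.2⟩ * z.2.1 * z.1.out⁻¹
  have hΦ : ∀ z, g * (Φ z : G) = (z.1.out : G) * (g * (z.2.1 : G)) * (z.1.out : G)⁻¹ := fun z => by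
    simp only [Φ, Subgroup.coe_mul, InvMemClass.coe_inv]
    group
  have hdec : ∀ x : C, Blocks.regPart p (g * ((x : U) : G)) = g := fun x => by
    have hx : Commute g ((x : U) : G) := ((hC x).1 x.2).symm
    obtain ⟨k, hk⟩ := hU (x : U)
    exact Blocks.regPart_eq hx.symm.eq hx.symm ⟨k, by simpa using congrArg Subtype.val hk⟩ hreg
  have hinj : Function.Injective Φ := by
    intro z z' e
    have e1 := hΦ z
    rw [e, hΦ z'] at e1
    have e2 := congrArg (Blocks.regPart p) e1
    rw [Blocks.regPart_conj, Blocks.regPart_conj, hdec, hdec] at e2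
    have hq : z.1 = z'.1 := by
      rw [← z.1.out_eq, ← z'.1.out_eq]
      refine QuotientGroup.eq.2 ((hC _).2 ?_)
      simp only [Subgroup.coe_mul, InvMemClass.coe_inv]
      calc (z.1.out : G)⁻¹ * z'.1.out * g
          = (z.1.out : G)⁻¹ * ((z'.1.out : G) * g * (z'.1.out : G)⁻¹) * z'.1.out := by group
        _ = _ := by rw [e2]; group
    rw [hq] at e1
    simp only [mul_left_inj, mul_right_inj] at e1
    exact Prod.ext hq (Subtype.ext (Subtype.ext e1.symm))
  have hbij : Function.Bijective Φ := (Nat.bijective_iff_injective_and_card _).2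
    ⟨hinj, by rw [Nat.card_prod, ← Subgroup.card_eq_card_quotient_mul_card_subgroup]⟩
  haveI : Fintype (U ⧸ C) := Fintype.ofFinite _
  haveI : Fintype C := Fintype.ofFinite _
  rw [← Equiv.sum_comp (Equiv.ofBijective Φ hbij) (fun u : U => φ (g * u)), Fintype.sum_prod_type]
  simp only [Equiv.ofBijective_apply, hΦ, hφ]
  have hinner : ∑ x : C, φ (g * ((x : U) : G)) = φ g := by
    rw [Finset.sum_eq_single (1 : C)]
    · simp
    · intro x _ hx
      refine hφ0 _ ?_
      by_contra hn
      have e := hdec x
      rw [Blocks.regPart_of_regular hn] at e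
      exact hx (Subtype.ext (Subtype.ext (mul_eq_left.1 e)))
    · simp
  rw [Finset.sum_congr rfl fun q _ => hinner, Finset.sum_const, nsmul_eq_mul, ← mul_assoc]
  congr 1
  rw [Finset.card_univ, ← Nat.card_eq_fintype_card,
    ← Nat.card_congr (Subgroup.subgroupOfEquivOfLe (inf_le_left : U ⊓ Subgroup.centralizer {g} ≤ U)).toEquiv,
    Subgroup.card_eq_card_quotient_mul_card_subgroup (α := U) C, Nat.cast_mul, mul_comm]

end Cfsg.Agent.CosetSum
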