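/-
The number of elements of p-power order in a Chevalley group.
-/
import Cfsg.Agent.Lib.Chev.Steinberg
import Cfsg.Agent.Lib.Chev.Normal

set_option autoImplicit false

namespace Cfsg.Agent.Chev

open Cfsg.Lie

/-- The number of elements of p-power order in a subgroup. -/
noncomputable def pCount {G : Type*} [Group G] (p : ℕ) (M : Subgroup G) : ℕ :=
  Nat.card {g : G // g ∈ M ∧ ∃ k : ℕ, orderOf g = p ^ k}

theorem out_mem_iff {G : Type*} [Group G] {A M : Subgroup G} (hle : A ≤ M) (g : G) :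
    (QuotientGroup.mk g : G ⧸ A).out ∈ M ↔ g ∈ M := by
  obtain ⟨a, ha⟩ := QuotientGroup.mk_out_eq_mul A g
  rw [ha]
  exact Subgroup.mul_mem_cancel_right M (hle a.2)

theorem smul_out_mem_iff {G : Type*} [Group G] {A M : Subgroup G} (hle : A ≤ M) {b : G} (hb : b ∈ M)
    (y : G ⧸ A) : (b • y).out ∈ M ↔ y.out ∈ M := by
  induction y using QuotientGroup.induction_on with
  | _ g =>
    rw [out_mem_iff hle g]
    exact (out_mem_iff hle (b * g)).trans (Subgroup.mul_mem_cancel_left M hb)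

/-- Fixed cosets inside a subgroup, counted by representatives among the smaller cosets. -/
theorem card_fixed_in {G : Type*} [Group G] {B K M : Subgroup G} (hBK : B ≤ K) (hKM : K ≤ M)
    (Q : G ⧸ B → Prop) {b : G} (hQ : ∀ y, Q y → Q (b • y))
    (hinj : ∀ g g' : G, Q (QuotientGroup.mk g) → Q (QuotientGroup.mk g') → g⁻¹ * g' ∈ K → g⁻¹ * g' ∈ B)
    (hsurj : ∀ g : G, ∃ g' : G, Q (QuotientGroup.mk g') ∧ g'⁻¹ * g ∈ K) :
    Nat.card {z : G ⧸ K // b • z = z ∧ z.out ∈ M} =
      Nat.card {y : G ⧸ B // (b • y = y ∧ y.out ∈ M) ∧ Q y} := by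
  let π := Subgroup.quotientMapOfLE hBK
  have hsmul : ∀ y, π (b • y) = b • π y := fun y => by
    induction y using QuotientGroup.induction_on with
    | _ g => rfl
  have hout : ∀ y, ((π y).out ∈ M ↔ y.out ∈ M) := fun y => by
    induction y using QuotientGroup.induction_on with
    | _ g => exact (out_mem_iff hKM g).trans (out_mem_iff (hBK.trans hKM) g).symm
  have hinj' : ∀ y y', Q y → Q y' → π y = π y' → y = y' := by
    intro y y' hy hy' e
    induction y using QuotientGroup.induction_on with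
    | _ g =>
    induction y' using QuotientGroup.induction_on with
    | _ g' => exact QuotientGroup.eq.2 (hinj g g' hy hy' (QuotientGroup.eq.1 e))
  have hsurj' : ∀ z : G ⧸ K, ∃ y, Q y ∧ π y = z := by
    intro z
    induction z using QuotientGroup.induction_on with
    | _ g =>
    obtain ⟨g', h1, h2⟩ := hsurj g
    exact ⟨QuotientGroup.mk g', h1, QuotientGroup.eq.2 h2⟩
  symm
  refine Nat.card_congr (Equiv.ofBijective (fun y => ⟨π y.1, ?_, (hout y.1).2 y.2.1.2⟩) ⟨?_, ?_⟩)
  · rw [← hsmul, y.2.1.1]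
  · rintro ⟨y, _, hy⟩ ⟨y', _, hy'⟩ e
    exact Subtype.ext (hinj' y y' hy hy' (congrArg Subtype.val e))
  · rintro ⟨z, hz, hzM⟩
    obtain ⟨y, hy, rfl⟩ := hsurj' z
    exact ⟨⟨y, ⟨hinj' _ _ (hQ y hy) hy (by rw [hsmul]; exact hz), (hout y).1 hzM⟩, hy⟩, rfl⟩

/-- Pairs of an element of p-power order and a fixed coset. -/
theorem sum_fixed_in {G : Type*} [Group G] [Finite G] (p : ℕ) {K M : Subgroup G} (hKM : K ≤ M)
    [Fintype {g : G // g ∈ M ∧ ∃ k : ℕ, orderOf g = p ^ k}] :
    ∑ u : {g : G // g ∈ M ∧ ∃ k : ℕ, orderOf g = p ^ k},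
        Nat.card {z : G ⧸ K // u.1 • z = z ∧ z.out ∈ M} =
      Nat.card {z : G ⧸ K // z.out ∈ M} * pCount p K := by
  classical
  haveI := Fintype.ofFinite {z : G ⧸ K // z.out ∈ M}
  rw [← Nat.card_sigma]
  let e : (Σ u : {g : G // g ∈ M ∧ ∃ k : ℕ, orderOf g = p ^ k}, {z : G ⧸ K // u.1 • z = z ∧ z.out ∈ M}) ≃
      (Σ z : {z : G ⧸ K // z.out ∈ M}, {u : {g : G // g ∈ M ∧ ∃ k : ℕ, orderOf g = p ^ k} // u.1 • z.1 = z.1}) :=
    { toFun := fun x => ⟨⟨x.2.1, x.2.2.2⟩, x.1, x.2.2.1⟩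
      invFun := fun x => ⟨x.2.1, x.1.1, x.2.2, x.1.2⟩
      left_inv := fun _ => rfl
      right_inv := fun _ => rfl }
  rw [Nat.card_congr e, Nat.card_sigma, Finset.sum_congr rfl (g := fun _ => pCount p K) fun z _ => ?_,
    Finset.sum_const, Finset.card_univ, ← Nat.card_eq_fintype_card, smul_eq_mul]
  obtain ⟨z, hz⟩ := z
  obtain ⟨g, rfl⟩ := QuotientGroup.mk_surjective z
  have hg : g ∈ M := (out_mem_iff hKM g).1 hz
  have hfix : ∀ u : G, (u • (QuotientGroup.mk g : G ⧸ K) = QuotientGroup.mk g) ↔ g⁻¹ * u * g ∈ K := fun u => by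
    show (QuotientGroup.mk (u * g) : G ⧸ K) = QuotientGroup.mk g ↔ _
    rw [QuotientGroup.eq, ← inv_mem_iff (x := g⁻¹ * u * g)]
    simp [mul_assoc]
  have hord : ∀ u : G, orderOf (g⁻¹ * u * g) = orderOf u := fun u => by
    have := MulEquiv.orderOf_eq (MulAut.conj g⁻¹) u
    rwa [MulAut.conj_apply, inv_inv] at this
  refine Nat.card_congr
    { toFun := fun u => ⟨g⁻¹ * u.1.1 * g, (hfix _).1 u.2, by rw [hord]; exact u.1.2.2⟩
      invFun := fun v => ⟨⟨g * v.1 * g⁻¹, M.mul_mem (M.mul_mem hg (hKM v.2.1)) (M.inv_mem hg), by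
        obtain ⟨k, hk⟩ := v.2.2
        exact ⟨k, by rw [← hord, show g⁻¹ * (g * v.1 * g⁻¹) * g = v.1 by group, hk]⟩⟩,
        (hfix _).2 (by rw [show g⁻¹ * (g * v.1 * g⁻¹) * g = v.1 by group]; exact v.2.1)⟩
      left_inv := fun u => Subtype.ext (Subtype.ext (by group))
      right_inv := fun v => Subtype.ext (by group) }

variable {D : ChevalleyDatum} {P : Pk} {F : Type*} [Field F]

namespace Ok

variable (h : Ok D P)
include h

theorem parabolicIn_mono {K S : Finset ℕ} (hKS : K ⊆ S) : D.parabolicIn F K ≤ D.parabolicIn F S :=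
  fun _ hx => Subgroup.mem_subgroupOf.2 (sup_le_sup_left (Subgroup.closure_mono (by
    rintro g ⟨j, hj, hjr, hg⟩
    exact ⟨j, Finset.mem_coe.2 (hKS (Finset.mem_coe.1 hj)), hjr, hg⟩)) _ (Subgroup.mem_subgroupOf.1 hx))

theorem mem_parabolicIn_range (hC : P.ckComm = true) (g : ↥(D.group F)) :
    g ∈ D.parabolicIn F (Finset.range P.rank) := by
  obtain ⟨l, hl, c, hc, c', hc', e⟩ := h.exists_cell hC g.2
  refine Subgroup.mem_subgroupOf.2 ?_
  rw [e]
  exact mul_mem (mul_mem (Subgroup.mem_sup_left hc)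
    (h.nW_mem_parabolic subset_rfl l fun i hi => Finset.mem_range.2 (hl i hi))) (Subgroup.mem_sup_left hc')

/-- A word of `W_S` without ascents in `S`. -/
theorem exists_top {S : Finset ℕ} (hS : S ⊆ Finset.range P.rank) :
    ∀ (n : ℕ) (l : List ℕ), (∀ i ∈ l, i ∈ S) →
      P.nroots ≤ n + invJ P (List.range P.rank) (act P l) →
      ∃ w, (∀ i ∈ w, i ∈ S) ∧ Disjoint S (asc P w) := by
  intro n
  induction n using Nat.strong_induction_on with
  | _ n ih =>
    intro l hl hn
    by_cases hd : Disjoint S (asc P l)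
    · exact ⟨l, hl, hd⟩
    obtain ⟨i, hiS, hia⟩ := Finset.not_disjoint_iff.1 hd
    have hi := Finset.mem_range.1 (hS hiS)
    have hlok := (wordIn_of_mem hS hl).1
    have hl' : ∀ k ∈ l ++ [i], k ∈ S := fun k hk => by
      rcases List.mem_append.1 hk with e | e
      exacts [hl k e, by rw [List.mem_singleton.1 e]; exact hiS]
    have hok := wordOk_append hlok (wordOk_single hi)
    have hok2 := wordOk_append hok (wordOk_single hi)
    have hneg : P.isPos (wl P (l ++ [i]) (P.sim i)) = false := by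
      rw [wl_append]
      show P.isPos (wl P l (P.w i (P.sim i))) = false
      rw [h.w_sim hi, h.wl_ng l hlok _ (h.sim_lt hi), ← Bool.not_eq_true,
        h.ng_pos_iff (h.wl_lt l hlok _ (h.sim_lt hi)), (mem_asc.1 hia).2]
      simp
    have hlt := h.invJ_lt (J := List.range P.rank) hok hi (List.mem_range.2 hi) hneg
    have he : act P (l ++ [i] ++ [i]) = act P l := (h.act_eq_iff hok2 hlok).2 fun r hr => by
      rw [wl_append, wl_append]
      show wl P l (P.w i (P.w i r)) = _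
      rw [h.w_w hi hr]
    rw [he] at hlt
    have hle : invJ P (List.range P.rank) (act P (l ++ [i])) ≤ P.nroots := by
      rw [invJ_def]
      exact (Finset.card_filter_le _ _).trans (by simp)
    exact ih (P.nroots - invJ P (List.range P.rank) (act P (l ++ [i]))) (by omega) (l ++ [i]) hl' (by omega)

theorem neg_of_top {S : Finset ℕ} (hS : S ⊆ Finset.range P.rank) {w : List ℕ} (hw : WordOk P w)
    (ht : Disjoint S (asc P w)) {r : ℕ} (hr : P.isPos r = true) (hrS : inJ P S.toList r = true) :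
    P.isPos (wl P w r) = false := by
  have hrn := (P.isPos_iff.1 hr).2
  by_contra hh
  obtain ⟨m, hm, hpos⟩ := h.exists_pos_coord (r := wl P w r) (by simpa using hh)
  rw [h.rv_wl w hw r hrn m hm] at hpos
  have hle : ∑ k ∈ Finset.range P.rank, P.rv r k * P.rv (wl P w (P.sim k)) m ≤ 0 := by
    refine Finset.sum_nonpos fun k hk => ?_
    have hk' := Finset.mem_range.1 hk
    by_cases hkS : k ∈ S
    · have hn : P.isPos (wl P w (P.sim k)) = false := by
        by_contra hp
        exact Finset.disjoint_left.1 ht hkS (mem_asc.2 ⟨hk', by simpa using hp⟩)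
      exact mul_nonpos_of_nonneg_of_nonpos ((h.rv_sign hrn hk').1 hr)
        ((h.rv_sign (h.wl_lt w hw _ (h.sim_lt hk')) hm).2 hn)
    · rw [inJ_iff.1 hrS k hk' (fun e => hkS (Finset.mem_toList.1 e)), zero_mul]
  omega

theorem inJ_sim {S : Finset ℕ} {i : ℕ} (hiS : i ∈ S) (hi : i < P.rank) :
    inJ P S.toList (P.sim i) = true :=
  inJ_iff.2 fun m hm hmS => by
    rw [h.rv_sim hi hm, if_neg]
    rintro rfl; exact hmS (Finset.mem_toList.2 hiS)

theorem top_reverse {S : Finset ℕ} (hS : S ⊆ Finset.range P.rank) {w : List ℕ} (hw : ∀ i ∈ w, i ∈ S)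
    (ht : Disjoint S (asc P w)) : Disjoint S (asc P w.reverse) := by
  have hin := wordIn_of_mem hS hw
  refine Finset.disjoint_left.2 fun i hiS hia => ?_
  obtain ⟨hi, hp⟩ := mem_asc.1 hia
  have hrS : inJ P S.toList (wl P w.reverse (P.sim i)) = true := by
    rw [h.inJ_wl (h.wordIn_reverse hin) (h.sim_lt hi)]
    exact h.inJ_sim hiS hi
  have h1 := h.neg_of_top hS hin.1 ht hp hrS
  rw [h.wl_reverse' hin.1 (h.sim_lt hi), h.sim_pos hi] at h1
  exact absurd h1 (by simp)

theorem top_unique_in {S : Finset ℕ} (hS : S ⊆ Finset.range P.rank) {w w' : List ℕ}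
    (hw : ∀ i ∈ w, i ∈ S) (hw' : ∀ i ∈ w', i ∈ S) (ht : Disjoint S (asc P w))
    (ht' : Disjoint S (asc P w')) : ∀ r < P.nroots, wl P w r = wl P w' r := by
  have hin := wordIn_of_mem hS hw
  have hin' := wordIn_of_mem hS hw'
  have hv : ∀ i ∈ w.reverse ++ w', i ∈ S := fun i hi => (List.mem_append.1 hi).elim
    (fun e => hw i (List.mem_reverse.1 e)) (hw' i)
  have hrevS : ∀ i ∈ w.reverse, i ∈ S := fun i hi => hw i (List.mem_reverse.1 hi)
  have htriv := h.word_trivial hS hv fun i hiS => by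
    have hi := Finset.mem_range.1 (hS hiS)
    have hx := h.wl_lt w' hin'.1 _ (h.sim_lt hi)
    have hxn := h.neg_of_top hS hin'.1 ht' (h.sim_pos hi) (h.inJ_sim hiS hi)
    rw [wl_append]
    by_contra hh
    have hz := h.wl_lt _ (h.wordIn_reverse hin).1 _ hx
    have hzS : inJ P S.toList (wl P w.reverse (wl P w' (P.sim i))) = true := by
      rw [h.inJ_wl (h.wordIn_reverse hin) hx, h.inJ_wl hin' (h.sim_lt hi)]
      exact h.inJ_sim hiS hi
    have hngS : inJ P S.toList (P.ng (wl P w.reverse (wl P w' (P.sim i)))) = true :=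
      inJ_iff.2 fun m hm hmS => by rw [h.rv_ng hz hm, inJ_iff.1 hzS m hm hmS, neg_zero]
    have h1 := h.neg_of_top hS hin.1 ht ((h.ng_pos_iff hz).2 (by simpa using hh)) hngS
    rw [h.wl_ng w hin.1 _ hz, h.wl_reverse' hin.1 hx, ← Bool.not_eq_true, h.ng_pos_iff hx] at h1
    exact h1 hxn
  intro r hr
  have h1 := htriv r hr
  rw [wl_append] at h1
  have h2 := congrArg (wl P w) h1
  rw [h.wl_reverse' hin.1 (h.wl_lt w' hin'.1 r hr)] at h2
  exact h2.symm

theorem asc_join {K : Finset ℕ} (hK : K ⊆ Finset.range P.rank) {l v : List ℕ} (hl : WordOk P l)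
    (hmin : K ⊆ asc P l) (hv : ∀ i ∈ v, i ∈ K) {i : ℕ} (hiK : i ∈ K) :
    i ∈ asc P (l ++ v) ↔ i ∈ asc P v := by
  have hin := wordIn_of_mem hK hv
  have hi := Finset.mem_range.1 (hK hiK)
  have hx := h.wl_lt v hin.1 _ (h.sim_lt hi)
  have hxK : inJ P K.toList (wl P v (P.sim i)) = true := by
    rw [h.inJ_wl hin (h.sim_lt hi)]; exact h.inJ_sim hiK hi
  have hpos : ∀ {r : ℕ}, inJ P K.toList r = true → P.isPos r = true → P.isPos (wl P l r) = true :=
    fun hr hp => h.pos_of_simple hl (fun j hj _ => (mem_asc.1 (hmin (Finset.mem_toList.1 hj))).2) hr hp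
  rw [mem_asc, mem_asc, wl_append]
  refine and_congr_right fun _ => ⟨fun e => ?_, hpos hxK⟩
  by_contra hh
  have h1 := hpos (r := P.ng (wl P v (P.sim i)))
    (inJ_iff.2 fun m hm hmK => by rw [h.rv_ng hx hm, inJ_iff.1 hxK m hm hmK, neg_zero])
    ((h.ng_pos_iff hx).2 (by simpa using hh))
  rw [h.wl_ng l hl _ hx, h.ng_pos_iff (h.wl_lt l hl _ hx), e] at h1
  exact absurd h1 (by simp)

/-- The stabiliser in `U` of the longest cell of a parabolic subgroup is its unipotent radical. -/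
theorem stab_top (hC : P.ckComm = true) {S : Finset ℕ} (hS : S ⊆ Finset.range P.rank) {w : List ℕ}
    (hw : ∀ i ∈ w, i ∈ S) (ht : Disjoint S (asc P w)) {x : GL D.Idx F} (hx : x ∈ D.posUnipotent F) :
    x ∈ D.unipotentRadical F (↑S : Set ℕ) ↔ (h.nW w)⁻¹ * x * h.nW w ∈ D.borelSubgroup F := by
  have hrad : D.unipotentRadical F (↑S : Set ℕ) ≤ D.posUnipotent F := by
    rw [h.radical_eq]
    exact h.genR_le fun r hr t => h.xG_mem_pos ((h.out_iff _ r).1 hr).1 t
  have hconj : ∀ {a : GL D.Idx F}, a ∈ D.unipotentRadical F (↑S : Set ℕ) →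
      (h.nW w)⁻¹ * a * h.nW w ∈ D.borelSubgroup F := fun {a} ha => Subgroup.mem_sup_left (hrad (by
    simpa using (Subgroup.mem_normalizer_iff.1
      (inv_mem (h.radical_normal hC _ (h.nW_mem_parabolic (F := F) hS w hw))) a).1 ha))
  refine ⟨hconj, fun hxB => ?_⟩
  classical
  obtain ⟨a, ha, c, hc, rfl⟩ := h.split_pos hC (fun r => ¬ InJ P (↑S : Set ℕ) r)
    (fun r => InJ P (↑S : Set ℕ) r) (fun r _ => (em (InJ P (↑S : Set ℕ) r)).symm) hx
  have ha' : a ∈ D.unipotentRadical F (↑S : Set ℕ) := by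
    rw [h.radical_eq]
    exact h.genR_mono (fun r hr => (h.out_iff _ r).2 hr) ha
  have hin := wordIn_of_mem hS hw
  have hrv := (h.wordIn_reverse hin).1
  have hrt := h.top_reverse hS hw ht
  have hc' : c ∈ h.genR (negS P w.reverse) := h.genR_mono (fun r hr => ⟨hr.1, h.neg_of_top hS hrv hrt hr.1
    (inJ_iff.2 fun m hm hmS => hr.2.2 m hm fun e => hmS (Finset.mem_toList.2 (Finset.mem_coe.1 e)))⟩) hc
  have h1 : h.nW w.reverse * c * (h.nW w.reverse)⁻¹ ∈ D.negUnipotent F := by
    simpa using h.uminus_conj hrv (one_mem (D.diagonalSubgroup F)) hc'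
  set e := h.nW (F := F) w.reverse * h.nW w with he
  have heH : e ∈ D.diagonalSubgroup F := h.nW_reverse_mul hin.1
  have h2 : (h.nW w)⁻¹ * c * h.nW w ∈ D.negUnipotent F := by
    rw [show (h.nW w)⁻¹ * c * h.nW w = e⁻¹ * (h.nW w.reverse * c * (h.nW w.reverse)⁻¹) * e by
      rw [he]; group]
    simpa using (Subgroup.mem_normalizer_iff.1 (inv_mem (h.neg_normalized heH)) _).1 h1
  have h3 : (h.nW w)⁻¹ * c * h.nW w ∈ D.borelSubgroup F := by
    have := mul_mem (inv_mem (hconj ha')) hxB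
    convert this using 1
    group
  have h4 : (h.nW w)⁻¹ * c * h.nW w = 1 :=
    Subgroup.mem_bot.1 (h.borel_inf_neg (F := F) ▸ Subgroup.mem_inf.2 ⟨h3, h2⟩)
  have h5 : c = 1 := by
    rw [show c = h.nW w * ((h.nW w)⁻¹ * c * h.nW w) * (h.nW w)⁻¹ by group, h4]
    group
  rw [h5, mul_one]
  exact ha'

/-- The cosets of the Borel subgroup in the longest cell of a parabolic subgroup. -/
def TopC (hC : P.ckComm = true) (S : Finset ℕ) (y : ↥(D.group F) ⧸ borelIn D F) : Prop :=
  y.out ∈ D.parabolicIn F S ∧ Disjoint S (h.ascC hC y)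

/-- The radical inside `U`. -/
abbrev radIn (D : ChevalleyDatum) (F : Type*) [Field F] (S : Finset ℕ) :
    Subgroup ↥((D.posUnipotent F).subgroupOf (D.group F)) :=
  ((D.unipotentRadical F (↑S : Set ℕ)).subgroupOf (D.group F)).subgroupOf
    ((D.posUnipotent F).subgroupOf (D.group F))

/-- The fixed points of an element of `U` on the longest cell. -/
theorem card_top_fixed (hC : P.ckComm = true) {S : Finset ℕ} (hS : S ⊆ Finset.range P.rank)
    (b : ↥((D.posUnipotent F).subgroupOf (D.group F))) :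
    Nat.card (MulAction.fixedBy (↥((D.posUnipotent F).subgroupOf (D.group F)) ⧸ radIn D F S) b) =
      Nat.card {y : ↥(D.group F) ⧸ borelIn D F // b.1 • y = y ∧ h.TopC hC S y} := by
  obtain ⟨w, hw, ht⟩ := h.exists_top hS P.nroots [] (fun _ hx => absurd hx List.not_mem_nil) (by omega)
  have hwok := (wordIn_of_mem hS hw).1
  let n : ↥(D.group F) := ⟨h.nW w, h.monomial_le_group (h.nW_mem w hwok)⟩
  have hUB : ∀ {x : GL D.Idx F}, x ∈ D.posUnipotent F → x ∈ D.borelSubgroup F :=
    fun hx => Subgroup.mem_sup_left hx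
  refine card_fixed_orbit n (fun x => ?_) (fun y => h.TopC hC S y) (fun g => ?_) b
  · rw [Subgroup.mem_subgroupOf, Subgroup.mem_subgroupOf, h.stab_top hC hS hw ht (Subgroup.mem_subgroupOf.1 x.2),
      Subgroup.mem_subgroupOf]
    simp [n]
  · unfold TopC
    rw [out_mem_iff (h.borelIn_le_parabolicIn S) g]
    obtain ⟨hl, hc⟩ := h.cellWord_spec hC g
    rw [h.ascC_mk hC hl hc]
    constructor
    · rintro ⟨hg, hd⟩
      obtain ⟨v, hv, hv'⟩ := h.parabolic_cell hC hS (Subgroup.mem_subgroupOf.1 hg)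
      have hvok := (wordIn_of_mem hS hv).1
      rw [h.asc_congr (h.cell_unique hC hl hvok hc hv')] at hd
      obtain ⟨c, hc1, c', hc2, e⟩ := h.cell_congr hvok hwok (h.top_unique_in hS hv hw hd ht) hv'
      obtain ⟨u, hu, d, hd', rfl⟩ := h.mem_borel hc1
      have hd'' : (h.nW w)⁻¹ * d * h.nW w ∈ D.borelSubgroup F := Subgroup.mem_sup_right (by
        simpa using (Subgroup.mem_normalizer_iff.1 (inv_mem (h.nW_normalizer (F := F) w hwok)) d).1 hd')
      refine ⟨⟨⟨u, h.borel_le_group (hUB hu)⟩, Subgroup.mem_subgroupOf.2 hu⟩, Subgroup.mem_subgroupOf.2 ?_⟩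
      have key : (u * h.nW w)⁻¹ * g.1 = (h.nW w)⁻¹ * d * h.nW w * c' := by
        rw [e]; group
      simpa [n, mul_assoc] using (key ▸ mul_mem hd'' hc2 : (u * h.nW w)⁻¹ * g.1 ∈ D.borelSubgroup F)
    · rintro ⟨x, hx⟩
      have hx' := Subgroup.mem_subgroupOf.1 hx
      have hg : h.Cell w g.1 :=
        ⟨x.1.1, hUB (Subgroup.mem_subgroupOf.1 x.2), _, hx', by simp [n, mul_assoc]⟩
      refine ⟨Subgroup.mem_subgroupOf.2 ?_, ?_⟩
      · obtain ⟨c, hc1, c', hc2, e⟩ := hg
        rw [e]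
        exact mul_mem (mul_mem (Subgroup.mem_sup_left hc1) (h.nW_mem_parabolic hS w hw))
          (Subgroup.mem_sup_left hc2)
      · rw [h.asc_congr (h.cell_unique hC hl hwok hc hg)]; exact ht

/-- A coset has a representative in a minimal cell. -/
theorem exists_min_rep (hC : P.ckComm = true) {K : Finset ℕ} (hK : K ⊆ Finset.range P.rank)
    (g : ↥(D.group F)) : ∃ (g' : ↥(D.group F)) (l : List ℕ),
      WordOk P l ∧ K ⊆ asc P l ∧ h.Cell l g'.1 ∧ g'⁻¹ * g ∈ D.parabolicIn F K := by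
  obtain ⟨hw, c, hc, c', hc', e⟩ := h.cellWord_spec hC g
  obtain ⟨x, hx, hmin⟩ := h.exists_min_right hK _ _ hw le_rfl
  have hok := wordOk_append hw (wordIn_of_mem hK hx).1
  refine ⟨⟨c * h.nW (h.cellWord hC g ++ x),
    mul_mem (h.borel_le_group hc) (h.monomial_le_group (h.nW_mem _ hok))⟩, _, hok, hmin,
    ⟨c, hc, 1, one_mem _, (mul_one _).symm⟩, Subgroup.mem_subgroupOf.2 ?_⟩
  have key : (c * (h.nW (h.cellWord hC g) * h.nW x))⁻¹ * (c * h.nW (h.cellWord hC g) * c') =
    (h.nW x)⁻¹ * c' := by group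
  rw [← h.nW_append, ← e] at key
  rw [Subgroup.coe_mul, InvMemClass.coe_inv, key]
  exact mul_mem (inv_mem (h.nW_mem_parabolic hK x hx)) (Subgroup.mem_sup_left hc')

/-- The alternating sum of fixed points inside a parabolic subgroup. -/
theorem alt_fixed_in (hC : P.ckComm = true) [Finite F] {S : Finset ℕ} (hS : S ⊆ Finset.range P.rank)
    {b : ↥(D.group F)} (hb : b ∈ borelIn D F) :
    ∑ K ∈ S.powerset, (-1 : ℂ) ^ K.card *
        (Nat.card {z : ↥(D.group F) ⧸ D.parabolicIn F K // b • z = z ∧ z.out ∈ D.parabolicIn F S} : ℂ) =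
      (Nat.card {y : ↥(D.group F) ⧸ borelIn D F // b • y = y ∧ h.TopC hC S y} : ℂ) := by
  rw [Nat.card_congr (Equiv.subtypeEquivRight (q := fun y =>
    (b • y = y ∧ y.out ∈ D.parabolicIn F S) ∧ S ∩ h.ascC hC y = ∅) fun y => by
      rw [TopC, Finset.disjoint_iff_inter_eq_empty, and_assoc]),
    ← alt_sum_card (fun y => S ∩ h.ascC hC y) S (fun y => Finset.inter_subset_left)]
  refine Finset.sum_congr rfl fun K hK => ?_
  have hKS := Finset.mem_powerset.1 hK
  have hKr := hKS.trans hS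
  congr 2
  rw [card_fixed_in (h.borelIn_le_parabolicIn K) (h.parabolicIn_mono hKS) (fun y => K ⊆ h.ascC hC y)
    (fun y hy => by rw [h.ascC_smul hC hb]; exact hy) ?_ ?_]
  · exact Nat.card_congr (Equiv.subtypeEquivRight fun y =>
      and_congr_right fun _ => by rw [Finset.subset_inter_iff, and_iff_right hKS])
  · intro g g' hy hy' e
    obtain ⟨hw, hc⟩ := h.cellWord_spec hC g
    obtain ⟨hw', hc'⟩ := h.cellWord_spec hC g'
    rw [h.ascC_mk hC hw hc] at hy
    rw [h.ascC_mk hC hw' hc'] at hy'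
    refine Subgroup.mem_subgroupOf.2 ?_
    have e' := Subgroup.mem_subgroupOf.1 e
    simp only [Subgroup.coe_mul, InvMemClass.coe_inv] at e' ⊢
    exact h.min_coset hC hKr hw hw' hy hy' hc hc' e'
  · intro g
    obtain ⟨g', l, hl, hmin, hc, hmem⟩ := h.exists_min_rep hC hKr g
    exact ⟨g', by rw [h.ascC_mk hC hl hc]; exact hmin, hmem⟩

/-- Each coset of `P_K` meets as many longest cells as `P_K` itself. -/
theorem card_mult (hC : P.ckComm = true) [Finite F] {K S : Finset ℕ} (hKS : K ⊆ S)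
    (hK : K ⊆ Finset.range P.rank) :
    Nat.card {y : ↥(D.group F) ⧸ borelIn D F // y.out ∈ D.parabolicIn F S ∧ Disjoint K (h.ascC hC y)} =
      Nat.card {z : ↥(D.group F) ⧸ D.parabolicIn F K // z.out ∈ D.parabolicIn F S} *
        Nat.card {y : ↥(D.group F) ⧸ borelIn D F // h.TopC hC K y} := by
  classical
  have hBK : borelIn D F ≤ D.parabolicIn F K := h.borelIn_le_parabolicIn K
  have hKM : D.parabolicIn F K ≤ D.parabolicIn F S := h.parabolicIn_mono hKS
  let π := Subgroup.quotientMapOfLE hBK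
  have hout : ∀ y, ((π y).out ∈ D.parabolicIn F S ↔ y.out ∈ D.parabolicIn F S) := fun y => by
    induction y using QuotientGroup.induction_on with
    | _ g => exact (out_mem_iff hKM g).trans (out_mem_iff (hBK.trans hKM) g).symm
  let f : {y : ↥(D.group F) ⧸ borelIn D F // y.out ∈ D.parabolicIn F S ∧ Disjoint K (h.ascC hC y)} →
      {z : ↥(D.group F) ⧸ D.parabolicIn F K // z.out ∈ D.parabolicIn F S} :=
    fun y => ⟨π y.1, (hout y.1).2 y.2.1⟩
  haveI := Fintype.ofFinite {z : ↥(D.group F) ⧸ D.parabolicIn F K // z.out ∈ D.parabolicIn F S}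
  rw [← Nat.card_congr (Equiv.sigmaFiberEquiv f), Nat.card_sigma,
    Finset.sum_congr rfl (g := fun _ => Nat.card {y : ↥(D.group F) ⧸ borelIn D F // h.TopC hC K y})
      fun z _ => ?_, Finset.sum_const, Finset.card_univ, ← Nat.card_eq_fintype_card, smul_eq_mul]
  obtain ⟨z, hz⟩ := z
  obtain ⟨g₀, rfl⟩ := QuotientGroup.mk_surjective z
  obtain ⟨g, l, hl, hmin, hcell, hmem⟩ := h.exists_min_rep hC hK g₀
  have hzg : (QuotientGroup.mk g₀ : ↥(D.group F) ⧸ D.parabolicIn F K) = QuotientGroup.mk g :=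
    (QuotientGroup.eq.2 hmem).symm
  have hgS : g ∈ D.parabolicIn F S := (out_mem_iff hKM g).1 (hzg ▸ hz)
  have key : ∀ t : ↥(D.group F) ⧸ borelIn D F, h.TopC hC K t ↔
      ((g • t).out ∈ D.parabolicIn F S ∧ Disjoint K (h.ascC hC (g • t))) ∧
        π (g • t) = QuotientGroup.mk g := by
    intro t
    induction t using QuotientGroup.induction_on with
    | _ p =>
    rw [show π (g • (QuotientGroup.mk p : ↥(D.group F) ⧸ borelIn D F)) = QuotientGroup.mk (g * p) from rfl,
      show g • (QuotientGroup.mk p : ↥(D.group F) ⧸ borelIn D F) = QuotientGroup.mk (g * p) from rfl,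
      QuotientGroup.eq, mul_inv_rev, inv_mul_cancel_right, inv_mem_iff,
      out_mem_iff (h.borelIn_le_parabolicIn S) (g * p), TopC, out_mem_iff hBK p]
    have haux : p ∈ D.parabolicIn F K → (Disjoint K (h.ascC hC (QuotientGroup.mk p)) ↔
        Disjoint K (h.ascC hC (QuotientGroup.mk (g * p) : ↥(D.group F) ⧸ borelIn D F))) := by
      intro hp
      obtain ⟨v, hv, hv'⟩ := h.parabolic_cell hC hK (Subgroup.mem_subgroupOf.1 hp)
      have hvok := (wordIn_of_mem hK hv).1
      have hgp : h.Cell (l ++ v) (g * p).1 := by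
        obtain ⟨c, hc, c', hc', eg⟩ := hcell
        obtain ⟨e₁, he₁, e₂, he₂, ep⟩ := hv'
        rw [Subgroup.coe_mul, eg, ep,
          show c * h.nW l * c' * (e₁ * h.nW v * e₂) = c * (h.nW l * (c' * e₁) * h.nW v) * e₂ by group]
        exact h.cell_mul (h.min_join hC hK hl hmin hv (mul_mem hc' he₁)) hc he₂
      rw [h.ascC_mk hC hvok hv', h.ascC_mk hC (wordOk_append hl hvok) hgp, Finset.disjoint_left,
        Finset.disjoint_left]
      exact forall₂_congr fun i hi => not_congr (h.asc_join hK hl hmin hv hi).symm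
    constructor
    · rintro ⟨hp, hd⟩
      exact ⟨⟨mul_mem hgS (hKM hp), (haux hp).1 hd⟩, hp⟩
    · rintro ⟨⟨-, hd⟩, hp⟩
      exact ⟨hp, (haux hp).2 hd⟩
  refine Nat.card_congr (((Equiv.subtypeEquivRight fun y => ?_).trans
    (Equiv.subtypeSubtypeEquivSubtypeInter _ (fun y => π y = QuotientGroup.mk g))).trans
      ((MulAction.toPerm g).subtypeEquiv key).symm)
  rw [Subtype.ext_iff]
  exact ⟨fun e => e.trans hzg, fun e => e.trans hzg.symm⟩

/-- The elements of p-power order in a parabolic subgroup, weighted by the fixed points on its longest cell. -/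
theorem sum_top (hC : P.ckComm = true) [Fintype F] (p : ℕ) [Fact p.Prime] [CharP F p] {S : Finset ℕ}
    (hS : S ⊆ Finset.range P.rank)
    [Fintype {g : ↥(D.group F) // g ∈ D.parabolicIn F S ∧ ∃ k : ℕ, orderOf g = p ^ k}] :
    ∑ u : {g : ↥(D.group F) // g ∈ D.parabolicIn F S ∧ ∃ k : ℕ, orderOf g = p ^ k},
        ∑ K ∈ S.powerset, (-1 : ℂ) ^ K.card * (Nat.card {z : ↥(D.group F) ⧸ D.parabolicIn F K //
          u.1 • z = z ∧ z.out ∈ D.parabolicIn F S} : ℂ) =
      (Fintype.card F : ℂ) ^ (P.nroots / 2) := by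
  classical
  obtain ⟨Sy, hSy⟩ := h.pos_sylow (F := F) p hC
  set U := (D.posUnipotent F).subgroupOf (D.group F) with hU
  set R := (D.unipotentRadical F (↑S : Set ℕ)).subgroupOf (D.group F) with hR
  have hUM : U ≤ (D.parabolicIn F S) := fun x hx => Subgroup.mem_subgroupOf.2
    (Subgroup.mem_sup_left (Subgroup.mem_sup_left (Subgroup.mem_subgroupOf.1 hx)))
  have hrad : D.unipotentRadical F (↑S : Set ℕ) ≤ D.posUnipotent F := by
    rw [h.radical_eq]
    exact h.genR_le fun r hr t => h.xG_mem_pos ((h.out_iff _ r).1 hr).1 t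
  have hRU : R ≤ U := fun x hx => Subgroup.mem_subgroupOf.2 (hrad (Subgroup.mem_subgroupOf.1 hx))
  have hnorm : ∀ {x u : ↥(D.group F)}, x ∈ (D.parabolicIn F S) → (x * u * x⁻¹ ∈ R ↔ u ∈ R) := fun {x u} hx => by
    rw [Subgroup.mem_subgroupOf, Subgroup.mem_subgroupOf, Subgroup.coe_mul, Subgroup.coe_mul,
      InvMemClass.coe_inv]
    exact ((Subgroup.mem_normalizer_iff.1 (h.radical_normal hC _ (Subgroup.mem_subgroupOf.1 hx))) u.1).symm
  have htop : ∀ b : ↥U, Nat.card {y : ↥(D.group F) ⧸ borelIn D F // b.1 • y = y ∧ h.TopC hC S y} =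
      if b.1 ∈ R then (radIn D F S).index else 0 := by
    intro b
    haveI : (radIn D F S).Normal := ⟨fun a ha x => by
      rw [Subgroup.mem_subgroupOf] at ha ⊢
      simpa using (hnorm (hUM x.2)).2 ha⟩
    rw [← h.card_top_fixed hC hS b]
    have hfix : ∀ z : ↥U ⧸ radIn D F S, b • z = z ↔ b.1 ∈ R := fun z => by
      induction z using QuotientGroup.induction_on with
      | _ x =>
      show (QuotientGroup.mk (b * x) : ↥U ⧸ radIn D F S) = QuotientGroup.mk x ↔ _
      rw [QuotientGroup.eq, Subgroup.mem_subgroupOf, ← inv_mem_iff,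
        ← hnorm (x := x.1⁻¹) (Subgroup.inv_mem _ (hUM x.2)) (u := b.1)]
      simp [R, mul_assoc]
    by_cases hb : b.1 ∈ R
    · rw [if_pos hb, Subgroup.index]
      exact Nat.card_congr (Equiv.subtypeUnivEquiv fun z => (hfix z).2 hb)
    · rw [if_neg hb]
      haveI : IsEmpty (MulAction.fixedBy (↥U ⧸ radIn D F S) b) := ⟨fun z => hb ((hfix z.1).1 z.2)⟩
      exact Nat.card_of_isEmpty
  have hval : ∀ u : {g : ↥(D.group F) // g ∈ (D.parabolicIn F S) ∧ ∃ k : ℕ, orderOf g = p ^ k},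
      ∑ K ∈ S.powerset, (-1 : ℂ) ^ K.card * (Nat.card {z : ↥(D.group F) ⧸ D.parabolicIn F K //
        u.1 • z = z ∧ z.out ∈ (D.parabolicIn F S)} : ℂ) = if u.1 ∈ R then ((radIn D F S).index : ℂ) else 0 := by
    rintro ⟨u, hu, k, hk⟩
    have hUS : (Sy : Subgroup ↥(D.group F)) ≤ (D.parabolicIn F S) := hSy ▸ hUM
    have hQ : IsPGroup p (Subgroup.zpowers (⟨u, hu⟩ : ↥(D.parabolicIn F S))) := by
      refine IsPGroup.of_card (n := k) ?_
      rw [Nat.card_zpowers, ← hk, ← Subgroup.orderOf_coe]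
    obtain ⟨T, hT⟩ := hQ.exists_le_sylow
    obtain ⟨x, hx⟩ := MulAction.exists_smul_eq (↥(D.parabolicIn F S)) T (Sy.subtype hUS)
    have hmem : x.1 * u * x.1⁻¹ ∈ U := by
      have h1 : MulAut.conj x (⟨u, hu⟩ : ↥(D.parabolicIn F S)) ∈ ((x • T : Sylow p ↥(D.parabolicIn F S)) : Subgroup ↥(D.parabolicIn F S)) := by
        rw [Sylow.coe_subgroup_smul]
        exact Subgroup.smul_mem_pointwise_smul _ _ _ (hT (Subgroup.mem_zpowers _))
      rw [hx, Sylow.coe_subtype, Subgroup.mem_subgroupOf, hSy] at h1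
      simpa using h1
    have hshift : ∀ K ∈ S.powerset,
        Nat.card {z : ↥(D.group F) ⧸ D.parabolicIn F K // u • z = z ∧ z.out ∈ (D.parabolicIn F S)} =
          Nat.card {z : ↥(D.group F) ⧸ D.parabolicIn F K // (x.1 * u * x.1⁻¹) • z = z ∧ z.out ∈ (D.parabolicIn F S)} := by
      intro K hK
      refine Nat.card_congr (Equiv.subtypeEquiv (MulAction.toPerm x.1) fun z => ?_)
      rw [MulAction.toPerm_apply, smul_out_mem_iff (h.parabolicIn_mono (Finset.mem_powerset.1 hK)) x.2,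
        ← mul_smul, inv_mul_cancel_right, mul_smul, smul_left_cancel_iff]
    rw [Finset.sum_congr rfl fun K hK => by rw [hshift K hK],
      h.alt_fixed_in hC hS (b := x.1 * u * x.1⁻¹)
        (Subgroup.mem_subgroupOf.2 (Subgroup.mem_sup_left (Subgroup.mem_subgroupOf.1 hmem))),
      htop ⟨_, hmem⟩, Nat.cast_ite, Nat.cast_zero]
    exact if_congr (hnorm x.2) rfl rfl
  rw [Finset.sum_congr rfl fun u _ => hval u, ← Finset.sum_filter, Finset.sum_const, nsmul_eq_mul,
    ← Fintype.card_subtype, ← Nat.card_eq_fintype_card, ← Nat.cast_pow, ← Nat.cast_mul, Nat.cast_inj,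
    ← h.card_pos (F := F) hC]
  have hcR : Nat.card {u : {g : ↥(D.group F) // g ∈ (D.parabolicIn F S) ∧ ∃ k : ℕ, orderOf g = p ^ k} // u.1 ∈ R} =
      Nat.card (radIn D F S) := by
    refine Nat.card_congr ((Equiv.subtypeSubtypeEquivSubtype (q := fun g => g ∈ R) fun {g} hg => ?_).trans
      (Subgroup.subgroupOfEquivOfLe hRU).toEquiv.symm)
    obtain ⟨k, hk⟩ := Sy.isPGroup' ⟨g, hSy.symm ▸ hRU hg⟩
    refine ⟨hUM (hRU hg), ?_⟩
    obtain ⟨j, -, hj⟩ := (Nat.dvd_prime_pow (Fact.out : p.Prime)).1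
      (orderOf_dvd_of_pow_eq_one (congrArg Subtype.val hk))
    exact ⟨j, hj⟩
  rw [hcR, Subgroup.card_mul_index, Nat.card_congr (Subgroup.subgroupOfEquivOfLe (fun x hx =>
    h.borel_le_group (Subgroup.mem_sup_left hx) : D.posUnipotent F ≤ D.group F)).toEquiv]

/-- The elements of p-power order in a parabolic subgroup. -/
theorem pCount_parabolic (hC : P.ckComm = true) [Fintype F] (p : ℕ) [Fact p.Prime] [CharP F p] :
    ∀ S : Finset ℕ, S ⊆ Finset.range P.rank → pCount p (D.parabolicIn F S) =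
      Fintype.card F ^ (P.nroots / 2) *
        Nat.card {y : ↥(D.group F) ⧸ borelIn D F // h.TopC hC S y} := by
  classical
  intro S
  induction S using Finset.strongInduction with
  | _ S ih =>
    intro hS
    set M := D.parabolicIn F S with hM
    haveI := Fintype.ofFinite {g : ↥(D.group F) // g ∈ M ∧ ∃ k : ℕ, orderOf g = p ^ k}
    set qN : ℂ := (Fintype.card F : ℂ) ^ (P.nroots / 2) with hqN
    have h1 : ∑ K ∈ S.powerset, (-1 : ℂ) ^ K.card *
        ((Nat.card {z : ↥(D.group F) ⧸ D.parabolicIn F K // z.out ∈ M} * pCount p (D.parabolicIn F K) : ℕ) : ℂ) = qN := by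
      rw [hqN, ← h.sum_top hC p hS, Finset.sum_comm]
      refine Finset.sum_congr rfl fun K hK => ?_
      rw [← Finset.mul_sum, ← Nat.cast_sum, sum_fixed_in p (h.parabolicIn_mono (Finset.mem_powerset.1 hK))]
    have h2 : ∑ K ∈ S.powerset, (-1 : ℂ) ^ K.card *
        ((Nat.card {z : ↥(D.group F) ⧸ D.parabolicIn F K // z.out ∈ M} *
          Nat.card {y : ↥(D.group F) ⧸ borelIn D F // h.TopC hC K y} : ℕ) : ℂ) = 1 := by
      have e : ∀ K ∈ S.powerset, (-1 : ℂ) ^ K.card *
          ((Nat.card {z : ↥(D.group F) ⧸ D.parabolicIn F K // z.out ∈ M} *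
            Nat.card {y : ↥(D.group F) ⧸ borelIn D F // h.TopC hC K y} : ℕ) : ℂ) =
          (-1 : ℂ) ^ K.card * (Nat.card {y : ↥(D.group F) ⧸ borelIn D F //
            y.out ∈ M ∧ K ⊆ S.filter fun i => i ∉ h.ascC hC y} : ℂ) := by
        intro K hK
        have hKS := Finset.mem_powerset.1 hK
        rw [← h.card_mult hC hKS (hKS.trans hS)]
        congr 2
        refine Nat.card_congr (Equiv.subtypeEquivRight fun y => and_congr_right fun _ => ?_)
        rw [Finset.disjoint_left]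
        exact ⟨fun e i hi => Finset.mem_filter.2 ⟨hKS hi, e hi⟩, fun e i hi => (Finset.mem_filter.1 (e hi)).2⟩
      rw [Finset.sum_congr rfl e, alt_sum_card (fun y => S.filter fun i => i ∉ h.ascC hC y) S
        (fun y => Finset.filter_subset _ _), Nat.cast_eq_one, Nat.card_eq_one_iff_unique]
      have hsub : ∀ {y : ↥(D.group F) ⧸ borelIn D F}, (S.filter fun i => i ∉ h.ascC hC y) = ∅ ↔
          S ⊆ h.ascC hC y := fun {y} => by
        simp [Finset.filter_eq_empty_iff, Finset.subset_iff]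
      have hnil : WordOk P [] := fun _ hx => absurd hx List.not_mem_nil
      have hone : h.Cell [] (1 : ↥(D.group F)).1 := by
        have := h.cell_self (F := F) []
        rwa [h.nW_nil] at this
      have hasc1 : S ⊆ asc P [] := fun i hi =>
        mem_asc.2 ⟨Finset.mem_range.1 (hS hi), h.sim_pos (Finset.mem_range.1 (hS hi))⟩
      have hu : ∀ y : ↥(D.group F) ⧸ borelIn D F, y.out ∈ M → S ⊆ h.ascC hC y → y = QuotientGroup.mk 1 := by
        intro y hy hs
        induction y using QuotientGroup.induction_on with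
        | _ g =>
        rw [hM, out_mem_iff (h.borelIn_le_parabolicIn S) g] at hy
        obtain ⟨hw, hc⟩ := h.cellWord_spec hC g
        rw [h.ascC_mk hC hw hc] at hs
        refine QuotientGroup.eq.2 (Subgroup.mem_subgroupOf.2 ?_)
        have := h.min_coset hC hS hw hnil hs hasc1 hc hone
          (by simpa using inv_mem (Subgroup.mem_subgroupOf.1 hy))
        simpa using this
      refine ⟨⟨fun a b => Subtype.ext ?_⟩, ⟨⟨QuotientGroup.mk 1, ?_, hsub.2 ?_⟩⟩⟩
      · rw [hu a.1 a.2.1 (hsub.1 a.2.2), hu b.1 b.2.1 (hsub.1 b.2.2)]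
      · exact (out_mem_iff (h.borelIn_le_parabolicIn S) 1).2 M.one_mem
      · rw [h.ascC_mk hC hnil hone]; exact hasc1
    have hcnt : Nat.card {z : ↥(D.group F) ⧸ D.parabolicIn F S // z.out ∈ M} = 1 := by
      rw [Nat.card_eq_one_iff_unique]
      refine ⟨⟨fun a b => Subtype.ext ?_⟩, ⟨⟨QuotientGroup.mk 1, (out_mem_iff le_rfl 1).2 M.one_mem⟩⟩⟩
      rw [← QuotientGroup.out_eq' a.1, ← QuotientGroup.out_eq' b.1]
      exact QuotientGroup.eq.2 (M.mul_mem (M.inv_mem a.2) b.2)
    have hmem : S ∈ S.powerset := Finset.mem_powerset.2 subset_rfl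
    have hrest : ∑ K ∈ S.powerset.erase S, (-1 : ℂ) ^ K.card *
        ((Nat.card {z : ↥(D.group F) ⧸ D.parabolicIn F K // z.out ∈ M} * pCount p (D.parabolicIn F K) : ℕ) : ℂ) =
        qN * ∑ K ∈ S.powerset.erase S, (-1 : ℂ) ^ K.card *
          ((Nat.card {z : ↥(D.group F) ⧸ D.parabolicIn F K // z.out ∈ M} *
            Nat.card {y : ↥(D.group F) ⧸ borelIn D F // h.TopC hC K y} : ℕ) : ℂ) := by
      rw [Finset.mul_sum]
      refine Finset.sum_congr rfl fun K hK => ?_
      obtain ⟨hne, hK'⟩ := Finset.mem_erase.1 hK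
      have hKS := Finset.mem_powerset.1 hK'
      rw [ih K (lt_of_le_of_ne hKS hne) (hKS.trans hS), hqN]
      push_cast
      ring
    rw [← Finset.add_sum_erase _ _ hmem, hcnt, one_mul, hrest] at h1
    rw [← Finset.add_sum_erase _ _ hmem, hcnt, one_mul] at h2
    have h3 : (-1 : ℂ) ^ S.card * (pCount p M : ℂ) = (-1 : ℂ) ^ S.card *
        ((Fintype.card F ^ (P.nroots / 2) *
          Nat.card {y : ↥(D.group F) ⧸ borelIn D F // h.TopC hC S y} : ℕ) : ℂ) := by
      push_cast
      rw [← hqN]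
      linear_combination h1 - qN * h2
    exact_mod_cast mul_left_cancel₀ (pow_ne_zero _ (by norm_num)) h3

theorem card_pPower (hC : P.ckComm = true) [Fintype F] (p : ℕ) [Fact p.Prime] [CharP F p] :
    Nat.card {g : ↥(D.group F) // ∃ k : ℕ, orderOf g = p ^ k} =
      Fintype.card F ^ (2 * (P.nroots / 2)) := by
  have e1 : Nat.card {g : ↥(D.group F) // ∃ k : ℕ, orderOf g = p ^ k} =
      pCount p (D.parabolicIn F (Finset.range P.rank)) :=
    Nat.card_congr (Equiv.subtypeEquivRight fun g =>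
      (and_iff_right (h.mem_parabolicIn_range hC g)).symm)
  have e2 : Nat.card {y : ↥(D.group F) ⧸ borelIn D F // h.TopC hC (Finset.range P.rank) y} =
      Fintype.card F ^ (P.nroots / 2) := by
    have e3 := h.steinberg_fixed hC (borelIn D F).one_mem
    rw [h.steinberg_one hC, ← Nat.cast_pow, Nat.cast_inj] at e3
    rw [e3]
    refine Nat.card_congr (Equiv.subtypeEquivRight fun y => ?_)
    rw [TopC, and_iff_right (h.mem_parabolicIn_range hC _), one_smul, and_iff_right rfl]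
    refine ⟨fun e => ?_, fun e => by rw [e]; exact disjoint_bot_right⟩
    exact disjoint_self.1 (e.mono_left (h.ascC_subset hC y))
  rw [e1, h.pCount_parabolic hC p _ subset_rfl, e2, ← pow_add, two_mul]

end Ok

end Cfsg.Agent.Chev
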