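/-
Weakly closed subgroups of `U`: certificates, the abelianisation of `U` and the theorem.
-/
import Cfsg.Agent.Lib.Chev.UnipCount
import Mathlib.GroupTheory.Abelianization.Defs
import Mathlib.GroupTheory.Nilpotent
import Mathlib.FieldTheory.Finite.Basic

set_option autoImplicit false

namespace Cfsg.Agent.Chev

open Cfsg.Lie

namespace Pk

variable (P : Pk)

/-- A term of a commutator word usable to reach its root: the terms that are not higher have
distinct small exponents in the first parameter and are linear in the second. With `strict` there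
are no such terms. -/
def termOk (pp : ℕ) (strict : Bool) (L : List (ℕ × ℤ × ℕ × ℕ)) (g : ℕ × ℤ × ℕ × ℕ) : Bool :=
  !(g.2.1 % (pp : ℤ) == 0) && Nat.ble g.2.1.natAbs 3 && Nat.beq g.2.2.2 1 && Nat.ble 1 g.2.2.1 && Nat.ble g.2.2.1 3 &&
    (L.erase g).all fun g' => decide (P.ht g.1 < P.ht g'.1) ||
      (!strict && Nat.beq g'.2.2.2 1 && Nat.ble 1 g'.2.2.1 && Nat.ble g'.2.2.1 3 && !(Nat.beq g'.2.2.1 g.2.2.1))

/-- The roots reached by commutators with fundamental root elements. -/
def reached (pp : ℕ) (strict : Bool) : List ℕ :=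
  (List.range P.rank).flatMap fun i => (P.allRoots.filter P.isPos).flatMap fun s =>
    bif Nat.beq s (P.sim i) then [] else
      ((P.cword (P.sim i) s).filter (P.termOk pp strict (P.cword (P.sim i) s))).map Prod.fst

/-- Every positive root is fundamental or reached. -/
def ckReach (pp : ℕ) (strict : Bool) : Bool :=
  (P.allRoots.filter P.isPos).all fun r =>
    (decide (P.ht r = 1) && (List.range P.rank).any fun i => Nat.beq (P.sim i) r) ||
      (P.reached pp strict).any fun x => Nat.beq x r

/-- Two fundamental roots are separated by the torus when there are more than three elements. -/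
def ckSepFour : Bool :=
  (List.range P.rank).all fun i => (List.range P.rank).all fun j => Nat.beq i j ||
    (decide (0 ≤ P.A i (P.sim j) * P.A j (P.sim i) ∧ P.A i (P.sim j) * P.A j (P.sim i) ≤ 3) &&
      (!(P.A i (P.sim j) * P.A j (P.sim i) == 0) || P.A i (P.sim j) == 0) &&
      (!(P.A i (P.sim j) * P.A j (P.sim i) == 1) || (List.range P.rank).any fun k =>
        !((P.A k (P.sim i) % 3 == 0) == (P.A k (P.sim j) % 3 == 0))))

/-- Two fundamental roots are separated by signs. -/
def ckSepThree : Bool :=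
  (List.range P.rank).all fun i => (List.range P.rank).all fun j => Nat.beq i j ||
    !(P.A i (P.sim j) * P.A j (P.sim i) % 2 == 0) || (List.range P.rank).any fun k =>
      !(P.A k (P.sim i) % 2 == P.A k (P.sim j) % 2)

end Pk

/-- Vanishing of the coefficient of a monomial in a vanishing combination of additive maps. -/
theorem addHom_extract {F A : Type*} [Field F] [AddCommGroup A] {lam : F}
    (h1 : lam ^ 1 ≠ 1) (h2 : lam ^ 2 ≠ 1) (hl : lam ≠ 0) {i0 : ℕ} (hi0 : 1 ≤ i0) (hi0' : i0 ≤ 3) :
    ∀ (L : List (ℕ × (F →+ A))) (φ : F →+ A),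
      (∀ x ∈ L, 1 ≤ x.1 ∧ x.1 ≤ 3 ∧ x.1 ≠ i0) →
      (∀ t u : F, φ (t ^ i0 * u) + (L.map fun x => x.2 (t ^ x.1 * u)).sum = 0) →
      ∀ u, φ u = 0
  | [], φ, _, h, u => by simpa using h 1 u
  | x :: L, φ, hL, h, u => by
    obtain ⟨e, ψ⟩ := x
    obtain ⟨he1, he2, he3⟩ := hL _ List.mem_cons_self
    simp only at he1 he2 he3
    have hc : lam ^ i0 - lam ^ e ≠ 0 := by
      intro hz
      rw [sub_eq_zero] at hz
      have key : ∀ a b : ℕ, a < b → b ≤ 3 → 1 ≤ a → lam ^ a = lam ^ b → False := by
        intro a b hab hb ha hab'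
        obtain ⟨k, rfl⟩ := Nat.exists_eq_add_of_lt hab
        rw [add_assoc, pow_add, eq_comm, mul_eq_left₀ (pow_ne_zero _ hl)] at hab'
        have : k + 1 = 1 ∨ k + 1 = 2 := by omega
        rcases this with e' | e' <;> rw [e'] at hab'
        · exact h1 hab'
        · exact h2 hab'
      rcases lt_or_gt_of_ne he3 with e' | e'
      · exact key e i0 e' hi0' he1 hz.symm
      · exact key i0 e e' he2 hi0 hz
    have key := addHom_extract h1 h2 hl hi0 hi0'
      (L.map fun y => (y.1, y.2.comp (AddMonoidHom.mulLeft (lam ^ y.1 - lam ^ e))))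
      (φ.comp (AddMonoidHom.mulLeft (lam ^ i0 - lam ^ e)))
      (fun y hy => by
        obtain ⟨z, hz, rfl⟩ := List.mem_map.1 hy
        exact hL z (List.mem_cons_of_mem _ hz))
      (fun t v => by
        have e1 := h (lam * t) v
        have e2 := h t (lam ^ e * v)
        simp only [List.map_cons, List.sum_cons] at e1 e2
        rw [List.map_map]
        have e3 : (L.map ((fun x : ℕ × (F →+ A) => x.2 (t ^ x.1 * v)) ∘
              fun y => (y.1, y.2.comp (AddMonoidHom.mulLeft (lam ^ y.1 - lam ^ e))))).sum =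
            (L.map fun x => x.2 ((lam * t) ^ x.1 * v)).sum -
              (L.map fun x => x.2 (t ^ x.1 * (lam ^ e * v))).sum := by
          clear e1 e2 h hL
          induction L with
          | nil => simp
          | cons a L ih =>
            simp only [List.map_cons, List.sum_cons, ih, Function.comp_apply, AddMonoidHom.coe_comp,
              AddMonoidHom.coe_mulLeft]
            rw [show (lam ^ a.1 - lam ^ e) * (t ^ a.1 * v) =
              (lam * t) ^ a.1 * v - t ^ a.1 * (lam ^ e * v) by ring, map_sub]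
            abel
        rw [e3, AddMonoidHom.coe_comp, AddMonoidHom.coe_mulLeft, Function.comp_apply,
          show (lam ^ i0 - lam ^ e) * (t ^ i0 * v) = (lam * t) ^ i0 * v - t ^ i0 * (lam ^ e * v) by ring,
          map_sub]
        rw [show (lam * t) ^ e * v = t ^ e * (lam ^ e * v) by ring] at e1
        have := congrArg₂ (· - ·) e1 e2
        simp only [sub_zero] at this
        rw [← this]; abel)
      (u / (lam ^ i0 - lam ^ e))
    simpa [mul_div_cancel₀ u hc] using key
  termination_by L => L.length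

variable {D : ChevalleyDatum} {P : Pk} {F : Type*} [Field F]

namespace Ok

variable (h : Ok D P)
include h

/-- The commutation rule in the group. -/
theorem comm_grp (hC : P.ckComm = true) {r s : ℕ} (hr : r < P.nroots) (hs : s < P.nroots)
    (hsr : s ≠ r) (hsn : s ≠ P.ng r) (t u : F) :
    h.xG s u * h.xG r t = h.xG r t * h.xG s u *
      ((P.cword r s).map fun g => h.xG g.1 ((g.2.1 : F) * t ^ g.2.2.1 * u ^ g.2.2.2)).prod := by
  have hlt : ∀ g ∈ P.cword r s, g.1 < P.nroots := by
    intro g hg
    simp only [Pk.cword, List.mem_map] at hg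
    obtain ⟨c, hc', rfl⟩ := hg
    exact h.cterms_lt hr hs c hc'
  apply Units.ext
  simp only [Units.val_mul, h.coe_xG' hr, h.coe_xG' hs, h.comm_formula hC hr hs hsr hsn t u]
  congr 1
  rw [monWord]
  generalize P.cword r s = L at hlt ⊢
  induction L with
  | nil => simp
  | cons g L ih =>
    simp only [List.map_cons, List.prod_cons, Units.val_mul]
    rw [h.coe_xG' (hlt g List.mem_cons_self), ih fun x hx => hlt x (List.mem_cons_of_mem _ hx)]

/-- A root element as an element of `U`; trivial for other roots. -/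
noncomputable def elU (r : ℕ) (t : F) : ↥(D.posUnipotent F) :=
  if hr : P.isPos r = true then ⟨h.xG r t, h.xG_mem_pos hr t⟩ else 1

/-- The image of a root group in the abelianisation of `U`. -/
noncomputable def psiU (r : ℕ) : F →+ Additive (Abelianization ↥(D.posUnipotent F)) where
  toFun t := Additive.ofMul (Abelianization.of (h.elU r t))
  map_zero' := by
    have : h.elU r (0 : F) = 1 := by
      unfold elU
      split
      · exact Subtype.ext (h.xG_zero r)
      · rfl
    rw [this, map_one, ofMul_one]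
  map_add' a b := by
    have : h.elU r (a + b) = h.elU r a * h.elU r b := by
      unfold elU
      split
      · exact Subtype.ext (h.xG_add r a b).symm
      · exact (mul_one _).symm
    rw [this, map_mul, ofMul_mul]

theorem psiU_apply {r : ℕ} (hr : P.isPos r = true) (t : F) (hm : h.xG r t ∈ D.posUnipotent F) :
    h.psiU r t = Additive.ofMul (Abelianization.of (⟨h.xG r t, hm⟩ : ↥(D.posUnipotent F))) := by
  show Additive.ofMul (Abelianization.of (h.elU r t)) = _
  rw [elU, dif_pos hr]

theorem psiU_list (L : List (ℕ × F)) (hL : ∀ x ∈ L, P.isPos x.1 = true) (g : ↥(D.posUnipotent F))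
    (hg : (g : GL D.Idx F) = (L.map fun x => h.xG x.1 x.2).prod) :
    Additive.ofMul (Abelianization.of g) = (L.map fun x => h.psiU x.1 x.2).sum := by
  induction L generalizing g with
  | nil =>
    have : g = 1 := Subtype.ext (by simpa using hg)
    simp [this]
  | cons a L ih =>
    have ha := hL a List.mem_cons_self
    simp only [List.map_cons, List.prod_cons] at hg
    set a' : ↥(D.posUnipotent F) := ⟨h.xG a.1 a.2, h.xG_mem_pos ha _⟩
    have h1 := ih (fun x hx => hL x (List.mem_cons_of_mem _ hx)) (a'⁻¹ * g) (by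
      rw [Subgroup.coe_mul, Subgroup.coe_inv, hg]; simp [a'])
    rw [List.map_cons, List.sum_cons, ← h1, h.psiU_apply ha _ (h.xG_mem_pos ha _), ← ofMul_mul, ← map_mul]
    exact congrArg (fun z => Additive.ofMul (Abelianization.of z)) (mul_inv_cancel_left a' g).symm

/-- Root elements of height at least two vanish in the abelianisation of `U`. -/
theorem psiU_high (hC : P.ckComm = true) (p : ℕ) [Fact p.Prime] [CharP F p] (pp : ℕ)
    (hpp : pp = p ∨ pp = 5 ∧ 5 ≤ p) (strict : Bool) (hck : P.ckReach pp strict = true)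
    (hlam : strict = false → ∃ lam : F, lam ≠ 0 ∧ lam ^ 1 ≠ 1 ∧ lam ^ 2 ≠ 1) :
    ∀ r, P.isPos r = true → 2 ≤ P.ht r → ∀ t, h.psiU (F := F) r t = 0 := by
  classical
  set B : ℕ := (Finset.range P.nroots).sup fun r => (P.ht r).toNat
  suffices main : ∀ (n : ℕ) r, P.isPos r = true → 2 ≤ P.ht r → (B : ℤ) + 1 ≤ P.ht r + n →
      ∀ t, h.psiU (F := F) r t = 0 from fun r hr h2 => main (B + 1) r hr h2 (by push_cast; omega)
  intro n
  induction n with
  | zero =>
    intro r hr _ hB t
    exfalso
    have : (P.ht r).toNat ≤ B :=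
      Finset.le_sup (f := fun r => (P.ht r).toNat) (Finset.mem_range.2 (P.isPos_iff.1 hr).2)
    push_cast at hB
    omega
  | succ n ih =>
    intro r hr h2 hB u₀
    have hck' := List.all_eq_true.1 hck r (List.mem_filter.2
      ⟨List.mem_range.2 (P.isPos_iff.1 hr).2, hr⟩)
    rw [Bool.or_eq_true] at hck'
    rcases hck' with e | e
    · rw [Bool.and_eq_true, decide_eq_true_eq] at e
      omega
    obtain ⟨x, hx, hxr⟩ := List.any_eq_true.1 e
    obtain rfl : x = r := Nat.eq_of_beq_eq_true hxr
    simp only [Pk.reached, List.mem_flatMap, List.mem_range, List.mem_filter] at hx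
    obtain ⟨i, hi, s, ⟨-, hs⟩, hx⟩ := hx
    have hsi : s ≠ P.sim i := by
      rintro rfl
      simp [nbeq] at hx
    have hx' : x ∈ (((P.cword (P.sim i) s).filter (P.termOk pp strict (P.cword (P.sim i) s))).map Prod.fst) := by
      rw [nbeq, decide_eq_false hsi] at hx
      exact hx
    obtain ⟨g, hg, rfl⟩ := List.mem_map.1 hx'
    obtain ⟨hgL, hgok⟩ := List.mem_filter.1 hg
    simp only [Pk.termOk, Bool.and_eq_true, Nat.ble_eq, List.all_eq_true, Bool.or_eq_true,
      decide_eq_true_eq] at hgok
    obtain ⟨⟨⟨⟨⟨hcp, hc3⟩, hj⟩, hi1⟩, hi3⟩, hrest⟩ := hgok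
    have hjg : g.2.2.2 = 1 := Nat.eq_of_beq_eq_true hj
    have hsn : s ≠ P.ng (P.sim i) := by
      intro e'
      rw [e', h.ng_pos_iff (h.sim_lt hi), h.sim_pos hi] at hs
      simp at hs
    have hsimp := h.sim_pos hi
    have hc : (g.2.1 : F) ≠ 0 := by
      intro hz
      rw [CharP.intCast_eq_zero_iff F p] at hz
      rcases hpp with rfl | ⟨rfl, h5⟩
      · rw [Int.emod_eq_zero_of_dvd hz] at hcp
        simp at hcp
      · have := Int.natCast_dvd.1 hz
        rcases Nat.eq_zero_or_pos g.2.1.natAbs with e' | e'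
        · rw [Int.natAbs_eq_zero.1 e'] at hcp
          simp at hcp
        · have := Nat.le_of_dvd e' this
          omega
    have hpos : ∀ g' ∈ P.cword (P.sim i) s, P.isPos g'.1 = true ∧ 2 ≤ P.ht g'.1 := by
      intro g' hg'
      simp only [Pk.cword, List.mem_map] at hg'
      obtain ⟨c, hc', rfl⟩ := hg'
      obtain ⟨ha, hb⟩ := h.cterms_ht hsimp hs c hc'
      exact ⟨ha, by have := h.ht_pos hsimp; have := h.ht_pos hs; simp only; omega⟩
    -- the relation
    have hrel : ∀ t u : F, ((P.cword (P.sim i) s).map fun g' =>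
        h.psiU g'.1 ((g'.2.1 : F) * t ^ g'.2.2.1 * u ^ g'.2.2.2)).sum = 0 := by
      intro t u
      let W : ↥(D.posUnipotent F) :=
        (⟨h.xG (P.sim i) t, h.xG_mem_pos hsimp t⟩ * ⟨h.xG s u, h.xG_mem_pos hs u⟩)⁻¹ *
          (⟨h.xG s u, h.xG_mem_pos hs u⟩ * ⟨h.xG (P.sim i) t, h.xG_mem_pos hsimp t⟩)
      have hW := h.psiU_list ((P.cword (P.sim i) s).map fun g' =>
          (g'.1, (g'.2.1 : F) * t ^ g'.2.2.1 * u ^ g'.2.2.2))
        (fun y hy => by obtain ⟨g', hg', rfl⟩ := List.mem_map.1 hy; exact (hpos g' hg').1) W (by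
          show (h.xG (P.sim i) t * h.xG s u)⁻¹ * (h.xG s u * h.xG (P.sim i) t) = _
          rw [h.comm_grp hC (h.sim_lt hi) (P.isPos_iff.1 hs).2 hsi hsn t u, inv_mul_cancel_left,
            List.map_map]
          rfl)
      rw [List.map_map] at hW
      refine Eq.trans hW.symm ?_
      have hW1 : Abelianization.of W = 1 := by
        simp only [W, map_mul, map_inv]
        exact inv_mul_eq_one.2 (mul_comm _ _)
      rw [hW1, ofMul_one]
    -- higher terms vanish
    have hzero : ∀ g' ∈ (P.cword (P.sim i) s).erase g, P.ht g.1 < P.ht g'.1 → ∀ z, h.psiU g'.1 z = 0 :=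
      fun g' hg' hlt => ih g'.1 (hpos g' (List.mem_of_mem_erase hg')).1 (hpos g' (List.mem_of_mem_erase hg')).2
        (by push_cast at hB ⊢; omega)
    have hperm := List.perm_cons_erase hgL
    set Low := ((P.cword (P.sim i) s).erase g).filter fun g' => !decide (P.ht g.1 < P.ht g'.1)
    have hsum : ∀ t u : F, h.psiU g.1 ((g.2.1 : F) * (t ^ g.2.2.1 * u)) +
        (Low.map fun g' => h.psiU g'.1 ((g'.2.1 : F) * (t ^ g'.2.2.1 * u))).sum = 0 := by
      intro t u
      have e0 := hrel t u
      rw [(hperm.map _).sum_eq, List.map_cons, List.sum_cons, hjg, pow_one, mul_assoc] at e0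
      refine Eq.trans ?_ e0
      congr 1
      simp only [Low]
      have : ∀ L : List (ℕ × ℤ × ℕ × ℕ), (∀ g' ∈ L, g' ∈ (P.cword (P.sim i) s).erase g) →
          ((L.filter fun g' => !decide (P.ht g.1 < P.ht g'.1)).map fun g' =>
            h.psiU g'.1 ((g'.2.1 : F) * (t ^ g'.2.2.1 * u))).sum =
          (L.map fun g' => h.psiU g'.1 ((g'.2.1 : F) * t ^ g'.2.2.1 * u ^ g'.2.2.2)).sum := by
        intro L
        induction L with
        | nil => intro _; rfl
        | cons a L ihL =>
          intro hL
          have hL' := ihL fun y hy => hL y (List.mem_cons_of_mem _ hy)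
          have ha := hL a List.mem_cons_self
          simp only [List.filter_cons, List.map_cons, List.sum_cons]
          by_cases hlt : P.ht g.1 < P.ht a.1
          · rw [hzero a ha hlt, zero_add, if_neg (by simp [hlt]), hL']
          · rcases hrest a ha with e' | e'
            · exact absurd e' hlt
            · rw [if_pos (by simp [hlt]), List.map_cons, List.sum_cons, hL', Nat.eq_of_beq_eq_true e'.1.1.1.2,
                pow_one, mul_assoc]
      exact this _ fun _ hy => hy
    have hLow : ∀ g' ∈ Low, strict = false ∧ 1 ≤ g'.2.2.1 ∧ g'.2.2.1 ≤ 3 ∧ g'.2.2.1 ≠ g.2.2.1 := by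
      intro g' hg'
      obtain ⟨h1, h2'⟩ := List.mem_filter.1 hg'
      rcases hrest g' h1 with e' | e'
      · simp [e'] at h2'
      · exact ⟨by simpa using e'.1.1.1.1, e'.1.1.2, e'.1.2, fun q => by simp [q] at e'⟩
    cases strict with
    | true =>
      have hnil : Low = [] := List.eq_nil_iff_forall_not_mem.2 fun g' hg' => by simpa using (hLow g' hg').1
      have := hsum 1 (u₀ / g.2.1)
      rw [hnil] at this
      simpa [mul_div_cancel₀ _ hc] using this
    | false =>
      obtain ⟨lam, hl, hl1, hl2⟩ := hlam rfl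
      have := addHom_extract hl1 hl2 hl hi1 hi3
        (Low.map fun g' => (g'.2.2.1, (h.psiU g'.1).comp (AddMonoidHom.mulLeft (g'.2.1 : F))))
        ((h.psiU g.1).comp (AddMonoidHom.mulLeft (g.2.1 : F)))
        (fun y hy => by
          obtain ⟨g', hg', rfl⟩ := List.mem_map.1 hy
          exact (hLow g' hg').2)
        (fun t u => by rw [List.map_map]; exact hsum t u) (u₀ / g.2.1)
      simpa [mul_div_cancel₀ _ hc] using this

end Ok


/-- In a nilpotent finite group a subgroup that covers the abelianisation is everything. -/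
theorem eq_top_of_covers_ab {G : Type*} [Group G] [Finite G] [Group.IsNilpotent G] (S : Subgroup G)
    (hS : S ⊔ commutator G = ⊤) : S = ⊤ := by
  rcases IsCoatomic.eq_top_or_exists_le_coatom S with h0 | ⟨M, hM, hSM⟩
  · exact h0
  exfalso
  haveI : M.Normal := Subgroup.NormalizerCondition.normal_of_coatom M normalizerCondition_of_isNilpotent hM
  obtain ⟨g, hg⟩ : ∃ g, g ∉ M := by
    by_contra hc
    push Not at hc
    exact hM.1 ((Subgroup.eq_top_iff' M).2 hc)
  have htop : M ⊔ Subgroup.zpowers g = ⊤ := hM.2 _ (lt_of_le_of_ne le_sup_left fun e => hg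
    (e ▸ Subgroup.mem_sup_right (Subgroup.mem_zpowers g)))
  have hle : commutator G ≤ M :=
    Subgroup.Normal.commutator_le_of_self_sup_commutative_eq_top htop inferInstance
  exact hM.1 (top_le_iff.1 (hS ▸ sup_le hSM hle))

namespace Ok

variable (h : Ok D P)
include h

/-- A subgroup of `U` whose image contains the fundamental root groups is `U`. -/
theorem eq_pos_of_psiU [Finite F] (hC : P.ckComm = true)
    (hhigh : ∀ r, P.isPos r = true → 2 ≤ P.ht r → ∀ t, h.psiU (F := F) r t = 0)
    (hsimple : ∀ r, P.isPos r = true → P.ht r = 1 → ∃ i < P.rank, P.sim i = r)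
    {S : Subgroup (GL D.Idx F)}
    (hSi : ∀ i < P.rank, ∀ t : F, ∃ x : ↥(D.posUnipotent F), (x : GL D.Idx F) ∈ S ∧
      Additive.ofMul (Abelianization.of x) = h.psiU (P.sim i) t) :
    D.posUnipotent F ≤ S := by
  haveI := h.pos_nilpotent (F := F) hC
  haveI : Finite (GL D.Idx F) := inferInstance
  set S' := S.subgroupOf (D.posUnipotent F) with hS'
  have hcov : ∀ r, P.isPos r = true → ∀ t : F, ∃ x : ↥(D.posUnipotent F), x ∈ S' ∧
      Additive.ofMul (Abelianization.of x) = h.psiU r t := by
    intro r hr t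
    have hp := h.ht_pos hr
    rcases eq_or_lt_of_le (show 1 ≤ P.ht r by omega) with e | e
    · obtain ⟨i, hi, rfl⟩ := hsimple r hr e.symm
      obtain ⟨x, hx, he⟩ := hSi i hi t
      exact ⟨x, Subgroup.mem_subgroupOf.2 hx, he⟩
    · exact ⟨1, one_mem _, by rw [map_one, ofMul_one, hhigh r hr (by omega)]⟩
  have htop : S' ⊔ commutator ↥(D.posUnipotent F) = ⊤ := by
    have hle : D.posUnipotent F ≤ (S' ⊔ commutator ↥(D.posUnipotent F)).map (D.posUnipotent F).subtype := by
      refine h.posUnipotent_le fun r hr t => ?_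
      refine ⟨⟨h.xG r t, h.xG_mem_pos hr t⟩, ?_, rfl⟩
      obtain ⟨x, hx, he⟩ := hcov r hr t
      rw [h.psiU_apply hr t (h.xG_mem_pos hr t)] at he
      have hk : x⁻¹ * ⟨h.xG r t, h.xG_mem_pos hr t⟩ ∈ commutator ↥(D.posUnipotent F) := by
        rw [← Abelianization.ker_of, MonoidHom.mem_ker, map_mul, map_inv, Additive.ofMul.injective he,
          inv_mul_cancel]
      simpa using mul_mem (Subgroup.mem_sup_left (T := commutator ↥(D.posUnipotent F)) hx)
        (Subgroup.mem_sup_right (S := S') hk)
    refine (Subgroup.eq_top_iff' _).2 fun x => ?_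
    obtain ⟨y, hy, e⟩ := hle x.2
    obtain rfl : y = x := Subtype.ext e
    exact hy
  intro x hx
  have := (eq_top_of_covers_ab S' htop).symm ▸ Subgroup.mem_top (⟨x, hx⟩ : ↥(D.posUnipotent F))
  exact Subgroup.mem_subgroupOf.1 this

end Ok

/-- A set of tuples is a module for a tuple. -/
def Scales {n : ℕ} {F : Type*} [Field F] (W : AddSubgroup (Fin n → F)) (a : Fin n → F) : Prop :=
  ∀ v ∈ W, a * v ∈ W

section Separation

variable {P : Pk} {F : Type*} [Field F] (W : AddSubgroup (Fin P.rank → F))
  (hW : ∀ c : Fin P.rank → Fˣ, Scales W fun i => hchar P c (P.sim i.val))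

include hW

theorem scales_single (k : Fin P.rank) (u : Fˣ) :
    Scales W fun i => (u : F) ^ P.A k.val (P.sim i.val) := by
  have e : (fun i : Fin P.rank => hchar P (Pi.mulSingle k u) (P.sim i.val)) =
      fun i => (u : F) ^ P.A k.val (P.sim i.val) := by
    funext i
    rw [hchar, Finset.prod_eq_single k]
    · rw [Pi.mulSingle_eq_same]
    · intro b _ hb; rw [Pi.mulSingle_eq_of_ne hb]; simp
    · simp
  exact e ▸ hW _

/-- Two coordinates are separated. -/
theorem scales_separate [Fintype F] (hA : ∀ i < P.rank, P.A i (P.sim i) = 2)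
    (hcase : (Fintype.card F = 3 ∧ P.ckSepThree = true) ∨ (4 ≤ Fintype.card F ∧ P.ckSepFour = true))
    {i j : Fin P.rank} (hij : i ≠ j) : ∃ a, Scales W a ∧ a i ≠ 0 ∧ a j = 0 := by
  classical
  have hij' : Nat.beq i.val j.val = false := by rw [nbeq, decide_eq_false (fun e => hij (Fin.ext e))]
  have hsub : ∀ {a b : Fin P.rank → F}, Scales W a → Scales W b → Scales W (a - b) := fun ha hb v hv => by
    rw [sub_mul]; exact sub_mem (ha v hv) (hb v hv)
  have hone : Scales W (1 : Fin P.rank → F) := fun v hv => by rw [one_mul]; exact hv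
  obtain ⟨g, hg⟩ := IsCyclic.exists_generator (α := Fˣ)
  have hord : orderOf g = Fintype.card F - 1 := by
    rw [← Fintype.card_units, ← Nat.card_eq_fintype_card]; exact orderOf_eq_card_of_forall_mem_zpowers hg
  have hpow : ∀ z : ℤ, (g : F) ^ z = 1 ↔ ((Fintype.card F - 1 : ℕ) : ℤ) ∣ z := fun z => by
    rw [← hord, orderOf_dvd_iff_zpow_eq_one, ← Units.val_zpow_eq_zpow_val, Units.val_eq_one]
  have hne : (g : F) ≠ 0 := g.ne_zero
  have hpar : Fintype.card F = 3 → (g : F) = -1 := fun h3 => by
    have h2 : (g : F) * g = 1 := by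
      rw [← sq, ← zpow_natCast, hpow, h3]
    rcases mul_self_eq_one_iff.1 h2 with e | e
    · exfalso
      have : (g : F) ^ (1 : ℤ) = 1 := by rw [zpow_one, e]
      rw [hpow, h3] at this; norm_num at this
    · exact e
  set a := P.A i.val (P.sim j.val) with ha
  set b := P.A j.val (P.sim i.val) with hb
  by_cases hdiv : ((Fintype.card F - 1 : ℕ) : ℤ) ∣ (4 - a * b)
  · rcases hcase with ⟨h3, hck⟩ | ⟨h4, hck⟩
    · -- signs
      have := List.all_eq_true.1 (List.all_eq_true.1 hck i.val (List.mem_range.2 i.2)) j.val (List.mem_range.2 j.2)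
      rw [h3] at hdiv
      rw [hij', Bool.false_or, Bool.or_eq_true] at this
      rcases this with e | e
      · exfalso
        simp only [Bool.not_eq_true', beq_eq_false_iff_ne, ne_eq] at e
        apply e
        rw [← ha, ← hb]
        omega
      obtain ⟨k, hk, hkne⟩ := List.any_eq_true.1 e
      have hk' := List.mem_range.1 hk
      simp only [Bool.not_eq_true', beq_eq_false_iff_ne, ne_eq] at hkne
      have hS := scales_single W hW ⟨k, hk'⟩ g
      have hneg : ∀ z : ℤ, (g : F) ^ z = if z % 2 = 0 then 1 else -1 := fun z => by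
        rw [hpar h3]
        split
        · exact Even.neg_one_zpow (Int.even_iff.2 (by assumption))
        · exact Odd.neg_one_zpow (Int.odd_iff.2 (by omega))
      have hh : (1 : F) ≠ -1 := fun e' => by
        have : (g : F) ^ (1 : ℤ) = 1 := by rw [zpow_one, hpar h3, ← e']
        rw [hpow, h3] at this; norm_num at this
      rcases Int.emod_two_eq_zero_or_one (P.A k (P.sim j.val)) with e2 | e2
      · refine ⟨_, hsub hS hone, ?_, ?_⟩ <;> simp only [Pi.sub_apply, Pi.one_apply, hneg]
        · rw [if_neg (by omega), sub_ne_zero]; exact hh.symm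
        · rw [if_pos e2, sub_self]
      · refine ⟨_, hsub hS (hsub (hsub hone hone) hone), ?_, ?_⟩ <;>
          simp only [Pi.sub_apply, Pi.one_apply, Pi.neg_apply, hneg, sub_self, zero_sub]
        · rw [if_pos (by omega), sub_neg_eq_add]
          exact fun e3 => hh (eq_neg_of_add_eq_zero_left e3)
        · rw [if_neg (by omega)]; ring
    · have := List.all_eq_true.1 (List.all_eq_true.1 hck i.val (List.mem_range.2 i.2)) j.val (List.mem_range.2 j.2)
      rw [hij', Bool.false_or, Bool.and_eq_true, Bool.and_eq_true, decide_eq_true_eq] at this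
      obtain ⟨⟨⟨hab0, hab3⟩, hz⟩, h1⟩ := this
      rw [← ha, ← hb] at hab0 hab3 hz h1
      rcases eq_or_ne (a * b) 0 with e0 | e0
      · -- the root group of i acts on i only
        rw [e0] at hz
        simp at hz
        refine ⟨_, hsub (scales_single W hW i g) hone, ?_, ?_⟩
        · simp only [Pi.sub_apply, Pi.one_apply]
          rw [hA _ i.2, sub_ne_zero, ne_eq, hpow]
          intro hd
          have := Int.le_of_dvd (by norm_num) hd
          omega
        · simp only [Pi.sub_apply, Pi.one_apply]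
          rw [← ha, hz, zpow_zero, sub_self]
      · have hd := Int.le_of_dvd (by omega) hdiv
        have hab : a * b = 1 := by omega
        have h4' : Fintype.card F = 4 := by omega
        rw [hab] at h1
        simp only [beq_self_eq_true, Bool.not_true, Bool.false_or] at h1
        obtain ⟨k, hk, hkne⟩ := List.any_eq_true.1 h1
        have hk' := List.mem_range.1 hk
        have hS := scales_single W hW ⟨k, hk'⟩ g
        have h3z : ∀ z : ℤ, (g : F) ^ z = 1 ↔ z % 3 = 0 := fun z => by
          rw [hpow, h4']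
          exact ⟨Int.emod_eq_zero_of_dvd, Int.dvd_of_emod_eq_zero⟩
        simp only [Bool.not_eq_true', beq_eq_false_iff_ne, ne_eq] at hkne
        by_cases e2 : P.A k (P.sim j.val) % 3 = 0
        · refine ⟨_, hsub hS hone, ?_, ?_⟩ <;> simp only [Pi.sub_apply, Pi.one_apply]
          · rw [sub_ne_zero, ne_eq, h3z]
            intro e3; simp [e2, e3] at hkne
          · rw [(h3z _).2 e2, sub_self]
        · have hi3 : P.A k (P.sim i.val) % 3 = 0 := by
            by_contra e3; simp [beq_eq_false_iff_ne.2 e2, beq_eq_false_iff_ne.2 e3] at hkne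
          -- `1 + χ + χ²`
          have hS2 : Scales W (fun l : Fin P.rank => (g : F) ^ P.A k (P.sim l.val) * (g : F) ^ P.A k (P.sim l.val)) :=
            fun v hv => by
              have := hS _ (hS v hv)
              convert this using 1
              funext l
              simp [mul_assoc]
          refine ⟨_, hsub hone (hsub (hsub (hsub hone hone) hS) hS2), ?_, ?_⟩ <;>
            simp only [Pi.sub_apply, Pi.one_apply, Pi.neg_apply, sub_self, zero_sub]
          · rw [(h3z _).2 hi3]
            intro e3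
            have h30 : (3 : F) = 0 := by rw [← e3]; ring
            have h20 : ((4 : ℕ) : F) = 0 := by rw [← h4']; exact Nat.cast_card_eq_zero F
            have : (1 : F) = ((4 : ℕ) : F) - 3 := by norm_num
            rw [h20, h30, sub_zero] at this
            exact one_ne_zero this
          · have hx : ((g : F) ^ P.A k (P.sim j.val)) ^ (3 : ℤ) = 1 := by
              rw [← zpow_mul, h3z]; omega
            have hx1 : (g : F) ^ P.A k (P.sim j.val) ≠ 1 := fun e3 => e2 ((h3z _).1 e3)
            set x := (g : F) ^ P.A k (P.sim j.val)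
            have hz' : (x - 1) * (1 + x + x * x) = 0 := by
              rw [show (3 : ℤ) = ((3 : ℕ) : ℤ) from rfl, zpow_natCast] at hx
              linear_combination hx
            have := (mul_eq_zero.1 hz').resolve_left (sub_ne_zero.2 hx1)
            linear_combination this
  · refine ⟨_, hsub (scales_single W hW i (g ^ (2 : ℤ))) (scales_single W hW j (g ^ a)), ?_, ?_⟩
    · simp only [Pi.sub_apply]
      rw [hA _ i.2, ← hb, Units.val_zpow_eq_zpow_val, Units.val_zpow_eq_zpow_val, ← zpow_mul, ← zpow_mul,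
        sub_ne_zero]
      intro e
      apply hdiv
      rw [← hpow, zpow_sub₀ hne, show (4 : ℤ) = 2 * 2 from rfl, e, div_self (zpow_ne_zero _ hne)]
    · simp only [Pi.sub_apply]
      rw [hA _ j.2, ← ha, Units.val_zpow_eq_zpow_val, Units.val_zpow_eq_zpow_val, ← zpow_mul, ← zpow_mul,
        mul_comm, sub_self]

/-- A tuple with a nonzero coordinate gives all the tuples supported on that coordinate. -/
theorem single_mem [Fintype F] (hA : ∀ i < P.rank, P.A i (P.sim i) = 2)
    (hcase : (Fintype.card F = 3 ∧ P.ckSepThree = true) ∨ (4 ≤ Fintype.card F ∧ P.ckSepFour = true))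
    {v : Fin P.rank → F} (hv : v ∈ W) {i : Fin P.rank} (hvi : v i ≠ 0) (t : F) : Pi.single i t ∈ W := by
  classical
  have hex : ∀ j : Fin P.rank, ∃ a, Scales W a ∧ a i ≠ 0 ∧ (j ≠ i → a j = 0) := fun j => by
    rcases eq_or_ne i j with rfl | e
    · exact ⟨1, fun w hw => by rw [one_mul]; exact hw, one_ne_zero, fun q => absurd rfl q⟩
    · obtain ⟨a, h1, h2, h3⟩ := scales_separate W hW hA hcase e
      exact ⟨a, h1, h2, fun _ => h3⟩
  choose a ha1 ha2 ha3 using hex
  have key : ∀ s : Finset (Fin P.rank), ∃ w ∈ W, w i ≠ 0 ∧ ∀ j ∈ s, j ≠ i → w j = 0 := by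
    intro s
    induction s using Finset.induction_on with
    | empty => exact ⟨v, hv, hvi, fun j hj => absurd hj (Finset.notMem_empty j)⟩
    | insert j s hj ih =>
      obtain ⟨w, hw, hwi, hws⟩ := ih
      refine ⟨a j * w, ha1 j w hw, mul_ne_zero (ha2 j) hwi, fun l hl hli => ?_⟩
      rcases Finset.mem_insert.1 hl with rfl | hl
      · rw [Pi.mul_apply, ha3 l hli, zero_mul]
      · rw [Pi.mul_apply, hws l hl hli, mul_zero]
  obtain ⟨w, hw, hwi, hw0⟩ := key Finset.univ
  have hsingle : w = Pi.single i (w i) := by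
    funext j
    rcases eq_or_ne j i with rfl | e
    · rw [Pi.single_eq_same]
    · rw [Pi.single_eq_of_ne e, hw0 j (Finset.mem_univ _) e]
  have hsq : ∀ x : F, Pi.single i (x * x * w i) ∈ W := by
    intro x
    rcases eq_or_ne x 0 with rfl | hx
    · simp
    have := scales_single W hW i (Units.mk0 x hx) w hw
    convert this using 1
    funext j
    rcases eq_or_ne j i with rfl | e
    · rw [Pi.single_eq_same, Pi.mul_apply, hA _ j.2, Units.val_mk0, show (2 : ℤ) = ((2 : ℕ) : ℤ) from rfl,
        zpow_natCast, sq]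
    · rw [Pi.single_eq_of_ne e, Pi.mul_apply, hw0 j (Finset.mem_univ _) e, mul_zero]
  set s := t / w i with hs
  have ht : t = s * w i := by rw [hs, div_mul_cancel₀ _ hwi]
  rw [ht]
  by_cases h2 : (2 : F) = 0
  · haveI : CharP F 2 := CharTwo.of_one_ne_zero_of_two_eq_zero one_ne_zero h2
    obtain ⟨x, hx⟩ := FiniteField.isSquare_of_char_two (ringChar.eq F 2) s
    rw [hx]; exact hsq x
  · have h22 : (2 : F) ≠ 0 := h2
    have e : s * w i = (s + 1) / 2 * ((s + 1) / 2) * w i - (s - 1) / 2 * ((s - 1) / 2) * w i := by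
      field_simp
      ring
    rw [e, Pi.single_sub]
    exact sub_mem (hsq _) (hsq _)

end Separation

namespace Ok

variable (h : Ok D P)
include h

/-- A fundamental reflection keeps the other positive roots positive. -/
theorem isPos_w_of_ne_sim {i s : ℕ} (hi : i < P.rank) (hp : P.isPos s = true) (hne : s ≠ P.sim i) :
    P.isPos (P.w i s) = true := by
  rcases (h.w_spec hi (P.isPos_iff.1 hp).2).2.2.2.2.2.2.1 with e | e | e
  · exact absurd e hne
  · exfalso
    rw [e, h.ng_pos_iff (h.sim_lt hi), h.sim_pos hi] at hp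
    simp at hp
  · rw [← e]; exact hp

/-- A weakly closed subgroup of `U` is the unipotent radical of a parabolic subgroup. -/
theorem weakly_closed_eq_radical [Fintype F] (hC : P.ckComm = true)
    (hhigh : ∀ r, P.isPos r = true → 2 ≤ P.ht r → ∀ t, h.psiU (F := F) r t = 0)
    (hsimple : ∀ r, P.isPos r = true → P.ht r = 1 → ∃ i < P.rank, P.sim i = r)
    (hcase : (Fintype.card F = 3 ∧ P.ckSepThree = true) ∨ (4 ≤ Fintype.card F ∧ P.ckSepFour = true))
    (X : Subgroup (GL D.Idx F)) (hXU : X ≤ D.posUnipotent F)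
    (hwc : ∀ g ∈ D.group F, X.map (MulAut.conj g).toMonoidHom ≤ D.posUnipotent F →
      X.map (MulAut.conj g).toMonoidHom = X) :
    ∃ J : Set ℕ, (∀ j ∈ J, j < D.rank) ∧ X = D.unipotentRadical F J := by
  classical
  have hnorm : ∀ g ∈ D.group F, (∀ x ∈ X, g * x * g⁻¹ ∈ D.posUnipotent F) →
      g ∈ Subgroup.normalizer (X : Set (GL D.Idx F)) := by
    intro g hg hle
    have e := hwc g hg (by rintro _ ⟨x, hx, rfl⟩; exact hle x hx)
    refine Subgroup.mem_normalizer_iff.2 fun x => ⟨fun hx => e.le ⟨x, hx, rfl⟩, fun hx => ?_⟩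
    obtain ⟨y, hy, ey⟩ := e.ge hx
    have : y = x := (MulAut.conj g).injective ey
    exact this ▸ hy
  have hUN : D.posUnipotent F ≤ Subgroup.normalizer (X : Set (GL D.Idx F)) := fun u hu =>
    hnorm u (h.borel_le_group (Subgroup.mem_sup_left hu)) fun x hx =>
      mul_mem (mul_mem hu (hXU hx)) (inv_mem hu)
  have hHN : D.diagonalSubgroup F ≤ Subgroup.normalizer (X : Set (GL D.Idx F)) := fun d hd =>
    hnorm d (h.diagonal_le_group hd) fun x hx =>
      (Subgroup.mem_normalizer_iff.1 (h.diagonal_normalizes hd) x).1 (hXU hx)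
  set J : Finset ℕ := (Finset.range P.rank).filter fun i =>
    h.nG (F := F) i ∈ Subgroup.normalizer (X : Set (GL D.Idx F))
  have hJr : J ⊆ Finset.range P.rank := Finset.filter_subset _ _
  refine ⟨(J : Set ℕ), fun j hj => by rw [h.rank]; exact Finset.mem_range.1 (hJr (Finset.mem_coe.1 hj)), ?_⟩
  -- X is in the radical
  have hXR : X ≤ D.unipotentRadical F (↑J : Set ℕ) := by
    obtain ⟨w, hw, ht⟩ := h.exists_top hJr P.nroots [] (by simp) (by omega)
    have hnw : ∀ l : List ℕ, (∀ i ∈ l, i ∈ J) → h.nW (F := F) l ∈ Subgroup.normalizer (X : Set (GL D.Idx F)) := by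
      intro l
      induction l with
      | nil => intro _; rw [h.nW_nil]; exact one_mem _
      | cons a l ih =>
        intro hl
        rw [h.nW_cons]
        exact mul_mem (Finset.mem_filter.1 (hl a List.mem_cons_self)).2
          (ih fun i hi => hl i (List.mem_cons_of_mem _ hi))
    intro x hx
    refine (h.stab_top hC hJr hw ht (hXU hx)).2 (Subgroup.mem_sup_left (hXU ?_))
    simpa using (Subgroup.mem_normalizer_iff.1 (inv_mem (hnw w hw)) x).1 hx
  refine le_antisymm hXR ?_
  -- the image of X in the abelianisation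
  let X' : Subgroup ↥(D.posUnipotent F) := X.subgroupOf (D.posUnipotent F)
  let IX : Subgroup (Abelianization ↥(D.posUnipotent F)) := X'.map Abelianization.of
  let Ψ : (Fin P.rank → F) →+ Additive (Abelianization ↥(D.posUnipotent F)) :=
    { toFun := fun v => ∑ i : Fin P.rank, h.psiU (P.sim i.val) (v i)
      map_zero' := Finset.sum_eq_zero fun i _ => by rw [Pi.zero_apply, map_zero]
      map_add' := fun v w => by rw [← Finset.sum_add_distrib]; simp }
  let W : AddSubgroup (Fin P.rank → F) := (Subgroup.toAddSubgroup IX).comap Ψ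
  have hsinj : ∀ i < P.rank, ∀ j < P.rank, P.sim i = P.sim j → i = j := by
    intro i hi j hj e
    by_contra hne
    have h1 := h.rv_sim hi hi
    rw [if_pos rfl, e, h.rv_sim hj hi, if_neg (Ne.symm hne)] at h1
    omega
  have himg : ∀ (f : ℕ → F) (g : ↥(D.posUnipotent F)),
      (g : GL D.Idx F) = ((posL P).map fun r => h.xG r (f r)).prod →
      Additive.ofMul (Abelianization.of g) = Ψ fun i => f (P.sim i.val) := by
    intro f g hg
    have e := h.psiU_list ((posL P).map fun r => (r, f r))
      (fun y hy => by obtain ⟨r, hr, rfl⟩ := List.mem_map.1 hy; exact mem_posL.1 hr) g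
      (by rw [hg, List.map_map]; rfl)
    rw [List.map_map] at e
    rw [e, ← List.sum_toFinset _ (posL_sorted.imp fun hlt => Nat.ne_of_lt hlt)]
    show _ = ∑ i : Fin P.rank, h.psiU (P.sim i.val) (f (P.sim i.val))
    rw [← Finset.sum_subset (s₁ := (Finset.range P.rank).image P.sim)]
    · rw [Finset.sum_image fun a ha b hb => hsinj a (Finset.mem_range.1 ha) b (Finset.mem_range.1 hb),
        Finset.sum_range]
      rfl
    · intro r hr
      obtain ⟨i, hi, rfl⟩ := Finset.mem_image.1 hr
      exact List.mem_toFinset.2 (mem_posL.2 (h.sim_pos (Finset.mem_range.1 hi)))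
    · intro r hr hnr
      have hrp := mem_posL.1 (List.mem_toFinset.1 hr)
      refine hhigh r hrp ?_ _
      by_contra hlt
      have := h.ht_pos hrp
      obtain ⟨i, hi, rfl⟩ := hsimple r hrp (by omega)
      exact hnr (Finset.mem_image.2 ⟨i, Finset.mem_range.2 hi, rfl⟩)
  have hWscale : ∀ c : Fin P.rank → Fˣ, Scales W fun i => hchar P c (P.sim i.val) := by
    intro c v hv
    obtain ⟨x, hx, ex⟩ := hv
    obtain ⟨f, hf⟩ := h.pos_normal_form hC x.2
    have hd : h.hHom c ∈ D.diagonalSubgroup F := h.mem_diagonal_iff.2 ⟨c, rfl⟩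
    have hx' := (Subgroup.mem_normalizer_iff.1 (hHN hd) (x : GL D.Idx F)).1 (Subgroup.mem_subgroupOf.1 hx)
    let y : ↥(D.posUnipotent F) := ⟨_, hXU hx'⟩
    have hy : (y : GL D.Idx F) = ((posL P).map fun r => h.xG r (hchar P c r * f r)).prod := by
      show h.hHom c * (x : GL D.Idx F) * (h.hHom c)⁻¹ = _
      rw [hf, ← MulAut.conj_apply, map_list_prod, List.map_map]
      exact congrArg List.prod (List.map_congr_left fun r hr => h.hHom_xG c (P.isPos_iff.1 (mem_posL.1 hr)).2 _)
    have e1 := himg _ y hy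
    have e2 := himg _ x hf
    -- torus conjugation respects the kernel of Ψ
    show Ψ _ ∈ Subgroup.toAddSubgroup IX
    have hlin : ∀ w : Fin P.rank → F, Ψ w = 0 → Ψ ((fun i => hchar P c (P.sim i.val)) * w) = 0 := by
      intro w hw
      let σ : ↥(D.posUnipotent F) →* ↥(D.posUnipotent F) :=
        ((MulAut.conj (h.hHom c)).toMonoidHom.comp (D.posUnipotent F).subtype).codRestrict (D.posUnipotent F)
          fun z => (Subgroup.mem_normalizer_iff.1 (h.diagonal_normalizes hd) z).1 z.2
      have key : ∀ (i : Fin P.rank) (u : F), (MonoidHom.toAdditive (Abelianization.map σ))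
          (h.psiU (P.sim i.val) u) = h.psiU (P.sim i.val) (hchar P c (P.sim i.val) * u) := by
        intro i u
        have hp := h.sim_pos i.2
        rw [h.psiU_apply hp u (h.xG_mem_pos hp _), h.psiU_apply hp _ (h.xG_mem_pos hp _)]
        show Additive.ofMul (Abelianization.of (σ _)) = _
        congr 2
        exact Subtype.ext (h.hHom_xG c (P.isPos_iff.1 hp).2 u)
      have := congrArg (MonoidHom.toAdditive (Abelianization.map σ)) hw
      rw [map_zero] at this
      rw [← this]
      show ∑ i : Fin P.rank, h.psiU (P.sim i.val) (hchar P c (P.sim i.val) * w i) =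
        (MonoidHom.toAdditive (Abelianization.map σ)) (∑ i : Fin P.rank, h.psiU (P.sim i.val) (w i))
      rw [map_sum]
      exact Finset.sum_congr rfl fun i _ => (key i (w i)).symm
    have e4 : Ψ v = Ψ fun i => f (P.sim i.val) := by rw [← e2, ex]; rfl
    have e5 := hlin (v - fun i => f (P.sim i.val)) (by rw [map_sub, e4, sub_self])
    rw [mul_sub, map_sub, sub_eq_zero] at e5
    rw [e5]
    exact ⟨y, Subgroup.mem_subgroupOf.2 hx', e1⟩
  -- U is generated by X and the Levi part
  set L := h.genR (F := F) fun r => P.isPos r = true ∧ InJ P (↑J : Set ℕ) r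
  have hLU : L ≤ D.posUnipotent F := h.genR_le fun r hr t => h.xG_mem_pos hr.1 t
  have hcover : D.posUnipotent F ≤ X ⊔ L := by
    refine h.eq_pos_of_psiU hC hhigh hsimple fun i hi t => ?_
    by_cases hiJ : i ∈ J
    · have hin : InJ P (↑J : Set ℕ) (P.sim i) := ⟨h.sim_lt hi, fun m hm hmJ => by
        rw [h.rv_sim hi hm, if_neg]; rintro rfl; exact hmJ (Finset.mem_coe.2 hiJ)⟩
      exact ⟨⟨_, h.xG_mem_pos (h.sim_pos hi) t⟩,
        Subgroup.mem_sup_right (h.xG_mem_genR (S := fun r => P.isPos r = true ∧ InJ P (↑J : Set ℕ) r)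
          ⟨h.sim_pos hi, hin⟩ t),
        (h.psiU_apply (h.sim_pos hi) t _).symm⟩
    · have hnot : h.nG (F := F) i ∉ Subgroup.normalizer (X : Set (GL D.Idx F)) := fun e =>
        hiJ (Finset.mem_filter.2 ⟨Finset.mem_range.2 hi, e⟩)
      have hex : ∃ x ∈ X, h.nG i * x * (h.nG i)⁻¹ ∉ D.posUnipotent F := by
        by_contra hc
        push Not at hc
        exact hnot (hnorm _ (h.monomial_le_group (h.nG_mem hi)) hc)
      obtain ⟨x, hx, hxn⟩ := hex
      obtain ⟨f, hf⟩ := h.pos_normal_form hC (hXU hx)
      have hfi : f (P.sim i) ≠ 0 := by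
        intro e0
        apply hxn
        rw [hf, ← MulAut.conj_apply, map_list_prod, List.map_map]
        refine list_prod_mem fun z hz => ?_
        obtain ⟨r, hr, rfl⟩ := List.mem_map.1 hz
        show h.nG i * h.xG r (f r) * (h.nG i)⁻¹ ∈ _
        by_cases hr' : r = P.sim i
        · rw [hr', e0, h.xG_zero]; simp
        · rw [h.nG_xG hi (P.isPos_iff.1 (mem_posL.1 hr)).2]
          exact h.xG_mem_pos (h.isPos_w_of_ne_sim hi (mem_posL.1 hr) hr') _
      have hvW : (fun k : Fin P.rank => f (P.sim k.val)) ∈ W :=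
        ⟨⟨x, hXU hx⟩, Subgroup.mem_subgroupOf.2 hx, himg f ⟨x, hXU hx⟩ hf⟩
      obtain ⟨y, hy, ey⟩ := single_mem W hWscale (fun k hk => h.A_self hk) hcase hvW (i := ⟨i, hi⟩) hfi t
      refine ⟨y, Subgroup.mem_sup_left (Subgroup.mem_subgroupOf.1 hy), ey.trans ?_⟩
      show (∑ k : Fin P.rank, h.psiU (P.sim k.val) (Pi.single (M := fun _ => F) ⟨i, hi⟩ t k)) = _
      rw [Finset.sum_eq_single ⟨i, hi⟩]
      · rw [Pi.single_eq_same]
      · intro k _ hk; rw [Pi.single_eq_of_ne hk, map_zero]
      · simp
  intro u hu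
  have hRU : D.unipotentRadical F (↑J : Set ℕ) ≤ D.posUnipotent F := by
    rw [h.radical_eq]
    exact h.genR_le fun r hr t => h.xG_mem_pos ((h.out_iff _ r).1 hr).1 t
  have hu' := hcover (hRU hu)
  rw [← SetLike.mem_coe, Subgroup.coe_mul_of_right_le_normalizer_left _ _ (hLU.trans hUN)] at hu'
  obtain ⟨a, ha, b, hb, rfl⟩ := hu'
  have hbR : b ∈ D.unipotentRadical F (↑J : Set ℕ) := by
    have := mul_mem (inv_mem (hXR ha)) hu
    simpa using this
  have hbL : b ∈ D.leviSubgroup F (↑J : Set ℕ) := by
    rw [h.levi_eq]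
    exact Subgroup.mem_sup_right (h.genR_mono (fun r hr => hr.2) hb)
  have hb1 : b = 1 := Subgroup.mem_bot.1 (h.radical_inf_levi (F := F) hC (↑J : Set ℕ) ▸ Subgroup.mem_inf.2 ⟨hbR, hbL⟩)
  show a * b ∈ X
  rw [hb1, mul_one]; exact ha

end Ok

end Cfsg.Agent.Chev
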