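/-
A self-centralizing cyclic subgroup of order `q² + q + 1` of G₂(q).
-/
import Cfsg.Agent.Lib.Chev.G2SL3
import Cfsg.Agent.Lib.Chev.Smith
import Mathlib.FieldTheory.Finite.Extension
import Mathlib.RingTheory.RootsOfUnity.Basic
import Mathlib.RingTheory.IntegralDomain

set_option autoImplicit false
set_option maxHeartbeats 400000

namespace Cfsg.Agent.Chev.G2Singer

open Cfsg.Lie
open scoped Matrix MatrixGroups

variable {F K : Type*} [Field F] [Fintype F] [Field K] [Fintype K] (f : F →+* K) {q : ℕ}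

/-- The exponents of the characters of the roots. -/
def ev (q : ℤ) (r : ℕ) : ℤ :=
  [-(q + 2), q - 1, -1, -q - 1, q, -2 * q - 1, 2 * q + 1, -q, q + 1, 1, 1 - q, q + 2].getD r 0

theorem ev_inj {q : ℕ} (hq : 3 ≤ q) {r : ℕ} (hr : r < 12) :
    ¬ ((q : ℤ) * q + q + 1) ∣ ev q r ∧ ∀ s < 12, ((q : ℤ) * q + q + 1) ∣ ev q r - ev q s → r = s := by
  rcases Nat.lt_or_ge q 4 with h | h
  · obtain rfl : q = 3 := by omega
    revert hr r
    decide
  · have hN : 5 * (q : ℤ) + 1 ≤ (q : ℤ) * q + q + 1 := by nlinarith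
    generalize (q : ℤ) * q + q + 1 = N at hN ⊢
    have hq' : (4 : ℤ) ≤ q := by exact_mod_cast h
    refine ⟨fun hd => ?_, fun s hs hd => ?_⟩
    · have h2 : |ev q r| < N := by
        rw [abs_lt]; interval_cases r <;> simp [ev] <;> omega
      have := Int.eq_zero_of_abs_lt_dvd hd h2
      interval_cases r <;> simp [ev] at this <;> omega
    · have h2 : |ev q r - ev q s| < N := by
        rw [abs_lt]; interval_cases r <;> interval_cases s <;> simp [ev] <;> omega
      have := Int.eq_zero_of_abs_lt_dvd hd h2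
      interval_cases r <;> interval_cases s <;> simp [ev] at this <;> omega

theorem exists_lam (hq : Fintype.card F = q) (hK : Fintype.card K = q ^ 3) :
    ∃ l : Kˣ, orderOf l = q * q + q + 1 := by
  classical
  obtain ⟨g, hg⟩ := IsCyclic.exists_generator (α := Kˣ)
  have hq2 : 2 ≤ q := hq ▸ Fintype.one_lt_card
  have ho : orderOf g = q ^ 3 - 1 := by
    rw [orderOf_eq_card_of_forall_mem_zpowers hg, Nat.card_eq_fintype_card, Fintype.card_units, hK]
  have hm : q ^ 3 - 1 = (q * q + q + 1) * (q - 1) := by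
    obtain ⟨k, rfl⟩ : ∃ k, q = k + 1 := ⟨q - 1, by omega⟩
    rw [Nat.add_sub_cancel]
    refine Nat.sub_eq_of_eq_add ?_
    ring
  refine ⟨g ^ (q - 1), ?_⟩
  rw [orderOf_pow' g (by omega), ho, hm, Nat.gcd_mul_left_left, Nat.mul_div_cancel _ (by omega)]

theorem fixed_range (hq : Fintype.card F = q) {z : K} (hz : z ^ q = z) : ∃ a, f a = z := by
  classical
  have hq2 : 2 ≤ q := hq ▸ Fintype.one_lt_card
  by_contra hno
  push_neg at hno
  set p : Polynomial K := Polynomial.X ^ q - Polynomial.X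
  have hp : p ≠ 0 := FiniteField.X_pow_card_sub_X_ne_zero K hq2
  have hsub : insert z (Finset.univ.image f) ⊆ p.roots.toFinset := by
    intro y hy
    rw [Multiset.mem_toFinset, Polynomial.mem_roots hp, Polynomial.IsRoot, Polynomial.eval_sub, Polynomial.eval_pow,
      Polynomial.eval_X, sub_eq_zero]
    rcases Finset.mem_insert.1 hy with rfl | h
    · exact hz
    · obtain ⟨a, -, rfl⟩ := Finset.mem_image.1 h
      rw [← map_pow, ← hq, FiniteField.pow_card]
  have h1 := Finset.card_le_card hsub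
  rw [Finset.card_insert_of_notMem (by simpa using hno), Finset.card_image_of_injective _ f.injective,
    Finset.card_univ, hq] at h1
  have h2 := (Multiset.toFinset_card_le p.roots).trans (Polynomial.card_roots' p)
  rw [FiniteField.X_pow_card_sub_X_natDegree_eq K hq2] at h2
  omega

include f in
/-- The self-centralizing subgroup. -/
theorem exists_singer (hq : Fintype.card F = q) (h3 : 3 ≤ q) (hK : Fintype.card K = q ^ 3) :
    ∃ H : Subgroup ↥(chevG2.group F), IsCyclic ↥H ∧ Nat.card ↥H = q ^ 2 + q + 1 ∧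
      Subgroup.centralizer (H : Set ↥(chevG2.group F)) = H := by
  classical
  set N := q * q + q + 1 with hN
  obtain ⟨l, hl⟩ := exists_lam hq hK
  replace hl : orderOf l = N := hl
  -- the Frobenius map
  obtain ⟨σ, hσ⟩ : ∃ σ : K →+* K, ∀ t, σ t = t ^ q := by
    obtain ⟨p, hp⟩ := CharP.exists K
    haveI := hp
    haveI : Fact p.Prime := ⟨CharP.char_is_prime K p⟩
    haveI : CharP F p := (f.charP_iff f.injective p).2 hp
    obtain ⟨n, hn⟩ : ∃ n, Fintype.card F = p ^ n := by
      obtain ⟨n, -, hn⟩ := FiniteField.card F p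
      exact ⟨n, hn⟩
    exact ⟨iterateFrobenius K p n, fun t => by rw [iterateFrobenius_def, ← hn, hq]⟩
  have hσf : ∀ a, σ (f a) = f a := fun a => by rw [hσ, ← map_pow, ← hq, FiniteField.pow_card]
  have hpow3 : ∀ t : K, ((t ^ q) ^ q) ^ q = t := fun t => by
    rw [← pow_mul, ← pow_mul, show q * (q * q) = q ^ 3 by ring, ← hK, FiniteField.pow_card]
  -- the three eigenvalues
  set x : Fin 3 → Kˣ := ![l, l ^ q, l ^ (q * q)] with hx
  have hlN : l ^ N = 1 := by rw [← hl, pow_orderOf_eq_one]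
  have hprod : x 0 * x 1 * x 2 = 1 := by
    have : l ^ (1 + q + q * q) = 1 := by rw [show 1 + q + q * q = N by ring]; exact hlN
    simpa [hx, pow_add, mul_assoc] using this
  have hshift : ∀ i, (x i : K) ^ q = (x (i + 1) : K) := by
    intro i
    fin_cases i
    · simp [hx]
    · simp [hx, ← pow_mul]
    · show ((l ^ (q * q) : Kˣ) : K) ^ q = (l : K)
      rw [Units.val_pow_eq_pow_val, ← pow_mul, show q * q * q = q ^ 3 by ring, ← hK, FiniteField.pow_card]
  have hinj : Function.Injective fun i => (x i : K) := by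
    intro i j e
    have e' : x i = x j := Units.ext e
    have hq2 : q < q * q := by nlinarith
    have key : ∀ a b : ℕ, a < N → b < N → l ^ a = l ^ b → a = b := fun a b ha hb e => by
      rw [pow_inj_mod, hl, Nat.mod_eq_of_lt ha, Nat.mod_eq_of_lt hb] at e
      exact e
    have h0 : l ^ 1 = x 0 := by simp [hx]
    fin_cases i <;> fin_cases j <;> try rfl
    all_goals
      exfalso
      simp [hx] at e'
    · have := key 1 q (by omega) (by omega) (by rw [pow_one]; exact e'); omega
    · have := key 1 (q * q) (by omega) (by omega) (by rw [pow_one]; exact e'); omega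
    · have := key q 1 (by omega) (by omega) (by rw [pow_one]; exact e'); omega
    · have := key q (q * q) (by omega) (by omega) e'; omega
    · have := key (q * q) 1 (by omega) (by omega) (by rw [pow_one]; exact e'); omega
    · have := key (q * q) q (by omega) (by omega) e'; omega
  have hp0 := hshift 0
  have hp1 := hshift 1
  have hp2 := hshift 2
  rw [show (0 : Fin 3) + 1 = 1 from rfl] at hp0
  rw [show (1 : Fin 3) + 1 = 2 from rfl] at hp1
  rw [show (2 : Fin 3) + 1 = 0 from rfl] at hp2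
  obtain ⟨s1, hs1⟩ := fixed_range f hq (z := (x 0 : K) + x 1 + x 2) (by
    rw [← hσ, map_add, map_add, hσ, hσ, hσ, hp0, hp1, hp2]; ring)
  obtain ⟨s2, hs2⟩ := fixed_range f hq (z := (x 0 : K) * x 1 + x 0 * x 2 + x 1 * x 2) (by
    rw [← hσ, map_add, map_add, map_mul, map_mul, map_mul, hσ, hσ, hσ, hp0, hp1, hp2]; ring)
  let A : SL(3, F) := ⟨!![0, 1, 0; 0, 0, 1; 1, -s2, s1], by simp [Matrix.det_fin_three]⟩
  -- diagonalisation
  let P0 : Matrix (Fin 3) (Fin 3) K := Matrix.of fun k i => (x i : K) ^ (k : ℕ)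
  have hdet : P0.det ≠ 0 := by
    rw [show P0 = (Matrix.vandermonde fun i => (x i : K))ᵀ from rfl, Matrix.det_transpose,
      Matrix.det_vandermonde_ne_zero_iff]
    exact hinj
  set δ := P0.det with hδ
  let P : SL(3, K) := ⟨P0 * Matrix.diagonal ![δ⁻¹, 1, 1], by
    rw [Matrix.det_mul, Matrix.det_diagonal, Fin.prod_univ_three, ← hδ]
    simp [hdet]⟩
  let diagSL : (a : Fin 3 → Kˣ) → a 0 * a 1 * a 2 = 1 → SL(3, K) := fun a ha =>
    ⟨Matrix.diagonal fun i => (a i : K), by
      rw [Matrix.det_diagonal, Fin.prod_univ_three]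
      simpa using congrArg Units.val ha⟩
  set Dx := diagSL x hprod with hDx
  have hcub : ∀ i, (x i : K) ^ 3 = 1 + -f s2 * x i + f s1 * (x i : K) ^ 2 := by
    have h : (x 0 : K) * x 1 * x 2 = 1 := by simpa using congrArg Units.val hprod
    intro i
    rw [hs1, hs2, ← h]
    match i with
    | 0 => ring
    | 1 => ring
    | 2 => ring
  have hAP : Matrix.SpecialLinearGroup.map f A * P = P * Dx := by
    apply Subtype.ext
    rw [Matrix.SpecialLinearGroup.coe_mul, Matrix.SpecialLinearGroup.coe_mul, Matrix.SpecialLinearGroup.map_apply_coe,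
      RingHom.mapMatrix_apply]
    show (!![0, 1, 0; 0, 0, 1; 1, -s2, s1] : Matrix (Fin 3) (Fin 3) F).map f * (P0 * Matrix.diagonal ![δ⁻¹, 1, 1]) =
      P0 * Matrix.diagonal ![δ⁻¹, 1, 1] * Matrix.diagonal fun i => (x i : K)
    rw [← Matrix.mul_assoc, Matrix.mul_assoc P0, Matrix.diagonal_mul_diagonal,
      show (fun i => ![δ⁻¹, 1, 1] i * (x i : K)) = fun i => (x i : K) * ![δ⁻¹, 1, 1] i from funext fun i => mul_comm _ _,
      ← Matrix.diagonal_mul_diagonal, ← Matrix.mul_assoc P0]
    congr 1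
    ext k i
    rw [Matrix.mul_apply, Matrix.mul_diagonal, Fin.sum_univ_three]
    fin_cases k <;> simp [P0, pow_two]
    linear_combination -hcub i
  set gA : ↥(chevG2.group F) := ⟨G2SL3.rho A, G2SL3.rho_mem A⟩
  have hgA : gmap chevG2 f (G2SL3.rho A) = G2SL3.rho P * G2SL3.rho Dx * (G2SL3.rho P)⁻¹ := by
    rw [G2SL3.rho_gmap, ← map_inv, ← map_mul, ← map_mul, eq_mul_inv_iff_mul_eq.2 hAP]
  have hDxt : G2SL3.rho Dx = G2.ok.hHom (G2SL3.cpar x) := G2SL3.rho_diag x hprod Dx rfl
  -- the order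
  have hgord : orderOf gA = N := by
    rw [← hl]
    refine orderOf_eq_orderOf_iff.2 fun k => ?_
    rw [← Subtype.coe_inj, SubgroupClass.coe_pow, OneMemClass.coe_one]
    show G2SL3.rho A ^ k = 1 ↔ _
    rw [← map_eq_one_iff (gmap chevG2 f) (gmap_injective f), map_pow, hgA, conj_pow, conj_eq_one_iff, hDxt, ← map_pow,
      map_eq_one_iff _ (G2.ok.hHom_injective smith_G2 (by decide))]
    constructor
    · intro e
      have h0 := congrFun e ⟨0, by decide⟩
      simpa [G2SL3.cpar, hx] using h0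
    · intro e
      have hxk : ∀ i, x i ^ k = 1 := fun i => by
        fin_cases i <;> simp only [hx] <;>
          first | exact e | (show (l ^ _) ^ k = 1; rw [← pow_mul, mul_comm, pow_mul, e, one_pow])
      funext j
      rw [Pi.pow_apply, G2SL3.cpar]
      split_ifs
      · exact hxk 0
      · rw [mul_pow, ← pow_mul, mul_comm 2, pow_mul, hxk, hxk, one_pow, mul_one]; rfl
  refine ⟨Subgroup.zpowers gA, inferInstance, by rw [Nat.card_zpowers, hgord, hN]; ring, ?_⟩
  -- the centralizer
  have hle : Subgroup.zpowers gA ≤ Subgroup.centralizer (Subgroup.zpowers gA : Set ↥(chevG2.group F)) := by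
    intro a ha b hb
    obtain ⟨i, rfl⟩ := ha
    obtain ⟨j, rfl⟩ := hb
    show gA ^ j * gA ^ i = gA ^ i * gA ^ j
    rw [← zpow_add, ← zpow_add, add_comm]
  set C := Subgroup.centralizer (Subgroup.zpowers gA : Set ↥(chevG2.group F))
  have hreg : ∀ r < G2.pk.nroots, hchar G2.pk (G2SL3.cpar x) r = ((l ^ ev q r : Kˣ) : K) := by
    intro r hr
    rw [hchar, show (Finset.univ : Finset (Fin G2.pk.rank)) = {⟨0, by decide⟩, ⟨1, by decide⟩} from
      by decide +kernel, Finset.prod_pair (by decide)]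
    simp only [G2SL3.cpar, if_true, hx]
    rw [← Units.val_zpow_eq_zpow_val, ← Units.val_zpow_eq_zpow_val, ← Units.val_mul]
    congr 1
    have hr12 : r < 12 := hr
    have hv := G2SL3.cart_vals ⟨r, Nat.lt_trans hr12 (by norm_num)⟩ hr12
    show l ^ G2.pk.A 0 r * ((l : Kˣ) ^ 2 * l ^ q) ^ G2.pk.A 1 r = _
    rw [← zpow_natCast l 2, ← zpow_natCast l q, ← zpow_add, ← zpow_mul, ← zpow_add]
    congr 1
    interval_cases r <;> simp [List.cons.injEq] at hv <;> simp [ev, hv] <;> ring
  have hzp : ∀ e : ℤ, l ^ e = 1 ↔ ((q : ℤ) * q + q + 1) ∣ e := fun e => by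
    rw [← orderOf_dvd_iff_zpow_eq_one, hl, show ((q : ℤ) * q + q + 1) = ((N : ℕ) : ℤ) by simp [hN]]
  -- a parameter for each element of the centralizer
  have hpar : ∀ c : C, ∃ a : Fin 3 → Kˣ, ∃ ha : a 0 * a 1 * a 2 = 1, (a 0) ^ N = 1 ∧
      gmap chevG2 f (c.1.1) = G2SL3.rho P * G2SL3.rho (diagSL a ha) * (G2SL3.rho P)⁻¹ ∧
      (a 1 : K) = (a 0 : K) ^ q := by
    intro c
    set c' := (G2SL3.rho P)⁻¹ * gmap chevG2 f c.1.1 * G2SL3.rho P with hc'
    have hmem : c' ∈ chevG2.group K := by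
      refine mul_mem (mul_mem (inv_mem (G2SL3.rho_mem P)) ?_) (G2SL3.rho_mem P)
      have h : (chevG2.group F).map (gmap chevG2 f) ≤ chevG2.group K := by
        rw [Subgroup.map_le_iff_le_comap]
        exact G2.ok.group_le fun r hr t => by
          rw [Subgroup.mem_comap, G2.ok.gmap_xG f hr]; exact G2.ok.mem_group_of_xG _ _
      exact h ⟨_, c.1.2, rfl⟩
    have hcom : Commute c' (G2SL3.rho Dx) := by
      have h1 : gA * c.1 = c.1 * gA := c.2 gA (Subgroup.mem_zpowers gA)
      have h2 := congrArg (fun g : ↥(chevG2.group F) => gmap chevG2 f (g : GL chevG2.Idx F)) h1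
      simp only [Subgroup.coe_mul, map_mul] at h2
      rw [show ((gA : GL chevG2.Idx F)) = G2SL3.rho A from rfl, hgA] at h2
      show c' * G2SL3.rho Dx = G2SL3.rho Dx * c'
      calc c' * G2SL3.rho Dx
          = (G2SL3.rho P)⁻¹ * (gmap chevG2 f c.1.1 * (G2SL3.rho P * G2SL3.rho Dx * (G2SL3.rho P)⁻¹)) * G2SL3.rho P := by
            rw [hc']; group
        _ = G2SL3.rho Dx * c' := by rw [← h2, hc']; group
    rw [hDxt] at hcom
    have hd := G2.ok.centralizer_regular ckComm_G2 (G2SL3.cpar x)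
      (fun r hr e => by
        rw [hreg r hr] at e
        exact (ev_inj h3 hr).1 ((hzp _).1 (Units.ext (e.trans Units.val_one.symm))))
      (fun r hr s hs e => by
        rw [hreg r hr, hreg s hs] at e
        refine (ev_inj h3 hr).2 s hs ((hzp _).1 ?_)
        rw [zpow_sub, Units.ext e, mul_inv_cancel]) hmem hcom
    obtain ⟨cc, hcc⟩ := G2.ok.mem_diagonal_iff.1 hd
    let a : Fin 3 → Kˣ := ![cc ⟨0, by decide⟩, cc ⟨1, by decide⟩ * (cc ⟨0, by decide⟩ ^ 2)⁻¹,
      (cc ⟨0, by decide⟩ * (cc ⟨1, by decide⟩ * (cc ⟨0, by decide⟩ ^ 2)⁻¹))⁻¹]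
    have ha : a 0 * a 1 * a 2 = 1 := mul_inv_cancel (a 0 * a 1)
    have hρ : G2SL3.rho (diagSL a ha) = c' := by
      rw [G2SL3.rho_diag a ha _ rfl, ← hcc]
      congr 1
      funext j
      obtain ⟨j, hj⟩ := j
      have hj2 : j < 2 := hj
      interval_cases j <;> simp [G2SL3.cpar, a]
    have hc : gmap chevG2 f c.1.1 = G2SL3.rho P * G2SL3.rho (diagSL a ha) * (G2SL3.rho P)⁻¹ := by
      rw [hρ, hc']; group
    -- the Frobenius relation
    have hfix : gmap chevG2 σ (gmap chevG2 f c.1.1) = gmap chevG2 f c.1.1 := by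
      apply Units.ext
      rw [coe_gmap, coe_gmap, Matrix.map_map]
      congr 1
      funext z
      exact hσf z
    rw [hc, ← map_inv, ← map_mul, ← map_mul, G2SL3.rho_gmap] at hfix
    have hSL := G2SL3.rho_injective hfix
    rw [map_mul, map_mul, map_inv] at hSL
    set W : SL(3, K) := P⁻¹ * Matrix.SpecialLinearGroup.map σ P with hW
    have hWa : W * Matrix.SpecialLinearGroup.map σ (diagSL a ha) = diagSL a ha * W := by
      calc W * Matrix.SpecialLinearGroup.map σ (diagSL a ha)
          = P⁻¹ * (Matrix.SpecialLinearGroup.map σ P * Matrix.SpecialLinearGroup.map σ (diagSL a ha) *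
              (Matrix.SpecialLinearGroup.map σ P)⁻¹) * Matrix.SpecialLinearGroup.map σ P := by rw [hW]; group
        _ = diagSL a ha * W := by rw [hSL, hW]; group
    have hWm : (W : Matrix (Fin 3) (Fin 3) K) = !![0, 0, δ; (σ δ)⁻¹, 0, 0; 0, 1, 0] := by
      have h1 : (P : Matrix (Fin 3) (Fin 3) K) * !![0, 0, δ; (σ δ)⁻¹, 0, 0; 0, 1, 0] =
          (P : Matrix (Fin 3) (Fin 3) K).map σ := by
        show P0 * Matrix.diagonal ![δ⁻¹, 1, 1] * _ = (P0 * Matrix.diagonal ![δ⁻¹, 1, 1]).map σ
        ext k i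
        have e0 : ∀ k : ℕ, σ ((x 0 : K) ^ k) = (x 1 : K) ^ k := fun k => by rw [map_pow, hσ, hp0]
        have e1 : ∀ k : ℕ, σ ((x 1 : K) ^ k) = (x 2 : K) ^ k := fun k => by rw [map_pow, hσ, hp1]
        have e2 : ∀ k : ℕ, σ ((x 2 : K) ^ k) = (x 0 : K) ^ k := fun k => by rw [map_pow, hσ, hp2]
        rw [Matrix.mul_apply, Matrix.map_apply, Matrix.mul_diagonal, Fin.sum_univ_three]
        simp only [Matrix.mul_diagonal, P0, Matrix.of_apply, map_mul]
        fin_cases i <;> simp [e0, e1, e2, map_inv₀, hdet] <;> field_simp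
      rw [hW, Matrix.SpecialLinearGroup.coe_mul, Matrix.SpecialLinearGroup.map_apply_coe, RingHom.mapMatrix_apply, ← h1,
        ← Matrix.mul_assoc, ← Matrix.SpecialLinearGroup.coe_mul, inv_mul_cancel, Matrix.SpecialLinearGroup.coe_one,
        Matrix.one_mul]
    have hm := congrArg (fun M : SL(3, K) => (M : Matrix (Fin 3) (Fin 3) K)) hWa
    simp only [Matrix.SpecialLinearGroup.coe_mul, Matrix.SpecialLinearGroup.map_apply_coe, RingHom.mapMatrix_apply,
      hWm] at hm
    rw [show ((diagSL a ha : SL(3, K)) : Matrix (Fin 3) (Fin 3) K) = Matrix.diagonal fun i => (a i : K) from rfl,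
      Matrix.diagonal_map (map_zero σ)] at hm
    have m0 := congrFun (congrFun hm 1) 0
    have m1 := congrFun (congrFun hm 2) 1
    simp [Matrix.mul_diagonal, Matrix.diagonal_mul, hσ] at m0 m1
    have a1 : (a 1 : K) = (a 0 : K) ^ q := by
      have hne : ((δ ^ q)⁻¹ : K) ≠ 0 := inv_ne_zero (pow_ne_zero _ hdet)
      exact mul_right_cancel₀ hne (by rw [mul_comm ((a 0 : K) ^ q)]; first | exact m0.symm | exact m0)
    refine ⟨a, ha, ?_, hc, a1⟩
    apply Units.ext
    have hp : (a 0 : K) * a 1 * a 2 = 1 := by simpa using congrArg Units.val ha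
    rw [Units.val_pow_eq_pow_val, Units.val_one, ← hp, a1, ← m1, a1, hN, pow_succ', pow_add, pow_mul]
    ring
  choose a ha haN hac ha1 using hpar
  haveI : NeZero N := ⟨by omega⟩
  let φ : C → rootsOfUnity N K := fun c => ⟨a c 0, haN c⟩
  have hφ : Function.Injective φ := by
    intro c d e
    have e0 : a c 0 = a d 0 := congrArg Subtype.val e
    have e1 : a c 1 = a d 1 := Units.ext (by rw [ha1, ha1, e0])
    have e2 : a c 2 = a d 2 := by
      have h1 := ha c
      rw [e0, e1] at h1
      exact mul_left_cancel (h1.trans (ha d).symm)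
    have ea : a c = a d := funext fun i => by fin_cases i <;> assumption
    refine Subtype.ext (Subtype.ext (gmap_injective f ?_))
    rw [hac c, hac d]
    simp only [ea]
  have hcard : Nat.card C ≤ N := (Nat.card_le_card_of_injective φ hφ).trans (by
    exact card_rootsOfUnity K N)
  exact (Subgroup.eq_of_le_of_card_ge hle (by rw [Nat.card_zpowers, hgord]; exact hcard)).symm

end Cfsg.Agent.Chev.G2Singer
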