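/-
The 28 × 14 integral matrix intertwining the adjoint module of type G2 with that of type D4 along the
fixed root elements of triality, and its finite checks.
-/
import Cfsg.Agent.Lib.Chev.AllC
import Cfsg.Agent.Lib.Chev.EnumD4
import Cfsg.Agent.Lib.Chev.Aut.AutCheck

set_option autoImplicit false

namespace Cfsg.Agent.Chev.G2D4

/-- The columns. -/
def EL : List V := [[(0, -1)], [(1, -1)], [(2, -1), (3, -1), (6, 1)], [(4, 1), (7, -1), (8, -1)],
  [(5, 1), (10, 1), (11, 1)], [(9, 1)], [(14, 1)], [(18, 1), (13, 1), (12, 1)],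
  [(15, -1), (16, -1), (19, 1)], [(17, 1), (20, -1), (21, -1)], [(22, -1)], [(23, -1)],
  [(24, 1), (26, 1), (27, 1)], [(25, 1)]]

/-- Column `c`. -/
def eC (c : ℕ) : V := EL.getD c []

/-- The leading code of column `c`. -/
def lead0 (c : ℕ) : ℕ := ((eC c).getD 0 (0, 0)).1

/-- Root codes of least level in the first twelve columns. -/
def mins : List ℕ := [0, 1, 2, 4, 5, 9, 14, 12, 15, 17, 22, 23]

/-- A product of three divided powers applied to column `c`. -/
def col3 (r₁ r₂ r₃ a b d c : ℕ) : V :=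
  app (D4.pk.colL a r₁) (app (D4.pk.colL b r₂) (app (D4.pk.colL d r₃) (eC c)))

/-- The part of total degree `k`. -/
def lhs3 (r₁ r₂ r₃ k c : ℕ) : V :=
  (List.range 4).flatMap fun a => (List.range 4).flatMap fun b => (List.range 4).flatMap fun d =>
    bif Nat.beq (a + b + d) k then col3 r₁ r₂ r₃ a b d c else []

/-- A triple intertwines with a root of G2. -/
def ck3e (r₁ r₂ r₃ g : ℕ) : Bool :=
  Nat.blt r₁ 24 && Nat.blt r₂ 24 && Nat.blt r₃ 24 && Nat.blt g 12 &&
  (List.range 10).all fun k => (List.range 14).all fun c =>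
    veq (lhs3 r₁ r₂ r₃ k c) (bif Nat.blt k 4 then app eC (G2.pk.colL k g c) else [])

/-- A single root intertwines with a root of G2. -/
def ck1e (r g : ℕ) : Bool :=
  Nat.blt r 24 && Nat.blt g 12 &&
  (List.range 4).all fun k => (List.range 14).all fun c =>
    veq (app (D4.pk.colL k r) (eC c)) (app eC (G2.pk.colL k g c))

theorem cksE : ((List.range 14).all fun c => (eC c).all fun p => Nat.blt p.1 28) = true ∧
    ((List.range 14).all fun c => (List.range 14).all fun c' =>
      cf (eC c') (lead0 c) == bif Nat.beq c' c then cf (eC c) (lead0 c) else 0) = true ∧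
    ((List.range 14).all fun c => Nat.blt (lead0 c) 28 &&
      (cf (eC c) (lead0 c) == 1 || cf (eC c) (lead0 c) == -1)) = true := by decide +kernel

theorem cksT : ck3e 18 13 12 7 = true ∧ ck3e 5 10 11 4 = true ∧ ck1e 14 6 = true ∧ ck1e 9 5 = true := by
  decide +kernel

theorem cksM : ((List.range 12).all fun c => Nat.blt (mins.getD c 24) 24 &&
      (cf (eC c) (mins.getD c 24) == 1 || cf (eC c) (mins.getD c 24) == -1) &&
      (eC c).all fun p => Nat.blt p.1 24 && Nat.ble (mins.getD c 24) p.1) = true ∧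
    ((List.range 24).all fun r => (List.range 14).any fun c =>
      cf (eC c) r == 1 || cf (eC c) r == -1) = true := by decide +kernel

/-- No fixed Weyl element but the identity raises all the least roots. -/
theorem cksW : (D4.enumL.all fun w =>
    (!((List.range 12).all fun c => Nat.ble (mins.getD c 24) (wl D4.pk (orbWord D4.orbsT w) (mins.getD c 24)))) ||
      D4.pk.allRoots.all fun r => Nat.beq (wl D4.pk (orbWord D4.orbsT w) r) r) = true := by decide +kernel

theorem g2dim : G2.pk.nroots = 12 ∧ G2.pk.dim = 14 ∧ G2.pk.rank = 2 ∧ G2.pk.sim 0 = 7 ∧ G2.pk.sim 1 = 6 ∧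
    G2.pk.ng 7 = 4 ∧ G2.pk.ng 6 = 5 := by decide +kernel

theorem d4dim : D4.pk.nroots = 24 ∧ D4.pk.dim = 28 ∧ D4.pk.rank = 4 := by decide +kernel

theorem d4laced : Aut.ckLg D4.pk [] = true := by decide +kernel

/-- The symmetries of order 3 of the diagram. -/
theorem triality_perms : ∀ f : Fin 4 → Fin 4, (∀ i, f (f (f i)) = i) → (∃ i, f i ≠ i) →
    (∀ i j : Fin 4, i ≠ j → Aut.bond D4.pk (f i).val (f j).val = Aut.bond D4.pk i.val j.val) →
    (∀ i : Fin 4, (f i).val = [2, 1, 3, 0].getD i.val 9) ∨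
      (∀ i : Fin 4, (f (f i)).val = [2, 1, 3, 0].getD i.val 9) := by decide +kernel

end Cfsg.Agent.Chev.G2D4
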