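/-
The subgroup of the Chevalley group of type D4 fixed by triality is the Chevalley group of type G2.
-/
import Cfsg.Agent.Lib.Chev.TwD4
import Cfsg.Agent.Lib.Chev.G2D4Embed
import Cfsg.Agent.Lib.Chev.Check.G2
import Cfsg.Agent.Lib.Chev.Normal

set_option autoImplicit false
set_option maxHeartbeats 1000000

namespace Cfsg.Agent.Chev.G2D4

open Cfsg.Lie
open scoped Matrix

theorem cf_flatMap {α : Type*} (L : List α) (f : α → V) (k : ℕ) :
    cf (L.flatMap f) k = (L.map fun x => cf (f x) k).sum := by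
  induction L with
  | nil => rfl
  | cons a L ih => rw [List.flatMap_cons, cf_append, List.map_cons, List.sum_cons, ih]

theorem cf_flatRange (n : ℕ) (f : ℕ → V) (k : ℕ) :
    cf ((List.range n).flatMap f) k = ∑ a ∈ Finset.range n, cf (f a) k := by
  rw [cf_flatMap]; rfl

theorem valid_app {P : Pk} {f : ℕ → V} {v : V} (hv : Valid P v) (hf : ∀ c < P.dim, Valid P (f c)) :
    Valid P (app f v) := by
  intro p hp
  simp only [app, List.mem_flatMap, List.mem_map] at hp
  obtain ⟨a, ha, b, hb, rfl⟩ := hp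
  exact hf a.1 (hv a ha) b hb

/-- The rectangular matrix of sparse columns. -/
def opR (f : ℕ → V) : Matrix chevD4.Idx chevG2.Idx ℤ :=
  Matrix.of fun row col => cf (f (code G2.pk col)) (code D4.pk row)

theorem opM_opR (f g : ℕ → V) (hg : ∀ c < G2.pk.dim, Valid D4.pk (g c)) :
    opM chevD4 D4.pk f * opR g = opR fun c => app f (g c) := by
  ext row col
  rw [Matrix.mul_apply]
  show _ = cf (app f (g (code G2.pk col))) (code D4.pk row)
  rw [D4.ok.cf_app f (hg _ (G2.ok.code_lt col))]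
  exact Finset.sum_congr rfl fun x _ => mul_comm _ _

theorem opR_opM (f g : ℕ → V) (hg : ∀ c < G2.pk.dim, Valid G2.pk (g c)) :
    opR f * opM chevG2 G2.pk g = opR fun c => app f (g c) := by
  ext row col
  rw [Matrix.mul_apply]
  show _ = cf (app f (g (code G2.pk col))) (code D4.pk row)
  rw [G2.ok.cf_app f (hg _ (G2.ok.code_lt col))]
  exact Finset.sum_congr rfl fun x _ => mul_comm _ _

theorem opR_ext {f g : ℕ → V} (e : ∀ c < G2.pk.dim, ∀ k, cf (f c) k = cf (g c) k) : opR f = opR g := by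
  ext row col
  exact e _ (G2.ok.code_lt col) _

theorem valid_eC {c : ℕ} (hc : c < G2.pk.dim) : Valid D4.pk (eC c) := by
  have h := cksE.1
  simp only [List.all_eq_true, List.mem_range, Nat.blt_eq] at h
  intro p hp
  have := h c (g2dim.2.1 ▸ hc) p hp
  rw [d4dim.2.1]; exact this

/-- The three roots applied in turn. -/
def M3 (r₁ r₂ r₃ a b d : ℕ) : Matrix chevD4.Idx chevG2.Idx ℤ :=
  Ek chevD4 D4.pk a r₁ * (Ek chevD4 D4.pk b r₂ * (Ek chevD4 D4.pk d r₃ * opR eC))

theorem M3_eq {r₁ r₂ r₃ : ℕ} (h2 : r₂ < 24) (h3 : r₃ < 24) (a b d : ℕ) :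
    M3 r₁ r₂ r₃ a b d = opR fun c => col3 r₁ r₂ r₃ a b d c := by
  have v3 : ∀ c < G2.pk.dim, Valid D4.pk (app (D4.pk.colL d r₃) (eC c)) := fun c hc =>
    valid_app (valid_eC hc) fun c' hc' => D4.ok.valid_colL (by rw [d4dim.1]; exact h3) hc'
  have v2 : ∀ c < G2.pk.dim, Valid D4.pk (app (D4.pk.colL b r₂) (app (D4.pk.colL d r₃) (eC c))) := fun c hc =>
    valid_app (v3 c hc) fun c' hc' => D4.ok.valid_colL (by rw [d4dim.1]; exact h2) hc'
  rw [M3, Ek, Ek, Ek, opM_opR _ _ fun c hc => valid_eC hc, opM_opR _ _ v3, opM_opR _ _ v2]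
  rfl

theorem deg_sum {r₁ r₂ r₃ g : ℕ} (hck : ck3e r₁ r₂ r₃ g = true) {k : ℕ} (hk : k < 10) :
    ∑ a ∈ Finset.range 4, ∑ b ∈ Finset.range 4, ∑ d ∈ Finset.range 4,
      (if a + b + d = k then M3 r₁ r₂ r₃ a b d else 0) =
    if k < 4 then opR eC * Ek chevG2 G2.pk k g else 0 := by
  simp only [ck3e, Bool.and_eq_true, Nat.blt_eq, List.all_eq_true, List.mem_range] at hck
  obtain ⟨⟨⟨⟨-, h2⟩, h3⟩, hg⟩, hall⟩ := hck
  have e : opR (fun c => lhs3 r₁ r₂ r₃ k c) =
      opR fun c => bif Nat.blt k 4 then app eC (G2.pk.colL k g c) else [] :=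
    opR_ext fun c hc => veq_cf (hall k hk c (g2dim.2.1 ▸ hc))
  ext row col
  have e1 := congrFun (congrFun e row) col
  simp only [Matrix.sum_apply]
  have e2 : ∀ a b d : ℕ, (if a + b + d = k then M3 r₁ r₂ r₃ a b d else 0) row col =
      cf (bif Nat.beq (a + b + d) k then col3 r₁ r₂ r₃ a b d (code G2.pk col) else []) (code D4.pk row) := by
    intro a b d
    rw [nbeq]
    by_cases h : a + b + d = k
    · simp [h, M3_eq h2 h3, opR]
    · simp [h, cf_nil]
  simp only [e2]
  have e3 : cf (lhs3 r₁ r₂ r₃ k (code G2.pk col)) (code D4.pk row) =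
      ∑ a ∈ Finset.range 4, ∑ b ∈ Finset.range 4, ∑ d ∈ Finset.range 4,
        cf (bif Nat.beq (a + b + d) k then col3 r₁ r₂ r₃ a b d (code G2.pk col) else []) (code D4.pk row) := by
    rw [lhs3, cf_flatRange]
    refine Finset.sum_congr rfl fun a _ => ?_
    rw [cf_flatRange]
    refine Finset.sum_congr rfl fun b _ => ?_
    rw [cf_flatRange]
  rw [← e3]
  refine e1.trans ?_
  by_cases h : k < 4
  · rw [if_pos h, Ek, opR_opM _ _ fun c hc => G2.ok.valid_colL (by rw [g2dim.1]; exact hg) hc]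
    simp [opR, blt_t h]
  · simp [opR, blt_f h, h, cf_nil]

theorem single_eq {r g : ℕ} (hck : ck1e r g = true) {k : ℕ} (hk : k < 4) :
    Ek chevD4 D4.pk k r * opR eC = opR eC * Ek chevG2 G2.pk k g := by
  simp only [ck1e, Bool.and_eq_true, Nat.blt_eq, List.all_eq_true, List.mem_range] at hck
  obtain ⟨⟨-, hg⟩, hall⟩ := hck
  rw [Ek, Ek, opM_opR _ _ fun c hc => valid_eC hc,
    opR_opM _ _ fun c hc => G2.ok.valid_colL (by rw [g2dim.1]; exact hg) hc]
  exact opR_ext fun c hc => veq_cf (hall k hk c (g2dim.2.1 ▸ hc))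

variable (F : Type*) [Field F]

/-- The embedding over the field. -/
def Ef : Matrix chevD4.Idx chevG2.Idx F := (opR eC).map (Int.castRingHom F)

variable {F}

theorem castMat (A : Matrix chevD4.Idx chevD4.Idx ℤ) (B : Matrix chevD4.Idx chevG2.Idx ℤ) :
    (A * B).map (Int.castRingHom F) = cM chevD4 F A * B.map (Int.castRingHom F) :=
  Matrix.map_mul

theorem castMat' (B : Matrix chevD4.Idx chevG2.Idx ℤ) (A : Matrix chevG2.Idx chevG2.Idx ℤ) :
    (B * A).map (Int.castRingHom F) = B.map (Int.castRingHom F) * cM chevG2 F A :=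
  Matrix.map_mul

/-- The pair intertwines. -/
def Rel (g : GL chevD4.Idx F) (g' : GL chevG2.Idx F) : Prop :=
  (g : Matrix chevD4.Idx chevD4.Idx F) * Ef F = Ef F * (g' : Matrix chevG2.Idx chevG2.Idx F)

theorem rel_one : Rel (1 : GL chevD4.Idx F) 1 := by simp [Rel]

theorem rel_mul {g₁ g₂ : GL chevD4.Idx F} {a₁ a₂ : GL chevG2.Idx F} (h₁ : Rel g₁ a₁) (h₂ : Rel g₂ a₂) :
    Rel (g₁ * g₂) (a₁ * a₂) := by
  simp only [Rel, Units.val_mul] at h₁ h₂ ⊢
  rw [Matrix.mul_assoc, h₂, ← Matrix.mul_assoc, h₁, Matrix.mul_assoc]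

theorem rel_inv {g : GL chevD4.Idx F} {a : GL chevG2.Idx F} (h : Rel g a) : Rel g⁻¹ a⁻¹ := by
  simp only [Rel] at h ⊢
  have hg : ((g⁻¹ : GL chevD4.Idx F) : Matrix chevD4.Idx chevD4.Idx F) * (g : Matrix chevD4.Idx chevD4.Idx F) = 1 :=
    g.inv_mul
  have ha : (a : Matrix chevG2.Idx chevG2.Idx F) * ((a⁻¹ : GL chevG2.Idx F) : Matrix chevG2.Idx chevG2.Idx F) = 1 :=
    a.mul_inv
  calc ((g⁻¹ : GL chevD4.Idx F) : Matrix chevD4.Idx chevD4.Idx F) * Ef F
      = ((g⁻¹ : GL chevD4.Idx F) : Matrix chevD4.Idx chevD4.Idx F) *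
          (Ef F * (a : Matrix chevG2.Idx chevG2.Idx F) *
            ((a⁻¹ : GL chevG2.Idx F) : Matrix chevG2.Idx chevG2.Idx F)) := by
        rw [Matrix.mul_assoc (Ef F), ha, Matrix.mul_one]
    _ = Ef F * ((a⁻¹ : GL chevG2.Idx F) : Matrix chevG2.Idx chevG2.Idx F) := by
        rw [← h, ← Matrix.mul_assoc, ← Matrix.mul_assoc, hg, Matrix.one_mul]

theorem rel_single {r g : ℕ} (hck : ck1e r g = true) (t : F) :
    Rel (D4.ok.xG r t) (G2.ok.xG g t) := by
  have hb := hck
  simp only [ck1e, Bool.and_eq_true, Nat.blt_eq] at hb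
  rw [Rel, D4.ok.coe_xG' (d4dim.1 ▸ hb.1.1), G2.ok.coe_xG' (g2dim.1 ▸ hb.1.2), X, X, Matrix.sum_mul,
    Matrix.mul_sum]
  refine Finset.sum_congr rfl fun k hk => ?_
  rw [Matrix.smul_mul, Matrix.mul_smul, Ef, ← castMat, ← castMat', single_eq hck (Finset.mem_range.1 hk)]

theorem rel_triple {r₁ r₂ r₃ g : ℕ} (hck : ck3e r₁ r₂ r₃ g = true) (t : F) :
    Rel (D4.ok.xG r₁ t * D4.ok.xG r₂ t * D4.ok.xG r₃ t) (G2.ok.xG g t) := by
  have hb := hck
  simp only [ck3e, Bool.and_eq_true, Nat.blt_eq] at hb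
  obtain ⟨⟨⟨⟨h1, h2⟩, h3⟩, hg⟩, -⟩ := hb
  rw [← d4dim.1] at h1 h2 h3
  rw [Rel, Units.val_mul, Units.val_mul, D4.ok.coe_xG' h1, D4.ok.coe_xG' h2, D4.ok.coe_xG' h3,
    G2.ok.coe_xG' (g2dim.1 ▸ hg)]
  let N : ℕ → ℕ → ℕ → Matrix chevD4.Idx chevG2.Idx F := fun a b d =>
    (M3 r₁ r₂ r₃ a b d).map (Int.castRingHom F)
  have hN : ∀ k ∈ Finset.range 10, ∑ a ∈ Finset.range 4, ∑ b ∈ Finset.range 4, ∑ d ∈ Finset.range 4,
      (if a + b + d = k then N a b d else 0) =
      if k < 4 then Ef F * cM chevG2 F (Ek chevG2 G2.pk k g) else 0 := by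
    intro k hk
    have e := congrArg ((Int.castRingHom F).toAddMonoidHom.mapMatrix (m := chevD4.Idx) (n := chevG2.Idx))
      (deg_sum hck (Finset.mem_range.1 hk))
    simp only [map_sum, apply_ite ((Int.castRingHom F).toAddMonoidHom.mapMatrix), map_zero] at e
    rw [Ef, ← castMat']
    exact e
  have lhs : X chevD4 D4.pk r₁ t * X chevD4 D4.pk r₂ t * X chevD4 D4.pk r₃ t * Ef F =
      ∑ a ∈ Finset.range 4, ∑ b ∈ Finset.range 4, ∑ d ∈ Finset.range 4, t ^ (a + b + d) • N a b d := by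
    simp only [N, M3, castMat, Matrix.mul_assoc, X, Matrix.sum_mul, Matrix.mul_sum, Matrix.smul_mul,
      Matrix.mul_smul, Finset.smul_sum, smul_smul, Ef]
    rw [Finset.sum_comm, Finset.sum_congr rfl fun b _ => Finset.sum_comm, Finset.sum_comm]
    refine Finset.sum_congr rfl fun a _ => Finset.sum_congr rfl fun b _ =>
      Finset.sum_congr rfl fun d _ => ?_
    congr 1
    ring
  rw [lhs, X, Matrix.mul_sum]
  calc ∑ a ∈ Finset.range 4, ∑ b ∈ Finset.range 4, ∑ d ∈ Finset.range 4, t ^ (a + b + d) • N a b d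
      = ∑ a ∈ Finset.range 4, ∑ b ∈ Finset.range 4, ∑ d ∈ Finset.range 4, ∑ k ∈ Finset.range 10,
          t ^ k • (if a + b + d = k then N a b d else 0) := by
        refine Finset.sum_congr rfl fun a ha => Finset.sum_congr rfl fun b hb =>
          Finset.sum_congr rfl fun d hd => ?_
        rw [Finset.mem_range] at ha hb hd
        rw [Finset.sum_eq_single (a + b + d)]
        · rw [if_pos rfl]
        · intro k _ hk
          rw [if_neg (Ne.symm hk), smul_zero]
        · intro h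
          exact absurd (Finset.mem_range.2 (by omega)) h
    _ = ∑ k ∈ Finset.range 10, t ^ k • ∑ a ∈ Finset.range 4, ∑ b ∈ Finset.range 4, ∑ d ∈ Finset.range 4,
          (if a + b + d = k then N a b d else 0) := by
        simp only [Finset.smul_sum]
        symm
        rw [Finset.sum_comm]
        refine Finset.sum_congr rfl fun a _ => ?_
        rw [Finset.sum_comm]
        refine Finset.sum_congr rfl fun b _ => ?_
        rw [Finset.sum_comm]
    _ = ∑ k ∈ Finset.range 10, t ^ k • (if k < 4 then Ef F * cM chevG2 F (Ek chevG2 G2.pk k g) else 0) :=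
        Finset.sum_congr rfl fun k hk => by rw [hN k hk]
    _ = ∑ k ∈ Finset.range 4, Ef F * t ^ k • cM chevG2 F (Ek chevG2 G2.pk k g) := by
        rw [← Finset.sum_subset (s₁ := Finset.range 4) (s₂ := Finset.range 10) (by simp)
          fun k _ hk => by rw [if_neg (by simpa using hk), smul_zero]]
        exact Finset.sum_congr rfl fun k hk => by rw [if_pos (Finset.mem_range.1 hk), Matrix.mul_smul]

theorem lead_apply {y : chevD4.Idx} {x : chevG2.Idx} (hy : code D4.pk y = lead0 (code G2.pk x))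
    (z : chevG2.Idx) :
    Ef F y z = if z = x then (cf (eC (code G2.pk x)) (lead0 (code G2.pk x)) : F) else 0 := by
  have h := cksE.2.1
  simp only [List.all_eq_true, List.mem_range, beq_iff_eq, nbeq] at h
  have := h (code G2.pk x) (g2dim.2.1 ▸ G2.ok.code_lt x) (code G2.pk z) (g2dim.2.1 ▸ G2.ok.code_lt z)
  simp only [Ef, Matrix.map_apply, opR, Matrix.of_apply, hy, this, eq_intCast]
  by_cases e : z = x
  · subst e; simp
  · have hne : code G2.pk z ≠ code G2.pk x := fun e2 => e (G2.ok.code_inj e2)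
    simp [e, hne]

theorem Ef_cancel {a b : Matrix chevG2.Idx chevG2.Idx F} (e : Ef F * a = Ef F * b) : a = b := by
  ext x col
  have h := cksE.2.2
  simp only [List.all_eq_true, List.mem_range, Bool.and_eq_true, Nat.blt_eq, Bool.or_eq_true, beq_iff_eq] at h
  obtain ⟨hlt, hs⟩ := h (code G2.pk x) (g2dim.2.1 ▸ G2.ok.code_lt x)
  obtain ⟨y, hy⟩ := D4.ok.exists_code (d4dim.2.1 ▸ hlt)
  have e1 := congrFun (congrFun e y) col
  rw [Matrix.mul_apply, Matrix.mul_apply] at e1
  simp only [lead_apply hy, ite_mul, zero_mul, Finset.sum_ite_eq', Finset.mem_univ, if_true] at e1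
  refine mul_left_cancel₀ ?_ e1
  rcases hs with e | e <;> simp [e]

theorem rel_unique {g : GL chevD4.Idx F} {a b : GL chevG2.Idx F} (h₁ : Rel g a) (h₂ : Rel g b) : a = b :=
  Units.ext (Ef_cancel (h₁.symm.trans h₂))

/-! ### The fixed group -/

section

variable (F)

local notation "𝕋" => TwD4.T (RingHom.id F)

/-- The group generated by the fixed root elements. -/
noncomputable abbrev G1 : Subgroup (GL chevD4.Idx F) := twistedD4 F 1

variable {F}

theorem id_pow : ∀ t : F, RingHom.id F t = t ^ 1 := fun t => by simp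

theorem le_fixed : G1 F ≤ (𝕋).fixed := by
  have hc := TwD4.cks
  simp only [Bool.and_eq_true] at hc
  obtain ⟨⟨⟨⟨⟨a, b⟩, -⟩, -⟩, p1⟩, p2⟩ := hc
  refine (Subgroup.closure_le _).2 fun g hg => TwD4.gens (P' := fun g => g ∈ (𝕋).fixed) (fun r hr t ht => ?_)
    (fun rs hr t => ?_) hg
  · have ht' : (RingHom.id F) t = t := rfl
    simp only [List.mem_cons, List.not_mem_nil, or_false] at hr
    rcases hr with rfl | rfl <;> exact Std.xG_fixed ckG_D4a _ (by assumption) ht'
  · rw [one_pow, pow_one]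
    simp only [List.mem_cons, List.not_mem_nil, or_false] at hr
    rcases hr with rfl | rfl
    · exact Std.triple_fixed (h := D4.ok) ckG_D4a (RingHom.id F) ckComm_D4 p1 (t := t) rfl
    · exact Std.triple_fixed (h := D4.ok) ckG_D4a (RingHom.id F) ckComm_D4 p2 (t := t) rfl

theorem diag_le : chevD4.diagonalSubgroup F ⊓ (𝕋).fixed ≤ G1 F := by
  rintro d ⟨hd, hf⟩
  obtain ⟨c, hc, rfl⟩ := Std.diag_lift (h := D4.ok) ckG_D4a (RingHom.id F) (e := 2) (n := 3) (by decide)
    (fun c e => TwD4.kernel_sq e) (TwD4.tau_three _ fun _ => rfl) hd hf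
  exact TwD4.hHom_fixed_mem _ id_pow hc

theorem exists_grp : ∃ G : TwistGrp (𝕋), G.G1 = G1 F ∧ G.O.orbs = D4.orbsT := by
  refine ⟨⟨TwD4.O _, G1 F, le_fixed, fun o ho => ?_, fun o ho x hx => ?_, diag_le⟩, rfl, rfl⟩
  · change o ∈ D4.orbsT at ho
    simp only [D4.orbsT, List.mem_cons, List.not_mem_nil, or_false] at ho
    rcases ho with rfl | rfl <;>
      simp only [Ok.nW, List.map_cons, List.map_nil, List.prod_cons, List.prod_nil, mul_one, Ok.nG,
        TwD4.sims.1, TwD4.sims.2.1, TwD4.sims.2.2.1, TwD4.sims.2.2.2]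
    · exact TwD4.nt_single _ id_pow rfl
    · have h1 := TwD4.nt_triple (RingHom.id F) id_pow (1 : F)
      rwa [RingHom.id_apply, mul_assoc] at h1
  · rcases TwD4.Uw_forms _ ho hx with ⟨t, -, rfl⟩ | ⟨t, rfl⟩
    · exact TwD4.gen1 (by decide) (pow_one t)
    · exact TwD4.gen3 _ id_pow (rs := (d4p1, d4p3, d4p4)) (by simp) t

/-- Every element of the fixed group intertwines with one of the group of type G2. -/
theorem exists_rel {g : GL chevD4.Idx F} (hg : g ∈ G1 F) : ∃ a ∈ chevG2.group F, Rel g a := by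
  induction hg using Subgroup.closure_induction with
  | one => exact ⟨1, one_mem _, rel_one⟩
  | mul x y _ _ ihx ihy =>
    obtain ⟨a, ha, hxa⟩ := ihx
    obtain ⟨b, hb, hyb⟩ := ihy
    exact ⟨a * b, mul_mem ha hb, rel_mul hxa hyb⟩
  | inv x _ ih =>
    obtain ⟨a, ha, hxa⟩ := ih
    exact ⟨a⁻¹, inv_mem ha, rel_inv hxa⟩
  | mem x hx =>
    refine TwD4.gens (P' := fun g => ∃ a ∈ chevG2.group F, Rel g a) (fun r hr t _ => ?_) (fun rs hr t => ?_) hx
    · simp only [List.mem_cons, List.not_mem_nil, or_false] at hr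
      rcases hr with rfl | rfl
      · exact ⟨_, G2.ok.mem_group_of_xG _ _, rel_single cksT.2.2.1 t⟩
      · exact ⟨_, G2.ok.mem_group_of_xG _ _, rel_single cksT.2.2.2 t⟩
    · rw [one_pow, pow_one]
      simp only [List.mem_cons, List.not_mem_nil, or_false] at hr
      rcases hr with rfl | rfl
      · exact ⟨_, G2.ok.mem_group_of_xG _ _, rel_triple cksT.1 t⟩
      · exact ⟨_, G2.ok.mem_group_of_xG _ _, rel_triple cksT.2.1 t⟩

/-- The elements of the group of type G2 that are reached. -/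
def reached : Subgroup (GL chevG2.Idx F) where
  carrier := {a | ∃ g ∈ G1 F, Rel g a}
  one_mem' := ⟨1, one_mem _, rel_one⟩
  mul_mem' := by
    rintro a b ⟨g, hg, hga⟩ ⟨k, hk, hkb⟩
    exact ⟨g * k, mul_mem hg hk, rel_mul hga hkb⟩
  inv_mem' := by
    rintro a ⟨g, hg, hga⟩
    exact ⟨g⁻¹, inv_mem hg, rel_inv hga⟩

theorem group_le_reached : chevG2.group F ≤ reached := by
  have h6 : ∀ t : F, G2.ok.xG 6 t ∈ reached := fun t =>
    ⟨_, TwD4.gen1 (by decide) (pow_one t), rel_single cksT.2.2.1 t⟩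
  have h5 : ∀ t : F, G2.ok.xG 5 t ∈ reached := fun t =>
    ⟨_, TwD4.gen1 (by decide) (pow_one t), rel_single cksT.2.2.2 t⟩
  have h7 : ∀ t : F, G2.ok.xG 7 t ∈ reached := fun t =>
    ⟨_, TwD4.gen3 (RingHom.id F) id_pow (rs := (d4p1, d4p3, d4p4)) (by simp) t, rel_triple cksT.1 t⟩
  have h4 : ∀ t : F, G2.ok.xG 4 t ∈ reached := fun t =>
    ⟨_, TwD4.gen3 (RingHom.id F) id_pow (rs := (d4m1, d4m3, d4m4)) (by simp) t, rel_triple cksT.2.1 t⟩
  obtain ⟨-, -, hr2, s0, s1, n0, n1⟩ := g2dim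
  have hS : ∀ i < G2.pk.rank, ∀ t : F,
      G2.ok.xG (G2.pk.sim i) t ∈ reached ∧ G2.ok.xG (G2.pk.ng (G2.pk.sim i)) t ∈ reached := by
    intro i hi t
    rw [hr2] at hi
    interval_cases i
    · rw [s0, n0]; exact ⟨h7 t, h4 t⟩
    · rw [s1, n1]; exact ⟨h6 t, h5 t⟩
  refine G2.ok.group_le fun r hr => G2.ok.root_induction (Q := fun r => ∀ t : F, G2.ok.xG r t ∈ reached)
    (fun i hi t => (hS i hi t).1) (fun i hi r hr hm t => ?_) r hr
  have hn : G2.ok.nG (F := F) i ∈ reached :=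
    mul_mem (mul_mem (hS i hi _).1 (hS i hi _).2) (hS i hi _).1
  have hsq : (G2.pk.eta i r : F) * G2.pk.eta i r = 1 := by rw [← Int.cast_mul, Ok.eta_sq, Int.cast_one]
  have e := G2.ok.nG_xG hi hr ((G2.pk.eta i r : F) * t)
  rw [← mul_assoc, hsq, one_mul] at e
  rw [← e]
  exact mul_mem (mul_mem hn (hm _)) (inv_mem hn)

/-- The map to the group of type G2. -/
noncomputable def toG2 : ↥(G1 F) →* ↥(chevG2.group F) :=
  MonoidHom.mk' (fun g => ⟨(exists_rel g.2).choose, (exists_rel g.2).choose_spec.1⟩) fun g k => by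
    apply Subtype.ext
    exact rel_unique (exists_rel (g * k).2).choose_spec.2
      (rel_mul (exists_rel g.2).choose_spec.2 (exists_rel k.2).choose_spec.2)

theorem toG2_rel (g : ↥(G1 F)) : Rel g.1 (toG2 g).1 := (exists_rel g.2).choose_spec.2

theorem toG2_surjective : Function.Surjective (toG2 (F := F)) := fun a => by
  obtain ⟨g, hg, hga⟩ := group_le_reached a.2
  exact ⟨⟨g, hg⟩, Subtype.ext (rel_unique (toG2_rel _) hga)⟩

/-! ### The map is injective -/

theorem nW_root_col : ∀ l, WordOk D4.pk l → ∀ (row col : chevD4.Idx), code D4.pk row < D4.pk.nroots →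
    (D4.ok.nW (F := F) l : Matrix chevD4.Idx chevD4.Idx F) row col ≠ 0 → code D4.pk col < D4.pk.nroots
  | [], _, row, col, hr, hne => by
    rw [D4.ok.nW_nil, Units.val_one] at hne
    rcases eq_or_ne row col with rfl | e
    · exact hr
    · exact absurd (Matrix.one_apply_ne e) hne
  | i :: l, hl, row, col, hr, hne => by
    rw [D4.ok.nW_cons, Units.val_mul, Matrix.mul_apply] at hne
    obtain ⟨x, -, hx⟩ := Finset.exists_ne_zero_of_sum_ne_zero hne
    refine nW_root_col l hl.tail x col ?_ (right_ne_zero_of_mul hx)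
    by_contra hxn
    have h1 := left_ne_zero_of_mul hx
    rw [D4.ok.coe_nG hl.head, cM_apply, Sg, opM_apply] at h1
    simp only [Pk.sigCol, blt_f hxn, cond_false] at h1
    refine h1 ?_
    rw [cf_cons, cf_cons, cf_nil, if_neg (by omega), if_neg (by omega)]
    simp

theorem lev_le_iff {x y : chevD4.Idx} (hx : code D4.pk x < 24) (hy : code D4.pk y < 24) :
    lev D4.pk x ≤ lev D4.pk y ↔ code D4.pk x ≤ code D4.pk y := by
  have hn := d4dim.1
  have e : ∀ z : chevD4.Idx, code D4.pk z < 24 → lev D4.pk z =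
      if D4.pk.isPos (code D4.pk z) then (code D4.pk z : ℤ) + 1 else code D4.pk z := by
    intro z hz
    rw [lev, if_neg (by omega)]
  rw [e x hx, e y hy]
  have hp : ∀ r, r < 24 → (D4.pk.isPos r = true ↔ 12 ≤ r) := by
    intro r hr
    rw [Pk.isPos_iff, hn]; omega
  have px := hp _ hx
  have py := hp _ hy
  split_ifs with h1 h2 h2
  · omega
  · have := px.1 h1
    have : ¬ 12 ≤ code D4.pk y := fun h => h2 (py.2 h)
    omega
  · have := py.1 h2
    have : ¬ 12 ≤ code D4.pk x := fun h => h1 (px.2 h)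
    omega
  · omega

/-- A representative whose translate stays in the intertwining set has trivial Weyl part. -/
theorem wl_min_le {l : List ℕ} (hl : WordOk D4.pk l) {d u b : GL chevD4.Idx F}
    (hd : d ∈ chevD4.diagonalSubgroup F) (hu : u ∈ chevD4.posUnipotent F) (hb : b ∈ chevD4.borelSubgroup F)
    (e : ((D4.ok.nW l * d * u : GL chevD4.Idx F) : Matrix chevD4.Idx chevD4.Idx F) * Ef F =
      (b : Matrix chevD4.Idx chevD4.Idx F) * Ef F) {c : ℕ} (hc : c < 12) :
    mins.getD c 24 ≤ wl D4.pk l (mins.getD c 24) := by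
  have h := cksM.1
  simp only [List.all_eq_true, List.mem_range, Bool.and_eq_true, Nat.blt_eq, Bool.or_eq_true, beq_iff_eq,
    Nat.ble_eq] at h
  obtain ⟨⟨hm, hs⟩, hsupp⟩ := h c hc
  set m := mins.getD c 24
  have hn := d4dim.1
  obtain ⟨x, hx⟩ := G2.ok.exists_code (c := c) (by rw [g2dim.2.1]; omega)
  obtain ⟨y0, hy0⟩ := D4.ok.exists_code (c := m) (by rw [d4dim.2.1]; omega)
  have hm' : wl D4.pk l m < D4.pk.nroots := D4.ok.wl_lt l hl m (by omega)
  obtain ⟨y1, hy1⟩ := D4.ok.exists_code (c := wl D4.pk l m) (by rw [d4dim.2.1]; omega)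
  -- the supports
  have hE : ∀ z : chevD4.Idx, Ef F z x ≠ 0 → code D4.pk z < 24 ∧ m ≤ code D4.pk z := by
    intro z hz
    by_contra hno
    refine hz ?_
    simp only [Ef, Matrix.map_apply, opR, Matrix.of_apply, hx, eq_intCast]
    rw [cf_eq_zero, Int.cast_zero]
    intro p hp e2
    exact hno (e2 ▸ hsupp p hp)
  have hE0 : Ef F y0 x ≠ 0 := by
    simp only [Ef, Matrix.map_apply, opR, Matrix.of_apply, hx, hy0, eq_intCast]
    rcases hs with e2 | e2 <;> simp [e2]
  have hlev : ∀ z : chevD4.Idx, Ef F z x ≠ 0 → lev D4.pk y0 ≤ lev D4.pk z := fun z hz =>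
    (lev_le_iff (by omega) (hE z hz).1).2 (by have := (hE z hz).2; omega)
  -- the left side at the image row
  have htu := D4.ok.tri_of_pos hu
  have huE : ((u : Matrix chevD4.Idx chevD4.Idx F) * Ef F) y0 x = Ef F y0 x := by
    rw [Matrix.mul_apply, Finset.sum_eq_single y0, (htu y0 y0).1 rfl, one_mul]
    · intro z _ hz
      by_contra hne
      have h1 := (htu y0 z).2 (Ne.symm hz) (left_ne_zero_of_mul hne)
      have h2 := hlev z (right_ne_zero_of_mul hne)
      omega
    · simp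
  obtain ⟨χ, hχ⟩ := D4.ok.coe_diag hd
  have hχ0 : χ y0 ≠ 0 := by
    have hu2 : IsUnit (Matrix.diagonal χ) := hχ ▸ d.isUnit
    exact (Pi.isUnit_iff.1 (Matrix.isUnit_diagonal.1 hu2) y0).ne_zero
  have hw : (D4.ok.nW (F := F) l : Matrix chevD4.Idx chevD4.Idx F) y1 y0 ≠ 0 := by
    intro h0
    have h1 : ((D4.ok.nW (F := F) l)⁻¹ * D4.ok.nW l : GL chevD4.Idx F) = 1 := inv_mul_cancel _
    have h2 := congrArg (fun g : GL chevD4.Idx F => (g : Matrix chevD4.Idx chevD4.Idx F) y0 y0) h1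
    simp only [Units.val_mul, Units.val_one, Matrix.one_apply_eq, Matrix.mul_apply] at h2
    rw [Finset.sum_eq_zero] at h2
    · exact zero_ne_one h2
    · intro z _
      by_cases hz : (D4.ok.nW (F := F) l : Matrix chevD4.Idx chevD4.Idx F) z y0 = 0
      · rw [hz, mul_zero]
      · have := D4.ok.nW_col (F := F) l hl z y0 (by omega) hz
        rw [hy0, ← hy1] at this
        rw [D4.ok.code_inj this, h0, mul_zero]
  have hleft : (((D4.ok.nW l * d * u : GL chevD4.Idx F) : Matrix chevD4.Idx chevD4.Idx F) * Ef F) y1 x ≠ 0 := by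
    rw [Units.val_mul, Units.val_mul, hχ, Matrix.mul_assoc, Matrix.mul_apply, Finset.sum_eq_single y0,
      huE, Matrix.mul_diagonal]
    · exact mul_ne_zero (mul_ne_zero hw hχ0) hE0
    · intro z _ hz
      rw [Matrix.mul_diagonal]
      by_cases hz0 : (D4.ok.nW (F := F) l : Matrix chevD4.Idx chevD4.Idx F) y1 z = 0
      · rw [hz0, zero_mul, zero_mul]
      · exfalso
        have hzr := nW_root_col l hl y1 z (by omega) hz0
        have e2 := D4.ok.nW_col (F := F) l hl y1 z hzr hz0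
        rw [hy1, ← hy0] at e2
        have e3 := congrArg (wl D4.pk l.reverse) e2
        rw [D4.ok.wl_reverse l hl _ (by omega), D4.ok.wl_reverse l hl _ hzr] at e3
        exact hz (D4.ok.code_inj e3.symm)
    · simp
  -- the right side
  rw [e] at hleft
  obtain ⟨v, hv, d', hd', rfl⟩ := D4.ok.mem_borel hb
  obtain ⟨χ', hχ'⟩ := D4.ok.coe_diag hd'
  rw [Units.val_mul, hχ', Matrix.mul_assoc, Matrix.mul_apply] at hleft
  obtain ⟨z, -, hz⟩ := Finset.exists_ne_zero_of_sum_ne_zero hleft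
  rw [Matrix.diagonal_mul] at hz
  have hz' := hE z (right_ne_zero_of_mul (right_ne_zero_of_mul hz))
  have hvz : z = y1 ∨ lev D4.pk z < lev D4.pk y1 := by
    by_cases e2 : y1 = z
    · exact Or.inl e2.symm
    · exact Or.inr ((D4.ok.tri_of_pos hv y1 z).2 e2 (left_ne_zero_of_mul hz))
  rcases hvz with rfl | hlt
  · rw [← hy1]; exact hz'.2
  · have := (lev_le_iff hz'.1 (by omega)).1 hlt.le
    omega

theorem wl_trivial (G : TwistGrp (𝕋)) (hO : G.O.orbs = D4.orbsT) {l : List ℕ} (hl : WordOk D4.pk l)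
    (hc : (𝕋).Comm l) (hmin : ∀ c < 12, mins.getD c 24 ≤ wl D4.pk l (mins.getD c 24)) :
    ∀ r < D4.pk.nroots, wl D4.pk l r = r := by
  have hck := D4.ckEnumT
  simp only [ckEnum, Bool.and_eq_true, beq_iff_eq, List.all_eq_true] at hck
  obtain ⟨⟨⟨hkeys, -⟩, hid⟩, hclosed⟩ := hck
  have hok : ∀ w : List ℕ, WordOk D4.pk (orbWord G.O.orbs w) := by
    intro w
    induction w with
    | nil => exact fun _ hx => absurd hx List.not_mem_nil
    | cons k w ih =>
      intro x hx
      rcases List.mem_append.1 (show x ∈ (G.O.orbs.getD k ([], [])).2 ++ orbWord G.O.orbs w from hx) with a | a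
      · by_cases hk : k < G.O.orbs.length
        · have hm : G.O.orbs.getD k ([], []) ∈ G.O.orbs := by
            rw [List.getD_eq_getElem _ _ hk]; exact List.getElem_mem hk
          exact (G.O.spec hm).1.1 x a
        · rw [List.getD_eq_default _ _ (Nat.le_of_not_lt hk)] at a
          exact absurd a List.not_mem_nil
      · exact ih x a
  have hfind : ∀ l, WordOk D4.pk l → D4.enumTr.mem (wkey D4.pk l) = true →
      ∃ w ∈ D4.enumL, ∀ r < D4.pk.nroots, wl D4.pk l r = wl D4.pk (orbWord G.O.orbs w) r := by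
    intro l hl hm
    have hm' := KTree.mem_toList hm
    rw [← hkeys] at hm'
    obtain ⟨w, hw, e⟩ := List.mem_map.1 hm'
    rw [hO]
    exact ⟨w, hw, D4.ok.wkey_inj hl (hO ▸ hok w) e.symm⟩
  obtain ⟨w, hw, ew⟩ : ∃ w ∈ D4.enumL, ∀ r < D4.pk.nroots,
      wl D4.pk l r = wl D4.pk (orbWord G.O.orbs w) r := by
    refine G.O.comm_induction (Q := fun l => ∃ w ∈ D4.enumL, ∀ r < D4.pk.nroots,
      wl D4.pk l r = wl D4.pk (orbWord G.O.orbs w) r)
      (fun l hl htriv => ?_) (fun o ho l l' hl hl' hc' hpos e ih => ?_) l hl hc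
    · exact hfind l hl (by rwa [D4.ok.wkey_congr (l := l) (l' := []) htriv])
    · obtain ⟨w, hw, ew⟩ := ih
      refine hfind l hl ?_
      rw [D4.ok.wkey_congr (l' := orbWord G.O.orbs w ++ o.2) fun r hr => by
        rw [e r hr, wl_append, wl_append, ew _ (D4.ok.wl_lt _ (G.O.spec ho).1.1 r hr)]]
      rw [hO] at ho ⊢
      exact hclosed w hw o ho
  rw [hO] at ew
  have h := cksW
  simp only [List.all_eq_true, Bool.or_eq_true, Bool.not_eq_true', Pk.mem_allRoots, nbeq,
    decide_eq_true_eq] at h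
  rcases h w hw with h | h
  · exfalso
    have hM := cksM.1
    simp only [List.all_eq_true, List.mem_range, Bool.and_eq_true, Nat.blt_eq] at hM
    rw [Bool.eq_false_iff] at h
    refine h (List.all_eq_true.2 fun c hc' => ?_)
    rw [List.mem_range] at hc'
    rw [Nat.ble_eq, ← ew _ (by rw [d4dim.1]; exact (hM c hc').1.1)]
    exact hmin c hc'
  · intro r hr
    rw [ew r hr]
    exact h r hr

theorem toG2_injective : Function.Injective (toG2 (F := F)) := by
  obtain ⟨G, hG, hO⟩ := exists_grp (F := F)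
  rw [injective_iff_map_eq_one]
  intro g hg
  have hker : ∀ k : GL chevD4.Idx F, k ∈ G1 F → Rel k 1 → k ∈ chevD4.borelSubgroup F := by
    intro k hk hk1
    obtain ⟨l, hl, hc, n, -, d, hd, rfl, b, ⟨hb, -⟩, u, ⟨hu, -⟩, rfl⟩ := G.decomp ckComm_D4 (le_fixed hk)
    have e : ((D4.ok.nW l * d * u : GL chevD4.Idx F) : Matrix chevD4.Idx chevD4.Idx F) * Ef F =
        ((b⁻¹ : GL chevD4.Idx F) : Matrix chevD4.Idx chevD4.Idx F) * Ef F := by
      simp only [Rel, Units.val_one, Matrix.mul_one] at hk1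
      conv_rhs => rw [← hk1]
      rw [← Matrix.mul_assoc, ← Units.val_mul]
      congr 2
      group
    have htriv := wl_trivial G hO hl hc fun c hc' =>
      wl_min_le hl hd (D4.ok.negS_le_pos l hu) (inv_mem hb) e hc'
    exact mul_mem (mul_mem hb (Subgroup.mem_sup_right (mul_mem (D4.ok.nW_mem_diagonal hl htriv) hd)))
      (Subgroup.mem_sup_left (D4.ok.negS_le_pos l hu))
  have hg1 : Rel g.1 1 := by
    have := toG2_rel g
    rwa [hg] at this
  -- conjugation by a representative of the longest element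
  obtain ⟨l, hl, hc, htop⟩ := TwistGrp.exists_top (T := 𝕋)
  obtain ⟨n, hn, e, he, rfl⟩ := G.exists_rep hl hc
  rw [hG] at hn
  obtain ⟨a, -, hna⟩ := exists_rel hn
  have hconj : Rel (D4.ok.nW l * e * g.1 * (D4.ok.nW l * e)⁻¹) 1 := by
    have := rel_mul (rel_mul hna hg1) (rel_inv hna)
    rwa [mul_one, mul_inv_cancel] at this
  have hB := hker _ (mul_mem (mul_mem hn g.2) (inv_mem hn)) hconj
  obtain ⟨v, hv, d, hd, hvd⟩ := D4.ok.mem_borel (hker _ g.2 hg1)
  have hdd : D4.ok.nW l * e * d * (D4.ok.nW l * e)⁻¹ ∈ chevD4.diagonalSubgroup F := by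
    have h1 := (Subgroup.mem_normalizer_iff.1 (D4.ok.nW_normalizer (F := F) l hl) _).1
      (mul_mem (mul_mem he hd) (inv_mem he))
    rw [show D4.ok.nW l * e * d * (D4.ok.nW l * e)⁻¹ = D4.ok.nW l * (e * d * e⁻¹) * (D4.ok.nW l)⁻¹ by group]
    exact h1
  have hvU : D4.ok.nW l * e * v * (D4.ok.nW l * e)⁻¹ ∈ chevD4.negUnipotent F := by
    refine D4.ok.uminus_conj hl he ?_
    rw [D4.ok.posUnipotent_eq] at hv
    exact D4.ok.genR_mono (fun r hr => ⟨hr, htop r hr⟩) hv
  have hvB : D4.ok.nW l * e * v * (D4.ok.nW l * e)⁻¹ ∈ chevD4.borelSubgroup F := by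
    have h1 := mul_mem hB (Subgroup.mem_sup_right (inv_mem hdd))
    rw [hvd] at h1
    convert h1 using 1
    group
  have hv1 := Subgroup.mem_inf.2 ⟨hvB, hvU⟩
  rw [D4.ok.borel_inf_neg, Subgroup.mem_bot, conj_eq_one_iff] at hv1
  rw [hv1, one_mul] at hvd
  -- the diagonal part
  obtain ⟨c, hc'⟩ := D4.ok.mem_diagonal_iff.1 hd
  subst hc'
  apply Subtype.ext
  rw [hvd, OneMemClass.coe_one]
  apply Units.ext
  rw [D4.ok.coe_hHom, Units.val_one, ← dM_one (D := chevD4) (F := F), dM, dM]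
  congr 1
  funext y
  rcases y with i | s
  · rfl
  have hs : s.val < 24 := d4dim.1 ▸ D4.ok.slt s
  have h := cksM.2
  simp only [List.all_eq_true, List.any_eq_true, List.mem_range, Bool.or_eq_true, beq_iff_eq] at h
  obtain ⟨c', hc', hcf⟩ := h s.val hs
  obtain ⟨x, hx⟩ := G2.ok.exists_code (c := c') (by rw [g2dim.2.1]; exact hc')
  rw [hvd] at hg1
  have e1 := congrFun (congrFun hg1 (Sum.inr s)) x
  rw [D4.ok.coe_hHom, Units.val_one, Matrix.mul_one, dM, Matrix.diagonal_mul] at e1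
  have hne : Ef F (Sum.inr s) x ≠ 0 := by
    simp only [Ef, Matrix.map_apply, opR, Matrix.of_apply, hx, eq_intCast]
    simp only [code]
    rcases hcf with e2 | e2 <;> simp [e2]
  simpa using mul_right_cancel₀ hne (e1.trans (one_mul _).symm)

/-- The fixed subgroup of the standard triality is the Chevalley group of type G2. -/
theorem fixed_iso : Nonempty (↥((TwD4.T (RingHom.id F)).fixed) ≃* ↥(chevG2.group F)) := by
  obtain ⟨G, hG, -⟩ := exists_grp (F := F)
  have e : (TwD4.T (RingHom.id F)).fixed = G1 F := (G.eq_fixed ckComm_D4).symm.trans hG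
  exact ⟨(MulEquiv.subgroupCongr e).trans (MulEquiv.ofBijective toG2 ⟨toG2_injective, toG2_surjective⟩)⟩

end

end Cfsg.Agent.Chev.G2D4
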