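/-
The parameters of the (B,N)-pair of a Chevalley group over a finite field all equal the field size.
-/
import Cfsg.Agent.Lib.Chev.Steinberg
import Cfsg.Agent.Lib.Chev.Coxeter
import Cfsg.Agent.Lib.BN.HeckeChars

set_option autoImplicit false

namespace Cfsg.Agent.Chev

open Cfsg.Lie

variable {D : ChevalleyDatum} {P : Pk} {F : Type*} [Field F]

namespace Ok

variable (h : Ok D P)
include h

theorem negS_single {i : ℕ} (hi : i < P.rank) {r : ℕ} : negS P [i] r ↔ r = P.sim i := by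
  constructor
  · rintro ⟨hp, hn⟩
    have hr := (P.isPos_iff.1 hp).2
    rcases (h.w_spec hi hr).2.2.2.2.2.2.1 with e | e | e
    · exact e
    · rw [e, h.ng_pos_iff (h.sim_lt hi), h.sim_pos hi] at hp
      exact absurd hp (by simp)
    · simp only [wl] at hn
      rw [hp, hn] at e
      exact absurd e (by simp)
  · rintro rfl
    refine ⟨h.sim_pos hi, ?_⟩
    show P.isPos (P.w i (P.sim i)) = false
    rw [h.w_sim hi, ← Bool.not_eq_true, h.ng_pos_iff (h.sim_lt hi), h.sim_pos hi]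
    simp

theorem card_negS_single [Fintype F] {i : ℕ} (hi : i < P.rank) :
    Nat.card (h.genR (F := F) (negS P [i])) = Fintype.card F := by
  have e : h.genR (F := F) (negS P [i]) = D.rootSubgroup F (P.sim i) := by
    refine le_antisymm (h.genR_le fun r hr t => ?_) fun x hx => ?_
    · rw [(h.negS_single hi).1 hr]; exact h.mem_rootSubgroup t
    · rw [← SetLike.mem_coe, h.rootSubgroup_eq] at hx
      obtain ⟨t, rfl⟩ := hx
      exact h.xG_mem_genR ((h.negS_single hi).2 rfl) t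
  rw [e, ← Nat.card_eq_fintype_card]
  refine (Nat.card_eq_of_bijective (fun t : F => (⟨h.xG (P.sim i) t, h.mem_rootSubgroup t⟩ :
    D.rootSubgroup F (P.sim i))) ⟨?_, ?_⟩).symm
  · intro t s he
    exact h.xG_inj_param (h.sim_lt hi) (congrArg Subtype.val he)
  · rintro ⟨x, hx⟩
    rw [← SetLike.mem_coe, h.rootSubgroup_eq] at hx
    obtain ⟨t, rfl⟩ := hx
    exact ⟨t, rfl⟩

theorem bn_cell_iff (hC : P.ckComm = true) (i : Fin P.rank) (x : ↥(D.group F)) :
    Cfsg.Agent.BN.Hecke.cell (h.bnPair (F := F) hC) x =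
        Cfsg.Agent.BN.g (h.bnPair (F := F) hC) (h.sEquiv hC i) ↔ h.Cell [i.val] x.1 := by
  set B := h.bnPair (F := F) hC
  let n : B.N := ⟨(h.sEquiv (F := F) hC i : ↥(D.group F)), B.subset (h.sEquiv (F := F) hC i).2⟩
  have hn : ((n : ↥(D.group F)) : GL D.Idx F) = h.nW [i.val] := by
    show h.nG i.val = _
    simp [nW]
  constructor
  · intro e
    have hx := Cfsg.Agent.BN.Hecke.mem_cell B x
    rw [e, show Cfsg.Agent.BN.g B (h.sEquiv hC i) = Cfsg.Agent.BN.cl B n from rfl,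
      Cfsg.Agent.BN.C_eq_doubleCoset, DoubleCoset.mem_doubleCoset] at hx
    obtain ⟨b, hb, b', hb', rfl⟩ := hx
    exact ⟨b.1, Subgroup.mem_subgroupOf.1 hb, b'.1, Subgroup.mem_subgroupOf.1 hb', by simp [hn]⟩
  · rintro ⟨b, hb, b', hb', e⟩
    refine Cfsg.Agent.BN.Hecke.cell_eq B ?_
    rw [show Cfsg.Agent.BN.g B (h.sEquiv hC i) = Cfsg.Agent.BN.cl B n from rfl,
      Cfsg.Agent.BN.C_eq_doubleCoset, DoubleCoset.mem_doubleCoset]
    exact ⟨⟨b, h.borel_le_group hb⟩, Subgroup.mem_subgroupOf.2 hb,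
      ⟨b', h.borel_le_group hb'⟩, Subgroup.mem_subgroupOf.2 hb', Subtype.ext (by simp [hn, e])⟩

theorem card_gen_cosets (hC : P.ckComm = true) [Fintype F]
    [Fintype (↥(D.group F) ⧸ (h.bnPair (F := F) hC).B)] (s : (h.bnPair (F := F) hC).S) :
    (Cfsg.Agent.BN.Hecke.cosets (h.bnPair (F := F) hC)
      (Cfsg.Agent.BN.g (h.bnPair (F := F) hC) s)).card = Fintype.card F := by
  classical
  obtain ⟨i, hsi⟩ := (h.sEquiv (F := F) hC).surjective s
  have hi := i.isLt
  have hl : WordOk P [i.val] := wordOk_single hi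
  have hUG : h.genR (F := F) (negS P [i.val]) ≤ D.group F := fun x hx =>
    h.borel_le_group (Subgroup.mem_sup_left (h.negS_le_pos _ hx))
  let A : Subgroup ↥(D.group F) := (h.genR (F := F) (negS P [i.val])).subgroupOf (D.group F)
  have hnG : h.nW (F := F) [i.val] = h.nG i.val := by simp [nW]
  let n : ↥(D.group F) := ⟨h.nW [i.val], h.monomial_le_group (h.nW_mem _ hl)⟩
  have key : ∀ {x : GL D.Idx F}, x ∈ h.genR (negS P [i.val]) →
      (h.nW [i.val])⁻¹ * x * h.nW [i.val] ∈ D.borelSubgroup F → x = 1 := by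
    intro x hx hb
    have h1 : h.nW [i.val] * x * (h.nW [i.val])⁻¹ ∈ D.negUnipotent F := by
      simpa using h.uminus_conj hl (one_mem (D.diagonalSubgroup F)) hx
    set e := h.nG (F := F) i.val * h.nG i.val with he
    have h2 : (h.nW [i.val])⁻¹ * x * h.nW [i.val] ∈ D.negUnipotent F := by
      rw [show (h.nW [i.val])⁻¹ * x * h.nW [i.val] = e⁻¹ * (h.nW [i.val] * x * (h.nW [i.val])⁻¹) * e by
        rw [he, hnG]; group]
      have h4 := (Subgroup.mem_normalizer_iff.1 (inv_mem (h.neg_normalized (h.nG_sq (F := F) hi))) _).1 h1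
      rw [inv_inv] at h4
      exact h4
    have h3 : (h.nW [i.val])⁻¹ * x * h.nW [i.val] = 1 :=
      Subgroup.mem_bot.1 (h.borel_inf_neg (F := F) ▸ Subgroup.mem_inf.2 ⟨hb, h2⟩)
    rw [show x = h.nW [i.val] * ((h.nW [i.val])⁻¹ * x * h.nW [i.val]) * (h.nW [i.val])⁻¹ by group, h3]
    group
  have e1 := card_fixed_orbit (B := (h.bnPair (F := F) hC).B) (A := A) (S := ⊥) n (fun x => ?_)
    (fun y => Cfsg.Agent.BN.Hecke.cell (h.bnPair (F := F) hC) y.out = Cfsg.Agent.BN.g (h.bnPair (F := F) hC) (h.sEquiv hC i)) (fun g => ?_) 1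
  · rw [MulAction.fixedBy_one_eq_univ, Nat.card_univ,
      Nat.card_congr (QuotientGroup.quotientBot).toEquiv,
      Nat.card_congr (Subgroup.subgroupOfEquivOfLe hUG).toEquiv, h.card_negS_single hi] at e1
    rw [e1, ← hsi, ← Nat.card_eq_finsetCard]
    refine Nat.card_congr (Equiv.subtypeEquivRight fun y => ?_)
    rw [Cfsg.Agent.BN.Hecke.mem_cosets, OneMemClass.coe_one, one_smul]
    exact (and_iff_right rfl).symm
  · rw [Subgroup.mem_bot]
    constructor
    · rintro rfl; simp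
    · intro hx
      refine Subtype.ext (Subtype.ext (key (Subgroup.mem_subgroupOf.1 x.2) ?_))
      simpa [n] using Subgroup.mem_subgroupOf.1 hx
  · obtain ⟨b, hb, eb⟩ := Cfsg.Agent.BN.Hecke.out_mul (h.bnPair (F := F) hC) g
    rw [eb, Cfsg.Agent.BN.Hecke.cell_right (h.bnPair (F := F) hC) hb, h.bn_cell_iff hC]
    constructor
    · rintro ⟨c, hc, c', hc', e⟩
      obtain ⟨u, hu, d, hd, rfl⟩ := h.mem_borel hc
      obtain ⟨a, ha, z, hz, rfl⟩ := h.split_pos hC (fun r => P.isPos (wl P [i.val] r) = false)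
        (fun r => P.isPos (wl P [i.val] r) = true) (fun r _ => by cases P.isPos (wl P [i.val] r) <;> simp) hu
      have ha' : a ∈ h.genR (negS P [i.val]) := h.genR_mono (fun r hr => hr) ha
      refine ⟨⟨⟨a, hUG ha'⟩, Subgroup.mem_subgroupOf.2 ha'⟩, Subgroup.mem_subgroupOf.2 ?_⟩
      have hz' : (h.nW [i.val])⁻¹ * z * h.nW [i.val] ∈ D.borelSubgroup F := by
        have h1 : h.nW [i.val] * z * (h.nW [i.val])⁻¹ ∈ D.posUnipotent F := by
          simpa using h.uplus_conj hl (one_mem (D.diagonalSubgroup F)) hz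
        rw [hnG] at h1 ⊢
        rw [show (h.nG i.val)⁻¹ * z * h.nG i.val =
          (h.nG i.val * h.nG i.val)⁻¹ * (h.nG i.val * z * (h.nG i.val)⁻¹) * (h.nG i.val * h.nG i.val) by group]
        have hs : h.nG (F := F) i.val * h.nG i.val ∈ D.borelSubgroup F := Subgroup.mem_sup_right (h.nG_sq hi)
        exact mul_mem (mul_mem (inv_mem hs) (Subgroup.mem_sup_left h1)) hs
      have hd' : (h.nW [i.val])⁻¹ * d * h.nW [i.val] ∈ D.borelSubgroup F := Subgroup.mem_sup_right (by
        simpa using (Subgroup.mem_normalizer_iff.1 (inv_mem (h.nW_normalizer (F := F) _ hl)) d).1 hd)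
      have k2 : (a * h.nW [i.val])⁻¹ * g.1 =
          ((h.nW [i.val])⁻¹ * z * h.nW [i.val]) * ((h.nW [i.val])⁻¹ * d * h.nW [i.val]) * c' := by
        rw [e]; group
      simpa [n, mul_assoc] using
        (k2 ▸ mul_mem (mul_mem hz' hd') hc' : (a * h.nW [i.val])⁻¹ * g.1 ∈ D.borelSubgroup F)
    · rintro ⟨x, hx⟩
      have hx' := Subgroup.mem_subgroupOf.1 hx
      exact ⟨x.1.1, Subgroup.mem_sup_left (h.negS_le_pos _ (Subgroup.mem_subgroupOf.1 x.2)), _, hx',
        by simp [n, mul_assoc]⟩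

theorem card_constituents (hC : P.ckComm = true) [Fintype F] {n : ℕ} {M : CoxeterMatrix (Fin n)}
    (hck : ckCox P M.M = true) :
    Nat.card {χ : IrrCharacter ↥(D.group F) //
      ∃ φ : ↥(D.group F) → ℂ, IsCharacter ↥(D.group F) φ ∧
        fixedPointCharacter ((D.borelSubgroup F).subgroupOf (D.group F)) = (χ : ↥(D.group F) → ℂ) + φ} =
      Nat.card (ConjClasses M.Group) := by
  classical
  haveI : Fintype ↥(D.group F) := Fintype.ofFinite _
  haveI : Fintype (Cfsg.Agent.BN.W (h.bnPair (F := F) hC)) := Fintype.ofFinite _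
  haveI : Finite (h.bnPair (F := F) hC).S := Finite.of_equiv _ (h.sEquiv hC)
  have h1 := Cfsg.Agent.BN.HeckeC.card_constituents (h.bnPair (F := F) hC) (Fintype.card F)
    (fun s => h.card_gen_cosets hC s) Fintype.card_pos
  refine h1.trans ?_
  obtain ⟨e, -⟩ := h.exists_hom (F := F) hC hck
  refine Nat.card_eq_of_bijective (ConjClasses.map e.toMonoidHom) ⟨?_, ?_⟩
  · intro a b hab
    obtain ⟨x, rfl⟩ := ConjClasses.mk_surjective a
    obtain ⟨y, rfl⟩ := ConjClasses.mk_surjective b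
    obtain ⟨c, hc⟩ := isConj_iff.1 (ConjClasses.mk_eq_mk_iff_isConj.1 hab)
    refine ConjClasses.mk_eq_mk_iff_isConj.2 (isConj_iff.2 ⟨e.symm c, e.injective ?_⟩)
    simpa using hc
  · intro c
    obtain ⟨y, rfl⟩ := ConjClasses.mk_surjective c
    exact ⟨ConjClasses.mk (e.symm y), congrArg ConjClasses.mk (e.apply_symm_apply y)⟩

end Ok

end Cfsg.Agent.Chev
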