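/-
The value of the Steinberg character at an element of order prime to p is, up to sign, the p-part
of the order of its centralizer.
-/
import Cfsg.Agent.Lib.Chev.CosetSum
import Cfsg.Agent.Lib.Chev.SteinbergIrr
import Cfsg.Agent.Lib.Chev.Normal
import Cfsg.Agent.Lib.Chev.UnipCount

set_option autoImplicit false
set_option linter.unusedSectionVars false

namespace Cfsg.Agent.Chev

open Cfsg.Lie

universe u

variable {D : ChevalleyDatum} {P : Pk} {F : Type u} [Field F]

/-- The fundamental roots that a word sends to fundamental roots of `J`. -/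
def adaptSet (P : Pk) (J : Finset ℕ) (a : List ℕ) : Finset ℕ :=
  (Finset.range P.rank).filter fun i => ∃ j ∈ J, wl P a (P.sim i) = P.sim j

/-- A word carrying fundamental roots onto all the fundamental roots of `J`. -/
def Adapted (P : Pk) (J : Finset ℕ) (a : List ℕ) : Prop :=
  J ⊆ asc P a.reverse ∧ ∀ j ∈ J, ∃ i < P.rank, wl P a (P.sim i) = P.sim j

theorem mem_adaptSet {J : Finset ℕ} {a : List ℕ} {i : ℕ} :
    i ∈ adaptSet P J a ↔ i < P.rank ∧ ∃ j ∈ J, wl P a (P.sim i) = P.sim j := by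
  simp [adaptSet]

open scoped Classical in
/-- Alternating sums over intervals of sets. -/
theorem alt_sum_interval {α : Type*} [Finite α] (A S : α → Finset ℕ) (R : Finset ℕ) (hA : ∀ a, A a ⊆ R)
    (p : α → Prop) (hp : ∀ a, p a → S a ⊆ A a) :
    ∑ K ∈ R.powerset, (-1 : ℂ) ^ K.card * (Nat.card {a // p a ∧ S a ⊆ K ∧ K ⊆ A a} : ℂ) =
      ∑ᶠ a : {a // p a ∧ A a = S a}, (-1 : ℂ) ^ (A a.1).card := by
  haveI := Fintype.ofFinite α
  have hc : ∀ q : α → Prop, (Nat.card {a // q a} : ℂ) = ∑ a, if q a then (1 : ℂ) else 0 := fun q => by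
    rw [Nat.card_eq_fintype_card, Fintype.card_subtype, Finset.sum_boole]
  simp only [hc, Finset.mul_sum]
  rw [Finset.sum_comm, finsum_eq_sum_of_fintype,
    ← Finset.sum_subtype (Finset.univ.filter fun a => p a ∧ A a = S a) (fun a => by simp)
      (fun a => (-1 : ℂ) ^ (A a).card), Finset.sum_filter]
  refine Finset.sum_congr rfl fun a _ => ?_
  by_cases hpa : p a
  · simp only [hpa, true_and, mul_ite, mul_one, mul_zero]
    rw [← Finset.sum_filter]
    have hSA := hp a hpa
    have hK : ∀ T ⊆ A a \ S a, (-1 : ℂ) ^ (S a ∪ T).card = (-1) ^ (S a).card * (-1) ^ T.card := fun T hT => by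
      rw [Finset.card_union_of_disjoint (Finset.disjoint_left.2 fun x hx hxT =>
        (Finset.mem_sdiff.1 (hT hxT)).2 hx), pow_add]
    have e : ∑ K ∈ R.powerset.filter (fun K => S a ⊆ K ∧ K ⊆ A a), (-1 : ℂ) ^ K.card =
        ∑ T ∈ (A a \ S a).powerset, (-1 : ℂ) ^ (S a ∪ T).card := by
      refine Finset.sum_nbij' (fun K => K \ S a) (fun T => S a ∪ T) ?_ ?_ ?_ ?_ ?_
      · intro K hK'
        obtain ⟨-, -, h2⟩ := Finset.mem_filter.1 hK'
        exact Finset.mem_powerset.2 (Finset.sdiff_subset_sdiff h2 le_rfl)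
      · intro T hT
        have hT' := Finset.mem_powerset.1 hT
        have h1 : S a ∪ T ⊆ A a := Finset.union_subset hSA (hT'.trans Finset.sdiff_subset)
        exact Finset.mem_filter.2 ⟨Finset.mem_powerset.2 (h1.trans (hA a)), Finset.subset_union_left, h1⟩
      · intro K hK'
        exact Finset.union_sdiff_of_subset (Finset.mem_filter.1 hK').2.1
      · intro T hT
        ext x
        simp only [Finset.mem_sdiff, Finset.mem_union]
        have := fun hx : x ∈ T => (Finset.mem_sdiff.1 ((Finset.mem_powerset.1 hT) hx)).2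
        tauto
      · intro K hK'
        rw [Finset.union_sdiff_of_subset (Finset.mem_filter.1 hK').2.1]
    rw [e, Finset.sum_congr rfl fun T hT => hK T (Finset.mem_powerset.1 hT), ← Finset.mul_sum]
    have h0 := congrArg (Int.cast : ℤ → ℂ) (Finset.sum_powerset_neg_one_pow_card (x := A a \ S a))
    push_cast at h0
    rw [h0]
    by_cases he : A a = S a
    · simp [he]
    · rw [if_neg he, if_neg (fun h' => he (Finset.Subset.antisymm (Finset.sdiff_eq_empty_iff_subset.1 h') hSA))]
      simp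
  · simp [hpa]

namespace Ok

variable (h : Ok D P)
include h

/-- Kilmoyer's lemma: the trace of a twisted parabolic subgroup on a parabolic subgroup. -/
theorem double_meet (hC : P.ckComm = true) {J K : Finset ℕ} (hJ : J ⊆ Finset.range P.rank)
    (hK : K ⊆ Finset.range P.rank) {a : List ℕ} (ha : WordOk P a) (haJ : J ⊆ asc P a.reverse)
    (haK : K ⊆ asc P a) {y : GL D.Idx F} (hy : y ∈ D.parabolicSubgroup F (↑J : Set ℕ))
    (hy' : (h.nW a)⁻¹ * y * h.nW a ∈ D.parabolicSubgroup F (↑K : Set ℕ)) :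
    y ∈ D.parabolicSubgroup F
      (↑(J.filter fun j => inJ P K.toList (wl P a.reverse (P.sim j)) = true) : Set ℕ) := by
  set J' := J.filter fun j => inJ P K.toList (wl P a.reverse (P.sim j)) = true with hJ'
  have hJ'r : J' ⊆ Finset.range P.rank := (Finset.filter_subset _ _).trans hJ
  have harev := wordOk_reverse ha
  -- the word statement
  have main : ∀ (n : ℕ) (v x : List ℕ), (∀ i ∈ v, i ∈ J) → (∀ i ∈ x, i ∈ K) →
      invJ P (List.range P.rank) (act P v) ≤ n →
      (∀ r < P.nroots, wl P v (wl P a r) = wl P a (wl P x r)) →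
      h.nW (F := F) v ∈ D.parabolicSubgroup F (↑J' : Set ℕ) := by
    intro n
    induction n using Nat.strong_induction_on with
    | _ n ih =>
      intro v x hv hx hn heq
      have hvin := wordIn_of_mem hJ hv
      have hxin := wordIn_of_mem hK hx
      by_cases hall : ∀ j ∈ J, P.isPos (wl P v (P.sim j)) = true
      · exact Subgroup.mem_sup_left (Subgroup.mem_sup_right
          (h.nW_mem_diagonal hvin.1 (h.word_trivial hJ hv hall)))
      push Not at hall
      obtain ⟨j, hjJ, hjneg'⟩ := hall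
      have hjneg : P.isPos (wl P v (P.sim j)) = false := by simpa using hjneg'
      have hj := Finset.mem_range.1 (hJ hjJ)
      have hsj := h.sim_lt hj
      set γ := wl P a.reverse (P.sim j) with hγdef
      have hγn : γ < P.nroots := h.wl_lt _ harev _ hsj
      have hγpos : P.isPos γ = true := (mem_asc.1 (haJ hjJ)).2
      have haγ : wl P a γ = P.sim j := h.wl_reverse' ha hsj
      have hxγn : wl P x γ < P.nroots := h.wl_lt _ hxin.1 _ hγn
      have hxγ : P.isPos (wl P x γ) = false := by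
        by_contra hh
        have hz := h.wl_lt v hvin.1 _ hsj
        have hin : inJ P J.toList (P.ng (wl P v (P.sim j))) = true := by
          rw [← h.wl_ng v hvin.1 _ hsj, h.inJ_wl hvin (ng_lt hsj)]
          refine inJ_iff.2 fun m hm hmJ => ?_
          rw [h.rv_ng hsj hm, h.rv_sim hj hm, if_neg, neg_zero]
          rintro rfl; exact hmJ (Finset.mem_toList.2 hjJ)
        have h1 := h.pos_of_simple harev (fun k hk _ => (mem_asc.1 (haJ (Finset.mem_toList.1 hk))).2) hin
          ((h.ng_pos_iff hz).2 hjneg)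
        rw [h.wl_ng _ harev _ hz, h.ng_pos_iff (h.wl_lt _ harev _ hz)] at h1
        have h2 := congrArg (wl P a.reverse) (heq γ hγn)
        rw [haγ, h.wl_reverse a ha _ hxγn] at h2
        rw [h2] at h1
        exact hh h1
      have hγK : inJ P K.toList γ = true := inJ_iff.2 fun m hm hmK => by
        have h1 := (h.rv_sign hγn hm).1 hγpos
        have h2 := (h.rv_sign hxγn hm).2 hxγ
        rw [h.wl_outside hxin hγn hm hmK] at h2
        omega
      obtain ⟨i, hiK, hγi⟩ := h.sim_of_image ha haK hγpos hγK hj haγ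
      have hi := Finset.mem_range.1 (hK hiK)
      rw [hγi] at haγ
      have hjJ' : j ∈ J' := Finset.mem_filter.2 ⟨hjJ, hγK⟩
      have hlt := h.invJ_lt (J := List.range P.rank) hvin.1 hj (List.mem_range.2 hj) hjneg
      have h1 := ih _ (lt_of_lt_of_le hlt hn) (v ++ [j]) (x ++ [i])
        (fun k hk => (List.mem_append.1 hk).elim (hv k) fun e => by rw [List.mem_singleton.1 e]; exact hjJ)
        (fun k hk => (List.mem_append.1 hk).elim (hx k) fun e => by rw [List.mem_singleton.1 e]; exact hiK)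
        le_rfl (fun r hr => by
          rw [wl_append, wl_append]
          show wl P v (P.w j (wl P a r)) = _
          rw [← h.wl_w ha hi hj haγ hr, heq _ (h.w_lt hi hr)]
          rfl)
      rw [h.nW_append, show h.nW (F := F) [j] = h.nG j by simp [h.nW_cons, h.nW_nil]] at h1
      have h2 := mul_mem h1 (inv_mem (h.nG_mem_parabolic (F := F) (Finset.mem_coe.2 hjJ') hj))
      rwa [mul_inv_cancel_right] at h2
  obtain ⟨v, hv, b₁, hb₁, b₂, hb₂, hye⟩ := h.parabolic_cell hC hJ hy
  obtain ⟨x, hx, c₁, hc₁, c₂, hc₂, hqe⟩ := h.parabolic_cell hC hK hy'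
  have hvok := (wordIn_of_mem hJ hv).1
  have hxok := (wordIn_of_mem hK hx).1
  have hrv : ∀ i ∈ v.reverse, i ∈ J := fun i hi => hv i (List.mem_reverse.1 hi)
  have hin : h.Cell (v ++ a) (h.nW v * b₂ * h.nW a) := by
    have hinv : (h.nW v * b₂ * h.nW a)⁻¹ = (h.nW a.reverse * h.nW a)⁻¹ *
        (h.nW a.reverse * (b₂⁻¹ * (h.nW v.reverse * h.nW v)⁻¹) * h.nW v.reverse) := by group
    have hj : h.Cell (a.reverse ++ v.reverse)
        (h.nW a.reverse * (b₂⁻¹ * (h.nW v.reverse * h.nW v)⁻¹) * h.nW v.reverse) :=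
      h.min_join hC hJ harev haJ hrv
        (mul_mem (inv_mem hb₂) (inv_mem (Subgroup.mem_sup_right (h.nW_reverse_mul hvok))))
    have hj' : h.Cell (a.reverse ++ v.reverse) (h.nW v * b₂ * h.nW a)⁻¹ := by
      rw [hinv]
      simpa using h.cell_mul hj (inv_mem (Subgroup.mem_sup_right (h.nW_reverse_mul ha))) (one_mem _)
    simpa using h.cell_inv (wordOk_append harev (wordOk_reverse hvok)) hj'
  have hl : h.Cell (v ++ a) (y * h.nW a) := by
    rw [hye, show b₁ * h.nW v * b₂ * h.nW a = b₁ * (h.nW v * b₂ * h.nW a) * 1 by group]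
    exact h.cell_mul hin hb₁ (one_mem _)
  have hr : h.Cell (a ++ x) (y * h.nW a) := by
    rw [show y * h.nW a = 1 * (h.nW a * ((h.nW a)⁻¹ * y * h.nW a)) by group, hqe,
      show h.nW a * (c₁ * h.nW x * c₂) = h.nW a * c₁ * h.nW x * c₂ by group,
      show (1 : GL D.Idx F) * (h.nW a * c₁ * h.nW x * c₂) = 1 * (h.nW a * c₁ * h.nW x) * c₂ by group]
    exact h.cell_mul (h.min_join hC hK ha haK hx hc₁) (one_mem _) hc₂
  have hact := h.cell_unique hC (wordOk_append hvok ha) (wordOk_append ha hxok) hl hr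
  rw [hye]
  exact mul_mem (mul_mem (Subgroup.mem_sup_left hb₁) (main _ v x hv hx le_rfl fun r hr' => by
    have := hact r hr'; rwa [wl_append, wl_append] at this)) (Subgroup.mem_sup_left hb₂)

/-- The Levi subgroup lies in a twisted parabolic subgroup when the word carries its roots there. -/
theorem levi_le_conj {J K : Finset ℕ} (hK : K ⊆ Finset.range P.rank) {a : List ℕ} (ha : WordOk P a)
    (hgood : ∀ j ∈ J, inJ P K.toList (wl P a.reverse (P.sim j)) = true) :
    D.leviSubgroup F (↑J : Set ℕ) ≤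
      (D.parabolicSubgroup F (↑K : Set ℕ)).map (MulAut.conj (h.nW a)).toMonoidHom := by
  have hmem : ∀ x : GL D.Idx F, (h.nW a)⁻¹ * x * h.nW a ∈ D.parabolicSubgroup F (↑K : Set ℕ) →
      x ∈ (D.parabolicSubgroup F (↑K : Set ℕ)).map (MulAut.conj (h.nW a)).toMonoidHom := fun x hx =>
    Subgroup.mem_map.2 ⟨_, hx, by simp [MulAut.conj_apply]; group⟩
  rw [h.levi_eq]
  refine sup_le (fun d hd => hmem d ?_) (h.genR_le fun r hr t => hmem _ ?_)
  · refine Subgroup.mem_sup_left (Subgroup.mem_sup_right ?_)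
    simpa using (Subgroup.mem_normalizer_iff.1 (inv_mem (h.nW_normalizer (F := F) a ha)) d).1 hd
  · have harev := wordOk_reverse ha
    have hs := h.wl_lt _ harev r hr.1
    obtain ⟨e, hee, hx⟩ := h.nW_xG (F := F) a ha _ hs
    have e1 := (hx (e * t)).1
    rw [h.wl_reverse' ha hr.1, ← mul_assoc, hee, one_mul] at e1
    rw [← e1, show (h.nW a)⁻¹ * (h.nW a * h.xG (wl P a.reverse r) (e * t) * (h.nW a)⁻¹) * h.nW a =
      h.xG (wl P a.reverse r) (e * t) by group]
    refine h.inJ_mem_parabolic _ ⟨hs, fun m hm hmK => ?_⟩ _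
    rw [h.rv_wl _ harev r hr.1 m hm]
    refine Finset.sum_eq_zero fun k hk => ?_
    by_cases hkJ : k ∈ J
    · rw [inJ_iff.1 (hgood k hkJ) m hm (fun hh => hmK (Finset.mem_coe.2 (Finset.mem_toList.1 hh))), mul_zero]
    · rw [hr.2 k (Finset.mem_range.1 hk) (fun hh => hkJ (Finset.mem_coe.1 hh)), zero_mul]

theorem adapted_subset {J : Finset ℕ} {a : List ℕ} (_ha : WordOk P a) (hJ : J ⊆ Finset.range P.rank) :
    adaptSet P J a ⊆ asc P a := fun i hi => by
  obtain ⟨hi', j, hjJ, e⟩ := mem_adaptSet.1 hi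
  exact mem_asc.2 ⟨hi', by rw [e]; exact h.sim_pos (Finset.mem_range.1 (hJ hjJ))⟩

theorem exists_adapted {J : Finset ℕ} (hJ : J ⊆ Finset.range P.rank) :
    ∃ a, WordOk P a ∧ Adapted P J a ∧ asc P a = adaptSet P J a := by
  obtain ⟨l₀, hl₀, hneg⟩ := h.exists_longest
  obtain ⟨t, htJ, htop⟩ := h.exists_top hJ P.nroots [] (fun _ hx => absurd hx List.not_mem_nil)
    (Nat.le_add_right _ _)
  have ht := wordIn_of_mem hJ htJ
  have htrev := h.wordIn_reverse ht
  have htopr := h.top_reverse hJ htJ htop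
  set a := t ++ l₀
  have ha : WordOk P a := wordOk_append ht.1 hl₀
  have harev := wordOk_reverse ha
  have hlneg : ∀ {r : ℕ}, r < P.nroots → P.isPos r = false → P.isPos (wl P l₀.reverse r) = true := by
    intro r hr hp
    by_contra hh
    have hx := h.wl_lt _ (wordOk_reverse hl₀) r hr
    have h1 := hneg _ ((h.ng_pos_iff hx).2 (by simpa using hh))
    rw [h.wl_ng l₀ hl₀ _ hx, h.wl_reverse' hl₀ hr, (h.ng_pos_iff hr).2 hp] at h1
    exact absurd h1 (by simp)
  have hascJ : J ⊆ asc P a.reverse := by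
    intro j hjJ
    have hj := Finset.mem_range.1 (hJ hjJ)
    refine mem_asc.2 ⟨hj, ?_⟩
    rw [List.reverse_append, wl_append]
    exact hlneg (h.wl_lt _ htrev.1 _ (h.sim_lt hj))
      (h.neg_of_top hJ htrev.1 htopr (h.sim_pos hj) (h.inJ_sim hjJ hj))
  have hA : ∀ i ∈ asc P a, inJ P J.toList (wl P a (P.sim i)) = true := by
    intro i hi
    obtain ⟨hi', hp⟩ := mem_asc.1 hi
    have hy := h.wl_lt l₀ hl₀ _ (h.sim_lt hi')
    have h0 := hneg _ (h.sim_pos hi')
    rw [wl_append] at hp ⊢
    refine inJ_iff.2 fun m hm hmJ => ?_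
    have h1 := (h.rv_sign (h.wl_lt t ht.1 _ hy) hm).1 hp
    have h2 := (h.rv_sign hy hm).2 h0
    rw [h.wl_outside ht hy hm hmJ] at h1 ⊢
    omega
  have hB : ∀ j ∈ J, inJ P (asc P a).toList (wl P a.reverse (P.sim j)) = true := by
    intro j hjJ
    have hj := Finset.mem_range.1 (hJ hjJ)
    have hγ := (mem_asc.1 (hascJ hjJ)).2
    set γ := wl P a.reverse (P.sim j)
    have hγn : γ < P.nroots := h.wl_lt _ harev _ (h.sim_lt hj)
    refine inJ_iff.2 fun i hi hia => ?_
    have hneg' : P.isPos (wl P a (P.sim i)) = false := by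
      by_contra hh
      exact hia (Finset.mem_toList.2 (mem_asc.2 ⟨hi, by simpa using hh⟩))
    have hβ := h.wl_lt a ha _ (h.sim_lt hi)
    -- a coordinate outside `J`
    obtain ⟨m, hm, hmJ, hm0⟩ : ∃ m < P.rank, m ∉ J ∧ P.rv (wl P a (P.sim i)) m ≠ 0 := by
      by_contra hall
      push Not at hall
      have hin : inJ P J.toList (P.ng (wl P a (P.sim i))) = true := inJ_iff.2 fun m hm hmJ => by
        rw [h.rv_ng hβ hm, hall m hm (fun hh => hmJ (Finset.mem_toList.2 hh)), neg_zero]
      have h1 := h.neg_of_top hJ htrev.1 htopr ((h.ng_pos_iff hβ).2 hneg') hin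
      rw [h.wl_ng _ htrev.1 _ hβ, ← Bool.not_eq_true, h.ng_pos_iff (h.wl_lt _ htrev.1 _ hβ),
        show wl P a (P.sim i) = wl P t (wl P l₀ (P.sim i)) from wl_append P t l₀ _,
        h.wl_reverse t ht.1 _ (h.wl_lt l₀ hl₀ _ (h.sim_lt hi))] at h1
      exact h1 (hneg _ (h.sim_pos hi))
    have hsum := h.rv_wl a ha γ hγn m hm
    rw [h.wl_reverse' ha (h.sim_lt hj), h.rv_sim hj hm, if_neg (fun e : j = m => hmJ (e ▸ hjJ))] at hsum
    have hterm : ∀ k ∈ Finset.range P.rank, P.rv γ k * P.rv (wl P a (P.sim k)) m ≤ 0 := by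
      intro k hk
      have hk' := Finset.mem_range.1 hk
      by_cases hka : k ∈ asc P a
      · rw [inJ_iff.1 (hA k hka) m hm (fun hh => hmJ (Finset.mem_toList.1 hh)), mul_zero]
      · refine mul_nonpos_of_nonneg_of_nonpos ((h.rv_sign hγn hk').1 hγ)
          ((h.rv_sign (h.wl_lt a ha _ (h.sim_lt hk')) hm).2 ?_)
        by_contra hh
        exact hka (mem_asc.2 ⟨hk', by simpa using hh⟩)
    have := (Finset.sum_eq_zero_iff_of_nonpos hterm).1 hsum.symm i (Finset.mem_range.2 hi)
    exact (mul_eq_zero.1 this).resolve_right hm0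
  have hgood : ∀ j ∈ J, ∃ i < P.rank, wl P a (P.sim i) = P.sim j := by
    intro j hjJ
    have hj := Finset.mem_range.1 (hJ hjJ)
    obtain ⟨i, hi, e⟩ := h.sim_of_image ha subset_rfl (mem_asc.1 (hascJ hjJ)).2 (hB j hjJ) hj
      (h.wl_reverse' ha (h.sim_lt hj))
    exact ⟨i, (mem_asc.1 hi).1, by rw [← e]; exact h.wl_reverse' ha (h.sim_lt hj)⟩
  refine ⟨a, ha, ⟨hascJ, hgood⟩, Finset.Subset.antisymm (fun i hi => ?_) (h.adapted_subset ha hJ)⟩
  obtain ⟨hi', hp⟩ := mem_asc.1 hi
  obtain ⟨j, hjJ, e⟩ := h.sim_of_image harev hascJ hp (hA i hi) hi' (h.wl_reverse a ha _ (h.sim_lt hi'))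
  exact mem_adaptSet.2 ⟨hi', j, hjJ, e⟩

theorem adapted_unique {J : Finset ℕ} (hJ : J ⊆ Finset.range P.rank) {a b : List ℕ} (ha : WordOk P a)
    (hb : WordOk P b) (haA : Adapted P J a) (hbA : Adapted P J b) (hae : asc P a = adaptSet P J a)
    (hbe : asc P b = adaptSet P J b) : ∀ r < P.nroots, wl P a r = wl P b r := by
  obtain ⟨t, htJ, htop⟩ := h.exists_top hJ P.nroots [] (fun _ hx => absurd hx List.not_mem_nil)
    (Nat.le_add_right _ _)
  have ht := wordIn_of_mem hJ htJ
  have key : ∀ {a : List ℕ}, WordOk P a → Adapted P J a → asc P a = adaptSet P J a →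
      asc P (t ++ a) = ∅ := by
    intro a ha haA hae
    refine Finset.eq_empty_of_forall_notMem fun i hi => ?_
    obtain ⟨hi', hp⟩ := mem_asc.1 hi
    rw [wl_append] at hp
    have hs := h.sim_lt hi'
    have hy := h.wl_lt a ha _ hs
    by_cases hia : i ∈ asc P a
    · rw [hae] at hia
      obtain ⟨-, j, hjJ, e⟩ := mem_adaptSet.1 hia
      rw [e, h.neg_of_top hJ ht.1 htop (h.sim_pos (Finset.mem_range.1 (hJ hjJ)))
        (h.inJ_sim hjJ (Finset.mem_range.1 (hJ hjJ)))] at hp
      simp at hp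
    · have hyneg : P.isPos (wl P a (P.sim i)) = false := by
        by_contra hh
        exact hia (mem_asc.2 ⟨hi', by simpa using hh⟩)
      have hin : inJ P J.toList (P.ng (wl P a (P.sim i))) = true := inJ_iff.2 fun m hm hmJ => by
        have h1 := (h.rv_sign (h.wl_lt t ht.1 _ hy) hm).1 hp
        have h2 := (h.rv_sign hy hm).2 hyneg
        rw [h.wl_outside ht hy hm hmJ] at h1
        rw [h.rv_ng hy hm]
        omega
      have h1 := h.pos_of_simple (wordOk_reverse ha)
        (fun k hk _ => (mem_asc.1 (haA.1 (Finset.mem_toList.1 hk))).2) hin ((h.ng_pos_iff hy).2 hyneg)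
      rw [h.wl_ng _ (wordOk_reverse ha) _ hy, h.wl_reverse a ha _ hs, h.ng_pos_iff hs, h.sim_pos hi'] at h1
      simp at h1
  intro r hr
  have h1 := h.top_unique (wordOk_append ht.1 ha) (wordOk_append ht.1 hb) (key ha haA hae) (key hb hbA hbe) r hr
  rw [wl_append, wl_append] at h1
  have h2 := congrArg (wl P t.reverse) h1
  rwa [h.wl_reverse t ht.1 _ (h.wl_lt a ha r hr), h.wl_reverse t ht.1 _ (h.wl_lt b hb r hr)] at h2

open scoped Classical in
/-- The fixed orbits of the unipotent radical on the cosets of a parabolic subgroup, at an element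
of `P_J` that is in no conjugate of a smaller parabolic subgroup. -/
theorem card_fixed_orbits (hC : P.ckComm = true) [Finite F] {J K : Finset ℕ}
    (hJ : J ⊆ Finset.range P.rank) (hK : K ⊆ Finset.range P.rank) {g : ↥(D.group F)}
    (hg : g ∈ D.parabolicIn F J)
    (hmin : ∀ J' : Finset ℕ, J' ⊂ J → ∀ c : ↥(D.group F), c * g * c⁻¹ ∉ D.parabolicIn F J') :
    Nat.card {O : MulAction.orbitRel.Quotient ↥((D.unipotentRadical F (↑J : Set ℕ)).subgroupOf (D.group F))
        (↥(D.group F) ⧸ D.parabolicIn F K) // ∀ x, Quotient.mk'' x = O →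
          (Quotient.mk'' (g • x) : MulAction.orbitRel.Quotient _ (↥(D.group F) ⧸ D.parabolicIn F K)) = O} =
      Nat.card {f : WAll P // Adapted P J (h.wordW f) ∧ adaptSet P J (h.wordW f) ⊆ K ∧
        K ⊆ asc P (h.wordW f)} := by
  set UJ := (D.unipotentRadical F (↑J : Set ℕ)).subgroupOf (D.group F)
  set X := ↥(D.group F) ⧸ D.parabolicIn F K
  have hgood : ∀ f : WAll P, J ⊆ asc P (h.wordW f).reverse → K ⊆ asc P (h.wordW f) →
      ((∀ j ∈ J, inJ P K.toList (wl P (h.wordW f).reverse (P.sim j)) = true) ↔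
        Adapted P J (h.wordW f) ∧ adaptSet P J (h.wordW f) ⊆ K) := by
    intro f hfJ hfK
    have hw := (h.wordW_spec f).1
    constructor
    · intro hin
      refine ⟨⟨hfJ, fun j hjJ => ?_⟩, fun i hi => ?_⟩
      · have hj := Finset.mem_range.1 (hJ hjJ)
        obtain ⟨i, hiK, e⟩ := h.sim_of_image hw hfK (mem_asc.1 (hfJ hjJ)).2 (hin j hjJ) hj
          (h.wl_reverse' hw (h.sim_lt hj))
        exact ⟨i, Finset.mem_range.1 (hK hiK), by rw [← e]; exact h.wl_reverse' hw (h.sim_lt hj)⟩
      · obtain ⟨hi', j, hjJ, e⟩ := mem_adaptSet.1 hi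
        have h1 := hin j hjJ
        rw [← e, h.wl_reverse _ hw _ (h.sim_lt hi')] at h1
        by_contra hiK
        have := inJ_iff.1 h1 i hi' (fun hh => hiK (Finset.mem_toList.1 hh))
        rw [h.rv_sim hi' hi', if_pos rfl] at this
        simp at this
    · rintro ⟨had, hsub⟩ j hjJ
      obtain ⟨i, hi, e⟩ := had.2 j hjJ
      rw [← e, h.wl_reverse _ hw _ (h.sim_lt hi)]
      exact h.inJ_sim (hsub (mem_adaptSet.2 ⟨hi, j, hjJ, e⟩)) hi
  have hUP : ∀ u : ↥(D.group F), u ∈ UJ → u ∈ D.parabolicIn F J := fun u hu => by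
    refine Subgroup.mem_subgroupOf.2 ?_
    rw [h.parabolic_eq_levi]
    exact Subgroup.mem_sup_left (by simpa [h.radical_eq] using Subgroup.mem_subgroupOf.1 hu)
  have hrad := h.radical_normal (F := F) hC (↑J : Set ℕ)
  -- an element of `P_J` moves an adapted representative inside its orbit
  have hstep : ∀ f : WAll P, (∀ j ∈ J, inJ P K.toList (wl P (h.wordW f).reverse (P.sim j)) = true) →
      ∀ p ∈ D.parabolicIn F J, ∃ u : UJ,
        (u : ↥(D.group F)) • (QuotientGroup.mk (h.repW f) : X) = p • (QuotientGroup.mk (h.repW f) : X) := by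
    intro f hf p hp
    have hw := (h.wordW_spec f).1
    have hp' := Subgroup.mem_subgroupOf.1 hp
    rw [h.parabolic_eq_levi, ← SetLike.mem_coe,
      Subgroup.coe_mul_of_right_le_normalizer_left _ _ (by
        rw [← h.radical_eq]
        exact le_trans (le_sup_right.trans (h.parabolic_eq_levi (F := F) _).ge) hrad)] at hp'
    obtain ⟨u, hu, l, hl, e⟩ := hp'
    obtain ⟨q, hq, eq⟩ := Subgroup.mem_map.1 (h.levi_le_conj hK hw hf hl)
    have huG : u ∈ D.group F := by
      have : u ∈ D.parabolicSubgroup F (↑J : Set ℕ) := by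
        rw [h.parabolic_eq_levi]; exact Subgroup.mem_sup_left hu
      exact h.parabolic_le_group hC _ this
    refine ⟨⟨⟨u, huG⟩, Subgroup.mem_subgroupOf.2 (by rw [h.radical_eq]; exact hu)⟩, ?_⟩
    refine QuotientGroup.eq.2 (Subgroup.mem_subgroupOf.2 ?_)
    simp only [smul_eq_mul, Subgroup.coe_mul, InvMemClass.coe_inv, repW, ← e, ← eq,
      MulEquiv.toMonoidHom_eq_coe, MonoidHom.coe_coe, MulAut.conj_apply]
    convert hq using 1
    group
  symm
  refine Nat.card_congr (Equiv.ofBijective (fun f =>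
    ⟨Quotient.mk'' (QuotientGroup.mk (h.repW f.1) : X), fun x hx => ?_⟩) ⟨?_, ?_⟩)
  · -- fixed
    obtain ⟨f, hfA, hfS, hfK⟩ := f
    rw [Quotient.eq''] at hx
    obtain ⟨c, hc⟩ := MulAction.mem_orbit_iff.1 hx
    rw [Quotient.eq'', MulAction.orbitRel_apply, MulAction.mem_orbit_iff]
    obtain ⟨u, hu⟩ := hstep f ((hgood f hfA.1 hfK).2 ⟨hfA, hfS⟩) (g * (c : ↥(D.group F)))
      (mul_mem hg (hUP _ c.2))
    refine ⟨u, ?_⟩
    show ((u : ↥(D.group F)) • (QuotientGroup.mk (h.repW f) : X)) = g • x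
    rw [hu, mul_smul]
    exact congrArg (g • ·) hc
  · rintro ⟨f, hfA, hfS, hfK⟩ ⟨f', hf'A, hf'S, hf'K⟩ e
    have e1 := congrArg Subtype.val e
    rw [Quotient.eq'', MulAction.orbitRel_apply, MulAction.mem_orbit_iff] at e1
    obtain ⟨c, hc⟩ := e1
    have hd : DoubleCoset.mk (D.parabolicIn F J) (D.parabolicIn F K) (h.repW f') =
        DoubleCoset.mk (D.parabolicIn F J) (D.parabolicIn F K) (h.repW f) := by
      refine (DoubleCoset.eq _ _ _ _).2 ⟨c, hUP _ c.2, ((c : ↥(D.group F)) * h.repW f')⁻¹ * h.repW f,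
        ?_, by group⟩
      exact QuotientGroup.eq.1 hc
    have := (h.doubleCoset_bij hC hJ hK).1 (a₁ := ⟨f', hf'A.1, hf'K⟩) (a₂ := ⟨f, hfA.1, hfK⟩) hd
    exact Subtype.ext (congrArg (fun z => z.1) this).symm
  · rintro ⟨O, hO⟩
    induction O using Quotient.inductionOn' with
    | _ x =>
    induction x using QuotientGroup.induction_on with
    | _ z =>
    obtain ⟨⟨f, hfJ, hfK⟩, hf⟩ := (h.doubleCoset_bij hC hJ hK).2 (DoubleCoset.mk _ _ z)
    obtain ⟨p, hp, q, hq, e⟩ := (DoubleCoset.eq _ _ _ _).1 hf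
    by_cases hin : ∀ j ∈ J, inJ P K.toList (wl P (h.wordW f).reverse (P.sim j)) = true
    · obtain ⟨hA, hS⟩ := (hgood f hfJ hfK).1 hin
      refine ⟨⟨f, hA, hS, hfK⟩, Subtype.ext (Quotient.eq''.2 ?_)⟩
      rw [MulAction.orbitRel_apply, MulAction.mem_orbit_iff]
      obtain ⟨u, hu⟩ := hstep f hin p hp
      refine ⟨u⁻¹, ?_⟩
      rw [inv_smul_eq_iff]
      show _ = (u : ↥(D.group F)) • (QuotientGroup.mk (h.repW f) : X)
      rw [hu, e]
      exact (QuotientGroup.mk_mul_of_mem _ hq)
    · exfalso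
      have h1 := hO _ rfl
      rw [Quotient.eq'', MulAction.orbitRel_apply, MulAction.mem_orbit_iff] at h1
      obtain ⟨c, hc⟩ := h1
      have hc' := QuotientGroup.eq.1 hc
      set y := p⁻¹ * (c : ↥(D.group F))⁻¹ * g * p
      have hy : y ∈ D.parabolicIn F J :=
        mul_mem (mul_mem (mul_mem (inv_mem hp) (inv_mem (hUP _ c.2))) hg) hp
      have hyK : (h.repW f)⁻¹ * y * h.repW f ∈ D.parabolicIn F K := by
        have := mul_mem (mul_mem hq hc') (inv_mem hq)
        simp only [smul_eq_mul, e] at this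
        convert this using 1
        simp only [y, Subgroup.coe_subtype]
        group
      have hmeet := h.double_meet hC hJ hK (h.wordW_spec f).1 hfJ hfK (Subgroup.mem_subgroupOf.1 hy)
        (by simpa [repW] using Subgroup.mem_subgroupOf.1 hyK)
      set J' := J.filter fun j => inJ P K.toList (wl P (h.wordW f).reverse (P.sim j)) = true
      have hss : J' ⊂ J := Finset.filter_ssubset.2 (by push Not at hin; simpa using hin)
      refine hmin J' hss p⁻¹ ?_
      rw [inv_inv, show p⁻¹ * g * p = (p⁻¹ * (c : ↥(D.group F)) * p) * y by simp only [y]; group]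
      refine mul_mem (Subgroup.mem_subgroupOf.2 (Subgroup.mem_sup_left (Subgroup.mem_sup_left ?_)))
        (Subgroup.mem_subgroupOf.2 hmeet)
      have hcU := Subgroup.mem_subgroupOf.1 c.2
      have h2 := (Subgroup.mem_normalizer_iff.1 (hrad (inv_mem (Subgroup.mem_subgroupOf.1 hp))) _).1 hcU
      rw [inv_inv, h.radical_eq] at h2
      exact h.genR_le (fun r hr t => h.xG_mem_pos ((h.out_iff _ r).1 hr).1 t) h2

open scoped Classical in
set_option maxHeartbeats 1000000 in
/-- The value of the Steinberg character at an element of order prime to `p`. -/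
theorem steinberg_value (hC : P.ckComm = true) [Fintype F] (p : ℕ) [Fact p.Prime] [CharP F p]
    (g : ↥(D.group F)) (hg : ¬ p ∣ orderOf g) :
    D.steinbergCharacter F g =
        ((p ^ (Nat.card ↥(Subgroup.centralizer ({g} : Set ↥(D.group F)))).factorization p : ℕ) : ℂ) ∨
      D.steinbergCharacter F g =
        -((p ^ (Nat.card ↥(Subgroup.centralizer ({g} : Set ↥(D.group F)))).factorization p : ℕ) : ℂ) := by
  haveI := Fintype.ofFinite ↥(D.group F)
  set St := D.steinbergCharacter F
  have hStc : ∀ c x : ↥(D.group F), St (c * x * c⁻¹) = St x := fun c x =>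
    CT.isClassFunction_of_isIrr (h.steinberg_irr hC) x c
  obtain ⟨S₀, hS₀⟩ := h.pos_sylow (F := F) p hC
  have hUG : D.posUnipotent F ≤ D.group F := fun x hx => h.borel_le_group (Subgroup.mem_sup_left hx)
  have hSt0 : ∀ x : ↥(D.group F), p ∣ orderOf x → St x = 0 := fun x hx => by
    have hcard : Nat.card (S₀ : Subgroup ↥(D.group F)) = Fintype.card F ^ (P.nroots / 2) := by
      rw [hS₀, Nat.card_congr (Subgroup.subgroupOfEquivOfLe hUG).toEquiv, h.card_pos hC]
    refine irr_vanish_of_defect_zero (h.steinberg_irr hC) (d := Fintype.card F ^ (P.nroots / 2))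
      ?_ ?_ S₀.not_dvd_index hx
    · rw [h.steinberg_one hC, Nat.cast_pow]
    · rw [← hcard, Subgroup.card_mul_index]
  -- a smallest parabolic subgroup
  have hex : ∃ n, ∃ J : Finset ℕ, J ⊆ Finset.range P.rank ∧ J.card = n ∧
      ∃ c : ↥(D.group F), c * g * c⁻¹ ∈ D.parabolicIn F J :=
    ⟨_, Finset.range P.rank, subset_rfl, rfl, 1, h.mem_parabolicIn_range hC _⟩
  obtain ⟨J, hJ, hJc, c₀, hc₀⟩ := Nat.find_spec hex
  set g' := c₀ * g * c₀⁻¹ with hg'def
  have hreg' : ¬ p ∣ orderOf g' := by rwa [hg'def, ← MulAut.conj_apply, MulEquiv.orderOf_eq]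
  have hmin : ∀ J' : Finset ℕ, J' ⊂ J → ∀ c : ↥(D.group F), c * g' * c⁻¹ ∉ D.parabolicIn F J' := by
    intro J' hss c hc
    have h1 := Nat.find_min' hex (m := J'.card) ⟨J', hss.subset.trans hJ, rfl, c * c₀, by
      convert hc using 1; simp only [hg'def]; group⟩
    have h2 := Finset.card_lt_card hss
    omega
  have hval : St g = St g' := (hStc c₀ g).symm
  -- the sum over the coset of the radical
  set UJ := (D.unipotentRadical F (↑J : Set ℕ)).subgroupOf (D.group F)
  letI : Fintype UJ := Fintype.ofFinite _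
  have hUJp : IsPGroup p UJ := by
    refine IsPGroup.to_le (S₀.isPGroup') fun x hx => ?_
    rw [hS₀]
    refine Subgroup.mem_subgroupOf.2 ?_
    have := Subgroup.mem_subgroupOf.1 hx
    rw [h.radical_eq] at this
    exact h.genR_le (fun r hr t => h.xG_mem_pos ((h.out_iff _ r).1 hr).1 t) this
  have hnorm : ∀ u ∈ UJ, g' * u * g'⁻¹ ∈ UJ := fun u hu => Subgroup.mem_subgroupOf.2 (by
    simpa using (Subgroup.mem_normalizer_iff.1 (h.radical_normal (F := F) hC _
      (Subgroup.mem_subgroupOf.1 hc₀)) u.1).1 (Subgroup.mem_subgroupOf.1 hu))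
  have hfix : ∀ (U : Subgroup ↥(D.group F)) [Fintype U] (x : ↥(D.group F)), (∀ u ∈ U, x * u * x⁻¹ ∈ U) →
      ∀ K : Finset ℕ, ∃ n : ℕ, ∑ u : U, fixedPointCharacter (D.parabolicIn F K) (x * u) =
        (Nat.card U : ℂ) * n := by
    intro U _ x hx K
    simp only [fixedPointCharacter]
    rw [← Nat.cast_sum]
    exact ⟨_, (congrArg Nat.cast (CosetSum.sum_fixed_coset U hx)).trans (Nat.cast_mul _ _)⟩
  -- divisibility by the Sylow subgroup of the centralizer
  set C := Subgroup.centralizer ({g'} : Set ↥(D.group F))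
  obtain ⟨S⟩ : Nonempty (Sylow p C) := inferInstance
  set S' := (S : Subgroup C).map C.subtype
  letI : Fintype S' := Fintype.ofFinite _
  have hcardS : Nat.card S' = p ^ (Nat.card C).factorization p := by
    rw [← S.card_eq_multiplicity]
    exact (Nat.card_congr ((S : Subgroup C).equivMapOfInjective _ C.subtype_injective).toEquiv).symm
  have hS'C : S' ≤ C := fun x hx => by obtain ⟨y, -, rfl⟩ := Subgroup.mem_map.1 hx; exact y.2
  have hcomm : ∀ s ∈ S', g' * s = s * g' := fun s hs =>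
    (Subgroup.mem_centralizer_singleton_iff.1 (hS'C hs)).symm
  have hS'p : IsPGroup p S' := S.isPGroup'.map _
  obtain ⟨z, hz⟩ : ∃ z : ℤ, St g' = (Nat.card S' : ℂ) * z := by
    choose n hn using fun K => hfix S' g' (fun u hu => by rw [hcomm u hu, mul_inv_cancel_right]; exact hu) K
    refine ⟨∑ K ∈ (Finset.range D.rank).powerset, (-1) ^ K.card * (n K : ℤ), ?_⟩
    have hsum : ∑ s : S', St (g' * s) = St g' := by
      rw [Finset.sum_eq_single (1 : S')]
      · simp
      · intro s _ hs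
        refine hSt0 _ ?_
        by_contra hn
        have hco : Commute g' (s : ↥(D.group F)) := hcomm s s.2
        obtain ⟨k, hk⟩ := hS'p s
        have e := Blocks.regPart_eq hco.symm.eq hco.symm ⟨k, by simpa using congrArg Subtype.val hk⟩ hreg'
        rw [Blocks.regPart_of_regular hn] at e
        exact hs (Subtype.ext (mul_eq_left.1 e))
      · simp
    rw [← hsum]
    simp only [St, ChevalleyDatum.steinbergCharacter]
    rw [Finset.sum_comm]
    push_cast
    rw [Finset.mul_sum]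
    refine Finset.sum_congr rfl fun K _ => ?_
    rw [← Finset.mul_sum, hn K]
    ring
  -- the sum is the radical times a sign
  have hsign : ∃ ε : ℂ, (ε = 1 ∨ ε = -1) ∧ ∑ u : UJ, St (g' * u) = (Nat.card UJ : ℂ) * ε := by
    obtain ⟨a, ha, haA, hae⟩ := h.exists_adapted hJ
    obtain ⟨f₀, hf₀⟩ := h.exists_wordW ha
    have hw := (h.wordW_spec f₀).1
    have hrev := h.wl_reverse_congr hw ha hf₀
    have hA₀ : Adapted P J (h.wordW f₀) := by
      refine ⟨by rw [h.asc_congr hrev]; exact haA.1, fun j hj => ?_⟩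
      obtain ⟨i, hi, e⟩ := haA.2 j hj
      exact ⟨i, hi, by rw [hf₀ _ (h.sim_lt hi), e]⟩
    have he₀ : asc P (h.wordW f₀) = adaptSet P J (h.wordW f₀) := by
      rw [h.asc_congr hf₀, hae]
      exact Finset.filter_congr fun i hi => by rw [hf₀ _ (h.sim_lt (Finset.mem_range.1 hi))]
    refine ⟨(-1) ^ (asc P (h.wordW f₀)).card, neg_one_pow_eq_or _ _, ?_⟩
    simp only [St, ChevalleyDatum.steinbergCharacter]
    rw [Finset.sum_comm]
    have hK : ∀ K ∈ (Finset.range D.rank).powerset,
        ∑ u : UJ, (-1 : ℂ) ^ K.card * fixedPointCharacter (D.parabolicIn F K) (g' * u) =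
          (Nat.card UJ : ℂ) * ((-1 : ℂ) ^ K.card * (Nat.card {f : WAll P // Adapted P J (h.wordW f) ∧
            adaptSet P J (h.wordW f) ⊆ K ∧ K ⊆ asc P (h.wordW f)} : ℂ)) := by
      intro K hK
      have hK' : K ⊆ Finset.range P.rank := by
        intro x hx; have := Finset.mem_range.1 (Finset.mem_powerset.1 hK hx); rw [h.rank] at this
        exact Finset.mem_range.2 this
      rw [← Finset.mul_sum, mul_left_comm]
      congr 1
      simp only [fixedPointCharacter]
      rw [← Nat.cast_sum, ← Nat.cast_mul]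
      refine congrArg Nat.cast ?_
      rw [← h.card_fixed_orbits hC hJ hK' hc₀ hmin]
      exact CosetSum.sum_fixed_coset UJ hnorm
    rw [Finset.sum_congr rfl hK, ← Finset.mul_sum]
    congr 1
    rw [show (Finset.range D.rank).powerset = (Finset.range P.rank).powerset by rw [h.rank],
      alt_sum_interval (fun f : WAll P => asc P (h.wordW f)) (fun f => adaptSet P J (h.wordW f))
        (Finset.range P.rank) (fun f => Finset.filter_subset _ _) (fun f => Adapted P J (h.wordW f))
        (fun f hf => h.adapted_subset (h.wordW_spec f).1 hJ)]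
    letI : Unique {f : WAll P // Adapted P J (h.wordW f) ∧ asc P (h.wordW f) = adaptSet P J (h.wordW f)} :=
      { default := ⟨f₀, hA₀, he₀⟩
        uniq := fun ⟨f, hfA, hfe⟩ => Subtype.ext (Subtype.ext (by
          show f.1 = f₀.1
          rw [← (h.wordW_spec f).2, ← (h.wordW_spec f₀).2]
          exact (h.act_eq_iff (h.wordW_spec f).1 hw).2
            (h.adapted_unique hJ (h.wordW_spec f).1 hw hfA hA₀ hfe he₀))) }
    rw [finsum_unique]
    rfl
  obtain ⟨ε, hε, hsum⟩ := hsign
  have hreg := CosetSum.sum_regular_coset hUJp hnorm hreg' St hStc hSt0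
  rw [hsum, mul_left_comm] at hreg
  have hval' : St g' = (Nat.card ↥(UJ ⊓ C) : ℂ) * ε :=
    (mul_left_cancel₀ (Nat.cast_ne_zero.2 Nat.card_pos.ne') hreg).symm
  -- the two orders agree
  set A := Nat.card ↥(UJ ⊓ C)
  have hAp : IsPGroup p ↥(UJ ⊓ C) := hUJp.to_le inf_le_left
  obtain ⟨a, haA⟩ := IsPGroup.iff_card.1 hAp
  have hdvd1 : A ∣ Nat.card S' := by
    rw [hcardS, show A = p ^ a from haA]
    refine pow_dvd_pow p (((Fact.out : p.Prime).pow_dvd_iff_le_factorization Nat.card_pos.ne').1 ?_)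
    rw [← haA]
    exact Subgroup.card_dvd_of_le inf_le_right
  have hdvd2 : Nat.card S' ∣ A := by
    have : ((A : ℤ) : ℂ) = ((Nat.card S' : ℤ) * z : ℤ) ∨ ((A : ℤ) : ℂ) = -(((Nat.card S' : ℤ) * z : ℤ) : ℂ) := by
      rw [hz] at hval'
      push_cast
      rcases hε with rfl | rfl
      · left; rw [hval', mul_one]
      · right; rw [hval']; ring
    rcases this with e | e
    · exact Int.natCast_dvd_natCast.1 ⟨z, by exact_mod_cast e⟩
    · exact Int.natCast_dvd_natCast.1 ⟨-z, by rw [mul_neg]; exact_mod_cast e⟩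
  have hA : A = Nat.card S' := Nat.dvd_antisymm hdvd1 hdvd2
  have hCC : Nat.card C = Nat.card ↥(Subgroup.centralizer ({g} : Set ↥(D.group F))) := by
    have hiff : ∀ x, c₀ * x * c₀⁻¹ ∈ C ↔ x ∈ Subgroup.centralizer ({g} : Set ↥(D.group F)) := fun x => by
      simp only [C, Subgroup.mem_centralizer_singleton_iff, hg'def]
      constructor <;> intro e
      · calc x * g = c₀⁻¹ * (c₀ * x * c₀⁻¹ * (c₀ * g * c₀⁻¹)) * c₀ := by group
          _ = _ := by rw [e]; group
      · calc c₀ * x * c₀⁻¹ * (c₀ * g * c₀⁻¹) = c₀ * (x * g) * c₀⁻¹ := by group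
          _ = _ := by rw [e]; group
    exact (Nat.card_congr (Equiv.subtypeEquiv (MulAut.conj c₀).toEquiv fun x => (hiff x).symm)).symm
  rw [← hCC, ← hcardS, ← hA, hval, hval']
  rcases hε with rfl | rfl
  · left; rw [mul_one]
  · right; ring

end Ok

end Cfsg.Agent.Chev
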