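/-
A self-centralizing cyclic torus of order `(q³ − 1)(q + 1)` of ³D₄(q).
-/
import Cfsg.Agent.Lib.Chev.TwD4Thm
import Cfsg.Agent.Lib.Chev.G2SL3
import Cfsg.Agent.Lib.Chev.G2Singer
import Cfsg.Agent.Lib.Chev.SL2
import Cfsg.Agent.Lib.Chev.AllR
import Mathlib.RingTheory.RootsOfUnity.Basic
import Mathlib.RingTheory.IntegralDomain
import Mathlib.FieldTheory.Finite.Extension

set_option autoImplicit false
set_option maxHeartbeats 400000

namespace Cfsg.Agent.Chev.TwD4Torus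

open Cfsg.Lie
open scoped Matrix MatrixGroups

/-- The coefficients of the exponent of a root at the element of the torus. -/
def co (r : ℕ) : List ℤ :=
  [D4.pk.A 0 r + D4.pk.A 1 r, D4.pk.A 2 r, D4.pk.A 1 r + D4.pk.A 3 r, D4.pk.A 0 r,
    D4.pk.A 1 r + D4.pk.A 2 r, D4.pk.A 3 r]

/-- The exponent of a root at the element of the torus. -/
def ev (q : ℤ) (r : ℕ) : ℤ :=
  D4.pk.A 0 r * (q ^ 3 + 1) + D4.pk.A 1 r * (q ^ 4 + q ^ 2 + 1) + D4.pk.A 2 r * (q * (q ^ 3 + 1)) +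
    D4.pk.A 3 r * (q ^ 2 * (q ^ 3 + 1))

theorem co_table : (∀ r < 24, co r ≠ [0, 0, 0, 0, 0, 0] ∧ ∀ x ∈ co r, |x| ≤ 4) ∧
    ∀ r < 24, ∀ s < 24, (∀ x ∈ List.zipWith (· - ·) (co r) (co s), |x| ≤ 4) ∧
      (List.zipWith (· - ·) (co r) (co s) = [0, 0, 0, 0, 0, 0] → r = s) := by
  decide +kernel

theorem small_ne : ∀ q : ℕ, q < 10 → 2 ≤ q → ∀ r < 24, ¬ ((q : ℤ) ^ 6 - 1) ∣ ev q r := by
  decide +kernel

theorem two_sep : ∀ r < 24, ∀ s < 24, ((2 : ℤ) ^ 6 - 1) ∣ ev 2 r - ev 2 s →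
    (r = 18 ∨ D4.pk.A 0 r = D4.pk.A 0 s) → r = s := by
  decide +kernel

theorem small_sep : ∀ q : ℕ, q < 10 → 3 ≤ q → ∀ r < 24, ∀ s < 24, ((q : ℤ) ^ 6 - 1) ∣ ev q r - ev q s → r = s := by
  decide +kernel

theorem digits {q : ℤ} (hq : 10 ≤ q) {a b c d e f : ℤ} (ha : |a| ≤ 4) (hb : |b| ≤ 4) (hc : |c| ≤ 4)
    (hd : |d| ≤ 4) (he : |e| ≤ 4) (hf : |f| ≤ 4)
    (h : (q ^ 6 - 1) ∣ a + b * q + c * q ^ 2 + d * q ^ 3 + e * q ^ 4 + f * q ^ 5) :
    [a, b, c, d, e, f] = [0, 0, 0, 0, 0, 0] := by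
  rw [abs_le] at ha hb hc hd he hf
  have hlast : ∀ x y : ℤ, -4 ≤ x → x ≤ 4 → x + y * q = 0 → x = 0 ∧ y = 0 := by
    intro x y h1 h2 h0
    have hy : y = 0 := by
      by_contra hy
      rcases lt_or_gt_of_ne hy with hy | hy <;> nlinarith
    subst hy
    exact ⟨by linarith, rfl⟩
  have h0 : a + b * q + c * q ^ 2 + d * q ^ 3 + e * q ^ 4 + f * q ^ 5 = 0 := by
    refine Int.eq_zero_of_abs_lt_dvd h ?_
    have p1 : (0 : ℤ) ≤ q := by linarith
    have p2 := mul_nonneg p1 p1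
    have p3 := mul_nonneg p2 p1
    have p4 := mul_nonneg p3 p1
    have p5 := mul_nonneg p4 p1
    rw [abs_lt]
    constructor
    · nlinarith [mul_le_mul_of_nonneg_right hf.1 p5, mul_le_mul_of_nonneg_right he.1 p4,
        mul_le_mul_of_nonneg_right hd.1 p3, mul_le_mul_of_nonneg_right hc.1 p2,
        mul_le_mul_of_nonneg_right hb.1 p1, mul_le_mul_of_nonneg_right hq p5, mul_le_mul_of_nonneg_right hq p4,
        mul_le_mul_of_nonneg_right hq p3, mul_le_mul_of_nonneg_right hq p2, mul_le_mul_of_nonneg_right hq p1]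
    · nlinarith [mul_le_mul_of_nonneg_right hf.2 p5, mul_le_mul_of_nonneg_right he.2 p4,
        mul_le_mul_of_nonneg_right hd.2 p3, mul_le_mul_of_nonneg_right hc.2 p2,
        mul_le_mul_of_nonneg_right hb.2 p1, mul_le_mul_of_nonneg_right hq p5, mul_le_mul_of_nonneg_right hq p4,
        mul_le_mul_of_nonneg_right hq p3, mul_le_mul_of_nonneg_right hq p2, mul_le_mul_of_nonneg_right hq p1]
  obtain ⟨rfl, h1⟩ := hlast a (b + c * q + d * q ^ 2 + e * q ^ 3 + f * q ^ 4) ha.1 ha.2 (by linarith [h0])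
  obtain ⟨rfl, h2⟩ := hlast b (c + d * q + e * q ^ 2 + f * q ^ 3) hb.1 hb.2 (by linarith [h1])
  obtain ⟨rfl, h3⟩ := hlast c (d + e * q + f * q ^ 2) hc.1 hc.2 (by linarith [h2])
  obtain ⟨rfl, h4⟩ := hlast d (e + f * q) hd.1 hd.2 (by linarith [h3])
  obtain ⟨rfl, rfl⟩ := hlast e f he.1 he.2 h4
  rfl

theorem ev_co (q : ℤ) (r : ℕ) : ev q r = (D4.pk.A 0 r + D4.pk.A 1 r) + D4.pk.A 2 r * q +
    (D4.pk.A 1 r + D4.pk.A 3 r) * q ^ 2 + D4.pk.A 0 r * q ^ 3 + (D4.pk.A 1 r + D4.pk.A 2 r) * q ^ 4 +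
    D4.pk.A 3 r * q ^ 5 := by
  unfold ev; ring

theorem ev_ne {q : ℕ} (hq : 2 ≤ q) {r : ℕ} (hr : r < 24) : ¬ ((q : ℤ) ^ 6 - 1) ∣ ev q r := by
  rcases Nat.lt_or_ge q 10 with h | h
  · exact small_ne q h hq r hr
  intro hd
  obtain ⟨hne, hb⟩ := co_table.1 r hr
  simp only [co, List.forall_mem_cons] at hb
  obtain ⟨h0, h1, h2, h3, h4, h5, -⟩ := hb
  exact hne (digits (by exact_mod_cast h) h0 h1 h2 h3 h4 h5 (ev_co q r ▸ hd))

/-- Only the trivial element of the Weyl group fixes the element of the torus. -/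
theorem ev_stab {q : ℕ} (hq : 2 ≤ q) {l : List ℕ} (hl : WordOk D4.pk l)
    (he : ∀ r < 24, ((q : ℤ) ^ 6 - 1) ∣ ev q r - ev q (wl D4.pk l r)) : ∀ r < 24, wl D4.pk l r = r := by
  intro r hr
  have hn : D4.pk.nroots = 24 := rfl
  have hlt : ∀ r < 24, wl D4.pk l r < 24 := fun r hr => D4.ok.wl_lt l hl r hr
  symm
  rcases Nat.lt_or_ge q 10 with h | h
  · by_cases h2 : q = 2
    · subst h2
      have h18 : wl D4.pk l 18 = 18 :=
        (two_sep 18 (by omega) _ (hlt 18 (by omega)) (he 18 (by omega)) (Or.inl rfl)).symm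
      refine two_sep r hr _ (hlt r hr) (he r hr) (Or.inr ?_)
      have hp := D4.ok.pair_wl l hl (D4.pk.sim 0) (by decide +kernel) r hr
      rw [TwD4.sims.1, h18, ← TwD4.sims.1, D4.ok.pair_sim (by decide), D4.ok.pair_sim (by decide)] at hp
      exact hp.symm
    · exact small_sep q h (by omega) r hr _ (hlt r hr) (he r hr)
  · obtain ⟨hb, hinj⟩ := co_table.2 r hr _ (hlt r hr)
    refine hinj ?_
    simp only [co, List.zipWith_cons_cons, List.zipWith_nil_left, List.forall_mem_cons] at hb ⊢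
    obtain ⟨h0, h1, h2, h3, h4, h5, -⟩ := hb
    refine digits (q := q) (by exact_mod_cast h) h0 h1 h2 h3 h4 h5 ?_
    refine (congrArg (fun z => ((q : ℤ) ^ 6 - 1) ∣ z) ?_).mp (he r hr)
    rw [ev_co, ev_co]
    ring

/-- The homomorphism on the pair of opposite root groups of the central node. -/
theorem exists_rho (F : Type*) [Field F] : ∃ φ : SL(2, F) →* GL chevD4.Idx F,
    (∀ t, φ (sU t) = D4.ok.xG 14 t) ∧ (∀ t, φ (sL t) = D4.ok.xG 9 t) ∧ (∀ g, φ g ∈ chevD4.group F) := by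
  obtain ⟨φ, -, hU, hL⟩ := D4.ok.exists_sl2 (F := F) ckRefl_D4 (show 14 < D4.pk.nroots by decide +kernel)
  refine ⟨φ, hU, fun t => (hL t).trans (by rw [TwD4.ngs.1]), fun g => ?_⟩
  induction g using sl2_induction with
  | one => rw [map_one]; exact one_mem _
  | hu t g ih => rw [map_mul, hU]; exact mul_mem (D4.ok.mem_group_of_xG _ _) ih
  | hw g ih =>
    rw [map_mul, sW_eq, map_mul, map_mul, hU, hL]
    exact mul_mem (mul_mem (mul_mem (D4.ok.mem_group_of_xG _ _) (D4.ok.mem_group_of_xG _ _))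
      (D4.ok.mem_group_of_xG _ _)) ih

/-- The representation. -/
noncomputable def rho (F : Type*) [Field F] : SL(2, F) →* GL chevD4.Idx F := (exists_rho F).choose

section Rho

variable {F : Type*} [Field F]

theorem rho_sU (t : F) : rho F (sU t) = D4.ok.xG 14 t := (exists_rho F).choose_spec.1 t

theorem rho_sL (t : F) : rho F (sL t) = D4.ok.xG 9 t := (exists_rho F).choose_spec.2.1 t

theorem rho_mem (g : SL(2, F)) : rho F g ∈ chevD4.group F := (exists_rho F).choose_spec.2.2 g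

theorem rho_ext {E : Type*} [Group E] {f₁ f₂ : SL(2, F) →* E} (hU : ∀ t, f₁ (sU t) = f₂ (sU t))
    (hL : ∀ t, f₁ (sL t) = f₂ (sL t)) : f₁ = f₂ := by
  refine MonoidHom.ext fun g => ?_
  induction g using sl2_induction with
  | one => rw [map_one, map_one]
  | hu t g ih => rw [map_mul, map_mul, ih, hU]
  | hw g ih => rw [map_mul, map_mul, ih, sW_eq, map_mul, map_mul, map_mul, map_mul, hU, hL]

theorem sU_map {E : Type*} [Field E] (f : F →+* E) (t : F) :
    Matrix.SpecialLinearGroup.map f (sU t) = sU (f t) := by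
  apply Subtype.ext
  ext i j
  fin_cases i <;> fin_cases j <;> simp [coe_sU, Matrix.SpecialLinearGroup.map_apply_coe]

theorem sL_map {E : Type*} [Field E] (f : F →+* E) (t : F) :
    Matrix.SpecialLinearGroup.map f (sL t) = sL (f t) := by
  apply Subtype.ext
  ext i j
  fin_cases i <;> fin_cases j <;> simp [coe_sL, Matrix.SpecialLinearGroup.map_apply_coe]

theorem rho_gmap {E : Type*} [Field E] (f : F →+* E) (g : SL(2, F)) :
    gmap chevD4 f (rho F g) = rho E (Matrix.SpecialLinearGroup.map f g) := by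
  refine DFunLike.congr_fun (rho_ext (f₁ := (gmap chevD4 f).comp (rho F))
    (f₂ := (rho E).comp (Matrix.SpecialLinearGroup.map f)) (fun t => ?_) fun t => ?_) g
  · simp only [MonoidHom.comp_apply, rho_sU, sU_map]
    exact D4.ok.gmap_xG f (by decide +kernel) t
  · simp only [MonoidHom.comp_apply, rho_sL, sL_map]
    exact D4.ok.gmap_xG f (by decide +kernel) t

/-- A diagonal element of `SL₂`. -/
def sD (u : Fˣ) : SL(2, F) :=
  ⟨!![(u : F), 0; 0, (↑u⁻¹ : F)], by simp [Matrix.det_fin_two_of]⟩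

theorem coe_sD (u : Fˣ) : (sD u).1 = !![(u : F), 0; 0, (↑u⁻¹ : F)] := rfl

theorem rho_sD (u : Fˣ) : rho F (sD u) = TwD4.hH (Pi.mulSingle (1 : Fin 4) u) := by
  have hn : ∀ t : F, t ≠ 0 →
      rho F (sU t * sL (-t⁻¹) * sU t) = D4.ok.nt 14 t := fun t _ => by
    rw [map_mul, map_mul, rho_sU, rho_sL, ← TwD4.ngs.1]
    rfl
  have e : sD u = (sU (u : F) * sL (-(u : F)⁻¹) * sU (u : F)) * (sU (-1) * sL (-(-1 : F)⁻¹) * sU (-1)) := by
    apply Subtype.ext
    simp [coe_sD, coe_sU, coe_sL, Matrix.SpecialLinearGroup.coe_mul, Matrix.mul_fin_two]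
  rw [e, map_mul, hn _ u.ne_zero, hn _ (neg_ne_zero.2 one_ne_zero), TwD4.hH_single]
  show _ = D4.ok.ht (D4.pk.sim 1) (u : F)
  rw [TwD4.sims.2.1]
  rfl

/-- Conjugation by `diag(n, 1)`. -/
def ad (n : Fˣ) : SL(2, F) →* SL(2, F) where
  toFun g := ⟨!![g.1 0 0, (n : F) * g.1 0 1; (↑n⁻¹ : F) * g.1 1 0, g.1 1 1], by
    have h := g.2
    rw [Matrix.det_fin_two] at h
    rw [Matrix.det_fin_two_of, Units.val_inv_eq_inv_val]
    field_simp
    linear_combination h⟩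
  map_one' := by
    apply Subtype.ext
    simp [Matrix.one_fin_two]
  map_mul' g g' := by
    apply Subtype.ext
    show _ = !![g.1 0 0, (n : F) * g.1 0 1; (↑n⁻¹ : F) * g.1 1 0, g.1 1 1] *
      !![g'.1 0 0, (n : F) * g'.1 0 1; (↑n⁻¹ : F) * g'.1 1 0, g'.1 1 1]
    have hn := Units.mul_inv n
    have hn' := Units.inv_mul n
    ext i j
    fin_cases i <;> fin_cases j <;>
      simp [Matrix.SpecialLinearGroup.coe_mul, Matrix.mul_apply, Fin.sum_univ_two, Units.val_inv_eq_inv_val] <;>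
      field_simp

theorem ad_coe (n : Fˣ) (g : SL(2, F)) :
    (ad n g).1 = !![g.1 0 0, (n : F) * g.1 0 1; (↑n⁻¹ : F) * g.1 1 0, g.1 1 1] := rfl

theorem hH_xG (c : Fin 4 → Fˣ) {r : ℕ} (hr : r < D4.pk.nroots) (t : F) :
    TwD4.hH c * D4.ok.xG r t * (TwD4.hH c)⁻¹ = D4.ok.xG r (hchar D4.pk c r * t) :=
  D4.ok.hHom_xG c hr t

theorem hH_mem (c : Fin 4 → Fˣ) : TwD4.hH c ∈ chevD4.group F :=
  D4.ok.diagonal_le_group (D4.ok.mem_diagonal_iff.2 ⟨c, rfl⟩)

theorem gmap_hH {E : Type*} [Field E] (f : F →+* E) (c : Fin 4 → Fˣ) :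
    gmap chevD4 f (TwD4.hH c) = TwD4.hH fun i => Units.map f.toMonoidHom (c i) :=
  D4.ok.gmap_hHom f c

theorem σ_hH (f : F →+* F) (c : Fin 4 → Fˣ) : (TwD4.T f).σ (TwD4.hH c) = TwD4.hH ((TwD4.T f).τ c) :=
  (TwD4.T f).σ_hHom c

theorem rho_ad (c : Fin 4 → Fˣ) (n : Fˣ) (hn : hchar D4.pk c 14 = n)
    (g : SL(2, F)) : TwD4.hH c * rho F g * (TwD4.hH c)⁻¹ = rho F (ad n g) := by
  have h9 : hchar D4.pk c 9 = (↑n⁻¹ : F) := by
    rw [Units.val_inv_eq_inv_val, ← hn]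
    show (∏ i : Fin 4, (c i : F) ^ D4.pk.A i 9) = (∏ i : Fin 4, (c i : F) ^ D4.pk.A i 14)⁻¹
    rw [← Finset.prod_inv_distrib]
    refine Finset.prod_congr rfl fun i _ => ?_
    rw [← zpow_neg]
    congr 1
    revert i
    decide +kernel
  refine DFunLike.congr_fun (rho_ext (f₁ := (MulAut.conj (TwD4.hH c)).toMonoidHom.comp (rho F))
    (f₂ := (rho F).comp (ad n)) (fun t => ?_) fun t => ?_) g
  · simp only [MonoidHom.comp_apply, MulEquiv.toMonoidHom_eq_coe, MonoidHom.coe_coe, MulAut.conj_apply, rho_sU]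
    rw [hH_xG c (by decide +kernel), hn, ← rho_sU]
    congr 1
    apply Subtype.ext
    simp [ad_coe, coe_sU]
  · simp only [MonoidHom.comp_apply, MulEquiv.toMonoidHom_eq_coe, MonoidHom.coe_coe, MulAut.conj_apply, rho_sL]
    rw [hH_xG c (by decide +kernel), h9, ← rho_sL]
    congr 1
    apply Subtype.ext
    simp [ad_coe, coe_sL]

/-- The Weyl element of the central node on the torus. -/
theorem conj_sN (δ : F) (hδ : δ ≠ 0) (c : Fin 4 → Fˣ) (n : Fˣ) (hn : hchar D4.pk c 14 = n) :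
    rho F (sN δ hδ) * TwD4.hH c * (rho F (sN δ hδ))⁻¹ =
      TwD4.hH (c * Pi.mulSingle (1 : Fin 4) n⁻¹) := by
  have e : sN δ hδ = ad n (sD n⁻¹ * sN δ hδ) := by
    apply Subtype.ext
    simp [ad_coe, coe_sD, coe_sN, Matrix.SpecialLinearGroup.coe_mul, Matrix.mul_fin_two]
  nth_rw 1 [e]
  rw [← rho_ad c n hn, map_mul, rho_sD, map_mul]
  group

end Rho

section Twist

variable {K L : Type*} [Field K] [Field L] (ι : K →+* L) {φ : K →+* K} {φ' : L →+* L}
  (hι : ∀ t, φ' (ι t) = ι (φ t))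

include hι in
/-- The triality twist commutes with extension of the field. -/
theorem twist_gmap (g : GL chevD4.Idx K) :
    (TwD4.T φ').σ (gmap chevD4 ι g) = gmap chevD4 ι ((TwD4.T φ).σ g) := by
  show D4.ok.gT ckG_D4a * gmap chevD4 φ' (gmap chevD4 ι g) * (D4.ok.gT ckG_D4a)⁻¹ =
    gmap chevD4 ι (D4.ok.gT ckG_D4a * gmap chevD4 φ g * (D4.ok.gT ckG_D4a)⁻¹)
  have hT : gmap chevD4 ι (D4.ok.gT (F := K) ckG_D4a) = D4.ok.gT ckG_D4a := by
    apply Units.ext
    rw [coe_gmap]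
    exact cM_map ι _
  have hφ : gmap chevD4 φ' (gmap chevD4 ι g) = gmap chevD4 ι (gmap chevD4 φ g) := by
    apply Units.ext
    rw [coe_gmap, coe_gmap, coe_gmap, coe_gmap, Matrix.map_map, Matrix.map_map]
    congr 1
    exact funext hι
  rw [map_mul, map_mul, map_inv, hT, hφ]

theorem twist_rho {F : Type*} [Field F] (f : F →+* F) (g : SL(2, F)) :
    (TwD4.T f).σ (rho F g) = rho F (Matrix.SpecialLinearGroup.map f g) := by
  have hc := TwD4.cks
  simp only [Bool.and_eq_true, ck1, Nat.blt_eq, decide_eq_true_eq] at hc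
  obtain ⟨⟨⟨⟨⟨a, b⟩, -⟩, -⟩, -⟩, -⟩ := hc
  have e14 : ∀ t : F, (TwD4.T f).σ (D4.ok.xG 14 t) = D4.ok.xG 14 (f t) := fun t => by
    rw [Std.σ_xG' ckG_D4a f a.1.1 a.2]
    congr 1
  have e9 : ∀ t : F, (TwD4.T f).σ (D4.ok.xG 9 t) = D4.ok.xG 9 (f t) := fun t => by
    rw [Std.σ_xG' ckG_D4a f b.1.1 b.2]
    congr 1
  refine DFunLike.congr_fun (rho_ext (f₁ := (TwD4.T f).hom.comp ((rho F).codRestrict _ rho_mem))
    (f₂ := (rho F).comp (Matrix.SpecialLinearGroup.map f)) (fun t => ?_) fun t => ?_) g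
  · show (TwD4.T f).σ (rho F (sU t)) = rho F _
    rw [rho_sU, sU_map, rho_sU, e14]
  · show (TwD4.T f).σ (rho F (sL t)) = rho F _
    rw [rho_sL, sL_map, rho_sL, e9]

end Twist

section Main

variable {K L : Type*} [Field K] [Fintype K] [Field L] [Fintype L] (ι : K →+* L)

theorem nat_six {q : ℕ} (hq : 2 ≤ q) :
    (q ^ 3 + 1) * (q ^ 3 - 1) = q ^ 6 - 1 ∧ (q ^ 4 + q ^ 2 + 1) * (q ^ 2 - 1) = q ^ 6 - 1 ∧
      (q ^ 2 + q + 1) * (q - 1) = q ^ 3 - 1 ∧ (q + 1) * (q - 1) = q ^ 2 - 1 := by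
  obtain ⟨k, rfl⟩ : ∃ k, q = k + 1 := ⟨q - 1, by omega⟩
  refine ⟨?_, ?_, ?_, ?_⟩ <;>
  · zify [Nat.one_le_pow _ _ (show 0 < k + 1 by omega), show 1 ≤ k + 1 by omega]
    ring

include ι in
/-- The self-centralizing torus. -/
theorem exists_torus {q : ℕ} (hq : IsPrimePow q) (hK : Fintype.card K = q ^ 3) (hL : Fintype.card L = q ^ 6) :
    ∃ H : Subgroup ↥(twistedD4 K q), IsCyclic ↥H ∧ Nat.card ↥H = (q ^ 3 - 1) * (q + 1) ∧
      Subgroup.centralizer (H : Set ↥(twistedD4 K q)) = H := by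
  classical
  obtain ⟨φ, G, hφ, hG, -⟩ := TwD4.setup hq hK
  obtain ⟨φ', hφ'⟩ := Std.exists_frob (F := L) hq (by norm_num) hL
  have hmem : ∀ g : GL chevD4.Idx K, g ∈ twistedD4 K q ↔ g ∈ (TwD4.T φ).fixed := fun g => by
    rw [← hG, G.eq_fixed ckComm_D4]
  have hι : ∀ z, φ' (ι z) = ι (φ z) := fun z => by rw [hφ, hφ', map_pow]
  have hq2 : 2 ≤ q := hq.two_le
  obtain ⟨n1, n2, n3, n4⟩ := nat_six hq2
  obtain ⟨w, hw⟩ := IsCyclic.exists_generator (α := Lˣ)
  have hwo : orderOf w = q ^ 6 - 1 := by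
    rw [orderOf_eq_card_of_forall_mem_zpowers hw, Nat.card_eq_fintype_card, Fintype.card_units, hL]
  set t := w ^ (q ^ 3 + 1) with ht
  set X := w ^ (q ^ 4 + q ^ 2 + 1) with hX
  clear_value t X
  have hto : orderOf t = q ^ 3 - 1 := by
    rw [ht, orderOf_pow' w (by positivity), hwo, ← n1, Nat.gcd_mul_right_left,
      Nat.mul_div_cancel_left _ (by positivity)]
  have hXo : orderOf X = q ^ 2 - 1 := by
    rw [hX, orderOf_pow' w (by positivity), hwo, ← n2, Nat.gcd_mul_right_left,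
      Nat.mul_div_cancel_left _ (by positivity)]
  have hq3 : 1 ≤ q ^ 3 := Nat.one_le_pow _ _ (by omega)
  have hq22 : 4 ≤ q ^ 2 := by nlinarith
  have t3 : t ^ (q ^ 3) = t := by
    conv_lhs => rw [show q ^ 3 = (q ^ 3 - 1) + 1 by omega, pow_succ, ← hto, pow_orderOf_eq_one, one_mul]
  have X2 : X ^ (q ^ 2) = X := by
    conv_lhs => rw [show q ^ 2 = (q ^ 2 - 1) + 1 by omega, pow_succ, ← hXo, pow_orderOf_eq_one, one_mul]
  set n := X ^ (q + 1) with hn
  clear_value n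
  have hnt : n = t * t ^ q * t ^ (q ^ 2) := by
    rw [hn, ht, hX, ← pow_mul, ← pow_mul, ← pow_mul, ← pow_add, ← pow_add]
    congr 1
    ring
  have nq : n ^ q = n := by
    rw [hn, ← pow_mul, show (q + 1) * q = q ^ 2 + q by ring, pow_add, X2, pow_succ', mul_comm]
  have X3 : (X : L) ^ (q ^ 3) = (X : L) ^ q := by
    rw [show q ^ 3 = q ^ 2 * q by ring, pow_mul, ← Units.val_pow_eq_pow_val X (q ^ 2), X2]
  -- the descended entries
  set δ := (X : L) - (X : L) ^ q with hδd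
  have hXne : X ^ q ≠ X := fun e => by
    have h1 : X ^ (q - 1) = 1 := by
      have : X ^ (q - 1) * X = 1 * X := by rw [← pow_succ, show q - 1 + 1 = q by omega, one_mul, e]
      exact mul_right_cancel this
    have h2 := Nat.le_of_dvd (by omega) (hXo ▸ orderOf_dvd_of_pow_eq_one h1)
    have : 2 * q ≤ q ^ 2 := by rw [sq]; exact Nat.mul_le_mul_right q hq2
    omega
  have hδ : δ ≠ 0 := sub_ne_zero.2 fun e => hXne (Units.ext (by rw [Units.val_pow_eq_pow_val, ← e]))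
  have φX : φ' (X : L) = (X : L) ^ q := hφ' _
  have φXq : φ' ((X : L) ^ q) = (X : L) := by
    rw [hφ', ← pow_mul, ← sq, ← Units.val_pow_eq_pow_val, X2]
  have φδ : φ' δ = -δ := by rw [hδd, map_sub, φX, φXq, neg_sub]
  obtain ⟨s0, hs0⟩ := G2Singer.fixed_range ι (q := q ^ 3) hK (z := (X : L) + (X : L) ^ q) (by
    have e : ∀ z : L, z ^ (q ^ 3) = φ' (φ' (φ' z)) := fun z => by
      rw [hφ', hφ', hφ', ← pow_mul, ← pow_mul, show q * (q * q) = q ^ 3 by ring]
    rw [e, map_add, φX, φXq, map_add, φXq, φX, map_add, φX, φXq, add_comm])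
  obtain ⟨t0, ht0⟩ := G2Singer.fixed_range ι (q := q ^ 3) hK (z := (t : L)) (by
    rw [← Units.val_pow_eq_pow_val, t3])
  obtain ⟨n0, hn0⟩ := G2Singer.fixed_range ι (q := q ^ 3) hK (z := (n : L)) (by
    rw [← Units.val_pow_eq_pow_val, show q ^ 3 = q * q * q by ring, pow_mul, pow_mul, nq, nq, nq])
  have ht00 : t0 ≠ 0 := fun e => t.ne_zero (by rw [← ht0, e, map_zero])
  have hn00 : n0 ≠ 0 := fun e => n.ne_zero (by rw [← hn0, e, map_zero])
  have φn0 : φ n0 = n0 := ι.injective (by rw [← hι, hφ', hn0, ← Units.val_pow_eq_pow_val, nq])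
  have φs0 : φ s0 = s0 := ι.injective (by rw [← hι, hs0, map_add, φX, φXq, add_comm])
  have φt0 : φ (φ (φ t0)) = t0 := TwD4.phi3 φ hφ hK t0
  set F₁ := φ.eqLocusField (RingHom.id K)
  let A₁ : SL(2, F₁) := ⟨!![(⟨s0, φs0⟩ : F₁) / ⟨n0, φn0⟩, -1; 1, 0], by simp [Matrix.det_fin_two_of]⟩
  set AK := Matrix.SpecialLinearGroup.map F₁.subtype A₁ with hAK
  have φAK : Matrix.SpecialLinearGroup.map φ AK = AK := by
    apply Subtype.ext
    ext i j
    simp only [hAK, Matrix.SpecialLinearGroup.map_apply_coe, RingHom.mapMatrix_apply, Matrix.map_apply]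
    exact (A₁.1 i j).2
  set T0 : Kˣ := Units.mk0 t0 ht00
  set cK : Fin 4 → Kˣ := ![T0, Units.mk0 n0 hn00, Units.map φ.toMonoidHom T0,
    Units.map φ.toMonoidHom (Units.map φ.toMonoidHom T0)] with hcK
  have hτK : (TwD4.T φ).τ cK = cK := by
    refine (TwD4.tau_apply φ cK).trans ?_
    funext j
    fin_cases j
    · exact Units.ext φt0
    · exact Units.ext φn0
    · rfl
    · rfl
  set gK : GL chevD4.Idx K := TwD4.hH cK * rho K AK with hgK
  have hK0 : TwD4.hH cK ∈ chevD4.group K :=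
    hH_mem cK
  have hgfix : gK ∈ (TwD4.T φ).fixed := by
    refine (TwD4.T φ).mem_fixed.2 ⟨mul_mem hK0 (rho_mem _), ?_⟩
    rw [hgK, (TwD4.T φ).map_mul' _ hK0 _ (rho_mem _), σ_hH, twist_rho, φAK, hτK]
  set g : ↥(twistedD4 K q) := ⟨gK, (hmem _).2 hgfix⟩
  -- diagonalisation
  let i1 : Fin 4 := 1
  set cX : Fin 4 → Lˣ := ![t, X, t ^ q, t ^ (q ^ 2)] with hcX
  set cN : Fin 4 → Lˣ := ![t, n, t ^ q, t ^ (q ^ 2)] with hcN
  have hAt : D4.pk.A 0 14 = -1 ∧ D4.pk.A 1 14 = 2 ∧ D4.pk.A 2 14 = -1 ∧ D4.pk.A 3 14 = -1 := by decide +kernel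
  have hch14 : ∀ (c : Fin 4 → Lˣ), hchar D4.pk c 14 = ((c 1 ^ 2 * (c 0 * c 2 * c 3)⁻¹ : Lˣ) : L) := by
    intro c
    show (∏ i : Fin 4, (c i : L) ^ D4.pk.A i 14) = _
    rw [Fin.prod_univ_four]
    simp only [Fin.val_zero, Fin.val_one, Fin.val_two, show ((3 : Fin 4) : ℕ) = 3 from rfl, hAt]
    simp [Units.val_inv_eq_inv_val]
    ring
  have hN14 : hchar D4.pk cN 14 = (n : L) := by
    rw [hch14]
    congr 1
    show n ^ 2 * (t * t ^ q * t ^ (q ^ 2))⁻¹ = n
    rw [← hnt, pow_two, mul_inv_cancel_right]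
  have hdec : TwD4.hH cX = TwD4.hH cN * rho L (sD (X * n⁻¹)) := by
    rw [rho_sD, ← map_mul]
    congr 1
    funext j
    show cX j = cN j * Pi.mulSingle (M := fun _ => Lˣ) i1 (X * n⁻¹) j
    fin_cases j
    · rw [Pi.mulSingle_eq_of_ne (by decide)]; exact (mul_one _).symm
    · show X = n * Pi.mulSingle (M := fun _ => Lˣ) (1 : Fin 4) (X * n⁻¹) 1
      rw [Pi.mulSingle_eq_same, mul_comm X, mul_inv_cancel_left]
    · rw [Pi.mulSingle_eq_of_ne (by decide)]; exact (mul_one _).symm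
    · rw [Pi.mulSingle_eq_of_ne (by decide)]; exact (mul_one _).symm
  let P : SL(2, L) := ⟨!![(X : L) / δ, (X : L) ^ q; δ⁻¹, 1], by
    rw [Matrix.det_fin_two_of]; field_simp; exact hδd.symm⟩
  have hP1 : P.1 = !![(X : L) / δ, (X : L) ^ q; δ⁻¹, 1] := rfl
  set AL := Matrix.SpecialLinearGroup.map ι AK with hAL
  have hAL1 : AL.1 = !![((X : L) + (X : L) ^ q) / (n : L), -1; 1, 0] := by
    ext i j
    simp only [hAL, hAK, Matrix.SpecialLinearGroup.map_apply_coe, RingHom.mapMatrix_apply, Matrix.map_apply]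
    fin_cases i <;> fin_cases j <;> simp [A₁, hs0, hn0]
  have hnX : (n : L) = (X : L) ^ q * X := by rw [hn, Units.val_pow_eq_pow_val, pow_succ]
  have hAP : AL * P = ad n⁻¹ P * sD (X * n⁻¹) := by
    apply Subtype.ext
    rw [Matrix.SpecialLinearGroup.coe_mul, Matrix.SpecialLinearGroup.coe_mul, hAL1, ad_coe, coe_sD, hP1]
    have hX0 := X.ne_zero
    ext i j
    fin_cases i <;> fin_cases j <;>
      simp [Matrix.mul_apply, Fin.sum_univ_two, Units.val_inv_eq_inv_val, hnX] <;> field_simp <;> ring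
  have hAd : rho L P * TwD4.hH cN = TwD4.hH cN * rho L (ad n⁻¹ P) := by
    have e := rho_ad cN n hN14 (ad n⁻¹ P)
    rw [show ad n (ad n⁻¹ P) = P by
      apply Subtype.ext
      rw [ad_coe, ad_coe]
      ext i j
      fin_cases i <;> fin_cases j <;> simp] at e
    exact mul_inv_eq_iff_eq_mul.1 e |>.symm
  have hgL : gmap chevD4 ι gK = rho L P * TwD4.hH cX * (rho L P)⁻¹ := by
    rw [hgK, map_mul, gmap_hH, rho_gmap, ← hAL, hdec, ← mul_assoc (rho L P), hAd]
    rw [show (fun i => Units.map ι.toMonoidHom (cK i)) = cN from funext fun j => by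
      apply Units.ext
      fin_cases j
      · exact ht0
      · exact hn0
      · show ι (φ t0) = ((t ^ q : Lˣ) : L)
        rw [hφ, map_pow, ht0, Units.val_pow_eq_pow_val]
      · show ι (φ (φ t0)) = ((t ^ (q ^ 2) : Lˣ) : L)
        rw [hφ, hφ, ← pow_mul, ← sq, map_pow, ht0, Units.val_pow_eq_pow_val]]
    rw [mul_assoc (TwD4.hH cN), ← map_mul, mul_assoc, ← map_inv, ← map_mul, eq_mul_inv_iff_mul_eq.2 hAP]
  have htwist : ∀ c : Fin 4 → Lˣ, (TwD4.T φ').τ c = ![Units.map φ'.toMonoidHom (c 3),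
      Units.map φ'.toMonoidHom (c 1), Units.map φ'.toMonoidHom (c 0), Units.map φ'.toMonoidHom (c 2)] :=
    TwD4.tau_apply φ'
  -- the order
  have hsq1 : ∀ u : Lˣ, u ^ 2 = 1 → φ' (u : L) = u := fun u hu => by
    rcases sq_eq_one_iff.1 (show (u : L) ^ 2 = 1 by rw [← Units.val_pow_eq_pow_val, hu, Units.val_one]) with e | e <;>
      simp [e]
  have hpow : ∀ k : ℕ, g ^ k = 1 ↔ t ^ k = 1 ∧ X ^ k = 1 := by
    intro k
    rw [← Subtype.coe_inj, SubgroupClass.coe_pow, OneMemClass.coe_one]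
    show gK ^ k = 1 ↔ _
    rw [← map_eq_one_iff (gmap chevD4 ι) (gmap_injective ι), map_pow, hgL, conj_pow, conj_eq_one_iff, ← map_pow]
    constructor
    · intro e
      obtain ⟨h1, h0, -, -, h5⟩ := TwD4.kernel_eqs (K := L) (c := cX ^ k) e
      have e0 : (t ^ q) ^ k = t ^ k := by
        apply Units.ext
        rw [← pow_mul, mul_comm q, pow_mul, Units.val_pow_eq_pow_val, ← hφ']
        exact hsq1 _ h0
      have e2 : (t ^ (q ^ 2)) ^ k = t ^ k := by
        rw [sq, pow_mul t q q, ← pow_mul, mul_comm q k, pow_mul, e0, ← pow_mul, mul_comm, pow_mul, e0]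
      have h5' : t ^ k * (t ^ q) ^ k * (t ^ (q ^ 2)) ^ k = 1 := h5
      rw [e0, e2, ← pow_two, show (t ^ k) ^ 2 = 1 from h0, one_mul] at h5'
      exact ⟨h5', h1⟩
    · rintro ⟨e1, e2⟩
      rw [show cX ^ k = 1 from funext fun j => by
        fin_cases j
        · exact e1
        · exact e2
        · show (t ^ q) ^ k = 1
          rw [← pow_mul, mul_comm, pow_mul, e1, one_pow]
        · show (t ^ (q ^ 2)) ^ k = 1
          rw [← pow_mul, mul_comm, pow_mul, e1, one_pow], map_one]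
  have hgo : orderOf g = (q ^ 3 - 1) * (q + 1) := by
    refine Nat.dvd_antisymm (orderOf_dvd_of_pow_eq_one ((hpow _).2 ⟨?_, ?_⟩)) ?_
    · rw [pow_mul, ← hto, pow_orderOf_eq_one, one_pow]
    · rw [← n3, show (q ^ 2 + q + 1) * (q - 1) * (q + 1) = (q + 1) * (q - 1) * (q ^ 2 + q + 1) by ring,
        pow_mul, n4, ← hXo, pow_orderOf_eq_one, one_pow]
    · obtain ⟨e1, e2⟩ := (hpow _).1 (pow_orderOf_eq_one g)
      have d1 := orderOf_dvd_of_pow_eq_one e1
      have d2 := orderOf_dvd_of_pow_eq_one e2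
      rw [hto, ← n3] at d1
      rw [hXo, ← n4] at d2
      obtain ⟨k, hk⟩ := (dvd_mul_left (q - 1) (q ^ 2 + q + 1)).trans d1
      rw [hk, mul_comm _ (q - 1)] at d1 d2
      have c1 := Nat.dvd_of_mul_dvd_mul_left (by omega) d1
      have c2 := Nat.dvd_of_mul_dvd_mul_left (by omega) d2
      have hco : Nat.Coprime (q ^ 2 + q + 1) (q + 1) := by
        rw [show q ^ 2 + q + 1 = 1 + (q + 1) * q by ring, Nat.coprime_add_mul_left_left]
        exact Nat.coprime_one_left _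
      rw [← n3, hk, mul_comm _ (q - 1), mul_assoc]
      exact Nat.mul_dvd_mul_left _ (hco.mul_dvd_of_dvd_of_dvd c1 c2)
  refine ⟨Subgroup.zpowers g, inferInstance, by rw [Nat.card_zpowers, hgo], ?_⟩
  -- the centralizer
  have hle : Subgroup.zpowers g ≤ Subgroup.centralizer (Subgroup.zpowers g : Set ↥(twistedD4 K q)) := by
    intro a ha b hb
    obtain ⟨i, rfl⟩ := ha
    obtain ⟨j, rfl⟩ := hb
    show g ^ j * g ^ i = g ^ i * g ^ j
    rw [← zpow_add, ← zpow_add, add_comm]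
  set C := Subgroup.centralizer (Subgroup.zpowers g : Set ↥(twistedD4 K q))
  have hhw : ∀ r, hchar D4.pk cX r = ((w ^ ev q r : Lˣ) : L) := by
    intro r
    show (∏ i : Fin 4, (cX i : L) ^ D4.pk.A i r) = _
    rw [Fin.prod_univ_four]
    simp only [Fin.val_zero, Fin.val_one, Fin.val_two, show ((3 : Fin 4) : ℕ) = 3 from rfl, hcX,
      Matrix.cons_val_zero, Matrix.cons_val_one, Matrix.cons_val_two, Matrix.cons_val_three, Matrix.head_cons,
      Matrix.tail_cons, ht, hX, ← Units.val_zpow_eq_zpow_val, ← Units.val_mul, ← zpow_natCast, ← zpow_mul,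
      ← zpow_add]
    congr 2
    unfold ev
    push_cast
    ring
  have hzp : ∀ e : ℤ, w ^ e = 1 ↔ ((q : ℤ) ^ 6 - 1) ∣ e := fun e => by
    rw [← orderOf_dvd_iff_zpow_eq_one, hwo, Nat.cast_sub (Nat.one_le_pow _ _ (by omega))]
    push_cast
    exact Iff.rfl
  have hpar : ∀ c : C, ∃ a : Fin 4 → Lˣ, gmap chevD4 ι c.1.1 = rho L P * TwD4.hH a * (rho L P)⁻¹ ∧
      φ' (a 0 : L) = a 2 ∧ φ' (a 2 : L) = a 3 ∧ φ' (a 3 : L) = a 0 ∧
      (a 1 : L) * φ' (a 1) = φ' ((a 0 : L) * a 2 * a 3) := by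
    intro c
    obtain ⟨hcG, hcσ⟩ := (TwD4.T φ).mem_fixed.1 ((hmem _).1 c.1.2)
    have hmap : gmap chevD4 ι c.1.1 ∈ chevD4.group L := by
      have h : (chevD4.group K).map (gmap chevD4 ι) ≤ chevD4.group L := by
        rw [Subgroup.map_le_iff_le_comap]
        exact D4.ok.group_le fun r hr x => by
          rw [Subgroup.mem_comap, D4.ok.gmap_xG ι hr]; exact D4.ok.mem_group_of_xG _ _
      exact h ⟨_, hcG, rfl⟩
    set c' := (rho L P)⁻¹ * gmap chevD4 ι c.1.1 * rho L P with hc'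
    have hmem' : c' ∈ chevD4.group L := mul_mem (mul_mem (inv_mem (rho_mem P)) hmap) (rho_mem P)
    have hcom : Commute c' (TwD4.hH cX) := by
      have h1 : g * c.1 = c.1 * g := c.2 g (Subgroup.mem_zpowers g)
      have h2 := congrArg (fun x : ↥(twistedD4 K q) => gmap chevD4 ι (x : GL chevD4.Idx K)) h1
      simp only [Subgroup.coe_mul, map_mul] at h2
      rw [show ((g : GL chevD4.Idx K)) = gK from rfl, hgL] at h2
      show c' * TwD4.hH cX = TwD4.hH cX * c'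
      calc c' * TwD4.hH cX
          = (rho L P)⁻¹ * (gmap chevD4 ι c.1.1 * (rho L P * TwD4.hH cX * (rho L P)⁻¹)) * rho L P := by
            rw [hc']; group
        _ = TwD4.hH cX * c' := by rw [← h2, hc']; group
    have hd := D4.ok.centralizer_of_stab ckComm_D4 cX
      (fun r hr e => ev_ne hq2 hr ((hzp _).1 (Units.ext (by rw [← hhw r, e, Units.val_one]))))
      (fun l hl he => ev_stab hq2 hl fun r hr => (hzp _).1 (by
        have e := he r hr
        rw [hhw, hhw] at e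
        rw [zpow_sub, Units.ext e, mul_inv_cancel])) hmem' hcom
    obtain ⟨a, ha⟩ : ∃ a : Fin 4 → Lˣ, TwD4.hH a = c' := D4.ok.mem_diagonal_iff.1 hd
    have hca : gmap chevD4 ι c.1.1 = rho L P * TwD4.hH a * (rho L P)⁻¹ := by
      rw [ha, hc']; group
    -- fixed by the twist
    have hfix : (TwD4.T φ').σ (gmap chevD4 ι c.1.1) = gmap chevD4 ι c.1.1 := by
      rw [twist_gmap ι hι, hcσ]
    have hPφ : Matrix.SpecialLinearGroup.map φ' P = P * sN δ hδ := by
      apply Subtype.ext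
      rw [Matrix.SpecialLinearGroup.coe_mul, coe_sN, Matrix.SpecialLinearGroup.map_apply_coe, RingHom.mapMatrix_apply,
        hP1]
      ext i j
      fin_cases i <;> fin_cases j <;>
        simp [Matrix.mul_apply, Fin.sum_univ_two, φX, φXq, φδ, map_div₀, map_inv₀] <;> field_simp
    have hag : TwD4.hH a ∈ chevD4.group L := hH_mem a
    rw [hca, (TwD4.T φ').map_mul' _ (mul_mem (rho_mem _) hag) _ (inv_mem (rho_mem _)),
      (TwD4.T φ').map_mul' _ (rho_mem _) _ hag, (TwD4.T φ').map_inv (rho_mem _), σ_hH, twist_rho, hPφ,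
      map_mul] at hfix
    set ta : Fin 4 → Lˣ := (TwD4.T φ').τ a with hta
    set m : Lˣ := ta 1 ^ 2 * (ta 0 * ta 2 * ta 3)⁻¹ with hm
    have hWa : TwD4.hH (ta * Pi.mulSingle i1 m⁻¹) = TwD4.hH a := by
      rw [← conj_sN δ hδ ta m (hch14 ta)]
      calc rho L (sN δ hδ) * TwD4.hH ta * (rho L (sN δ hδ))⁻¹
          = (rho L P)⁻¹ * (rho L P * rho L (sN δ hδ) * TwD4.hH ta * (rho L P * rho L (sN δ hδ))⁻¹) *
              rho L P := by group
        _ = TwD4.hH a := by rw [hfix]; group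
    set e : Fin 4 → Lˣ := (ta * Pi.mulSingle i1 m⁻¹) * a⁻¹ with he
    have hke : TwD4.hH e = 1 := by rw [he, map_mul, hWa, ← map_mul, mul_inv_cancel, map_one]
    obtain ⟨k1, k0, k2, k3, k5⟩ := TwD4.kernel_eqs (K := L) (c := e) hke
    set z : Fin 4 → Lˣ := (TwD4.T (RingHom.id L)).τ e with hz
    have hkz : TwD4.hH z = 1 := by
      rw [hz, ← σ_hH, hke]
      exact (TwD4.T (RingHom.id L)).map_one
    have hz' : z = ![e 3, e 1, e 0, e 2] := by
      rw [hz, TwD4.tau_apply]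
      funext j
      fin_cases j <;> exact Units.ext rfl
    have hv : ∀ j : Fin 4, ta j * Pi.mulSingle (M := fun _ => Lˣ) i1 m⁻¹ j = e j * a j := fun j => by
      rw [he]
      show _ = (ta j * Pi.mulSingle (M := fun _ => Lˣ) i1 m⁻¹ j) * (a j)⁻¹ * a j
      rw [inv_mul_cancel_right]
    have v0 : φ' (a 3 : L) = (e 0 : L) * a 0 := by
      have := congrArg Units.val (hv 0)
      rw [Pi.mulSingle_eq_of_ne (by decide), mul_one, hta, htwist] at this
      exact this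
    have v2 : φ' (a 0 : L) = (e 2 : L) * a 2 := by
      have := congrArg Units.val (hv 2)
      rw [Pi.mulSingle_eq_of_ne (by decide), mul_one, hta, htwist] at this
      exact this
    have v3 : φ' (a 2 : L) = (e 3 : L) * a 3 := by
      have := congrArg Units.val (hv 3)
      rw [Pi.mulSingle_eq_of_ne (by decide), mul_one, hta, htwist] at this
      exact this
    have v1 : φ' ((a 0 : L) * a 2 * a 3) = (a 1 : L) * φ' (a 1) := by
      have h1 := hv 1
      rw [k1, one_mul] at h1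
      have h2 : ta 1 * m⁻¹ = a 1 := by rw [← h1]; congr 1
      have h3 : ta 0 * ta 2 * ta 3 = a 1 * ta 1 := by
        rw [← h2, hm, mul_inv_rev, inv_inv, pow_two, mul_inv_rev]
        rw [show ta 1 * (ta 0 * ta 2 * ta 3 * ((ta 1)⁻¹ * (ta 1)⁻¹)) * ta 1 =
          (ta 0 * ta 2 * ta 3) * ((ta 1 * (ta 1)⁻¹) * ((ta 1)⁻¹ * ta 1)) by ac_rfl, mul_inv_cancel, inv_mul_cancel,
          mul_one, mul_one]
      rw [hta, htwist] at h3
      have h4 := congrArg Units.val h3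
      simp only [Units.val_mul] at h4
      change φ' (a 3 : L) * φ' (a 0 : L) * φ' (a 2 : L) = (a 1 : L) * φ' (a 1 : L) at h4
      rw [map_mul, map_mul, ← h4]
      ring
    have u0 : (e 0 : L) ^ 2 = 1 := by rw [← Units.val_pow_eq_pow_val, k0, Units.val_one]
    have u2 : (e 2 : L) ^ 2 = 1 := by rw [← Units.val_pow_eq_pow_val, k2, Units.val_one]
    have u3 : (e 3 : L) ^ 2 = 1 := by rw [← Units.val_pow_eq_pow_val, k3, Units.val_one]
    have u5 : (e 0 : L) * e 2 * e 3 = 1 := by rw [← Units.val_mul, ← Units.val_mul, k5, Units.val_one]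
    refine ⟨a * z, by rw [map_mul, hkz, mul_one, hca], ?_, ?_, ?_, ?_⟩
    · rw [hz']
      show φ' ((a 0 : L) * e 3) = (a 2 : L) * e 0
      rw [map_mul, v2, hsq1 _ k3]
      linear_combination ((a 2 : L) * e 0) * u5 - (a 2 : L) * e 2 * e 3 * u0
    · rw [hz']
      show φ' ((a 2 : L) * e 0) = (a 3 : L) * e 2
      rw [map_mul, v3, hsq1 _ k0]
      linear_combination ((a 3 : L) * e 2) * u5 - (a 3 : L) * e 0 * e 3 * u2
    · rw [hz']
      show φ' ((a 3 : L) * e 2) = (a 0 : L) * e 3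
      rw [map_mul, v0, hsq1 _ k2]
      linear_combination ((a 0 : L) * e 3) * u5 - (a 0 : L) * e 0 * e 2 * u3
    · rw [hz']
      show (a 1 : L) * e 1 * φ' ((a 1 : L) * e 1) = φ' ((a 0 : L) * e 3 * ((a 2 : L) * e 0) * ((a 3 : L) * e 2))
      rw [k1, Units.val_one, mul_one, ← v1]
      congr 1
      linear_combination -((a 0 : L) * a 2 * a 3) * u5
  choose a hac ha0 ha2 ha3 ha1 using hpar
  -- counting
  set M := q ^ 3 - 1
  haveI : NeZero M := ⟨by have := n3; intro h0; rcases Nat.mul_eq_zero.1 (n3.trans h0) with h | h <;> omega⟩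
  haveI : NeZero (q + 1) := ⟨by omega⟩
  have hprim : IsPrimitiveRoot t M := IsPrimitiveRoot.iff_orderOf.2 hto
  have hx : ∀ c : C, a c 0 ^ M = 1 := by
    intro c
    apply Units.ext
    have h3 : φ' (φ' (φ' (a c 0 : L))) = a c 0 := by rw [ha0, ha2, ha3]
    rw [hφ', hφ', hφ', ← pow_mul, ← pow_mul, show q * (q * q) = M + 1 by
      show q * (q * q) = q ^ 3 - 1 + 1
      rw [Nat.sub_add_cancel hq3]; ring, pow_succ] at h3
    rw [Units.val_pow_eq_pow_val, Units.val_one]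
    exact (mul_eq_right₀ (Units.ne_zero _)).1 h3
  have hroot : ∀ c : C, ∃ i < M, t ^ i = a c 0 := by
    intro c
    obtain ⟨i, hi, e⟩ := (IsPrimitiveRoot.coe_units_iff.2 hprim).eq_pow_of_pow_eq_one (ξ := (a c 0 : L))
      (by rw [← Units.val_pow_eq_pow_val, hx, Units.val_one])
    exact ⟨i, hi, Units.ext (by rw [Units.val_pow_eq_pow_val, e])⟩
  choose i hi hit using hroot
  have hy : ∀ c : C, (a c 1 * (X ^ i c)⁻¹) ^ (q + 1) = 1 := by
    intro c
    have h2 : (a c 2) = a c 0 ^ q := Units.ext (by rw [Units.val_pow_eq_pow_val, ← hφ', ha0])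
    have h3 : (a c 3) = a c 2 ^ q := Units.ext (by rw [Units.val_pow_eq_pow_val, ← hφ', ha2])
    have h1 : a c 1 * a c 1 ^ q = (a c 0 * a c 2 * a c 3) ^ q := Units.ext (by
      simp only [Units.val_mul, Units.val_pow_eq_pow_val]
      rw [← hφ', ← hφ', ha1])
    rw [mul_pow, inv_pow, mul_inv_eq_one, ← pow_mul, mul_comm (i c), pow_mul, ← hn, pow_succ', h1, h3, h2, ← hit c,
      hnt, mul_pow, mul_pow, mul_pow, mul_pow]
    have e3 : ((t ^ i c) ^ q) ^ q = (t ^ (q ^ 2)) ^ i c := by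
      rw [← pow_mul, ← pow_mul, ← pow_mul]; congr 1; ring
    have e1 : (t ^ i c) ^ q = (t ^ q) ^ i c := by rw [← pow_mul, ← pow_mul, mul_comm]
    have e4 : (((t ^ i c) ^ q) ^ q) ^ q = t ^ i c := by
      rw [← pow_mul, ← pow_mul, ← pow_mul, show i c * (q * (q * q)) = q ^ 3 * i c by ring, pow_mul, t3]
    rw [e4, e3, e1]
    ac_rfl
  let ψ : C → Fin M × rootsOfUnity (q + 1) L := fun c => (⟨i c, hi c⟩, ⟨a c 1 * (X ^ i c)⁻¹, (mem_rootsOfUnity _ _).2 (hy c)⟩)
  have hψ : Function.Injective ψ := by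
    intro c d e
    have e0 : i c = i d := congrArg (fun z => (z.1 : Fin M).val) e
    have e1 : a c 1 * (X ^ i c)⁻¹ = a d 1 * (X ^ i d)⁻¹ := congrArg (fun z => (z.2 : rootsOfUnity (q + 1) L).1) e
    rw [e0, mul_left_inj] at e1
    have f0 : a c 0 = a d 0 := by rw [← hit c, ← hit d, e0]
    have f2 : a c 2 = a d 2 := Units.ext (by rw [← ha0, ← ha0, f0])
    have f3 : a c 3 = a d 3 := Units.ext (by rw [← ha2, ← ha2, f2])
    have ea : a c = a d := funext fun j => by fin_cases j <;> assumption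
    refine Subtype.ext (Subtype.ext (gmap_injective ι ?_))
    rw [hac c, hac d, ea]
  have hcard : Nat.card C ≤ M * (q + 1) := by
    refine (Nat.card_le_card_of_injective ψ hψ).trans ?_
    rw [Nat.card_prod, Nat.card_eq_fintype_card (α := Fin M), Fintype.card_fin]
    exact Nat.mul_le_mul_left _ (card_rootsOfUnity L _)
  exact (Subgroup.eq_of_le_of_card_ge hle (by rw [Nat.card_zpowers, hgo]; exact hcard)).symm

end Main

end Cfsg.Agent.Chev.TwD4Torus
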