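/-
The Sylow seven-subgroups of the large Ree groups: their automisers are two-groups, so there is no alternating
section of degree seven.
-/
import Cfsg.Agent.Lib.Chev.MonomialConj
import Cfsg.Agent.Lib.Chev.TwF4Thm
import Mathlib.GroupTheory.Sylow
import Mathlib.GroupTheory.SpecificGroups.Alternating

set_option autoImplicit false
set_option maxRecDepth 8000

namespace Cfsg.Agent.Chev.TwF4

open Cfsg.Lie
open scoped Pointwise

/-- Both exponent functions of a root cannot vanish modulo seven. -/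
theorem chars_seven : ((List.range 48).all fun r =>
    !((2 * F4.pk.A 0 r + F4.pk.A 3 r) % 7 == 0 && (2 * F4.pk.A 1 r + F4.pk.A 2 r) % 7 == 0)) = true := by
  decide +kernel

/-- Squaring the exponent modulo seven. -/
theorem two_pow_seven {m : ℕ} (h : 7 ∣ 2 ^ (2 * m + 1) - 1) : 2 ^ m % 7 = 2 := by
  have key : ∀ j : Fin 3, (2 ^ (2 * j.val + 1)) % 7 = 1 → 2 ^ j.val % 7 = 2 := by decide
  have h7 : ∀ k, 2 ^ (3 * k) % 7 = 1 := fun k => by rw [pow_mul, Nat.pow_mod]; norm_num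
  have e1 : 2 ^ m % 7 = 2 ^ (m % 3) % 7 := by
    conv_lhs => rw [← Nat.div_add_mod m 3, pow_add, Nat.mul_mod, h7, one_mul, Nat.mod_mod]
  have e2 : 2 ^ (2 * m + 1) % 7 = 2 ^ (2 * (m % 3) + 1) % 7 := by
    conv_lhs => rw [show 2 * m + 1 = 3 * (2 * (m / 3)) + (2 * (m % 3) + 1) by omega, pow_add, Nat.mul_mod, h7,
      one_mul, Nat.mod_mod]
  have h1 : 2 ^ (2 * m + 1) % 7 = 1 := by
    have := Nat.one_le_two_pow (n := 2 * m + 1)
    omega
  rw [e1]
  exact key ⟨m % 3, Nat.mod_lt _ (by norm_num)⟩ (e2 ▸ h1)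

/-- The order is the square of the torus part times a number prime to seven. -/
theorem cofactor_seven {q : ℕ} (hq : q % 7 = 1) : ∃ M, ¬ 7 ∣ M ∧
    q ^ 12 * (q - 1) * (q ^ 3 + 1) * (q ^ 4 - 1) * (q ^ 6 + 1) = (q - 1) ^ 2 * M := by
  refine ⟨q ^ 12 * (q + 1) * (q ^ 2 + 1) * (q ^ 3 + 1) * (q ^ 6 + 1), fun h => ?_, ?_⟩
  · have : (q ^ 12 * (q + 1) * (q ^ 2 + 1) * (q ^ 3 + 1) * (q ^ 6 + 1)) % 7 = 2 := by
      simp [Nat.mul_mod, Nat.pow_mod, Nat.add_mod, hq]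
    omega
  · obtain ⟨p, rfl⟩ : ∃ p, q = p + 1 := ⟨q - 1, by omega⟩
    have : (p + 1) ^ 4 - 1 = p * ((p + 2) * ((p + 1) ^ 2 + 1)) := by
      have : (p + 1) ^ 4 = p * ((p + 2) * ((p + 1) ^ 2 + 1)) + 1 := by ring
      omega
    rw [this, Nat.add_sub_cancel]
    ring

section Auto

variable {K : Type*} [Field K] [CharP K 2] [Fintype K] {m : ℕ}

/-- In a large Ree group an element of three-power order normalising a seven-subgroup centralises it. -/
theorem seven_local (hK : Fintype.card K = 2 ^ (2 * m + 1)) (h7 : 7 ∣ Fintype.card K - 1)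
    {S : Subgroup ↥(twistedF4 K (2 ^ m))} (hS : IsPGroup 7 S) {g : ↥(twistedF4 K (2 ^ m))}
    (hg : ∀ s ∈ S, g * s * g⁻¹ ∈ S) {k : ℕ} (hgk : g ^ 3 ^ k = 1) : ∀ s ∈ S, Commute g s := by
  classical
  haveI : Fact (Nat.Prime 7) := ⟨by norm_num⟩
  obtain ⟨φ, G, hφe, hφ, hG, hO⟩ := setup hK
  rw [hK] at h7
  have hm2 := two_pow_seven h7
  have hcardG := card_G1 φ hφ G hO
  rw [hG] at hcardG
  obtain ⟨M, hM, hMe⟩ := cofactor_seven (q := Fintype.card K) (by
    have := Nat.one_le_two_pow (n := 2 * m + 1)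
    rw [hK]; omega)
  haveI : Finite ↥(twistedF4 K (2 ^ m)) := inferInstance
  -- the torus part
  have hτmem : ∀ zw : Kˣ × Kˣ, hH (tor φ zw.1 zw.2) ∈ twistedF4 K (2 ^ m) := fun zw =>
    tor_mem φ hφ (2 ^ m) hφe zw.1 zw.2
  let τ : Kˣ × Kˣ →* ↥(twistedF4 K (2 ^ m)) := MonoidHom.mk' (fun zw => ⟨hH (tor φ zw.1 zw.2), hτmem zw⟩)
    fun a b => Subtype.ext (show hH (tor φ (a.1 * b.1) (a.2 * b.2)) = hH (tor φ a.1 a.2) * hH (tor φ b.1 b.2) by
      rw [tor_mul, map_mul])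
  have hτ : Function.Injective τ := fun a b e => by
    have h := hH_inj (congrArg Subtype.val e)
    exact Prod.ext (congrFun h 3) (congrFun h 2)
  let Q : Sylow 7 (Kˣ × Kˣ) := Classical.arbitrary _
  set P := (Q : Subgroup (Kˣ × Kˣ)).map τ
  have hPc : Nat.card P = 7 ^ (Nat.card ↥(twistedF4 K (2 ^ m))).factorization 7 := by
    rw [← Nat.card_congr ((Q : Subgroup (Kˣ × Kˣ)).equivMapOfInjective τ hτ).toEquiv, Q.card_eq_multiplicity,
      hcardG, hMe, Nat.card_prod, Nat.card_eq_fintype_card, Fintype.card_units, ← sq]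
    have hne : (Fintype.card K - 1) ^ 2 ≠ 0 := pow_ne_zero _ (by have := Fintype.one_lt_card (α := K); omega)
    rw [Nat.factorization_mul hne (fun h => hM (by rw [h]; exact dvd_zero 7)), Finsupp.add_apply,
      Nat.factorization_eq_zero_of_not_dvd hM, add_zero]
  let PS : Sylow 7 ↥(twistedF4 K (2 ^ m)) := Sylow.ofCard P hPc
  -- an element of order seven
  obtain ⟨ζ, hζ⟩ : ∃ ζ : Kˣ, orderOf ζ = 7 :=
    exists_prime_orderOf_dvd_card' 7 (by rwa [Nat.card_eq_fintype_card, Fintype.card_units, hK])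
  have hQ : ∀ zw : Kˣ × Kˣ, zw ^ 7 = 1 → zw ∈ (Q : Subgroup (Kˣ × Kˣ)) := by
    intro zw h
    obtain ⟨Q', hQ'⟩ := (show IsPGroup 7 (Subgroup.zpowers zw) from fun y => ⟨1, by
      obtain ⟨i, hi⟩ := y.2
      refine Subtype.ext ?_
      rw [pow_one, Subgroup.coe_pow, ← hi, ← zpow_natCast, ← zpow_mul, mul_comm, zpow_mul, zpow_natCast, h, one_zpow,
        Subgroup.coe_one]⟩).exists_le_sylow
    obtain ⟨y, rfl⟩ := MulAction.exists_smul_eq (Kˣ × Kˣ) Q Q'
    have := hQ' (Subgroup.mem_zpowers zw)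
    rw [Sylow.coe_subgroup_smul, Subgroup.mem_pointwise_smul_iff_inv_smul_mem] at this
    simpa using this
  have hζ2 : φ (ζ : K) = ((ζ ^ 2 : Kˣ) : K) := by
    rw [hφe, ← Units.val_pow_eq_pow_val, ← pow_mod_orderOf ζ (2 ^ m), hζ, hm2]
  have hmoved : ∀ r < 48, hchar F4.pk (tor φ ζ 1) r ≠ 1 ∨ hchar F4.pk (tor φ 1 ζ) r ≠ 1 := by
    intro r hr
    have hh : ∀ c : Fin 4 → Kˣ, hchar F4.pk c r = (c 0 : K) ^ F4.pk.A 0 r * (c 1 : K) ^ F4.pk.A 1 r *
        (c 2 : K) ^ F4.pk.A 2 r * (c 3 : K) ^ F4.pk.A 3 r := fun c => Fin.prod_univ_four _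
    have hz : ∀ a b : ℤ, ((ζ ^ 2 : Kˣ) : K) ^ a * (ζ : K) ^ b = 1 → (2 * a + b) % 7 = 0 := by
      intro a b e
      have e' : (ζ ^ (2 * a + b) : Kˣ) = 1 := Units.ext (by
        rw [zpow_add, zpow_mul, Units.val_mul, Units.val_zpow_eq_zpow_val, Units.val_zpow_eq_zpow_val, Units.val_one,
          ← e]
        norm_num [zpow_ofNat])
      have hd := orderOf_dvd_iff_zpow_eq_one.2 e'
      rw [hζ] at hd
      exact Int.emod_eq_zero_of_dvd hd
    have hk := List.all_eq_true.1 chars_seven r (List.mem_range.2 hr)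
    by_contra hcon
    push Not at hcon
    obtain ⟨e1, e2⟩ := hcon
    obtain ⟨a0, a1, a2, a3⟩ := tor_val φ ζ (1 : Kˣ)
    obtain ⟨b0, b1, b2, b3⟩ := tor_val φ (1 : Kˣ) ζ
    rw [hh, a0, a1, a2, a3, hζ2] at e1
    rw [hh, b0, b1, b2, b3, hζ2] at e2
    simp only [Units.val_one, map_one, one_zpow, mul_one, one_mul] at e1 e2
    simp [hz _ _ e1, hz _ _ e2] at hk
  -- normaliser of the Sylow group
  obtain ⟨fW, -, hker⟩ := weyl φ hφ G hO
  have hN : ∀ y : ↥(twistedF4 K (2 ^ m)), (∀ p ∈ P, y * p * y⁻¹ ∈ P) → ∀ p ∈ P, Commute (y ^ 16) p := by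
    intro y hy
    let c : ↥(↑Q : Subgroup (Kˣ × Kˣ)) → Fin F4.pk.rank → Kˣ := fun q => tor φ q.1.1 q.1.2
    have hyinj : ∀ p ∈ P, ∃ q : ↥(↑Q : Subgroup (Kˣ × Kˣ)), τ q = y * p * y⁻¹ := fun p hp => by
      obtain ⟨q, hq, e⟩ := hy p hp
      exact ⟨⟨q, hq⟩, e⟩
    choose d hd using fun q : ↥(↑Q : Subgroup (Kˣ × Kˣ)) => hyinj (τ q) ⟨q.1, q.2, rfl⟩
    have hdinj : Function.Injective d := fun a b e => by
      have := hd a
      rw [e, hd b] at this
      exact Subtype.ext (hτ (mul_left_cancel (mul_right_cancel this.symm)))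
    have h1 : ∀ r < F4.pk.nroots, ∃ q, hchar F4.pk (c q) r ≠ 1 := by
      intro r hr
      have hζ7 : ζ ^ 7 = 1 := hζ ▸ pow_orderOf_eq_one ζ
      rcases hmoved r hr with h | h
      · exact ⟨⟨(ζ, 1), hQ _ (Prod.ext hζ7 (one_pow 7))⟩, h⟩
      · exact ⟨⟨(1, ζ), hQ _ (Prod.ext (one_pow 7) hζ7)⟩, h⟩
    have hygrp : (y : GL chevF4.Idx K) ∈ chevF4.group K := G.le_group (hG.ge y.2)
    have hmon : (y : GL chevF4.Idx K) ∈ chevF4.monomialSubgroup K := by
      refine F4.ok.monomial_of_conj ckComm_F4 c (fun q => c (d q)) h1 (fun r hr => ?_) hygrp fun q => ?_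
      · obtain ⟨q, hq⟩ := h1 r hr
        obtain ⟨q', rfl⟩ := (Finite.injective_iff_surjective.1 hdinj) q
        exact ⟨q', hq⟩
      · exact (congrArg Subtype.val (hd q)).symm
    have hy16 : (y : GL chevF4.Idx K) ^ 16 ∈ chevF4.diagonalSubgroup K := by
      let yy : ↥(chevF4.monomialSubgroup K ⊓ G.G1) := ⟨y, hmon, hG.ge y.2⟩
      have h16 : yy ^ 16 ∈ fW.ker := by
        rw [MonoidHom.mem_ker, map_pow]
        refine orderOf_dvd_iff_pow_eq_one.1 ?_
        have := orderOf_dvd_natCard (fW yy)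
        rwa [DihedralGroup.nat_card] at this
      rw [hker] at h16
      exact (Subgroup.mem_subgroupOf.1 h16).1
    rintro _ ⟨q, -, rfl⟩
    obtain ⟨c0, hc0⟩ := exists_hH hy16
    refine Subtype.ext ?_
    show ((y ^ 16 : ↥(twistedF4 K (2 ^ m))) : GL chevF4.Idx K) * hH (tor φ q.1 q.2) =
      hH (tor φ q.1 q.2) * ((y ^ 16 : ↥(twistedF4 K (2 ^ m))) : GL chevF4.Idx K)
    rw [Subgroup.coe_pow, hc0, ← map_mul, ← map_mul, mul_comm]
  -- an arbitrary seven-subgroup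
  obtain ⟨P', hP'⟩ := hS.exists_le_sylow
  obtain ⟨x, hx⟩ := MulAction.exists_smul_eq ↥(twistedF4 K (2 ^ m)) PS P'
  have hP'eq : (P' : Subgroup ↥(twistedF4 K (2 ^ m))) = MulAut.conj x • P := by
    rw [← hx, Sylow.coe_subgroup_smul]; rfl
  have hab : ∀ a ∈ (P' : Subgroup ↥(twistedF4 K (2 ^ m))), ∀ b ∈ (P' : Subgroup ↥(twistedF4 K (2 ^ m))),
      Commute a b := by
    intro a ha b hb
    rw [hP'eq, Subgroup.mem_smul_pointwise_iff_exists] at ha hb
    obtain ⟨_, ⟨q, -, rfl⟩, rfl⟩ := ha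
    obtain ⟨_, ⟨q', -, rfl⟩, rfl⟩ := hb
    exact (((Commute.all q q').map τ).map (MulAut.conj x).toMonoidHom)
  set C := Subgroup.centralizer (S : Set ↥(twistedF4 K (2 ^ m)))
  have hP'C : (P' : Subgroup ↥(twistedF4 K (2 ^ m))) ≤ C := fun a ha =>
    Subgroup.mem_centralizer_iff.2 fun s hs => (hab s (hP' hs) a ha).eq
  have hgS : ∀ s ∈ S, g⁻¹ * s * g ∈ S := by
    let f : S → S := fun s => ⟨g * s * g⁻¹, hg s s.2⟩
    have hf : Function.Injective f := fun a b e =>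
      Subtype.ext (mul_left_cancel (mul_right_cancel (congrArg Subtype.val e)))
    intro s hs
    obtain ⟨s', e⟩ := Finite.injective_iff_surjective.1 hf ⟨s, hs⟩
    rw [show g⁻¹ * s * g = s'.1 by
      rw [← show g * s'.1 * g⁻¹ = s from congrArg Subtype.val e]; group]
    exact s'.2
  have hgC : ((g • P' : Sylow 7 ↥(twistedF4 K (2 ^ m))) : Subgroup ↥(twistedF4 K (2 ^ m))) ≤ C := by
    intro a ha
    rw [Sylow.coe_subgroup_smul, Subgroup.mem_smul_pointwise_iff_exists] at ha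
    obtain ⟨b, hb, rfl⟩ := ha
    refine Subgroup.mem_centralizer_iff.2 fun s hs => ?_
    have h := Subgroup.mem_centralizer_iff.1 (hP'C hb) _ (hgS s hs)
    show s * (g * b * g⁻¹) = g * b * g⁻¹ * s
    calc s * (g * b * g⁻¹) = g * ((g⁻¹ * s * g) * b) * g⁻¹ := by group
      _ = g * (b * (g⁻¹ * s * g)) * g⁻¹ := by rw [h]
      _ = _ := by group
  obtain ⟨c, hc⟩ := MulAction.exists_smul_eq ↥C ((g • P').subtype hgC) (P'.subtype hP'C)
  rw [Sylow.smul_subtype] at hc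
  have hc := Sylow.subtype_injective hc
  set y := x⁻¹ * ((c : ↥(twistedF4 K (2 ^ m))) * g) * x
  have hy : ∀ p ∈ P, y * p * y⁻¹ ∈ P := by
    intro p hp
    have e : (((c : ↥(twistedF4 K (2 ^ m))) * g) • P' : Sylow 7 ↥(twistedF4 K (2 ^ m))) = P' := by
      rw [mul_smul]; exact hc
    have h1 : x * p * x⁻¹ ∈ (P' : Subgroup ↥(twistedF4 K (2 ^ m))) := by
      rw [hP'eq]; exact Subgroup.smul_mem_pointwise_smul p (MulAut.conj x) P hp
    have h2 : (c : ↥(twistedF4 K (2 ^ m))) * g * (x * p * x⁻¹) * ((c : ↥(twistedF4 K (2 ^ m))) * g)⁻¹ ∈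
        ((((c : ↥(twistedF4 K (2 ^ m))) * g) • P' : Sylow 7 ↥(twistedF4 K (2 ^ m))) :
          Subgroup ↥(twistedF4 K (2 ^ m))) := by
      rw [Sylow.coe_subgroup_smul]
      exact Subgroup.smul_mem_pointwise_smul _ (MulAut.conj ((c : ↥(twistedF4 K (2 ^ m))) * g)) _ h1
    rw [e] at h2
    rw [hP'eq, Subgroup.mem_smul_pointwise_iff_exists] at h2
    obtain ⟨p', hp', e'⟩ := h2
    have : y * p * y⁻¹ = p' := by
      simp only [MulAut.smul_def, MulAut.conj_apply] at e'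
      calc y * p * y⁻¹ = x⁻¹ * ((c : ↥(twistedF4 K (2 ^ m))) * g * (x * p * x⁻¹) *
            ((c : ↥(twistedF4 K (2 ^ m))) * g)⁻¹) * x := by simp only [y]; group
        _ = p' := by rw [← e']; group
    exact this ▸ hp'
  have hpow : ∀ (i : ℕ) (s), s ∈ S →
      ((c : ↥(twistedF4 K (2 ^ m))) * g) ^ i * s * (((c : ↥(twistedF4 K (2 ^ m))) * g) ^ i)⁻¹ = g ^ i * s * (g ^ i)⁻¹ ∧
        g ^ i * s * (g ^ i)⁻¹ ∈ S := by
    intro i
    induction i with
    | zero => intro s hs; simp [hs]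
    | succ i ih =>
      intro s hs
      obtain ⟨e1, e2⟩ := ih s hs
      have h2 := hg _ e2
      have h3 := Subgroup.mem_centralizer_iff.1 c.2 _ h2
      refine ⟨?_, by rw [pow_succ']; simpa [mul_assoc] using h2⟩
      calc _ = (c : ↥(twistedF4 K (2 ^ m))) * (g * (((c : ↥(twistedF4 K (2 ^ m))) * g) ^ i * s *
            (((c : ↥(twistedF4 K (2 ^ m))) * g) ^ i)⁻¹) * g⁻¹) * (c : ↥(twistedF4 K (2 ^ m)))⁻¹ := by
            simp only [pow_succ', mul_inv_rev, mul_assoc]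
        _ = g * (g ^ i * s * (g ^ i)⁻¹) * g⁻¹ := by rw [e1, ← h3, mul_inv_cancel_right]
        _ = _ := by simp only [pow_succ', mul_inv_rev, mul_assoc]
  intro s hs
  have h16 : Commute (g ^ 16) s := by
    have hsP : s ∈ MulAut.conj x • P := hP'eq ▸ hP' hs
    obtain ⟨p, hp, rfl⟩ := Subgroup.mem_smul_pointwise_iff_exists _ _ _ |>.1 hsP
    have h := (hN y hy p hp).map (MulAut.conj x).toMonoidHom
    have e : MulAut.conj x (y ^ 16) = ((c : ↥(twistedF4 K (2 ^ m))) * g) ^ 16 := by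
      rw [map_pow]
      congr 1
      simp only [y, MulAut.conj_apply]
      group
    have h' : Commute (((c : ↥(twistedF4 K (2 ^ m))) * g) ^ 16) (MulAut.conj x • p) := e ▸ h
    have := (hpow 16 _ hs).1
    rw [h'.eq, mul_inv_cancel_right] at this
    exact mul_inv_eq_iff_eq_mul.1 this.symm
  obtain ⟨a, ha⟩ : ∃ a : ℕ, g = (g ^ 16) ^ a := by
    obtain ⟨b, -, hb⟩ := Nat.exists_mul_mod_eq_of_coprime 1
      (Nat.Coprime.pow_right k (by norm_num : Nat.Coprime 16 3)) (pow_ne_zero k (by norm_num))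
    exact ⟨b, by rw [← pow_mul, pow_eq_pow_mod _ hgk, hb, ← pow_eq_pow_mod _ hgk, pow_one]⟩
  rw [ha]
  exact h16.pow_left a

end Auto

end Cfsg.Agent.Chev.TwF4
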