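/-
Elements of two-power order in ²F₄: the height grading of the adjoint module.
-/
import Cfsg.Agent.Lib.Chev.TwF4Thm
import Mathlib.GroupTheory.Sylow

set_option autoImplicit false
set_option maxHeartbeats 400000

namespace Cfsg.Agent.Chev

open Cfsg.Lie
open scoped Matrix

variable {D : ChevalleyDatum} {P : Pk} {F : Type*} [Field F]

/-- The height grading of the coordinates. -/
def hlev (P : Pk) (x : D.Idx) : ℤ := if code P x < P.nroots then P.ht (code P x) else 0

namespace Ok

variable (h : Ok D P)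
include h

theorem X_htri {r : ℕ} (hp : P.isPos r = true) (t : F) : Tri (hlev P) (X D P r t) := by
  have hr := (P.isPos_iff.1 hp).2
  have h0 := h.ht_pos hp
  have key : ∀ (row col : D.Idx) (k : ℕ), k ≠ 0 → cf (P.colL k r (code P col)) (code P row) ≠ 0 →
      hlev P col < hlev P row := by
    intro row col k hk hne
    have hng : P.ht (P.ng r) = -P.ht r := by
      simp only [Pk.ht, ← List.sum_toFinset _ List.nodup_range, ← Finset.sum_neg_distrib]
      exact Finset.sum_congr rfl fun i hi => h.rv_ng hr (by simpa using hi)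
    rcases h.colL_entry hk hr hne with ⟨h1, h2⟩ | ⟨h1, h2⟩ | ⟨h1, h2, h3, h4, h5⟩
    · rw [hlev, hlev, if_neg (by omega), if_pos (by omega), h2]; exact h0
    · have h2' : (if code P row < P.nroots then P.ht (code P row) else 0) ≥ 0 := by
        rcases h2 with e | e
        · rw [if_neg (by omega)]
        · rw [e, if_pos hr]; exact h0.le
      rw [hlev, hlev, if_pos (h1 ▸ ng_lt hr), h1, hng]
      omega
    · rw [hlev, hlev, if_pos h1, if_pos (h5 ▸ h.tgt_lt hr h1 h4), h5, h.ht_tgt hr h1 h4]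
      nlinarith
  intro row col
  refine ⟨fun e1 => (h.X_entry hr t row col).1 e1 fun k hk => ?_, fun e1 e2 => ?_⟩
  · by_contra hne
    have := key row col k hk hne
    rw [e1] at this; omega
  · obtain ⟨k, hk, hne⟩ := (h.X_entry hr t row col).2 e1 e2
    exact key row col k hk hne

theorem htri_of_pos {g : GL D.Idx F} (hg : g ∈ D.posUnipotent F) :
    Tri (hlev P) (g : Matrix D.Idx D.Idx F) := by
  rw [h.posUnipotent_eq] at hg
  induction hg using Subgroup.closure_induction'' with
  | one => simpa using tri_one _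
  | mem x hx =>
    obtain ⟨r, t, hr, rfl⟩ := hx
    rw [h.coe_xG' (P.isPos_iff.1 hr).2]
    exact h.X_htri hr t
  | inv_mem x hx =>
    obtain ⟨r, t, hr, rfl⟩ := hx
    rw [h.xG_inv, h.coe_xG' (P.isPos_iff.1 hr).2]
    exact h.X_htri hr _
  | mul a b _ _ iha ihb => rw [Units.val_mul]; exact iha.mul ihb

/-- A bound for the order of the positive unipotent elements in characteristic two. -/
theorem pow_two_pow_eq_one [CharP F 2] {g : GL D.Idx F} (hg : g ∈ D.posUnipotent F) {B : ℤ} {k : ℕ}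
    (hB : ∀ r < P.nroots, -B ≤ P.ht r ∧ P.ht r ≤ B) (hB0 : 0 ≤ B) (hk : 2 * B < 2 ^ k) : g ^ 2 ^ k = 1 := by
  haveI := Fact.mk Nat.prime_two
  have hlv : ∀ x : D.Idx, -B ≤ hlev P x ∧ hlev P x ≤ B := fun x => by
    rw [hlev]; split_ifs with hx
    · exact hB _ hx
    · exact ⟨by omega, hB0⟩
  have h0 : ((g : Matrix D.Idx D.Idx F) - 1) ^ 2 ^ k = 0 := by
    ext row col
    by_contra hne
    have h1 := (h.htri_of_pos hg).pow_sub_one (2 ^ k) row col (by simpa using hne)
    have h2 := hlv row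
    have h3 := hlv col
    push_cast at h1
    omega
  apply Units.ext
  rw [Units.val_pow_eq_pow_val, Units.val_one]
  cases isEmpty_or_nonempty D.Idx
  · exact Subsingleton.elim _ _
  · haveI : CharP (Matrix D.Idx D.Idx F) 2 := inferInstance
    rwa [sub_pow_char_pow_of_commute _ _ (Commute.one_right _), one_pow, sub_eq_zero] at h0

end Ok

namespace TwF4

variable {K : Type*} [Field K] [CharP K 2] [Fintype K] (φ : K →+* K) (hφ : ∀ t, φ (φ t) ^ 2 = t)
variable (G : TwistGrp (T φ)) (hO : G.O.orbs = orbsT)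

include hφ hO in
/-- Every element of two-power order of ²F₄ has order dividing 32. -/
theorem pow_32_eq_one {g : ↥G.G1} {j : ℕ} (hg : g ^ 2 ^ j = 1) : g ^ 32 = 1 := by
  haveI := Fact.mk Nat.prime_two
  obtain ⟨n, hn⟩ : ∃ n, Fintype.card K = 2 ^ n := by
    obtain ⟨n, -, hn⟩ := FiniteField.card K 2
    exact ⟨n, hn⟩
  have hn0 : n ≠ 0 := fun e => (Fintype.one_lt_card (α := K)).ne' (by rw [hn, e, pow_zero])
  set U := (chevF4.posUnipotent K ⊓ (T φ).fixed).subgroupOf G.G1
  have hU : Nat.card U = 2 ^ (n * 12) := by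
    rw [Nat.card_congr (Subgroup.subgroupOfEquivOfLe (G.pos_fixed_le ckComm_F4)).toEquiv, card_pos φ hφ G hO, hn,
      ← pow_mul]
  have hG := card_G1 φ hφ G hO
  have hq : (Fintype.card K : ZMod 2) = 0 := by rw [hn, Nat.cast_pow, show ((2 : ℕ) : ZMod 2) = 0 from rfl, zero_pow hn0]
  have hodd : ¬ 2 ∣ U.index := by
    have h1 : Fintype.card K ^ 12 * U.index = Fintype.card K ^ 12 *
        ((Fintype.card K - 1) * (Fintype.card K ^ 3 + 1) * (Fintype.card K ^ 4 - 1) * (Fintype.card K ^ 6 + 1)) := by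
      have e := U.card_mul_index
      rw [hU, hG, pow_mul, ← hn] at e
      rw [e]; ring
    intro h2
    have h3 := congrArg (fun x : ℕ => (x : ZMod 2)) (Nat.eq_of_mul_eq_mul_left (pow_pos Fintype.card_pos _) h1)
    have h4 : 1 ≤ Fintype.card K ^ 4 := Nat.one_le_pow _ _ Fintype.card_pos
    simp only [(ZMod.natCast_eq_zero_iff _ _).2 h2, Nat.cast_mul, Nat.cast_add, Nat.cast_one, Nat.cast_pow,
      Nat.cast_sub h4, Nat.cast_sub (show 1 ≤ Fintype.card K from Fintype.card_pos), hq] at h3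
    norm_num at h3
  obtain ⟨S, hSU⟩ : ∃ S : Sylow 2 G.G1, (S : Subgroup G.G1) = U := ⟨(IsPGroup.of_card hU).toSylow hodd, rfl⟩
  obtain ⟨S', hS'⟩ := (show IsPGroup 2 (Subgroup.zpowers g) from fun x => by
    obtain ⟨i, hi⟩ := x.2
    exact ⟨j, Subtype.ext (by simp only [SubmonoidClass.coe_pow, OneMemClass.coe_one, ← hi]; rw [← zpow_natCast, ← zpow_mul, mul_comm, zpow_mul, zpow_natCast, hg, one_zpow])⟩).exists_le_sylow
  obtain ⟨k, hk⟩ := MulAction.exists_smul_eq G.G1 S' S
  have hgk : k * g * k⁻¹ ∈ U := by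
    rw [← hSU, ← hk]
    exact Subgroup.smul_mem_pointwise_smul g (MulAut.conj k) _ (hS' (Subgroup.mem_zpowers g))
  have hB : ∀ r < F4.pk.nroots, -11 ≤ F4.pk.ht r ∧ F4.pk.ht r ≤ 11 := by decide +kernel
  have h := F4.ok.pow_two_pow_eq_one (F := K) (k := 5) hgk.1 hB (by norm_num) (by norm_num)
  have h' : (k * g * k⁻¹) ^ 32 = 1 := Subtype.ext (by simpa using h)
  rwa [conj_pow, conj_eq_one_iff] at h'

end TwF4

end Cfsg.Agent.Chev
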