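/-
The Tits group has no doubly transitive action.
-/
import Cfsg.Agent.Lib.Chev.TwF4TitsSub
import Mathlib.GroupTheory.GroupAction.MultipleTransitivity
import Mathlib.GroupTheory.Perm.Cycle.Type

set_option autoImplicit false
set_option maxRecDepth 8000

namespace Cfsg.Agent.Chev.TwF4.Tits

open Cfsg.Lie Two

theorem deg_ck : ((List.range 4300).all fun n => decide (n < 3) || decide (¬ n * (n - 1) ∣ 17971200) ||
    decide (n ∈ [3, 4, 5, 6, 9, 10, 13, 16, 25, 26, 27, 40, 65])) = true := by decide +kernel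

theorem vz_ck : vmap 2048 = some 2048 ∧ nk (bits 2048 ++ bits 1024) = nk (bits 1024 ++ bits 2048) ∧
    (nk (bits 1024 ++ bits 2048)).isSome ∧ 2048 ∈ Olist ∧ bits 1024 = [10] ∧ Gen.permP 11 = 10 := by decide +kernel

/-- The size of a set with a free action of a cyclic two-group. -/
theorem sixteen_dvd {α : Type*} [Finite α] {M : Type*} [Group M] [MulAction M α] (x : M) (h16 : x ^ 16 = 1)
    (h8 : ∀ a : α, x ^ 8 • a ≠ a) : 16 ∣ Nat.card α := by
  have hfix : ∀ (j : ℕ) (a : α), x ^ j • a = a → 16 ∣ j := by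
    intro j a ha
    by_contra hj
    have hm : ∀ r : Fin 16, r.val ≠ 0 → ∃ m : Fin 16, r.val * m.val % 16 = 8 := by decide +kernel
    obtain ⟨m, hm⟩ := hm ⟨j % 16, Nat.mod_lt _ (by norm_num)⟩ (fun h => hj (Nat.dvd_of_mod_eq_zero h))
    have hpow : ∀ i : ℕ, (x ^ j) ^ i • a = a := fun i => by
      induction i with
      | zero => rw [pow_zero, one_smul]
      | succ i ih => rw [pow_succ, mul_smul, ha, ih]
    apply h8 a
    have := hpow m.val
    rwa [← pow_mul, pow_eq_pow_mod _ h16, Nat.mul_mod, Nat.mod_eq_of_lt m.isLt, hm] at this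
  by_cases he : IsEmpty α
  · simp
  rw [not_isEmpty_iff] at he
  obtain ⟨a₀⟩ := he
  have ho : orderOf x = 16 := by
    refine Nat.dvd_antisymm (orderOf_dvd_of_pow_eq_one h16) (hfix _ a₀ ?_)
    rw [pow_orderOf_eq_one, one_smul]
  have hfree : ∀ a : α, MulAction.stabilizer (Subgroup.zpowers x) a = ⊥ := by
    intro a
    rw [eq_bot_iff]
    rintro ⟨y, hy⟩ hya
    obtain ⟨j, rfl⟩ := (isOfFinOrder_iff_pow_eq_one.2 ⟨16, by norm_num, h16⟩).mem_powers_iff_mem_zpowers.2 hy
    obtain ⟨c, rfl⟩ := hfix j a (by simpa [Subgroup.smul_def] using hya)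
    rw [Subgroup.mem_bot]
    ext
    simp [pow_mul, h16]
  rw [Nat.card_congr (MulAction.selfEquivOrbitsQuotientProd hfree), Nat.card_prod, Nat.card_zpowers, ho]
  exact dvd_mul_left _ _

/-- An element of order dividing five fixes a point of an invariant set of size prime to five. -/
theorem exists_fixed {Ω : Type*} [Finite Ω] {M : Type*} [Group M] [MulAction M Ω] (v : M) (h5 : v ^ 5 = 1)
    (S : Set Ω) (hS : ∀ a, v • a ∈ S ↔ a ∈ S) (hdvd : ¬ 5 ∣ S.ncard) : ∃ b ∈ S, v • b = b := by
  classical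
  haveI := Fintype.ofFinite Ω
  haveI := Fact.mk (show Nat.Prime 5 by norm_num)
  set σ : Equiv.Perm S := (MulAction.toPermHom M Ω v).subtypePerm hS
  have hσ : σ ^ 5 ^ 1 = 1 := by
    rw [pow_one]
    ext a
    have e : (MulAction.toPermHom M Ω v) ^ 5 = 1 := by rw [← map_pow, h5, map_one]
    simpa [σ, Equiv.Perm.subtypePerm_pow] using congrArg (fun τ : Equiv.Perm Ω => τ a) e
  obtain ⟨b, hb⟩ := Equiv.Perm.exists_fixed_point_of_prime (n := 1)
    (by rwa [← Nat.card_eq_fintype_card, Nat.card_coe_set_eq]) hσ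
  exact ⟨b, b.2, congrArg Subtype.val hb⟩

variable {K : Type*} [Field K] [CharP K 2] [Fintype K] (hK : Fintype.card K = 2)

/-- The inclusion of the derived group. -/
noncomputable def vl : ↥(Two.Der K) →* GL chevF4.Idx K :=
  (twistedF4 K 1).subtype.comp (Two.Der K).subtype

theorem vl_inj : Function.Injective (vl (K := K)) :=
  (twistedF4 K 1).subtype_injective.comp (Two.Der K).subtype_injective

include hK

theorem card_cent {G : TwistGrp (T (RingHom.id K))} (hG : G.G1 = twistedF4 K 1) (hO : G.O.orbs = orbsT)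
    (v : ↥(twistedF4 K 1)) (hv : orderOf v = 5) (z : ↥(twistedF4 K 1))
    (hz : (z : GL chevF4.Idx K) = Gen.gen (RingHom.id K) 11 1) (hvz : Commute v z) :
    Nat.card ↥(Subgroup.centralizer ({z} : Set ↥(twistedF4 K 1))) = 20480 := by
  have hφ := id_twist hK
  haveI : Finite ↥(twistedF4 K 1) := Nat.finite_of_card_ne_zero (by rw [card_G hK]; norm_num)
  set C := Subgroup.centralizer ({z} : Set ↥(twistedF4 K 1))
  have hVC : Two.V (K := K) ≤ C := by
    intro u hu
    rw [Subgroup.mem_centralizer_singleton_iff]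
    refine Subtype.ext ?_
    push_cast
    rw [hz]
    have hu' : (u : GL chevF4.Idx K) ∈ Gen.U (RingHom.id K) := hu
    have h := (Gen.conj_md (RingHom.id K) hφ G hO le_rfl (fun i hi s => by
      have h := List.all_eq_true.1 Gen.cW_cks i (List.mem_range.2 hi)
      simp only [Bool.and_eq_true] at h
      have := Gen.cg_spec (RingHom.id K) hφ h.2 (Gen.env [s, 1])
      simpa [Gen.Md, Gen.val_cons, Gen.val_nil, Gen.evp_v, Gen.env] using this)
      (Gen.gen_mem_U (RingHom.id K) hφ G hO 11 1) hu').eq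
    rwa [mul_inv_eq_iff_eq_mul] at h
  have h1 : 2 ^ 12 ∣ Nat.card C := card_V hK ▸ Subgroup.card_dvd_of_le hVC
  have h2 : 5 ∣ Nat.card C := by
    have := C.orderOf_dvd_natCard (x := v) (Subgroup.mem_centralizer_singleton_iff.2 hvz.eq)
    rwa [hv] at this
  have h3 : Nat.card C ∣ 20480 := by
    have hle : C.map (twistedF4 K 1).subtype ≤ Gen.Psub (RingHom.id K) G ([1, 2], [1, 2, 1, 2]) := by
      rintro _ ⟨y, hy, rfl⟩
      refine Gen.cent11 (RingHom.id K) hφ G hO (hG.ge y.2) ?_
      rw [← hz]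
      exact congrArg Subtype.val (Subgroup.mem_centralizer_singleton_iff.1 hy)
    have := Subgroup.card_dvd_of_le hle
    rwa [Gen.card_Psub (RingHom.id K) hφ G hO (by simp [orbsT]), card_Uw_quad (RingHom.id K) hφ G, hK,
      ← Nat.card_congr (C.equivMapOfInjective _ (twistedF4 K 1).subtype_injective).toEquiv] at this
  exact Nat.dvd_antisymm h3 (Nat.Coprime.mul_dvd_of_dvd_of_dvd (by norm_num) h1 h2)

omit hK in
theorem filter_ncard : {k | k ∈ Olist ∧ k % 128 = 0}.ncard = 32 := by
  rw [show {k | k ∈ Olist ∧ k % 128 = 0} = ↑(Olist.filter fun k => Nat.beq (k % 128) 0).toFinset by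
    ext; simp, Set.ncard_coe_finset, List.toFinset_card_of_nodup (((show Olist.Nodup from List.nodup_range.filter _)).filter _)]
  exact gn_ck.2.2.2.2.1

/-- The orbit of a point fixed by the element of order five has size at least 16, and at least 32 when the
central involution moves it. -/
theorem orbit_ge {Ω : Type*} [Finite Ω] [MulAction ↥(Two.Der K) Ω] (v : ↥(Two.Der K)) (hv : vl v = vG)
    (E : ℕ → ↥(Two.Der K)) (hE : ∀ k ∈ Olist, vl (E k) = el k) {b : Ω} (hb : v • b = b)
    (hnot : ¬ ∀ k ∈ Olist, E k • b = b) :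
    16 ≤ {a | ∃ k ∈ Olist, E k • b = a}.ncard ∧
      (E 2048 • b ≠ b → 32 ≤ {a | ∃ k ∈ Olist, E k • b = a}.ncard) := by
  classical
  haveI : Finite ↥(Two.Der K) := Nat.finite_of_card_ne_zero (by rw [card_Der hK]; norm_num)
  obtain ⟨hO1, hcard⟩ := closure_eq hK (vl (K := K)) vl_inj E hE
  set O := Subgroup.closure (E '' {t | t ∈ gn})
  have hgnO : ∀ t ∈ gn, t ∈ Olist := fun t ht => by simpa using List.all_eq_true.1 gn_ck.1 t ht
  set S := (MulAction.stabilizer ↥(Two.Der K) b).map vl
  have hmem : ∀ k ∈ Olist, (el k ∈ S ↔ E k • b = b) := fun k hk => by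
    constructor
    · rintro ⟨y, hy, e⟩
      rw [← hE k hk] at e
      exact vl_inj e ▸ hy
    · exact fun h => ⟨E k, h, hE k hk⟩
  have hSv : ∀ y ∈ S, vG * y * (vG (K := K))⁻¹ ∈ S := by
    rintro _ ⟨y, hy, rfl⟩
    refine ⟨v * y * v⁻¹, ?_, by rw [map_mul, map_mul, map_inv, hv]⟩
    have hy' : y • b = b := hy
    show (v * y * v⁻¹) • b = b
    rw [mul_smul, mul_smul, inv_smul_eq_iff.2 hb.symm, hy', hb]
  set Z := {k | k ∈ Olist ∧ E k • b = b}
  have hlow : Z ⊆ {k | k ∈ Olist ∧ k % 128 = 0} := by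
    rintro k ⟨hk, hkb⟩
    refine ⟨hk, ?_⟩
    by_contra hl
    refine hnot fun k' hk' => ?_
    have hgen : O ≤ MulAction.stabilizer _ b := (Subgroup.closure_le _).2 (by
      rintro _ ⟨t, ht, rfl⟩
      exact (hmem t (hgnO t ht)).1 (invariant_full hK S hSv hk hl ((hmem k hk).2 hkb) t ht))
    exact hgen (show E k' ∈ (O : Set _) from hO1 ▸ ⟨k', hk', rfl⟩)
  have hfinP : {k | k ∈ Olist ∧ k % 128 = 0}.Finite := Set.finite_of_ncard_ne_zero (by rw [filter_ncard]; norm_num)
  have hZ32 : Z.ncard ≤ 32 := filter_ncard ▸ Set.ncard_le_ncard hlow hfinP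
  -- orbit times stabiliser
  have hprod : {a | ∃ k ∈ Olist, E k • b = a}.ncard * Z.ncard = 512 := by
    have h := Subgroup.index_mul_card (MulAction.stabilizer ↥O b)
    rw [MulAction.index_stabilizer, hcard] at h
    have eo : MulAction.orbit ↥O b = {a | ∃ k ∈ Olist, E k • b = a} := by
      ext a
      constructor
      · rintro ⟨⟨y, hy⟩, rfl⟩
        obtain ⟨k, hk, rfl⟩ := (hO1 ▸ hy : y ∈ E '' {k | k ∈ Olist})
        exact ⟨k, hk, rfl⟩
      · rintro ⟨k, hk, rfl⟩
        exact ⟨⟨E k, show E k ∈ (O : Set _) from hO1 ▸ ⟨k, hk, rfl⟩⟩, rfl⟩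
    have ez : Nat.card (MulAction.stabilizer ↥O b) = Z.ncard := by
      rw [← Nat.card_coe_set_eq]
      refine (Nat.card_eq_of_bijective (fun k : Z => (⟨⟨E k.1, show E k.1 ∈ (O : Set _) from hO1 ▸ ⟨k.1, k.2.1, rfl⟩⟩,
        k.2.2⟩ : MulAction.stabilizer ↥O b)) ⟨fun p p' e => ?_, fun y => ?_⟩).symm
      · have e' : vl (E p.1) = vl (E p'.1) := congrArg (fun y : MulAction.stabilizer ↥O b => vl y.1.1) e
        rw [hE _ p.2.1, hE _ p'.2.1] at e'
        exact Subtype.ext (bits_inj (Olist_lt _ p.2.1) (Olist_lt _ p'.2.1) (nf_inj (K := K) _ _ (bits_spec _).1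
          (bits_spec _).1 (bits_spec _).2 (bits_spec _).2 e'))
      · obtain ⟨k, hk, e⟩ := (hO1 ▸ y.1.2 : y.1.1 ∈ E '' {k | k ∈ Olist})
        exact ⟨⟨k, hk, by rw [e]; exact y.2⟩, Subtype.ext (Subtype.ext e)⟩
    rwa [eo, ez] at h
  refine ⟨?_, fun hz => ?_⟩
  · by_contra h
    have := Nat.mul_le_mul (Nat.le_of_lt_succ (Nat.not_le.1 h)) hZ32
    omega
  · have hcomm := gn_ck.2.2.2.2.2.2.2.2
    have hZ16 : Z.ncard ≤ 16 := by
      have h2048 : 2048 ∈ Olist := vz_ck.2.2.2.1
      let t : ℕ → ℕ := fun k => (nk (bits 2048 ++ bits k)).getD 0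
      have ht : ∀ k ∈ {k | k ∈ Olist ∧ k % 128 = 0}, t k ∈ Olist ∧ t k % 128 = 0 ∧ t (t k) = k := by
        have : ((Olist.filter fun k => Nat.beq (k % 128) 0).all fun k =>
            let a := (nk (bits 2048 ++ bits k)).getD 0
            decide (a ∈ Olist) && Nat.beq (a % 128) 0 && (nk (bits 2048 ++ bits k) == some a) &&
              Nat.beq ((nk (bits 2048 ++ bits a)).getD 0) k) = true := by decide +kernel
        intro k hk
        have h := List.all_eq_true.1 this k (List.mem_filter.2 ⟨hk.1, by simpa using hk.2⟩)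
        simp only [Bool.and_eq_true, decide_eq_true_eq, nbeq] at h
        exact ⟨h.1.1.1, h.1.1.2, h.2⟩
      have hv' : ∀ k ∈ Olist, nk (bits 2048 ++ bits k) = some (t k) → E (t k) ∈ MulAction.stabilizer _ b →
          t k ∈ Olist → E k • b = b → False := by
        intro k hk e h1 h2 hkb
        apply hz
        have : E (t k) = E 2048 * E k := vl_inj (by
          rw [map_mul, hE _ h2, hE _ h2048, hE _ hk, nk_mul hK e])
        have h1' : E (t k) • b = b := h1
        rwa [this, mul_smul, hkb] at h1'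
      have hsome : ∀ k ∈ {k | k ∈ Olist ∧ k % 128 = 0}, nk (bits 2048 ++ bits k) = some (t k) := by
        have : ((Olist.filter fun k => Nat.beq (k % 128) 0).all fun k => (nk (bits 2048 ++ bits k)).isSome) = true := by
          decide +kernel
        intro k hk
        have h := List.all_eq_true.1 this k (List.mem_filter.2 ⟨hk.1, by simpa using hk.2⟩)
        obtain ⟨a, ha⟩ := Option.isSome_iff_exists.1 h
        simp [t, ha]
      have hinj : Set.InjOn t Z := fun a ha c hc e => by
        rw [← (ht a (hlow ha)).2.2, e, (ht c (hlow hc)).2.2]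
      have hdis : Disjoint Z (t '' Z) := Set.disjoint_left.2 fun a ha ha' => by
        obtain ⟨k, hk, rfl⟩ := ha'
        exact hv' k hk.1 (hsome k (hlow hk)) ha.2 (ht k (hlow hk)).1 hk.2
      have hsub : Z ∪ t '' Z ⊆ {k | k ∈ Olist ∧ k % 128 = 0} := Set.union_subset hlow (by
        rintro _ ⟨k, hk, rfl⟩
        exact ⟨(ht k (hlow hk)).1, (ht k (hlow hk)).2.1⟩)
      have h := Set.ncard_le_ncard hsub hfinP
      rw [Set.ncard_union_eq hdis (hfinP.subset hlow) ((hfinP.subset hlow).image _), hinj.ncard_image,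
        filter_ncard] at h
      omega
    by_contra h
    have := Nat.mul_le_mul (Nat.le_of_lt_succ (Nat.not_le.1 h)) hZ16
    omega

/-- The Tits group has no doubly transitive action on three or more points. -/
theorem not_two_transitive {Ω : Type*} [Fintype Ω] [MulAction ↥(Two.Der K) Ω] [FaithfulSMul ↥(Two.Der K) Ω]
    (hΩ : 3 ≤ Fintype.card Ω) : ¬ MulAction.IsMultiplyPretransitive ↥(Two.Der K) Ω 2 := by
  classical
  intro h2
  rw [MulAction.is_two_pretransitive_iff] at h2
  obtain ⟨G, hG, hO⟩ := setup2 hK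
  have hφ := id_twist hK
  haveI : Finite ↥(twistedF4 K 1) := Nat.finite_of_card_ne_zero (by rw [card_G hK]; norm_num)
  set n := Fintype.card Ω with hn
  have hcardT : Nat.card ↥(Two.Der K) = 17971200 := by rw [card_Der hK]; norm_num
  -- the degree
  have hpair : n * (n - 1) ∣ 17971200 := by
    obtain ⟨a, b, hab⟩ := Fintype.exists_pair_of_one_lt_card (show 1 < Fintype.card Ω by omega)
    have e : MulAction.orbit ↥(Two.Der K) (a, b) = ↑(Finset.univ : Finset Ω).offDiag := by
      ext ⟨c, d⟩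
      simp only [Finset.coe_offDiag, Set.mem_offDiag, Finset.coe_univ, Set.mem_univ, true_and]
      constructor
      · rintro ⟨g, hg⟩
        simp only [Prod.smul_mk, Prod.mk.injEq] at hg
        rw [← hg.1, ← hg.2]
        exact fun e => hab (smul_left_cancel g e)
      · intro hcd
        obtain ⟨g, hg1, hg2⟩ := h2 hab hcd
        exact ⟨g, Prod.ext hg1 hg2⟩
    have h := (MulAction.stabilizer ↥(Two.Der K) (a, b)).index_dvd_card
    rw [MulAction.index_stabilizer, e, Set.ncard_coe_finset, Finset.offDiag_card, Finset.card_univ, hcardT] at h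
    rwa [Nat.mul_sub_one]
  have hfact : 17971200 ∣ n.factorial := by
    have h := Subgroup.card_dvd_of_injective (MulAction.toPermHom ↥(Two.Der K) Ω) MulAction.toPerm_injective
    rwa [hcardT, Nat.card_perm, Nat.card_eq_fintype_card] at h
  have hlist : n ∈ [16, 25, 26, 27, 40, 65] := by
    have hlt : n < 4300 := by
      by_contra hge
      have h1 := Nat.le_of_dvd (by norm_num) hpair
      have : 4300 * 4299 ≤ n * (n - 1) := Nat.mul_le_mul (by omega) (by omega)
      omega
    have h := List.all_eq_true.1 deg_ck n (List.mem_range.2 hlt)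
    simp only [Bool.or_eq_true, decide_eq_true_eq, List.mem_cons, List.not_mem_nil, or_false] at h
    rcases h with (h | h) | h
    · omega
    · exact absurd hpair h
    · have key : ∀ m, m ≤ 13 → ¬ 17971200 ∣ m.factorial := by decide +kernel
      have : ¬ n ≤ 13 := fun h => key n h hfact
      simp only [List.mem_cons, List.not_mem_nil, or_false]
      omega
  -- the elements
  have hex : ∀ k ∈ Olist, ∃ y : ↥(Two.Der K), vl y = el k := fun k hk => by
    obtain ⟨y, hy, e⟩ := el_mem hK hk
    exact ⟨⟨y, hy⟩, e⟩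
  let E : ℕ → ↥(Two.Der K) := fun k => if hk : k ∈ Olist then (hex k hk).choose else 1
  have hE : ∀ k ∈ Olist, vl (E k) = el k := fun k hk => by
    simp only [E, dif_pos hk]; exact (hex k hk).choose_spec
  obtain ⟨hvz, h10, h10s, h2048, hb10, hP11⟩ := vz_ck
  set z := E 2048
  obtain ⟨x8, x16, xpar, hb11, hb0⟩ := x_ck
  have hzv : vl z = Gen.gen (RingHom.id K) 11 1 := by
    rw [hE _ h2048, gen_one hK (by norm_num : 11 < 12), el, hb11]; simp
  have hzne : z ≠ 1 := fun e => Gen.gen_ne_one (RingHom.id K) hφ G hO (show 11 < 12 by norm_num)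
    (by rw [← hzv, e, map_one])
  -- the element of order sixteen
  obtain ⟨x, hxz, hx16⟩ : ∃ x : ↥(Two.Der K), x ^ 8 = z ∧ x ^ 16 = 1 := by
    refine ⟨⟨((bits 7).map gg).prod, even_mem (bits_spec 7).2 xpar⟩, ?_⟩
    set x : ↥(Two.Der K) := ⟨_, even_mem (bits_spec 7).2 xpar⟩
    have hx : vl x = el 7 := by
      show ((((bits 7).map gg).prod : ↥(twistedF4 K 1)) : GL chevF4.Idx K) = _
      rw [el, SubmonoidClass.coe_list_prod, List.map_map]
      exact congrArg List.prod (List.map_congr_left fun i hi => coe_gg ((bits_spec 7).2 i hi))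
    cases h1 : nk (bits 7 ++ bits 7) with
    | none => simp [h1] at x8
    | some a =>
      rw [h1, Option.bind_some] at x8
      cases h2' : nk (bits a ++ bits a) with
      | none => simp [h2'] at x8
      | some c =>
        rw [h2', Option.bind_some] at x8
        have e8 : vl (x ^ 8) = el 2048 := by
          rw [map_pow, hx, show (el 7 : GL chevF4.Idx K) ^ 8 = ((el 7 * el 7) * (el 7 * el 7)) *
            ((el 7 * el 7) * (el 7 * el 7)) by simp only [pow_succ, pow_zero, one_mul, mul_assoc], nk_mul hK h1, nk_mul hK h2', nk_mul hK x8]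
        exact ⟨vl_inj (by rw [e8, hE _ h2048]), vl_inj (by
          rw [show 16 = 8 + 8 from rfl, pow_add, map_mul, e8, nk_mul hK x16, el_zero, map_one])⟩
  -- the element of order five
  have hvmem : vG (K := K) ∈ twistedF4 K 1 :=
    mul_mem (n2_mem (RingHom.id K) 1 fun t => (pow_one t).symm) (g_mem (by norm_num))
  set v0 : ↥(twistedF4 K 1) := ⟨vG, hvmem⟩
  have hv05 : v0 ^ 5 = 1 := Subtype.ext (by push_cast; exact vG_pow hK)
  have hvD : v0 ∈ Two.Der K := by
    have h := Subgroup.sq_mem_of_index_two (index_Der hK) (v0 ^ 3)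
    rwa [← pow_mul, show 3 * 2 = 5 + 1 from rfl, pow_succ, hv05, one_mul] at h
  set v : ↥(Two.Der K) := ⟨v0, hvD⟩
  have hv : vl v = vG := rfl
  have hv5 : v ^ 5 = 1 := Subtype.ext hv05
  have hvc : Commute v z := vl_inj (by
    rw [map_mul, map_mul, hv, hE _ h2048]
    have h := vmap_spec hK hvz
    rwa [mul_inv_eq_iff_eq_mul] at h)
  -- the moved points
  set M : Set Ω := {a | z • a ≠ a}
  have hMinv : ∀ t : ↥(Two.Der K), Commute t z → ∀ a, t • a ∈ M ↔ a ∈ M := fun t ht a => by
    simp only [M, Set.mem_setOf_eq]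
    rw [← mul_smul, ← ht.eq, mul_smul, ne_eq, smul_left_cancel_iff]
  have hM16 : 16 ∣ M.ncard := by
    let p : SubMulAction ↥(Subgroup.zpowers x) Ω :=
      { carrier := M
        smul_mem' := fun g a ha => (hMinv g (by
          rw [← hxz]
          obtain ⟨i, hi⟩ := g.2
          rw [← hi]
          exact ((Commute.refl x).zpow_left i).pow_right 8) a).2 ha }
    rw [← Nat.card_coe_set_eq]
    refine sixteen_dvd (α := p) (⟨x, Subgroup.mem_zpowers x⟩ : Subgroup.zpowers x) (Subtype.ext hx16) ?_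
    rintro ⟨a, ha⟩ e
    apply ha
    have := congrArg Subtype.val e
    rw [← hxz]
    exact this
  have hMpos : 0 < M.ncard := by
    rw [Set.ncard_pos]
    by_contra he
    rw [Set.not_nonempty_iff_eq_empty] at he
    refine hzne (eq_of_smul_eq_smul (α := Ω) fun a => ?_)
    rw [one_smul]
    by_contra ha
    have : a ∈ M := ha
    rw [he] at this
    exact this
  have hMle : M.ncard ≤ n := by
    rw [hn, ← Nat.card_eq_fintype_card, ← Set.ncard_univ]
    exact Set.ncard_le_ncard (Set.subset_univ _)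
  obtain ⟨j, hj⟩ := hM16
  simp only [List.mem_cons, List.not_mem_nil, or_false] at hlist
  obtain ⟨b, hbM, hvb⟩ := exists_fixed v hv5 M (hMinv v hvc) (by omega)
  have hEcomm : ∀ k ∈ Olist, Commute (E k) z := fun k hk => vl_inj (by
    rw [map_mul, map_mul, hE _ hk, hE _ h2048]
    have h := List.all_eq_true.1 gn_ck.2.2.2.2.2.2.2.2 k hk
    have e := beq_iff_eq.1 h
    rw [← el_mul, ← el_mul]
    cases h1 : nk (bits 2048 ++ bits k) with
    | none =>
      exfalso
      have : (Olist.all fun k => (nk (bits 2048 ++ bits k)).isSome) = true := by decide +kernel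
      have := List.all_eq_true.1 this k hk
      simp [h1] at this
    | some a => rw [nk_spec h1, nk_spec (e ▸ h1)])
  have hnot : ¬ ∀ k ∈ Olist, E k • b = b := fun h => hbM (h _ h2048)
  have horb := orbit_ge hK v hv E hE hvb hnot
  have hsubM : {a | ∃ k ∈ Olist, E k • b = a} ⊆ M := by
    rintro _ ⟨k, hk, rfl⟩
    exact (hMinv _ (hEcomm k hk) b).2 hbM
  have h32 : 32 ≤ M.ncard := (horb.2 hbM).trans (Set.ncard_le_ncard hsubM)
  -- degree forty
  have h65 : n = 65 := by
    by_contra hne
    have h40 : n = 40 := by omega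
    have hF : Mᶜ.ncard = 8 := by
      rw [Set.ncard_compl, Nat.card_eq_fintype_card]; omega
    obtain ⟨c, hc, hvcx⟩ := exists_fixed v hv5 Mᶜ (fun a => not_congr (hMinv v hvc a)) (by omega)
    have hnotc : ¬ ∀ k ∈ Olist, E k • c = c := fun h => by
      obtain ⟨-, hcardO⟩ := closure_eq hK (vl (K := K)) vl_inj E hE
      have hle : Subgroup.closure (E '' {t | t ∈ gn}) ≤ MulAction.stabilizer _ c := (Subgroup.closure_le _).2 (by
        rintro _ ⟨t, ht, rfl⟩
        exact h t (by simpa using List.all_eq_true.1 gn_ck.1 t ht))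
      have h1 := Subgroup.card_dvd_of_le hle
      rw [hcardO] at h1
      have h3 := (MulAction.stabilizer ↥(Two.Der K) c).index_mul_card
      rw [MulAction.index_stabilizer, hcardT] at h3
      have horbit : MulAction.orbit ↥(Two.Der K) c = Set.univ := Set.eq_univ_of_forall fun d => by
        obtain ⟨c', hc'⟩ := Fintype.exists_ne_of_one_lt_card (show 1 < Fintype.card Ω by omega) c
        by_cases hd : d = c
        · exact hd ▸ MulAction.mem_orbit_self _
        · obtain ⟨d', hd'⟩ := Fintype.exists_ne_of_one_lt_card (show 1 < Fintype.card Ω by omega) d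
          obtain ⟨g, hg, -⟩ := h2 hc'.symm hd'.symm
          exact ⟨g, hg⟩
      rw [horbit, Set.ncard_univ, Nat.card_eq_fintype_card, ← hn, h40] at h3
      obtain ⟨r, hr⟩ := h1
      omega
    have h16 := (orbit_ge hK v hv E hE hvcx hnotc).1
    have hsub : {a | ∃ k ∈ Olist, E k • c = a} ⊆ Mᶜ := by
      rintro _ ⟨k, hk, rfl⟩
      exact fun h => hc ((hMinv _ (hEcomm k hk) c).1 h)
    have := h16.trans (Set.ncard_le_ncard hsub)
    omega
  -- the class of the central involution
  set z0 : ↥(twistedF4 K 1) := (z : ↥(twistedF4 K 1))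
  have hCG := card_cent hK hG hO v0 (by
    haveI := Fact.mk (show Nat.Prime 5 by norm_num)
    refine orderOf_eq_prime hv05 fun e => ?_
    have : vG (K := K) = 1 := congrArg Subtype.val e
    have h := vmap_spec hK (k := 1) (k' := (vmap 1).getD 0) (by decide +kernel)
    rw [this] at h
    have h1 : (vmap 1).getD 0 ≠ 1 ∧ (vmap 1).getD 0 < 4096 := by decide +kernel
    simp at h
    exact h1.1 (bits_inj h1.2 (by norm_num) (nf_inj (K := K) _ _ (bits_spec _).1 (bits_spec _).1 (bits_spec _).2
      (bits_spec _).2 h.symm))) z0 hzv (congrArg (fun y : ↥(Two.Der K) => (y : ↥(twistedF4 K 1))) hvc.eq)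
  have hqz : Commute (qe hK) z0 := Subtype.ext (by
    push_cast
    rw [qe_val hK, show ((z0 : ↥(twistedF4 K 1)) : GL chevF4.Idx K) = el 2048 from hE _ h2048, el, hb11]
    have h : nk [1, 11] = nk [11, 1] ∧ (nk [1, 11]).isSome := by decide +kernel
    obtain ⟨a, ha⟩ := Option.isSome_iff_exists.1 h.2
    have e1 := nk_spec (K := K) ha
    have e2 := nk_spec (K := K) (h.1 ▸ ha)
    simp only [List.map_cons, List.map_nil, List.prod_cons, List.prod_nil, mul_one] at e1 e2 ⊢
    rw [e1, e2])
  have hCT : Nat.card ↥(Subgroup.centralizer ({z} : Set ↥(Two.Der K))) = 10240 := by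
    set CT := Subgroup.centralizer ({z} : Set ↥(Two.Der K))
    set CG := Subgroup.centralizer ({z0} : Set ↥(twistedF4 K 1))
    have hq : qe hK ∈ CG := Subgroup.mem_centralizer_singleton_iff.2 hqz.eq
    have hin : ∀ t : CT, (t.1 : ↥(twistedF4 K 1)) ∈ CG := fun t => Subgroup.mem_centralizer_singleton_iff.2
      (congrArg (fun y : ↥(Two.Der K) => (y : ↥(twistedF4 K 1))) (Subgroup.mem_centralizer_singleton_iff.1 t.2))
    have hb : Function.Bijective fun p : Bool × CT =>
        (⟨(if p.1 then qe hK else 1) * (p.2.1 : ↥(twistedF4 K 1)), by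
          cases p.1
          · simpa using hin p.2
          · simpa using mul_mem hq (hin p.2)⟩ : CG) := by
      constructor
      · rintro ⟨e, t⟩ ⟨e', t'⟩ h
        have h' := congrArg Subtype.val h
        simp only at h'
        cases e <;> cases e' <;> simp only [Bool.false_eq_true, if_true, if_false, one_mul] at h'
        · exact Prod.ext rfl (Subtype.ext (Subtype.ext h'))
        · refine absurd ?_ (qe_out hK)
          rw [show qe hK = (t.1 : ↥(twistedF4 K 1)) * (t'.1 : ↥(twistedF4 K 1))⁻¹ by rw [h']; group]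
          exact mul_mem t.1.2 (inv_mem t'.1.2)
        · refine absurd ?_ (qe_out hK)
          rw [show qe hK = (t'.1 : ↥(twistedF4 K 1)) * (t.1 : ↥(twistedF4 K 1))⁻¹ by rw [← h']; group]
          exact mul_mem t'.1.2 (inv_mem t.1.2)
        · exact Prod.ext rfl (Subtype.ext (Subtype.ext (mul_left_cancel h')))
      · rintro ⟨y, hy⟩
        rcases halves hK y with h | h
        · exact ⟨(false, ⟨⟨y, h⟩, Subgroup.mem_centralizer_singleton_iff.2 (Subtype.ext
            (Subgroup.mem_centralizer_singleton_iff.1 hy))⟩), Subtype.ext (by simp)⟩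
        · exact ⟨(true, ⟨⟨_, h⟩, Subgroup.mem_centralizer_singleton_iff.2 (Subtype.ext
            (Subgroup.mem_centralizer_singleton_iff.1 (mul_mem (inv_mem hq) hy)))⟩),
            Subtype.ext (by simp)⟩
    have h := Nat.card_eq_of_bijective _ hb
    rw [Nat.card_prod, hCG, Nat.card_eq_fintype_card, Fintype.card_bool] at h
    omega
  -- the counting over ordered pairs
  have hdvd : n * (n - 1) ∣ 1755 * M.ncard := by
    haveI : Finite ↥(Two.Der K) := Nat.finite_of_card_ne_zero (by rw [hcardT]; norm_num)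
    haveI := Fintype.ofFinite ↥(Two.Der K)
    let C : Finset ↥(Two.Der K) := Finset.univ.image fun g => g * z * g⁻¹
    have hC : C.card = 1755 := by
      have e : (C : Set ↥(Two.Der K)) = MulAction.orbit (ConjAct ↥(Two.Der K)) z := by
        ext y
        simp only [C, Finset.coe_image, Finset.coe_univ, Set.image_univ, Set.mem_range]
        constructor
        · rintro ⟨g, rfl⟩; exact ⟨ConjAct.toConjAct g, by simp [ConjAct.smul_def]⟩
        · rintro ⟨g, rfl⟩; exact ⟨ConjAct.ofConjAct g, by simp [ConjAct.smul_def]⟩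
      have h := (MulAction.stabilizer (ConjAct ↥(Two.Der K)) z).index_mul_card
      rw [MulAction.index_stabilizer, ← e, Set.ncard_coe_finset, Nat.card_congr ConjAct.ofConjAct.toEquiv, hcardT] at h
      have e2 : Nat.card (MulAction.stabilizer (ConjAct ↥(Two.Der K)) z) = 10240 := by
        rw [← hCT]
        refine Nat.card_congr (Equiv.subtypeEquiv ConjAct.ofConjAct.toEquiv fun g => ?_)
        rw [MulAction.mem_stabilizer_iff, ConjAct.smul_def, Subgroup.mem_centralizer_singleton_iff,
          mul_inv_eq_iff_eq_mul]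
        rfl
      rw [e2] at h
      omega
    let P : Finset ((↥(Two.Der K)) × Ω) := (C ×ˢ Finset.univ).filter fun p => p.1 • p.2 ≠ p.2
    have hP : P.card = 1755 * M.ncard := by
      have e : P = C.biUnion fun y => (Finset.univ.filter fun a => y • a ≠ a).image fun a => (y, a) := by
        ext ⟨y, a⟩
        simp [P]
      rw [e, Finset.card_biUnion (fun y _ y' _ hne => by
        rw [Function.onFun, Finset.disjoint_left]
        intro p hp hp'
        simp only [Finset.mem_image] at hp hp'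
        obtain ⟨a, -, rfl⟩ := hp
        obtain ⟨a', -, e⟩ := hp'
        exact hne (congrArg Prod.fst e).symm), Finset.sum_const_nat (m := M.ncard), hC]
      intro y hy
      obtain ⟨g, -, rfl⟩ := Finset.mem_image.1 hy
      rw [Finset.card_image_of_injective _ (fun a a' e => congrArg Prod.snd e), ← Set.ncard_coe_finset]
      have : ((Finset.univ.filter fun a => (g * z * g⁻¹) • a ≠ a : Finset Ω) : Set Ω) = (g • ·) '' M := by
        ext a
        simp only [Finset.coe_filter, Finset.mem_univ, true_and, Set.mem_setOf_eq, Set.mem_image, M]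
        constructor
        · intro h
          refine ⟨g⁻¹ • a, fun e => h ?_, smul_inv_smul g a⟩
          rw [mul_smul, mul_smul, e, smul_inv_smul]
        · rintro ⟨c, hc, rfl⟩ e
          rw [mul_smul, mul_smul, inv_smul_smul, smul_left_cancel_iff] at e
          exact hc e
      rw [this, Set.ncard_image_of_injective _ (MulAction.injective g)]
    let f : (↥(Two.Der K)) × Ω → Ω × Ω := fun p => (p.2, p.1 • p.2)
    have hmaps : (P : Set ((↥(Two.Der K)) × Ω)).MapsTo f ↑(Finset.univ : Finset Ω).offDiag := fun p hp => by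
      simp only [P, Finset.coe_filter, Finset.mem_product, Finset.mem_univ, and_true, Set.mem_setOf_eq] at hp
      simp only [Finset.coe_offDiag, Set.mem_offDiag, Finset.coe_univ, Set.mem_univ, true_and, f]
      exact fun e => hp.2 e.symm
    have hconst : ∀ q ∈ (Finset.univ : Finset Ω).offDiag, ∀ q' ∈ (Finset.univ : Finset Ω).offDiag,
        (P.filter fun p => f p = q).card ≤ (P.filter fun p => f p = q').card := by
      rintro ⟨a, b⟩ hq ⟨c, d⟩ hq'
      simp only [Finset.mem_offDiag, Finset.mem_univ, true_and] at hq hq'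
      obtain ⟨g, hg1, hg2⟩ := h2 hq hq'
      refine Finset.card_le_card_of_injOn (fun p => (g * p.1 * g⁻¹, g • p.2)) ?_ ?_
      · rintro ⟨y, e⟩ hp
        simp only [Finset.coe_filter, Set.mem_setOf_eq, P, f, Finset.mem_filter, Finset.mem_product, Finset.mem_univ,
          and_true, Prod.mk.injEq] at hp ⊢
        obtain ⟨⟨hy, hne⟩, rfl, he⟩ := hp
        obtain ⟨g', -, rfl⟩ := Finset.mem_image.1 hy
        refine ⟨⟨Finset.mem_image.2 ⟨g * g', Finset.mem_univ _, by group⟩, ?_⟩, hg1, ?_⟩
        · rw [mul_smul, mul_smul, inv_smul_smul, ne_eq, smul_left_cancel_iff]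
          exact hne
        · rw [mul_smul, mul_smul, inv_smul_smul, he, hg2]
      · rintro ⟨y, e⟩ - ⟨y', e'⟩ - h
        simp only [Prod.mk.injEq] at h
        exact Prod.ext (mul_left_cancel (mul_right_cancel h.1)) (smul_left_cancel g h.2)
    obtain ⟨a, b, hab⟩ := Fintype.exists_pair_of_one_lt_card (show 1 < Fintype.card Ω by omega)
    have hab' : (a, b) ∈ (Finset.univ : Finset Ω).offDiag := by simp [hab]
    have h := Finset.card_eq_sum_card_fiberwise hmaps
    rw [Finset.sum_const_nat (m := (P.filter fun p => f p = (a, b)).card)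
      (fun q hq => le_antisymm (hconst q hq _ hab') (hconst _ hab' q hq)), Finset.offDiag_card, Finset.card_univ,
      hP] at h
    rw [Nat.mul_sub_one, h]
    exact dvd_mul_right _ _
  -- a single fixed point
  have h1 : Mᶜ.ncard = 1 := by
    rw [Set.ncard_compl, Nat.card_eq_fintype_card]
    rw [h65] at hdvd
    omega
  obtain ⟨a, ha⟩ := Set.ncard_eq_one.1 h1
  have haz : ∀ c, z • c = c ↔ c = a := fun c => by
    have : c ∈ Mᶜ ↔ c ∈ ({a} : Set Ω) := by rw [ha]
    simpa [M] using this
  set gens : Set ↥(Two.Der K) := {t | Commute (t * z * t⁻¹) z}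
  set Fs := (Subgroup.closure gens).map (Two.Der K).subtype
  have hfixa : Subgroup.closure gens ≤ MulAction.stabilizer _ a := (Subgroup.closure_le _).2 fun t ht => by
    show t • a = a
    have hy : ∀ c, (t * z * t⁻¹) • c = c ↔ c = t • a := fun c => by
      rw [mul_smul, mul_smul, smul_eq_iff_eq_inv_smul, haz, inv_smul_eq_iff]
    refine ((haz _).1 ((hy _).1 ?_))
    rw [← mul_smul, ht.eq, mul_smul, (hy _).2 rfl]
  haveI hDn : (Two.Der K).Normal := inferInstance
  set q := qe (K := K) hK
  have hqinv : ∀ y ∈ Fs, q * y * q⁻¹ ∈ Fs ∧ q⁻¹ * y * q ∈ Fs := by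
    have key : ∀ c : ↥(twistedF4 K 1), Commute c z0 → Fs ≤ Fs.comap (MulAut.conj c).toMonoidHom := by
      intro c hc
      rw [Subgroup.map_le_iff_le_comap, Subgroup.closure_le]
      intro t ht
      refine ⟨⟨c * t * c⁻¹, hDn.conj_mem _ t.2 c⟩, Subgroup.subset_closure ?_, by simp⟩
      have h0 : Commute ((t : ↥(twistedF4 K 1)) * z0 * (t : ↥(twistedF4 K 1))⁻¹) z0 :=
        congrArg (fun y : ↥(Two.Der K) => (y : ↥(twistedF4 K 1))) ht.eq
      refine Subtype.ext ?_
      have e : c * (t : ↥(twistedF4 K 1)) * c⁻¹ * z0 * (c * (t : ↥(twistedF4 K 1)) * c⁻¹)⁻¹ =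
          c * ((t : ↥(twistedF4 K 1)) * z0 * (t : ↥(twistedF4 K 1))⁻¹) * c⁻¹ := by
        have : c⁻¹ * z0 * c = z0 := by rw [mul_assoc, ← hc.eq, inv_mul_cancel_left]
        calc _ = c * (t : ↥(twistedF4 K 1)) * (c⁻¹ * z0 * c) * (t : ↥(twistedF4 K 1))⁻¹ * c⁻¹ := by group
          _ = _ := by rw [this]; group
      have hz' : c * z0 * c⁻¹ = z0 := by rw [hc.eq, mul_inv_cancel_right]
      show c * (t : ↥(twistedF4 K 1)) * c⁻¹ * z0 * (c * (t : ↥(twistedF4 K 1)) * c⁻¹)⁻¹ * z0 =
        z0 * (c * (t : ↥(twistedF4 K 1)) * c⁻¹ * z0 * (c * (t : ↥(twistedF4 K 1)) * c⁻¹)⁻¹)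
      rw [e]
      have := h0.map (MulAut.conj c)
      simp only [MulAut.conj_apply, hz'] at this
      exact this.eq
    intro y hy
    exact ⟨by simpa using key q hqz hy, by simpa using key q⁻¹ hqz.inv_left hy⟩
  have hgen : ∀ y : ↥(twistedF4 K 1), Commute (y * z0 * y⁻¹) z0 → y ∈ Fs ∨ q⁻¹ * y ∈ Fs := by
    intro y hy
    rcases halves hK y with h | h
    · exact Or.inl ⟨⟨y, h⟩, Subgroup.subset_closure (Subtype.ext hy.eq), rfl⟩
    · refine Or.inr ⟨⟨_, h⟩, Subgroup.subset_closure (Subtype.ext ?_), rfl⟩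
      have hz' : q⁻¹ * z0 * q = z0 := by rw [mul_assoc, ← hqz.eq, inv_mul_cancel_left]
      have := hy.map (MulAut.conj q⁻¹)
      simp only [MulAut.conj_apply, inv_inv, hz'] at this
      show q⁻¹ * y * z0 * (q⁻¹ * y)⁻¹ * z0 = z0 * (q⁻¹ * y * z0 * (q⁻¹ * y)⁻¹)
      have e : q⁻¹ * y * z0 * (q⁻¹ * y)⁻¹ = q⁻¹ * (y * z0 * y⁻¹) * q := by group
      rw [e]
      exact this.eq
  have hsq : q * q ∈ Fs := ⟨⟨q * q, by simpa [sq] using Subgroup.sq_mem_of_index_two (index_Der hK) q⟩,
    Subgroup.subset_closure (Subtype.ext (by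
      have : Commute (q * q) z0 := hqz.mul_left hqz
      show q * q * z0 * (q * q)⁻¹ * z0 = z0 * (q * q * z0 * (q * q)⁻¹)
      rw [this.eq, mul_inv_cancel_right])), rfl⟩
  let S : Subgroup ↥(twistedF4 K 1) :=
    { carrier := {x | x ∈ Fs ∨ q⁻¹ * x ∈ Fs}
      one_mem' := Or.inl (one_mem _)
      mul_mem' := by
        rintro a b (ha | ha) (hb | hb)
        · exact Or.inl (mul_mem ha hb)
        · refine Or.inr ?_
          rw [show q⁻¹ * (a * b) = (q⁻¹ * a * q) * (q⁻¹ * b) by group]
          exact mul_mem (hqinv a ha).2 hb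
        · exact Or.inr (by rw [← mul_assoc]; exact mul_mem ha hb)
        · refine Or.inl ?_
          rw [show a * b = (q * q) * (q⁻¹ * (q⁻¹ * a) * q) * (q⁻¹ * b) by group]
          exact mul_mem (mul_mem hsq (hqinv _ ha).2) hb
      inv_mem' := by
        rintro a (ha | ha)
        · exact Or.inl (inv_mem ha)
        · refine Or.inr ?_
          rw [show q⁻¹ * a⁻¹ = (q⁻¹ * (q⁻¹ * a)⁻¹ * q) * (q * q)⁻¹ by group]
          exact mul_mem (hqinv _ (inv_mem ha)).2 (inv_mem hsq) }
  have hphi : ∀ t, RingHom.id K t = t ^ 1 := fun t => (pow_one t).symm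
  have hz0v : (z0 : GL chevF4.Idx K) = Gen.gen (RingHom.id K) 11 1 := hzv
  have hV : ∀ {y : GL chevF4.Idx K}, y ∈ chevF4.posUnipotent K ⊓ (T (RingHom.id K)).fixed →
      y ∈ S.map (twistedF4 K 1).subtype := fun {y} hy => by
    refine ⟨⟨y, V_le hK hy⟩, hgen _ ?_, rfl⟩
    refine Subtype.ext ?_
    have h := (Gen.conj_md (RingHom.id K) hφ G hO le_rfl (fun i hi s => by
      have h := List.all_eq_true.1 Gen.cW_cks i (List.mem_range.2 hi)
      simp only [Bool.and_eq_true] at h
      have := Gen.cg_spec (RingHom.id K) hφ h.2 (Gen.env [s, 1])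
      simpa [Gen.Md, Gen.val_cons, Gen.val_nil, Gen.evp_v, Gen.env] using this)
      (Gen.gen_mem_U (RingHom.id K) hφ G hO 11 1) hy).eq
    push_cast
    rw [hz0v, h]
  have hn : ∀ (nn : GL chevF4.Idx K) (hnn : nn ∈ twistedF4 K 1) (k : ℕ),
      nn * Gen.gen (RingHom.id K) 11 1 * nn⁻¹ = el k → Commute (el k : GL chevF4.Idx K) (el 2048) →
      nn ∈ S.map (twistedF4 K 1).subtype := fun nn hnn k e hc => by
    refine ⟨⟨nn, hnn⟩, hgen _ (Subtype.ext ?_), rfl⟩
    push_cast
    rw [hz0v, e, ← hzv, hE _ h2048]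
    exact hc.eq
  have hel11 : (el 2048 : GL chevF4.Idx K) = Gen.gen (RingHom.id K) 11 1 := by rw [← hzv, hE _ h2048]
  have hnP := hn _ (n1_mem (RingHom.id K) 1 hphi) 1024 (by
    rw [Gen.conj_nP (RingHom.id K) hφ G hO (show 11 < 12 by norm_num) (by norm_num), hP11,
      gen_one hK (by norm_num : 10 < 12), el, hb10]
    simp) (by
    obtain ⟨c, hc⟩ := Option.isSome_iff_exists.1 h10s
    show el 1024 * el 2048 = el 2048 * el 1024
    rw [nk_mul hK hc, nk_mul hK (h10.trans hc)])
  have hnQ := hn _ (n2_mem (RingHom.id K) 1 hphi) 2048 (by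
    rw [Gen.conj_nQ (RingHom.id K) hφ G hO (show 11 < 12 by norm_num) (by norm_num) (by norm_num), hel11]
    rfl) (Commute.refl _)
  have hle : twistedF4 K 1 ≤ S.map (twistedF4 K 1).subtype := by
    have hcj : ∀ m y : GL chevF4.Idx K, m ∈ S.map (twistedF4 K 1).subtype →
        m * y * m⁻¹ ∈ S.map (twistedF4 K 1).subtype → y ∈ S.map (twistedF4 K 1).subtype := fun m y hm hy => by
      have := mul_mem (mul_mem (inv_mem hm) hy) hm
      simpa [mul_assoc] using this
    have hpos : ∀ r, 24 ≤ r → r < 48 → ∀ c : K, TwF4.x r c ∈ chevF4.posUnipotent K := fun r h1 h2 c =>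
      F4.ok.xG_mem_pos (isPos_ck r h2 h1) _
    have hpp : ∀ t, pw (RingHom.id K) (33, 24) t ∈ S.map (twistedF4 K 1).subtype := fun t =>
      hV ⟨mul_mem (hpos 33 (by omega) (by omega) _) (hpos 24 (by omega) (by omega) _),
        pw_fixed _ hφ (by decide) t⟩
    have hqq : ∀ t u, qw (RingHom.id K) (27, 25, 28, 30) t u ∈ S.map (twistedF4 K 1).subtype := fun t u =>
      hV ⟨mul_mem (mul_mem (hpos 27 (by omega) (by omega) _) (hpos 25 (by omega) (by omega) _))
        (mul_mem (hpos 28 (by omega) (by omega) _) (hpos 30 (by omega) (by omega) _)),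
        qw_fixed _ hφ (by decide) t u⟩
    refine gens_le (RingHom.id K) 1 hphi (fun p hp t => ?_) (fun r hr t u => ?_)
    · simp only [pairs, List.mem_cons, List.not_mem_nil, or_false] at hp
      rcases hp with rfl | rfl
      · exact hpp t
      · refine hcj _ _ hnP ?_
        rw [n_pair]
        exact hpp t
    · simp only [quads, List.mem_cons, List.not_mem_nil, or_false] at hr
      rcases hr with rfl | rfl
      · exact hqq t u
      · refine hcj _ _ hnQ ?_
        rw [n_quad]
        exact hqq t u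
  obtain ⟨c, hc⟩ := Fintype.exists_ne_of_one_lt_card (show 1 < Fintype.card Ω by omega) a
  obtain ⟨g, hg1, -⟩ := h2 hc.symm hc
  obtain ⟨y, hy, ey⟩ := hle (g : ↥(twistedF4 K 1)).2
  have ey' : y = (g : ↥(twistedF4 K 1)) := Subtype.ext ey
  have hgfix : g • a = a := by
    rcases hy with h | h
    · obtain ⟨t, ht, e⟩ := h
      have : t = g := Subtype.ext (e.trans ey')
      exact this ▸ hfixa ht
    · exfalso
      obtain ⟨t, -, e⟩ := h
      refine qe_out hK ?_
      have e' : q = y * (t : ↥(twistedF4 K 1))⁻¹ := by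
        rw [show (t : ↥(twistedF4 K 1)) = q⁻¹ * y from e]; group
      show q ∈ Two.Der K
      rw [e', ey']
      exact mul_mem g.2 (inv_mem t.2)
  exact hc (hg1.symm.trans hgfix)

end Cfsg.Agent.Chev.TwF4.Tits
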