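/-
The smallest Ree group ²G₂(3): its derived subgroup is simple of order 504.
-/
import Cfsg.Agent.Lib.Chev.TwReeThm
import Cfsg.Agent.Lib.Transfer.Fusion
import Mathlib.GroupTheory.Sylow
import Mathlib.GroupTheory.Abelianization.Defs

set_option autoImplicit false
set_option maxHeartbeats 800000

namespace Cfsg.Agent.Chev.TwRee.Three

open Cfsg.Lie
open scoped Matrix commutatorElement

variable {K : Type*} [Field K] [CharP K 3]

theorem mv6 (c d f g a : K) : Q c d f g * x 6 a = x 6 a * Q c d f (g - a * f) := by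
  have hd : G2.pk.cword 6 8 = [] ∧ G2.pk.cword 6 9 = [] ∧ G2.pk.cword 6 11 = [] ∧
      G2.pk.cword 6 10 = [(11, -1, 1, 1)] := by decide +kernel
  have h : ∀ s : ℕ, s < 12 → s ≠ 6 → s ≠ G2.pk.ng 6 → ∀ u : K, x s u * x 6 a = x 6 a * x s u *
      ((G2.pk.cword 6 s).map fun g => x g.1 ((g.2.1 : K) * a ^ g.2.2.1 * u ^ g.2.2.2)).prod :=
    fun s hs h1 h2 u => G2.ok.cword_one ckComm_G2 (by decide +kernel) hs h1 h2 a u
  have hn : G2.pk.ng 6 = 5 := by decide +kernel
  have h8 := h 8 (by omega) (by omega) (by omega) c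
  have h9 := h 9 (by omega) (by omega) (by omega) d
  have h10 := h 10 (by omega) (by omega) (by omega) f
  have h11 := h 11 (by omega) (by omega) (by omega) g
  simp [hd.1, hd.2.1, hd.2.2.1, hd.2.2.2] at h8 h9 h10 h11
  have hc : x 11 (-(a * f)) * x 11 g = x 11 (g - a * f) := by rw [xa]; congr 1; ring
  calc Q c d f g * x 6 a = x 8 c * x 9 d * x 10 f * (x 11 g * x 6 a) := by rw [Q]; group
    _ = x 8 c * x 9 d * (x 10 f * x 6 a) * x 11 g := by rw [h11]; group
    _ = x 8 c * (x 9 d * x 6 a) * x 10 f * (x 11 (-(a * f)) * x 11 g) := by rw [h10]; group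
    _ = (x 8 c * x 6 a) * x 9 d * x 10 f * x 11 (g - a * f) := by rw [h9, hc]; group
    _ = _ := by rw [h8, Q]; group

theorem mv7 (c d f g b : K) : Q c d f g * x 7 b = x 7 b * Q c (d - b * c) f g := by
  have hd : G2.pk.cword 7 8 = [(9, 2, 1, 1), (10, -3, 2, 1), (11, -3, 1, 2)] ∧
      G2.pk.cword 7 9 = [(10, -3, 1, 1)] ∧ G2.pk.cword 7 10 = [] ∧ G2.pk.cword 7 11 = [] := by decide +kernel
  have h : ∀ s : ℕ, s < 12 → s ≠ 7 → s ≠ G2.pk.ng 7 → ∀ u : K, x s u * x 7 b = x 7 b * x s u *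
      ((G2.pk.cword 7 s).map fun g => x g.1 ((g.2.1 : K) * b ^ g.2.2.1 * u ^ g.2.2.2)).prod :=
    fun s hs h1 h2 u => G2.ok.cword_one ckComm_G2 (by decide +kernel) hs h1 h2 b u
  have hn : G2.pk.ng 7 = 4 := by decide +kernel
  have e3 : (3 : K) = 0 := three
  have e2 : (2 : K) = -1 := by linear_combination e3
  have h8 := h 8 (by omega) (by omega) (by omega) c
  have h9 := h 9 (by omega) (by omega) (by omega) d
  have h10 := h 10 (by omega) (by omega) (by omega) f
  have h11 := h 11 (by omega) (by omega) (by omega) g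
  simp [hd.1, hd.2.1, hd.2.2.1, hd.2.2.2, e3, x, G2.ok.xG_zero] at h8 h9 h10 h11
  rw [e2] at h8
  have hc : x 9 (-1 * b * c) * x 9 d = x 9 (d - b * c) := by rw [xa]; congr 1; ring
  calc Q c d f g * x 7 b = x 8 c * x 9 d * x 10 f * (x 11 g * x 7 b) := by rw [Q]; group
    _ = x 8 c * x 9 d * (x 10 f * x 7 b) * x 11 g := by rw [h11]; group
    _ = x 8 c * (x 9 d * x 7 b) * x 10 f * x 11 g := by rw [h10]; group
    _ = (x 8 c * x 7 b) * x 9 d * x 10 f * x 11 g := by rw [h9]; group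
    _ = x 7 b * x 8 c * (x 9 (-1 * b * c) * x 9 d) * x 10 f * x 11 g := by rw [h8]; group
    _ = _ := by rw [hc, Q]; group

variable [Fintype K] (hK : Fintype.card K = 3)
include hK

theorem cube (t : K) : t ^ 3 = t := by simpa [hK] using FiniteField.pow_card t

theorem cases3 (t : K) : t = 0 ∨ t = 1 ∨ t = -1 := by
  have h : t * ((t - 1) * (t + 1)) = 0 := by linear_combination cube hK t
  rcases mul_eq_zero.1 h with h | h
  · exact Or.inl h
  rcases mul_eq_zero.1 h with h | h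
  · exact Or.inr (Or.inl (sub_eq_zero.1 h))
  · exact Or.inr (Or.inr (eq_neg_of_add_eq_zero_left h))

theorem id_twist (t : K) : RingHom.id K (RingHom.id K t) ^ 3 = t := cube hK t

/-- Normal forms with trivial twist. -/
noncomputable def s3 (_hK : Fintype.card K = 3) (t u v : K) : GL chevG2.Idx K := srt (RingHom.id K) t u v

theorem s3_eq (t u v : K) : s3 hK t u v = x 6 t * x 7 t * Q u v (t ^ 2 + u) (t + v) := by
  have h := cube hK t
  rw [s3, srt]
  simp only [RingHom.id_apply]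
  congr 2
  · linear_combination t * h
  · linear_combination (t ^ 2 + 1) * h

theorem s3_mul (t u v t' u' v' : K) : s3 hK t u v * s3 hK t' u' v' =
    s3 hK (t + t') (u + u' - t' * t) (v + v' - t' * u - t' * t ^ 2 + t' ^ 2 * t) := by
  rw [s3_eq, s3_eq, s3_eq]
  have h := cube hK t
  have h' := cube hK t'
  calc x 6 t * x 7 t * Q u v (t ^ 2 + u) (t + v) * (x 6 t' * x 7 t' * Q u' v' (t' ^ 2 + u') (t' + v'))
      = x 6 t * x 7 t * (Q u v (t ^ 2 + u) (t + v) * x 6 t') * x 7 t' * Q u' v' (t' ^ 2 + u') (t' + v') := by group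
    _ = x 6 t * (x 7 t * x 6 t') * Q u v (t ^ 2 + u) (t + v - t' * (t ^ 2 + u)) * x 7 t' *
          Q u' v' (t' ^ 2 + u') (t' + v') := by rw [mv6]; group
    _ = x 6 t * x 6 t' * x 7 t * ((Q (-(t' * t)) (-(t' * t ^ 2)) (t' * t ^ 3) (t' ^ 2 * t ^ 3) *
          Q u v (t ^ 2 + u) (t + v - t' * (t ^ 2 + u))) * x 7 t') * Q u' v' (t' ^ 2 + u') (t' + v') := by
        rw [swap76]; group
    _ = (x 6 t * x 6 t') * (x 7 t * x 7 t') *
          (Q (-(t' * t) + u) (-(t' * t ^ 2) + v - t' * (-(t' * t) + u)) (t' * t ^ 3 + (t ^ 2 + u))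
            (t' ^ 2 * t ^ 3 + (t + v - t' * (t ^ 2 + u))) * Q u' v' (t' ^ 2 + u') (t' + v')) := by
        rw [Q_mul, mv7]; group
    _ = _ := by
        rw [xa, xa, Q_mul]
        have e3 : (3 : K) = 0 := three
        congr 2
        · ring
        · ring
        · linear_combination t' * h
        · linear_combination t' ^ 2 * h + (0 : K) * e3

theorem s3_zero : s3 hK (0 : K) 0 0 = 1 := by rw [s3_eq]; simp [x, G2.ok.xG_zero, Q_zero]

theorem s3_inj {t u v t' u' v' : K} (e : s3 hK t u v = s3 hK t' u' v') : t = t' ∧ u = u' ∧ v = v' :=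
  srt_inj _ e

/-- The torus element of order two. -/
noncomputable def d3 (_hK : Fintype.card K = 3) : GL chevG2.Idx K := hH (tor (RingHom.id K) (-1))

theorem d3_conj (t u v : K) : d3 hK * s3 hK t u v * (d3 hK)⁻¹ = s3 hK (-t) u (-v) := by
  rw [s3_eq, s3_eq, d3, ← MulAut.conj_apply, Q, Q]
  simp only [map_mul, MulAut.conj_apply]
  obtain ⟨c6, c7, c8, c9, c10, c11⟩ := chars (tor (RingHom.id K) (-1 : Kˣ))
  have tv : ((tor (RingHom.id K) (-1 : Kˣ) 0 : Kˣ) : K) = -1 ∧ ((tor (RingHom.id K) (-1 : Kˣ) 1 : Kˣ) : K) = -1 :=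
    ⟨by simp [tor], by simp [tor]⟩
  simp [tv.1, tv.2] at c6 c7 c8 c9 c10 c11
  rw [hH_x _ (show (6:ℕ) < 12 by omega), hH_x _ (show (7:ℕ) < 12 by omega), hH_x _ (show (8:ℕ) < 12 by omega),
    hH_x _ (show (9:ℕ) < 12 by omega), hH_x _ (show (10:ℕ) < 12 by omega), hH_x _ (show (11:ℕ) < 12 by omega),
    c6, c7, c8, c9, c10, c11]
  ring_nf

theorem exists_setup : ∃ G : TwistGrp (T (RingHom.id K)), G.G1 = twistedG2 K 1 ∧ G.O.orbs = orbsT :=
  exists_grp (φ := RingHom.id K) (id_twist hK) 1 (fun t => (pow_one t).symm) (m := 0) (by simpa using hK)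

/-- The group. -/
abbrev M0 (K : Type*) [Field K] : Type _ := ↥(twistedG2 K 1)

theorem s3_mem (t u v : K) : s3 hK t u v ∈ twistedG2 K 1 :=
  srt_mem (RingHom.id K) 1 (fun t => (pow_one t).symm) t u v

theorem d3_mem : d3 hK ∈ twistedG2 K 1 :=
  diag_le (RingHom.id K) (id_twist hK) 1 (fun t => (pow_one t).symm) (m := 0) (by simpa using hK)
    ((diag_fixed_iff _ (id_twist hK)).2 ⟨-1, rfl⟩)

/-- The Sylow three-subgroup. -/
noncomputable def U : Subgroup (M0 K) :=
  (chevG2.posUnipotent K ⊓ (T (RingHom.id K)).fixed).subgroupOf (twistedG2 K 1)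

omit hK in
theorem mem_U_def {g : M0 K} :
    g ∈ U ↔ (g : GL chevG2.Idx K) ∈ chevG2.posUnipotent K ⊓ (T (RingHom.id K)).fixed := Iff.rfl

theorem mem_U {g : M0 K} : g ∈ U ↔ ∃ t u v, (g : GL chevG2.Idx K) = s3 hK t u v :=
  mem_U_def.trans (pos_fixed_iff _ (id_twist hK))

theorem card_U : Nat.card (U (K := K)) = 27 := by
  rw [U, Nat.card_congr (Subgroup.subgroupOfEquivOfLe ?_).toEquiv, card_pos_fixed _ (id_twist hK),
    Nat.card_eq_fintype_card, hK]
  · norm_num
  · obtain ⟨G, hG, -⟩ := exists_setup hK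
    exact (G.pos_fixed_le ckComm_G2).trans hG.le

theorem card_M0 : Nat.card (M0 K) = 1512 := by
  obtain ⟨G, hG, hO⟩ := exists_setup hK
  have h := card_G1 _ (id_twist hK) G hO
  rw [hG, hK] at h
  exact h

/-- Membership in the Borel subgroup. -/
def InB (g : M0 K) : Prop := ∃ u ∈ U (K := K), ∃ e : M0 K, (e = 1 ∨ e = ⟨d3 hK, d3_mem hK⟩) ∧ g = u * e

theorem ti {g h : M0 K} (hh : h ∈ U) (h1 : h ≠ 1) (hc : g * h * g⁻¹ ∈ U) : InB hK g := by
  classical
  obtain ⟨G, hG, hO⟩ := exists_setup hK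
  have hgf : (g : GL chevG2.Idx K) ∈ (T (RingHom.id K)).fixed := G.le_fixed (hG.ge g.2)
  obtain ⟨l, hl, hl', n, hn, d, hd, en, b, hb, u, hu, e⟩ := G.decomp ckComm_G2 hgf
  obtain ⟨v, hv, k, hk, rfl⟩ := TwistGrp.borel_fixed (T := T (RingHom.id K)) ckComm_G2 hb.1
    ((T (RingHom.id K)).mem_fixed.1 hb.2).2
  have hu' : u ∈ chevG2.posUnipotent K ⊓ (T (RingHom.id K)).fixed := ⟨G2.ok.negS_le_pos _ hu.1, hu.2⟩
  subst en
  rcases fixed_rep _ hl hl' hd (G.le_fixed hn) with h2 | ⟨k', hk', h2⟩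
  · have hkk : k * (G2.ok.nW l * d) ∈ chevG2.diagonalSubgroup K ⊓ (T (RingHom.id K)).fixed := mul_mem hk h2
    obtain ⟨z, hz⟩ := (diag_fixed_iff _ (id_twist hK)).1 hkk
    have hnorm : k * (G2.ok.nW l * d) * u * (k * (G2.ok.nW l * d))⁻¹ ∈
        chevG2.posUnipotent K ⊓ (T (RingHom.id K)).fixed :=
      ⟨(Subgroup.mem_normalizer_iff.1 (G2.ok.diagonal_normalizes hkk.1) _).1 hu'.1,
        (T (RingHom.id K)).fixed.mul_mem ((T (RingHom.id K)).fixed.mul_mem hkk.2 hu'.2)
          ((T (RingHom.id K)).fixed.inv_mem hkk.2)⟩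
    have hz' : hH (tor (RingHom.id K) z) = 1 ∨ hH (tor (RingHom.id K) z) = d3 hK := by
      rcases cases3 hK (z : K) with h3 | h3 | h3
      · exact absurd h3 z.ne_zero
      · left
        rw [show z = 1 from Units.ext h3]
        convert map_one (hH (K := K))
        funext j; fin_cases j <;> simp [tor]
      · right
        rw [show z = -1 from Units.ext (by simpa using h3)]
        rfl
    have hw := mul_mem hv hnorm
    have hwG : v * (k * (G2.ok.nW l * d) * u * (k * (G2.ok.nW l * d))⁻¹) ∈ twistedG2 K 1 :=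
      (hG ▸ G.pos_fixed_le ckComm_G2 hw :)
    refine ⟨⟨_, hwG⟩, hw, ⟨_, hG ▸ G.diag_mem hkk⟩, ?_, Subtype.ext ?_⟩
    · rcases hz' with h3 | h3
      · left; exact Subtype.ext (hz.trans h3)
      · right; exact Subtype.ext (hz.trans h3)
    · show (g : GL chevG2.Idx K) = _
      rw [e]
      push_cast
      group
  · exfalso
    rw [h2] at e
    have hy : u * (h : GL chevG2.Idx K) * u⁻¹ ∈ chevG2.posUnipotent K :=
      mul_mem (mul_mem hu'.1 (mem_U_def.1 hh).1) (inv_mem hu'.1)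
    have hneg := n0_neg hy
    have hk2 := mul_mem hk.1 hk'.1
    set y := n0 * (u * (h : GL chevG2.Idx K) * u⁻¹) * n0⁻¹
    have hc' : ((g * h * g⁻¹ : M0 K) : GL chevG2.Idx K) ∈ chevG2.posUnipotent K := (mem_U_def.1 hc).1
    have hy' : y = ((v * k * k')⁻¹ * ((g * h * g⁻¹ : M0 K) : GL chevG2.Idx K) * (v * k * k')) := by
      push_cast
      rw [e]
      simp only [y]
      group
    have hpos : y ∈ chevG2.borelSubgroup K := by
      rw [hy']
      have hb' : v * k * k' ∈ chevG2.borelSubgroup K :=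
        mul_mem (mul_mem (Subgroup.mem_sup_left hv.1) (Subgroup.mem_sup_right hk.1)) (Subgroup.mem_sup_right hk'.1)
      exact mul_mem (mul_mem (inv_mem hb') (Subgroup.mem_sup_left hc')) hb'
    have h3 := Subgroup.mem_inf.2 ⟨hpos, hneg⟩
    rw [G2.ok.borel_inf_neg, Subgroup.mem_bot, conj_eq_one_iff, conj_eq_one_iff] at h3
    exact h1 (Subtype.ext h3)

/-- The generators as group elements. -/
noncomputable def gs (t u v : K) : M0 K := ⟨s3 hK t u v, s3_mem hK t u v⟩

/-- The torus element of order two in the group. -/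
noncomputable def gd : M0 K := ⟨d3 hK, d3_mem hK⟩

theorem gs_mul (t u v t' u' v' : K) : gs hK t u v * gs hK t' u' v' =
    gs hK (t + t') (u + u' - t' * t) (v + v' - t' * u - t' * t ^ 2 + t' ^ 2 * t) :=
  Subtype.ext (s3_mul hK t u v t' u' v')

theorem gd_conj (t u v : K) : gd hK * gs hK t u v * (gd hK)⁻¹ = gs hK (-t) u (-v) :=
  Subtype.ext (d3_conj hK t u v)

theorem gd_sq : gd hK * gd hK = 1 := by
  refine Subtype.ext ?_
  show d3 hK * d3 hK = 1
  rw [d3, ← map_mul]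
  convert map_one (hH (K := K))
  funext j; fin_cases j <;> simp [tor]

theorem gs_mem_U (t u v : K) : gs hK t u v ∈ U := (mem_U hK).2 ⟨t, u, v, rfl⟩

theorem U_forms {g : M0 K} (hg : g ∈ U) : ∃ t u v, g = gs hK t u v := by
  obtain ⟨t, u, v, e⟩ := (mem_U hK).1 hg
  exact ⟨t, u, v, Subtype.ext e⟩

theorem gs_inj {t u v t' u' v' : K} (e : gs hK t u v = gs hK t' u' v') : t = t' ∧ u = u' ∧ v = v' :=
  s3_inj hK (congrArg Subtype.val e)

theorem gs_zero : gs hK (0 : K) 0 0 = 1 := Subtype.ext (s3_zero hK)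

/-- The fusion-invariant character of `U`. -/
theorem exists_char : ∃ χ : ↥(U (K := K)) →* Multiplicative K,
    ∀ t u v, χ ⟨gs hK t u v, gs_mem_U hK t u v⟩ = Multiplicative.ofAdd (u - t ^ 2) := by
  classical
  have hex : ∀ g : ↥(U (K := K)), ∃ a : K, ∀ t u v, (g : M0 K) = gs hK t u v → a = u - t ^ 2 := fun g => by
    obtain ⟨t, u, v, e⟩ := U_forms hK g.2
    exact ⟨u - t ^ 2, fun t' u' v' e' => by obtain ⟨rfl, rfl, -⟩ := gs_inj hK (e.symm.trans e'); rfl⟩
  choose f hf using hex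
  refine ⟨MonoidHom.mk' (fun g => Multiplicative.ofAdd (f g)) fun a b => ?_, fun t u v =>
    congrArg Multiplicative.ofAdd (hf _ t u v rfl)⟩
  obtain ⟨t, u, v, ea⟩ := U_forms hK a.2
  obtain ⟨t', u', v', eb⟩ := U_forms hK b.2
  rw [← ofAdd_add, hf a t u v ea, hf b t' u' v' eb, hf (a * b) (t + t') (u + u' - t' * t)
    (v + v' - t' * u - t' * t ^ 2 + t' ^ 2 * t) (by rw [Subgroup.coe_mul, ea, eb, gs_mul])]
  refine congrArg Multiplicative.ofAdd ?_
  have e3 : (3 : K) = 0 := three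
  linear_combination (-(t * t')) * e3

/-- A homomorphism onto a group of order three. -/
theorem exists_hom : ∃ τ : M0 K →* Multiplicative K, ∀ t u v,
    τ (gs hK t u v) = Multiplicative.ofAdd (u - t ^ 2) ^ 2 := by
  classical
  obtain ⟨χ, hχ⟩ := exists_char hK
  haveI : Finite (M0 K) := Nat.finite_of_card_ne_zero (by rw [card_M0 hK]; norm_num)
  have hidx : (U (K := K)).index = 56 := by
    have h := (U (K := K)).card_mul_index
    rw [card_U hK, card_M0 hK] at h
    omega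
  have hinv : ∀ (g : M0 K) (h : ↥(U (K := K))) (hc : g⁻¹ * (h : M0 K) * g ∈ U),
      χ ⟨g⁻¹ * (h : M0 K) * g, hc⟩ = χ h := by
    intro g h hc
    by_cases h1 : (h : M0 K) = 1
    · congr 1; exact Subtype.ext (by simp [h1])
    obtain ⟨u, hu, e, he, hg⟩ := ti hK (g := g⁻¹) h.2 h1 (by simpa using hc)
    have hcd : ∀ (w : ↥(U (K := K))) (hw : e * (w : M0 K) * e⁻¹ ∈ U), χ ⟨e * (w : M0 K) * e⁻¹, hw⟩ = χ w := by
      intro w hw
      obtain ⟨t, u', v, ew⟩ := U_forms hK w.2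
      rcases he with rfl | rfl
      · congr 1; exact Subtype.ext (by simp)
      · have e1 : (⟨(⟨d3 hK, d3_mem hK⟩ : M0 K) * (w : M0 K) * (⟨d3 hK, d3_mem hK⟩ : M0 K)⁻¹, hw⟩ : ↥(U (K := K))) =
            ⟨gs hK (-t) u' (-v), gs_mem_U hK _ _ _⟩ := Subtype.ext ((congrArg (fun y : M0 K => (⟨d3 hK, d3_mem hK⟩ : M0 K) * y * (⟨d3 hK, d3_mem hK⟩ : M0 K)⁻¹) ew).trans
            (gd_conj hK t u' v))
        rw [e1, hχ, show w = ⟨gs hK t u' v, gs_mem_U hK _ _ _⟩ from Subtype.ext ew, hχ, neg_sq]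
    have hw : e * (h : M0 K) * e⁻¹ ∈ U := by
      rw [show e * (h : M0 K) * e⁻¹ = u⁻¹ * (g⁻¹ * (h : M0 K) * g) * u by
        rw [show g = (u * e)⁻¹ by rw [← hg, inv_inv]]; group]
      exact mul_mem (mul_mem (inv_mem hu) hc) hu
    rw [← hcd h hw, show (⟨g⁻¹ * (h : M0 K) * g, hc⟩ : ↥(U (K := K))) =
      ⟨u, hu⟩ * ⟨e * (h : M0 K) * e⁻¹, hw⟩ * ⟨u, hu⟩⁻¹ from Subtype.ext (by
        push_cast
        rw [show g = (u * e)⁻¹ by rw [← hg, inv_inv]]; group), map_mul, map_mul, map_inv, mul_comm (χ _),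
      mul_inv_cancel_right]
  refine ⟨MonoidHom.transfer χ, fun t u v => ?_⟩
  have h := Transfer.transfer_eq_pow_of_invariant χ hinv ⟨gs hK t u v, gs_mem_U hK t u v⟩
  rw [h, hχ, hidx, ← ofAdd_nsmul, ← ofAdd_nsmul]
  refine congrArg Multiplicative.ofAdd ?_
  simp only [nsmul_eq_mul]
  have e3 : (3 : K) = 0 := three
  push_cast
  linear_combination (18 * (u - t ^ 2)) * e3

/-- The derived subgroup. -/
abbrev Der (K : Type*) [Field K] : Subgroup (M0 K) := commutator (M0 K)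

theorem W_mem' {S : Subgroup (M0 K)} (hS : ∀ t v, ⁅gs hK t (t ^ 2) v, gd hK⁆ ∈ S) (t v : K) :
    gs hK t (t ^ 2) v ∈ S := by
  have e3 : (3 : K) = 0 := three
  have hcf : ∀ t v : K, ⁅gs hK t (t ^ 2) v, gd hK⁆ =
      gs hK (2 * t) ((2 * t) ^ 2) (2 * v + 2 * t ^ 3) := by
    intro t v
    rw [show ⁅gs hK t (t ^ 2) v, gd hK⁆ = gs hK t (t ^ 2) v * (gd hK * gs hK t (t ^ 2) v * (gd hK)⁻¹)⁻¹ by
      rw [commutatorElement_def]; group, gd_conj, mul_inv_eq_iff_eq_mul, gs_mul]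
    congr 1
    · ring
    · linear_combination (-(2 * t ^ 2)) * e3
    · linear_combination (-(4 * t ^ 3)) * e3
  have h := hcf (2 * t) (2 * v - (2 * t) ^ 3) ▸ hS (2 * t) (2 * v - (2 * t) ^ 3)
  convert h using 2
  · linear_combination (-t) * e3
  · linear_combination (-(5 * t ^ 2)) * e3
  · linear_combination (-v) * e3

theorem W_mem (t v : K) : gs hK t (t ^ 2) v ∈ Der K :=
  W_mem' hK (fun _ _ => Subgroup.commutator_mem_commutator (Subgroup.mem_top _) (Subgroup.mem_top _)) t v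

theorem forms (g : M0 K) : ∃ m ∈ Der K, ∃ u : K, g = m * gs hK 0 u 0 := by
  let S : Subgroup (M0 K) := Der K ⊔ Subgroup.zpowers (gs hK 0 1 0)
  have ha : ∀ u : K, gs hK 0 u 0 ∈ Subgroup.zpowers (gs hK 0 1 0) := by
    intro u
    have h2 : gs hK (0 : K) 1 0 * gs hK 0 1 0 = gs hK 0 (-1) 0 := by
      rw [gs_mul]
      have e3 : (3 : K) = 0 := three
      congr 1
      · ring
      · linear_combination e3
      · ring
    rcases cases3 hK u with rfl | rfl | rfl
    · rw [gs_zero]; exact one_mem _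
    · exact Subgroup.mem_zpowers _
    · rw [← h2]; exact mul_mem (Subgroup.mem_zpowers _) (Subgroup.mem_zpowers _)
  have hs : ∀ t u v : K, gs hK t u v ∈ S := fun t u v => by
    rw [show gs hK t u v = gs hK t (t ^ 2) v * gs hK 0 (u - t ^ 2) 0 by
      rw [gs_mul]; congr 1 <;> ring]
    exact mul_mem (Subgroup.mem_sup_left (W_mem hK t v)) (Subgroup.mem_sup_right (ha _))
  have hn : n0 ∈ twistedG2 K 1 := by
    obtain ⟨G, hG, hO⟩ := exists_setup hK
    exact hG ▸ G.nW_mem ([0, 1], w0) (by rw [hO]; simp [orbsT, w0])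
  have hS : S = ⊤ := by
    have hle : twistedG2 K 1 ≤ S.map (twistedG2 K 1).subtype := by
      refine gens_le (RingHom.id K) 1 (fun t => (pow_one t).symm) (fun t u v => ⟨_, hs t u v, rfl⟩)
        fun t u v => ?_
      refine ⟨⟨n0, hn⟩ * gs hK t u v * ⟨n0, hn⟩⁻¹, ?_, by rw [map_mul, map_mul, map_inv]; rfl⟩
      rw [show (⟨n0, hn⟩ : M0 K) * gs hK t u v * ⟨n0, hn⟩⁻¹ = ⁅(⟨n0, hn⟩ : M0 K), gs hK t u v⁆ * gs hK t u v by
        rw [commutatorElement_def]; group]
      exact mul_mem (Subgroup.mem_sup_left (Subgroup.commutator_mem_commutator (Subgroup.mem_top _)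
        (Subgroup.mem_top _))) (hs t u v)
    refine eq_top_iff.2 fun g _ => ?_
    obtain ⟨g', hg', e⟩ := hle g.2
    have e' : g' = g := Subtype.ext e
    exact e' ▸ hg'
  have hg : g ∈ S := hS ▸ Subgroup.mem_top g
  obtain ⟨m, hm, a, ha', rfl⟩ := Subgroup.mem_sup_of_normal_left.1 hg
  obtain ⟨i, rfl⟩ := Subgroup.mem_zpowers_iff.1 ha'
  have hU : gs hK 0 1 0 ^ i ∈ (U (K := K)) := zpow_mem (gs_mem_U hK _ _ _) i
  obtain ⟨t, u, v, e⟩ := U_forms hK hU
  refine ⟨m * gs hK t (t ^ 2) v, mul_mem hm (W_mem hK t v), u - t ^ 2, ?_⟩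
  rw [e, mul_assoc, gs_mul]
  congr 2 <;> ring

theorem U_inter {t u v : K} (h : gs hK t u v ∈ Der K) : u = t ^ 2 := by
  obtain ⟨τ, hτ⟩ := exists_hom hK
  have h1 : τ (gs hK t u v) = 1 := Abelianization.commutator_subset_ker τ h
  rw [hτ, ← ofAdd_nsmul, ← ofAdd_zero, Multiplicative.ofAdd.apply_eq_iff_eq, nsmul_eq_mul] at h1
  have h2 : (2 : K) ≠ 0 := fun h2 => one_ne_zero (α := K) (by linear_combination (three (K := K)) - h2)
  push_cast at h1
  exact sub_eq_zero.1 ((mul_eq_zero.1 h1).resolve_left h2)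

theorem index_Der : (Der K).index = 3 := by
  rw [Subgroup.index_eq_card, ← hK, ← Nat.card_eq_fintype_card]
  symm
  refine Nat.card_eq_of_bijective (fun u : K => (QuotientGroup.mk (gs hK 0 u 0) : M0 K ⧸ Der K)) ⟨?_, ?_⟩
  · intro a b e
    rw [QuotientGroup.eq] at e
    have hinv : (gs hK 0 a 0)⁻¹ = gs hK 0 (-a) 0 := inv_eq_of_mul_eq_one_right (by
      rw [gs_mul, ← gs_zero hK]; congr 1 <;> ring)
    rw [hinv, gs_mul] at e
    have := U_inter hK e
    linear_combination -this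
  · intro q
    obtain ⟨g, rfl⟩ := QuotientGroup.mk_surjective q
    obtain ⟨m, hm, u, rfl⟩ := forms hK g
    refine ⟨u, ?_⟩
    rw [QuotientGroup.eq]
    have := (show (Der K).Normal by infer_instance).conj_mem m hm (gs hK 0 u 0)⁻¹
    simpa [mul_assoc] using this

theorem card_Der : Nat.card (Der K) = 504 := by
  have h := (Der K).card_mul_index
  rw [index_Der hK, card_M0 hK] at h
  omega

theorem gd_Der : gd hK ∈ Der K := by
  obtain ⟨m, hm, u, e⟩ := forms hK (gd hK)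
  haveI : (Der K).Normal := inferInstance
  have h3 : gd hK ^ 3 ∈ Der K := by
    rw [← QuotientGroup.eq_one_iff, QuotientGroup.mk_pow, ← index_Der hK, Subgroup.index_eq_card]
    exact pow_card_eq_one'
  rwa [pow_succ, pow_two, gd_sq, one_mul] at h3

/-- The elements of the derived subgroup in the Borel subgroup. -/
theorem InB_Der {g : M0 K} (hg : g ∈ Der K) (h : InB hK g) :
    ∃ t v, g = gs hK t (t ^ 2) v ∨ g = gs hK t (t ^ 2) v * gd hK := by
  obtain ⟨u, hu, e, he, rfl⟩ := h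
  obtain ⟨t, u', v, rfl⟩ := U_forms hK hu
  rcases he with rfl | rfl
  · rw [mul_one] at hg ⊢
    exact ⟨t, v, Or.inl (by rw [U_inter hK hg])⟩
  · have h1 : gs hK t u' v ∈ Der K := by
      have := mul_mem hg (inv_mem (gd_Der hK))
      rwa [show (⟨d3 hK, d3_mem hK⟩ : M0 K) = gd hK from rfl, mul_inv_cancel_right] at this
    exact ⟨t, v, Or.inr (by rw [U_inter hK h1]; rfl)⟩

/-- The Sylow three-subgroup of the derived subgroup. -/
noncomputable def W : Subgroup ↥(Der K) := (U (K := K)).subgroupOf (Der K)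

/-- The element of order nine. -/
noncomputable def wz (t v : K) : ↥(Der K) := ⟨gs hK t (t ^ 2) v, W_mem hK t v⟩

/-- The involution in the derived subgroup. -/
noncomputable def wd : ↥(Der K) := ⟨gd hK, gd_Der hK⟩

theorem W_forms {m : ↥(Der K)} (hm : m ∈ W) : ∃ t v, m = wz hK t v := by
  obtain ⟨t, u, v, e⟩ := U_forms hK (Subgroup.mem_subgroupOf.1 hm)
  obtain rfl : u = t ^ 2 := U_inter hK (e ▸ m.2)
  exact ⟨t, v, Subtype.ext e⟩

theorem wz_mem (t v : K) : wz hK t v ∈ W (K := K) := gs_mem_U hK _ _ _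

theorem card_W : Nat.card (W (K := K)) = 9 := by
  rw [show (9 : ℕ) = Nat.card (K × K) by simp [Nat.card_prod, Nat.card_eq_fintype_card, hK]]
  symm
  refine Nat.card_eq_of_bijective (fun p : K × K => ⟨wz hK p.1 p.2, wz_mem hK _ _⟩) ⟨fun a b e => ?_, fun m => ?_⟩
  · obtain ⟨h1, -, h3⟩ := gs_inj hK (congrArg (fun x : W (K := K) => ((x : ↥(Der K)) : M0 K)) e)
    exact Prod.ext h1 h3
  · obtain ⟨t, v, e⟩ := W_forms hK m.2
    exact ⟨(t, v), Subtype.ext e.symm⟩

/-- A normal subgroup containing a translate of the involution contains `wz`. -/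
theorem mem_of_wd {N : Subgroup ↥(Der K)} [hN : N.Normal] {t v : K} (h : wz hK t v * wd hK ∈ N) :
    wz hK (-1) (-1) ∈ N := by
  have h1 := mul_mem (hN.conj_mem _ h (wz hK 1 0)) (inv_mem h)
  have e3 : (3 : K) = 0 := three
  have key : ∀ a b : K, wz hK a b * wz hK t v * (wz hK t v)⁻¹ = wz hK a b := fun a b => by group
  have hcomm : ∀ a b a' b' : K, wz hK a b * wz hK a' b' = wz hK a' b' * wz hK a b := fun a b a' b' => by
    refine Subtype.ext ?_
    show gs hK _ _ _ * gs hK _ _ _ = gs hK _ _ _ * gs hK _ _ _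
    rw [gs_mul, gs_mul]
    congr 1
    · ring
    · ring
    · linear_combination (a * a' ^ 2 - a' * a ^ 2) * e3
  have hz : wz hK 1 0 * (wz hK t v * wd hK) * (wz hK 1 0)⁻¹ * (wz hK t v * wd hK)⁻¹ =
      wz hK 1 0 * (wd hK * (wz hK 1 0)⁻¹ * (wd hK)⁻¹) := by
    calc wz hK 1 0 * (wz hK t v * wd hK) * (wz hK 1 0)⁻¹ * (wz hK t v * wd hK)⁻¹
        = (wz hK 1 0 * wz hK t v) * (wd hK * (wz hK 1 0)⁻¹ * (wd hK)⁻¹) * (wz hK t v)⁻¹ := by group
      _ = wz hK t v * (wz hK 1 0 * (wd hK * (wz hK 1 0)⁻¹ * (wd hK)⁻¹)) * (wz hK t v)⁻¹ := by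
          rw [hcomm]; group
      _ = _ := by
          have hc : wz hK 1 0 * (wd hK * (wz hK 1 0)⁻¹ * (wd hK)⁻¹) = wz hK 1 0 * (wz hK (-1) 0)⁻¹ := by
            rw [show wd hK * (wz hK 1 0)⁻¹ * (wd hK)⁻¹ = (wd hK * wz hK 1 0 * (wd hK)⁻¹)⁻¹ by group]
            congr 2
            refine Subtype.ext ?_
            show gd hK * gs hK _ _ _ * (gd hK)⁻¹ = _
            rw [gd_conj]
            simp [wz]
          rw [hc, show wz hK t v * (wz hK 1 0 * (wz hK (-1) 0)⁻¹) * (wz hK t v)⁻¹ =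
            (wz hK t v * wz hK 1 0 * (wz hK t v)⁻¹) * (wz hK t v * wz hK (-1) 0 * (wz hK t v)⁻¹)⁻¹ by group,
            ← hcomm 1 0 t v, key, ← hcomm (-1) 0 t v, key]
  rw [hz] at h1
  have h2 : wz hK 1 0 * (wd hK * (wz hK 1 0)⁻¹ * (wd hK)⁻¹) = wz hK (-1) (-1) := by
    rw [show wd hK * (wz hK 1 0)⁻¹ * (wd hK)⁻¹ = (wd hK * wz hK 1 0 * (wd hK)⁻¹)⁻¹ by group, mul_inv_eq_iff_eq_mul]
    refine Subtype.ext ?_
    show gs hK _ _ _ = gs hK _ _ _ * (gd hK * gs hK _ _ _ * (gd hK)⁻¹)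
    rw [gd_conj, gs_mul]
    congr 1
    · linear_combination e3
    · linear_combination (-1 : K) * e3 * 0
    · linear_combination (-1 : K) * e3 * 0
  rwa [h2] at h1

theorem InB_forms {m : ↥(Der K)} (h : InB hK (m : M0 K)) :
    m ∈ W ∨ ∃ t v, m = wz hK t v * wd hK := by
  obtain ⟨t, v, e | e⟩ := InB_Der hK m.2 h
  · exact Or.inl (show (m : M0 K) ∈ U from e ▸ gs_mem_U hK _ _ _)
  · exact Or.inr ⟨t, v, Subtype.ext e⟩

theorem wd_conj (t v : K) : wd hK * wz hK t v * (wd hK)⁻¹ = wz hK (-t) (-v) := by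
  refine Subtype.ext ?_
  show gd hK * gs hK _ _ _ * (gd hK)⁻¹ = _
  rw [gd_conj]
  simp [wz]

theorem W_conj {w : ↥(Der K)} (hw : w ∈ W) : wd hK * w * (wd hK)⁻¹ ∈ W := by
  obtain ⟨t, v, rfl⟩ := W_forms hK hw
  rw [wd_conj]
  exact wz_mem hK _ _

theorem comm_InB {a b : ↥(Der K)} (ha : InB hK (a : M0 K)) (hb : InB hK (b : M0 K)) : ⁅a, b⁆ ∈ W (K := K) := by
  set d := wd hK
  have hc : ∀ w ∈ W (K := K), d * w * d⁻¹ ∈ W := fun w hw => W_conj hK hw
  rcases InB_forms hK ha with h1 | ⟨t, v, rfl⟩ <;> rcases InB_forms hK hb with h2 | ⟨t', v', rfl⟩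
  · rw [commutatorElement_def]
    exact mul_mem (mul_mem (mul_mem h1 h2) (inv_mem h1)) (inv_mem h2)
  · have hw := wz_mem hK t' v'
    rw [show ⁅a, wz hK t' v' * d⁆ = a * wz hK t' v' * (d * a⁻¹ * d⁻¹) * (wz hK t' v')⁻¹ by
      rw [commutatorElement_def]; group]
    exact mul_mem (mul_mem (mul_mem h1 hw) (hc _ (inv_mem h1))) (inv_mem hw)
  · have hw := wz_mem hK t v
    rw [show ⁅wz hK t v * d, b⁆ = wz hK t v * (d * b * d⁻¹) * (wz hK t v)⁻¹ * b⁻¹ by
      rw [commutatorElement_def]; group]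
    exact mul_mem (mul_mem (mul_mem hw (hc _ h2)) (inv_mem hw)) (inv_mem h2)
  · have hw := wz_mem hK t v
    have hw' := wz_mem hK t' v'
    rw [show ⁅wz hK t v * d, wz hK t' v' * d⁆ =
        wz hK t v * (d * (wz hK t' v' * (wz hK t v)⁻¹) * d⁻¹) * (wz hK t' v')⁻¹ by
      rw [commutatorElement_def]; group]
    exact mul_mem (mul_mem hw (hc _ (mul_mem hw' (inv_mem hw)))) (inv_mem hw')

theorem eq_one_of_comm {w n : ↥(Der K)} (hw : w ∈ W) (hw1 : w ≠ 1) (hc : n * w * n⁻¹ ∈ W) : InB hK (n : M0 K) :=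
  ti hK (h := (w : M0 K)) (g := (n : M0 K)) hw (fun h => hw1 (Subtype.ext h)) hc

theorem exists_sylow : ∃ P : Sylow 3 ↥(Der K), (P : Subgroup ↥(Der K)) = W := by
  haveI := Fact.mk Nat.prime_three
  have h := (W (K := K)).card_mul_index
  rw [card_W hK, card_Der hK] at h
  refine ⟨(IsPGroup.of_card (G := W (K := K)) (n := 2) (card_W hK)).toSylow (P := W (K := K)) ?_, rfl⟩
  intro h3
  have h4 : (3 : ℕ) ∣ (W (K := K)).index := h3
  omega

/-- The Frattini argument. -/
theorem frattini (N : Subgroup ↥(Der K)) [N.Normal] {w : ↥(Der K)} (hwN : w ∈ N) (hwW : w ∈ W) (hw1 : w ≠ 1)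
    (m : ↥(Der K)) : ∃ n ∈ N, ∃ b : ↥(Der K), InB hK (b : M0 K) ∧ m = n * b := by
  classical
  haveI := Fact.mk Nat.prime_three
  haveI : Finite (M0 K) := Nat.finite_of_card_ne_zero (by rw [card_M0 hK]; norm_num)
  obtain ⟨PW, hPW⟩ := exists_sylow hK
  obtain ⟨S, hS⟩ := Transfer.exists_sylow_eq_subgroupOf PW N
  have htop := Sylow.normalizer_sup_eq_top S
  rw [show (S : Subgroup ↥N).map N.subtype = W ⊓ N by rw [hS, Subgroup.subgroupOf_map_subtype, hPW]] at htop
  have hm : m ∈ N ⊔ Subgroup.normalizer ((W ⊓ N : Subgroup ↥(Der K)) : Set ↥(Der K)) := by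
    rw [sup_comm, htop]; exact Subgroup.mem_top m
  obtain ⟨n, hn, b, hb, rfl⟩ := Subgroup.mem_sup_of_normal_left.1 hm
  exact ⟨n, hn, b, eq_one_of_comm hK hwW hw1 ((Subgroup.mem_normalizer_iff.1 hb w).1 ⟨hwW, hwN⟩).1, rfl⟩

theorem wz_ne : wz hK (-1 : K) (-1) ≠ 1 := fun h => by
  have h1 := congrArg Subtype.val h
  change gs hK _ _ _ = 1 at h1
  rw [← gs_zero hK] at h1
  exact one_ne_zero (α := K) (neg_eq_zero.1 (gs_inj hK h1).1)

theorem perfect : commutator ↥(Der K) = ⊤ := by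
  classical
  set S := (commutator ↥(Der K)).map (Der K).subtype
  haveI hSn : S.Normal := by
    have : S = ⁅Der K, Der K⁆ := Subgroup.map_subtype_commutator (Der K)
    rw [this]
    infer_instance
  have hW : ∀ t v, gs hK t (t ^ 2) v ∈ S := W_mem' hK fun t v =>
    ⟨⁅wz hK t v, wd hK⁆, Subgroup.commutator_mem_commutator (Subgroup.mem_top _) (Subgroup.mem_top _),
      by simp [wz, wd, map_commutatorElement]⟩
  have hmem : ∀ t v, wz hK t v ∈ commutator ↥(Der K) := fun t v => by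
    obtain ⟨y, hy, e⟩ := hW t v
    rwa [show wz hK t v = y from Subtype.ext e.symm]
  set π := QuotientGroup.mk' S
  have hπ : ∀ g : M0 K, ∃ (e : Bool) (u : K), π g = (if e then π (gd hK) else 1) * π (gs hK 0 u 0) := by
    intro g
    obtain ⟨m, hm, u, rfl⟩ := forms hK g
    obtain ⟨n, hn, b, hb, e⟩ := frattini hK (commutator ↥(Der K)) (hmem (-1) (-1)) (wz_mem hK _ _)
      (wz_ne hK) ⟨m, hm⟩
    have hn1 : π (n : M0 K) = 1 := (QuotientGroup.eq_one_iff _).2 ⟨n, hn, rfl⟩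
    have e' : m = (n : M0 K) * (b : M0 K) := congrArg Subtype.val e
    have hw1 : ∀ t v, π (gs hK t (t ^ 2) v) = 1 := fun t v => (QuotientGroup.eq_one_iff _).2 (hW t v)
    obtain ⟨t, v, hb' | hb'⟩ := InB_Der hK b.2 hb
    · exact ⟨false, u, by simp [map_mul, e', hn1, hb', hw1]⟩
    · exact ⟨true, u, by simp [map_mul, e', hn1, hb', hw1]⟩
  have hda : ∀ u, gd hK * gs hK 0 u 0 = gs hK 0 u 0 * gd hK := fun u => by
    have h := gd_conj hK 0 u 0
    simp only [neg_zero] at h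
    rwa [mul_inv_eq_iff_eq_mul] at h
  have haa : ∀ u u', gs hK 0 u 0 * gs hK 0 u' 0 = gs hK (0 : K) u' 0 * gs hK 0 u 0 := fun u u' => by
    rw [gs_mul, gs_mul]; congr 1 <;> ring
  have hle : Der K ≤ S := by
    refine Subgroup.commutator_le.2 fun g _ g' _ => ?_
    rw [← QuotientGroup.eq_one_iff, ← QuotientGroup.mk'_apply, map_commutatorElement, commutatorElement_eq_one_iff_mul_comm]
    obtain ⟨e, u, h⟩ := hπ g
    obtain ⟨e', u', h'⟩ := hπ g'
    rw [h, h']
    have c1 : ∀ u, Commute (π (gd hK)) (π (gs hK 0 u 0)) := fun u => Commute.map (hda u) π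
    have c2 : Commute (π (gs hK 0 u 0)) (π (gs hK 0 u' 0)) := Commute.map (haa u u') π
    cases e <;> cases e' <;> simp only [Bool.false_eq_true, if_true, if_false, one_mul]
    · exact c2
    · exact ((c1 u).symm.mul_right c2).eq
    · exact ((c1 u').mul_left c2).eq
    · exact (((Commute.refl _).mul_right (c1 u')).mul_left ((c1 u).symm.mul_right c2)).eq
  refine eq_top_iff.2 fun m _ => ?_
  obtain ⟨y, hy, e⟩ := hle m.2
  exact Subtype.ext e ▸ hy

/-- A nontrivial normal subgroup meeting `W` trivially is not small. -/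
theorem not_small (N : Subgroup ↥(Der K)) [hN : N.Normal] (hd : ∀ m ∈ N, InB hK (m : M0 K) → m = 1) (hb : N ≠ ⊥) :
    10 ≤ Nat.card N := by
  classical
  haveI : Finite (M0 K) := Nat.finite_of_card_ne_zero (by rw [card_M0 hK]; norm_num)
  obtain ⟨n, hn, hn1⟩ := N.bot_or_exists_ne_one.resolve_left hb
  let f : Option (W (K := K)) → N := fun o => o.elim 1 fun w =>
    ⟨(w : ↥(Der K)) * n * (w : ↥(Der K))⁻¹, hN.conj_mem n hn _⟩
  have hf : Function.Injective f := by
    rintro (_ | a) (_ | b) e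
    · rfl
    · exact absurd (conj_eq_one_iff.1 (congrArg Subtype.val e).symm) hn1
    · exact absurd (conj_eq_one_iff.1 (congrArg Subtype.val e)) hn1
    · by_contra hab
      have e' : (a : ↥(Der K)) * n * (a : ↥(Der K))⁻¹ = (b : ↥(Der K)) * n * (b : ↥(Der K))⁻¹ :=
        congrArg Subtype.val e
      set c := (b : ↥(Der K))⁻¹ * (a : ↥(Der K))
      have hc : c ∈ W (K := K) := mul_mem (inv_mem b.2) a.2
      have hc1 : c ≠ 1 := fun h => hab (congrArg some (Subtype.ext (inv_mul_eq_one.1 h).symm))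
      have hcn : n * c * n⁻¹ = c := by
        have h1 : c * n * c⁻¹ = n := by
          calc c * n * c⁻¹ = (b : ↥(Der K))⁻¹ * ((a : ↥(Der K)) * n * (a : ↥(Der K))⁻¹) * b := by
                simp only [c]; group
            _ = n := by rw [e']; group
        nth_rw 1 [← h1]
        group
      exact hn1 (hd n hn (eq_one_of_comm hK hc hc1 (by rw [hcn]; exact hc)))
  have h := Nat.card_le_card_of_injective f hf
  rwa [Finite.card_option, card_W hK] at h

/-- The derived subgroup is simple. -/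
theorem simple : IsSimpleGroup ↥(Der K) := by
  classical
  haveI := Fact.mk Nat.prime_three
  haveI : Fact (Nat.Prime 7) := ⟨by norm_num⟩
  haveI : Finite (M0 K) := Nat.finite_of_card_ne_zero (by rw [card_M0 hK]; norm_num)
  haveI : Nontrivial ↥(Der K) := Finite.one_lt_card_iff_nontrivial.1 (by rw [card_Der hK]; norm_num)
  refine ⟨fun N hN => ?_⟩
  haveI := hN
  by_cases hA : ∃ w ∈ N, w ∈ W (K := K) ∧ w ≠ 1
  · right
    obtain ⟨w, hwN, hwW, hw1⟩ := hA
    set π := QuotientGroup.mk' N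
    have hπ : ∀ m, ∃ b : ↥(Der K), InB hK (b : M0 K) ∧ π m = π b := fun m => by
      obtain ⟨n, hn, b, hb, rfl⟩ := frattini hK N hwN hwW hw1 m
      exact ⟨b, hb, by rw [map_mul, show π n = 1 from (QuotientGroup.eq_one_iff _).2 hn, one_mul]⟩
    have h1 : commutator ↥(Der K) ≤ ((W (K := K)).map π).comap π := Subgroup.commutator_le.2 fun a _ b _ => by
      obtain ⟨a', ha, ea⟩ := hπ a
      obtain ⟨b', hb, eb⟩ := hπ b
      exact ⟨⁅a', b'⁆, comm_InB hK ha hb, by rw [map_commutatorElement, map_commutatorElement, ea, eb]⟩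
    rw [perfect hK] at h1
    have h2 : commutator ↥(Der K) ≤ N := Subgroup.commutator_le.2 fun a _ b _ => by
      obtain ⟨a', ha, ea⟩ := h1 (Subgroup.mem_top a)
      obtain ⟨b', hb, eb⟩ := h1 (Subgroup.mem_top b)
      rw [← QuotientGroup.eq_one_iff, ← QuotientGroup.mk'_apply, map_commutatorElement,
        commutatorElement_eq_one_iff_mul_comm, ← ea, ← eb, ← map_mul, ← map_mul]
      congr 1
      obtain ⟨t, v, rfl⟩ := W_forms hK ha
      obtain ⟨t', v', rfl⟩ := W_forms hK hb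
      refine Subtype.ext ?_
      show gs hK _ _ _ * gs hK _ _ _ = gs hK _ _ _ * gs hK _ _ _
      rw [gs_mul, gs_mul]
      have e3 : (3 : K) = 0 := three
      congr 1
      · ring
      · ring
      · linear_combination (t * t' ^ 2 - t' * t ^ 2) * e3
    rw [perfect hK] at h2
    exact top_le_iff.1 h2
  left
  push_neg at hA
  have hd : ∀ (N' : Subgroup ↥(Der K)), N'.Normal → N' ≤ N → ∀ m ∈ N', InB hK (m : M0 K) → m = 1 := by
    intro N' _ hle m hm hB
    rcases InB_forms hK hB with h | ⟨t, v, rfl⟩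
    · exact hA m (hle hm) h
    · exact absurd (hA _ (mem_of_wd hK (hle hm)) (wz_mem hK _ _)) (wz_ne hK)
  by_contra hb
  have h10 := not_small hK N (hd N hN le_rfl) hb
  -- three does not divide the order
  have h3 : ¬ 3 ∣ Nat.card N := by
    intro h3
    obtain ⟨x, hx⟩ := exists_prime_orderOf_dvd_card' 3 h3
    obtain ⟨PW, hPW⟩ := exists_sylow hK
    have hx' : orderOf (x : ↥(Der K)) = 3 := by rwa [Subgroup.orderOf_coe]
    obtain ⟨S', hS'⟩ := (IsPGroup.of_card (p := 3) (n := 1) (G := Subgroup.zpowers (x : ↥(Der K)))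
      (by rw [Nat.card_zpowers, hx', pow_one])).exists_le_sylow
    obtain ⟨c, hc⟩ := MulAction.exists_smul_eq ↥(Der K) S' PW
    have hcW : c * (x : ↥(Der K)) * c⁻¹ ∈ W (K := K) := by
      rw [← hPW, ← hc]
      exact Subgroup.smul_mem_pointwise_smul _ (MulAut.conj c) _ (hS' (Subgroup.mem_zpowers _))
    have h1 := hA _ (hN.conj_mem _ x.2 c) hcW
    rw [conj_eq_one_iff] at h1
    rw [h1, orderOf_one] at hx'
    omega
  -- the group is at most one eighteenth
  have h18 : Nat.card N * 18 ≤ 504 := by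
    rw [← card_Der hK, show (18 : ℕ) = Nat.card (W (K := K) × Bool) by
      rw [Nat.card_prod, card_W hK, Nat.card_eq_fintype_card, Fintype.card_bool], ← Nat.card_prod]
    refine Nat.card_le_card_of_injective
      (fun p : N × W (K := K) × Bool => (p.1 : ↥(Der K)) * ((p.2.1 : ↥(Der K)) * if p.2.2 then wd hK else 1)) ?_
    rintro ⟨n, w, e⟩ ⟨n', w', e'⟩ h
    simp only at h
    set f : Bool → ↥(Der K) := fun e => if e then wd hK else 1
    change (n : ↥(Der K)) * ((w : ↥(Der K)) * f e) = (n' : ↥(Der K)) * ((w' : ↥(Der K)) * f e') at h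
    have hq : (n' : ↥(Der K))⁻¹ * n = (w' : ↥(Der K)) * f e' * (f e)⁻¹ * (w : ↥(Der K))⁻¹ := by
      rw [inv_mul_eq_iff_eq_mul, eq_comm, ← mul_assoc, mul_inv_eq_iff_eq_mul, ← mul_assoc, mul_inv_eq_iff_eq_mul]
      simpa [mul_assoc] using h.symm
    have hinv : (wd hK)⁻¹ = wd hK := inv_eq_of_mul_eq_one_right (Subtype.ext (gd_sq hK))
    have hB : InB hK (((n' : ↥(Der K))⁻¹ * n : ↥(Der K)) : M0 K) := by
      have hff : f e' * (f e)⁻¹ = f (xor e' e) := by
        cases e <;> cases e' <;> simp [f, hinv]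
        exact Subtype.ext (gd_sq hK)
      rw [hq, mul_assoc (w' : ↥(Der K)) (f e'), hff]
      cases xor e' e with
      | false =>
        exact ⟨_, (show (w' : ↥(Der K)) * (w : ↥(Der K))⁻¹ ∈ W from mul_mem w'.2 (inv_mem w.2)), 1, Or.inl rfl,
          by simp [f]⟩
      | true =>
        refine ⟨_, (show (w' : ↥(Der K)) * (wd hK * (w : ↥(Der K))⁻¹ * (wd hK)⁻¹) ∈ W from
          mul_mem w'.2 (W_conj hK (inv_mem w.2))), gd hK, Or.inr rfl, ?_⟩
        simp [f, wd, mul_assoc]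
    have h1 := hd N hN le_rfl _ (mul_mem (inv_mem n'.2) n.2) hB
    obtain rfl : n = n' := Subtype.ext (inv_mul_eq_one.1 h1).symm
    have h2 := mul_left_cancel h
    have hee : e = e' := by
      by_contra hne
      have h4 : wd hK ∈ W (K := K) := by
        cases e <;> cases e' <;> simp [f] at h2 hne
        · rw [show wd hK = (w' : ↥(Der K))⁻¹ * w by rw [h2]; group]
          exact mul_mem (inv_mem w'.2) w.2
        · rw [show wd hK = (w : ↥(Der K))⁻¹ * w' by rw [← h2]; group]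
          exact mul_mem (inv_mem w.2) w'.2
      obtain ⟨t, v, e5⟩ := W_forms hK h4
      have h5 : gd hK * gs hK t (t ^ 2) v = 1 := by
        rw [show gs hK t (t ^ 2) v = gd hK from (congrArg Subtype.val e5).symm, gd_sq]
      have h6 := gd_conj hK 1 0 0
      rw [show gd hK = gs hK t (t ^ 2) v from congrArg Subtype.val e5, mul_inv_eq_iff_eq_mul, gs_mul, gs_mul] at h6
      have h7 := (gs_inj hK h6).1
      have h8 : (2 : K) = 0 := by linear_combination h7
      exact one_ne_zero (α := K) (by linear_combination (three (K := K)) - h8)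
    subst hee
    rw [show w = w' from Subtype.ext (mul_right_cancel h2)]
  have hdvd : Nat.card N ∣ 56 := by
    have h := Subgroup.card_subgroup_dvd_card N
    rw [card_Der hK, show (504 : ℕ) = 9 * 56 from rfl] at h
    exact ((Nat.Prime.coprime_iff_not_dvd Nat.prime_three).2 h3).symm.pow_right 2 |>.dvd_of_dvd_mul_left h
  have hcases : Nat.card N = 14 ∨ Nat.card N = 28 := by
    have : ∀ n ≤ 28, 10 ≤ n → n ∣ 56 → n = 14 ∨ n = 28 := by decide
    exact this _ (by omega) h10 hdvd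
  obtain ⟨P⟩ : Nonempty (Sylow 7 N) := inferInstance
  have hcP : Nat.card P = 7 := by
    rw [P.card_eq_multiplicity]
    rcases hcases with h | h <;> rw [h]
    · rw [show (14 : ℕ) = 7 * 2 from rfl, Nat.factorization_mul (by norm_num) (by norm_num)]
      simp [Nat.Prime.factorization_self, Nat.factorization_eq_zero_of_not_dvd, show Nat.Prime 7 by norm_num]
    · rw [show (28 : ℕ) = 7 * 4 from rfl, Nat.factorization_mul (by norm_num) (by norm_num)]
      simp [Nat.Prime.factorization_self, Nat.factorization_eq_zero_of_not_dvd, show Nat.Prime 7 by norm_num]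
  have hn7 : Nat.card (Sylow 7 N) = 1 := by
    have h1 := card_sylow_modEq_one 7 N
    have h2 := P.card_dvd_index
    have h4 := (P : Subgroup N).card_mul_index
    rw [hcP] at h4
    have h5 : (P : Subgroup N).index = 2 ∨ (P : Subgroup N).index = 4 := by omega
    have h6 := Nat.le_of_dvd (by omega) h2
    unfold Nat.ModEq at h1
    omega
  haveI : Subsingleton (Sylow 7 N) := (Nat.card_eq_one_iff_unique.1 hn7).1
  haveI : (P : Subgroup N).Characteristic := P.characteristic_of_subsingleton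
  set P' := (P : Subgroup N).map N.subtype
  have hP' : P'.Normal := inferInstance
  haveI := hP'
  have hc7 : Nat.card P' = 7 := by rw [Subgroup.card_map_of_injective N.subtype_injective]; exact hcP
  have := not_small hK P' (hd P' hP' (Subgroup.map_subtype_le _)) fun h => by
    rw [h, Subgroup.card_bot] at hc7; omega
  omega

end Cfsg.Agent.Chev.TwRee.Three
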