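/-
The certificates for the weak closure theorem.
-/
import Cfsg.Agent.Lib.Chev.WeakClosed
import Cfsg.Agent.Lib.Chev.All

set_option autoImplicit false

namespace Cfsg.Agent.Chev

theorem reach_B2_2 : B2.pk.ckReach 2 false = true := by decide +kernel
theorem reach_B2_3 : B2.pk.ckReach 3 false = true := by decide +kernel
theorem reach_B2_5 : B2.pk.ckReach 5 false = true := by decide +kernel
theorem sepFour_B2 : B2.pk.ckSepFour = true := by decide +kernel
theorem reach_G2_2 : G2.pk.ckReach 2 false = true := by decide +kernel
theorem reach_G2_3 : G2.pk.ckReach 3 false = true := by decide +kernel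
theorem reach_G2_5 : G2.pk.ckReach 5 false = true := by decide +kernel
theorem sepFour_G2 : G2.pk.ckSepFour = true := by decide +kernel
theorem reach_D4_2 : D4.pk.ckReach 2 false = true := by decide +kernel
theorem reach_D4_3 : D4.pk.ckReach 3 false = true := by decide +kernel
theorem reach_D4_5 : D4.pk.ckReach 5 false = true := by decide +kernel
theorem sepFour_D4 : D4.pk.ckSepFour = true := by decide +kernel
theorem reach_F4_2 : F4.pk.ckReach 2 false = true := by decide +kernel
theorem reach_F4_3 : F4.pk.ckReach 3 false = true := by decide +kernel
theorem reach_F4_5 : F4.pk.ckReach 5 false = true := by decide +kernel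
theorem sepFour_F4 : F4.pk.ckSepFour = true := by decide +kernel
theorem reach_E6_2 : E6.pk.ckReach 2 false = true := by decide +kernel
theorem reach_E6_3 : E6.pk.ckReach 3 false = true := by decide +kernel
theorem reach_E6_5 : E6.pk.ckReach 5 false = true := by decide +kernel
theorem sepFour_E6 : E6.pk.ckSepFour = true := by decide +kernel
theorem reach_E7_2 : E7.pk.ckReach 2 false = true := by decide +kernel
theorem reach_E7_3 : E7.pk.ckReach 3 false = true := by decide +kernel
theorem reach_E7_5 : E7.pk.ckReach 5 false = true := by decide +kernel
theorem sepFour_E7 : E7.pk.ckSepFour = true := by decide +kernel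
theorem reach_E8_2 : E8.pk.ckReach 2 false = true := by decide +kernel
theorem reach_E8_3 : E8.pk.ckReach 3 false = true := by decide +kernel
theorem reach_E8_5 : E8.pk.ckReach 5 false = true := by decide +kernel
theorem sepFour_E8 : E8.pk.ckSepFour = true := by decide +kernel
theorem reachStrict_E6 : E6.pk.ckReach 3 true = true := by decide +kernel
theorem sepThree_E6 : E6.pk.ckSepThree = true := by decide +kernel
theorem reachStrict_E7 : E7.pk.ckReach 3 true = true := by decide +kernel
theorem sepThree_E7 : E7.pk.ckSepThree = true := by decide +kernel
theorem reachStrict_E8 : E8.pk.ckReach 3 true = true := by decide +kernel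
theorem sepThree_E8 : E8.pk.ckSepThree = true := by decide +kernel

end Cfsg.Agent.Chev
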